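import Cfsg.Agent.Lib.Transvect.TensorFrame

/-!
# Coordinates of a tensor decomposition `V = V₁ ⊗ V₂`

`TData` holds the indexing and the basis; `T` are the pure tensors, `ct α` is the contraction
`1 ⊗ α`, `unip L` is `1 + L` for `L² = 0`, `kr A B` is `A ⊗ B`.
-/

set_option autoImplicit false
set_option linter.unusedSectionVars false

namespace Cfsg.Agent.C4

open Matrix Module Cfsg.Agent.Transvect
open scoped MatrixGroups Kronecker

variable {ι : Type} [Fintype ι] [DecidableEq ι] {F : Type*} [Field F] {n₁ n₂ : ℕ}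

/-! ### `1 + L` -/

section Unip

open Classical in
/-- `x ↦ x + L x` (junk value 1 unless `L ∘ L = 0`). -/
noncomputable def unip (L : (ι → F) →ₗ[F] (ι → F)) : GL ι F :=
  if h : ∀ x, L (L x) = 0 then
    ⟨1 + LinearMap.toMatrix' L, 1 - LinearMap.toMatrix' L,
      Matrix.ext_of_mulVec_single fun i => by
        simp only [← Matrix.mulVec_mulVec, Matrix.add_mulVec, Matrix.sub_mulVec, Matrix.one_mulVec,
          LinearMap.toMatrix'_mulVec, map_sub, h, sub_zero, sub_add_cancel],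
      Matrix.ext_of_mulVec_single fun i => by
        simp only [← Matrix.mulVec_mulVec, Matrix.add_mulVec, Matrix.sub_mulVec, Matrix.one_mulVec,
          LinearMap.toMatrix'_mulVec, map_add, h, add_zero, add_sub_cancel_right]⟩
  else 1

lemma unip_apply {L : (ι → F) →ₗ[F] (ι → F)} (h : ∀ x, L (L x) = 0) (x : ι → F) :
    app (unip L) x = x + L x := by
  rw [app_apply, unip, dif_pos h]
  simp only [Matrix.add_mulVec, Matrix.one_mulVec, LinearMap.toMatrix'_mulVec]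

lemma det_eq_one_of_pow {p : ℕ} [Fact p.Prime] [CharP F p] {g : GL ι F} {k : ℕ}
    (h : g ^ p ^ k = 1) : g ∈ Cfsg.Geo.specialLinear ι F := by
  rw [mem_sl_iff]
  have h1 : (g : Matrix ι ι F).det ^ p ^ k = 1 := by
    rw [← Matrix.det_pow, ← Units.val_pow_eq_pow_val, h, Units.val_one, Matrix.det_one]
  clear h
  induction k with
  | zero => simpa using h1
  | succ k ih =>
    rw [pow_succ, pow_mul] at h1
    exact ih (frobenius_inj F p (by simpa [frobenius_def] using h1))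

lemma unip_pow {L : (ι → F) →ₗ[F] (ι → F)} (h : ∀ x, L (L x) = 0) (k : ℕ) :
    ∀ x, app (unip L ^ k) x = x + (k : F) • L x := by
  induction k with
  | zero => intro x; simp
  | succ k ih =>
    intro x
    rw [pow_succ, map_mul, LinearEquiv.mul_apply, unip_apply h, ih, map_add, h]
    simp [add_smul, add_assoc, add_comm (L x)]

lemma unip_pow_char {p : ℕ} [Fact p.Prime] [CharP F p] {L : (ι → F) →ₗ[F] (ι → F)}
    (h : ∀ x, L (L x) = 0) : unip L ^ p = 1 :=
  gl_ext fun x => by rw [unip_pow h, CharP.cast_eq_zero]; simp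

lemma unip_mem_sl [Finite F] (L : (ι → F) →ₗ[F] (ι → F)) :
    unip L ∈ Cfsg.Geo.specialLinear ι F := by
  by_cases h : ∀ x, L (L x) = 0
  · obtain ⟨p, hp⟩ := CharP.exists F
    have := Fact.mk ((CharP.char_is_prime_or_zero F p).resolve_right (CharP.char_ne_zero_of_finite F p))
    exact det_eq_one_of_pow (p := p) (k := 1) (by rw [pow_one]; exact unip_pow_char h)
  · rw [unip, dif_neg h]; exact one_mem _

/-- The residual space `(g - 1) V`. -/
def res (g : GL ι F) : Submodule F (ι → F) :=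
  LinearMap.range ((app g).toLinearMap - LinearMap.id)

lemma mem_res {g : GL ι F} (x : ι → F) : app g x - x ∈ res g := ⟨x, rfl⟩

lemma res_le {g : GL ι F} {W : Submodule F (ι → F)} (h : ∀ x, app g x - x ∈ W) : res g ≤ W := by
  rintro _ ⟨x, rfl⟩; exact h x

lemma res_conj (g m : GL ι F) : res (m * g * m⁻¹) = (res g).map (app m).toLinearMap := by
  apply le_antisymm
  · refine res_le fun x => ⟨_, mem_res (app m⁻¹ x), ?_⟩
    simp [map_sub, map_mul, LinearEquiv.mul_apply]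
  · rintro _ ⟨_, ⟨x, rfl⟩, rfl⟩
    refine ⟨app m x, ?_⟩
    show app (m * g * m⁻¹) (app m x) - app m x = app m (app g x - x)
    rw [map_mul, map_mul, LinearEquiv.mul_apply, LinearEquiv.mul_apply, app_inv_app, map_sub]

end Unip

/-! ### The decomposition -/

/-- A tensor decomposition of `F^ι`. -/
structure TData (ι : Type) [Fintype ι] [DecidableEq ι] (F : Type*) [Field F] (n₁ n₂ : ℕ) where
  e : ι ≃ Fin n₁ × Fin n₂
  P : GL ι F

namespace TData

variable (D : TData ι F n₁ n₂)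

/-- The pure tensor `a ⊗ w`. -/
def T : (Fin n₁ → F) →ₗ[F] (Fin n₂ → F) →ₗ[F] (ι → F) := tp D.e D.P

/-- The `n₁ × n₂` coordinates of a vector. -/
def row : (ι → F) →ₗ[F] (Fin n₁ → Fin n₂ → F) where
  toFun x i j := app D.P⁻¹ x (D.e.symm (i, j))
  map_add' x y := by funext i j; rw [map_add]; rfl
  map_smul' c x := by funext i j; rw [map_smul]; rfl

/-- The contraction `1 ⊗ α`. -/
def ct (α : (Fin n₂ → F) →ₗ[F] F) : (ι → F) →ₗ[F] (Fin n₁ → F) where
  toFun x i := α (D.row x i)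
  map_add' x y := by funext i; simp
  map_smul' c x := by funext i; simp

lemma row_T (a : Fin n₁ → F) (w : Fin n₂ → F) (i : Fin n₁) : D.row (D.T a w) i = a i • w := by
  funext j
  show app D.P⁻¹ (app D.P fun k => a (D.e k).1 * w (D.e k).2) (D.e.symm (i, j)) = _
  rw [app_inv_app]; simp

@[simp] lemma ct_T (α : (Fin n₂ → F) →ₗ[F] F) (a : Fin n₁ → F) (w : Fin n₂ → F) :
    D.ct α (D.T a w) = α w • a := by
  funext i
  show α (D.row (D.T a w) i) = _
  rw [D.row_T, map_smul]; simp [mul_comm]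

lemma ct_add (α β : (Fin n₂ → F) →ₗ[F] F) (x : ι → F) :
    D.ct (α + β) x = D.ct α x + D.ct β x := rfl

lemma ct_smul (c : F) (α : (Fin n₂ → F) →ₗ[F] F) (x : ι → F) : D.ct (c • α) x = c • D.ct α x := rfl

lemma ct_zero (x : ι → F) : D.ct 0 x = 0 := rfl

lemma sum_T_row (x : ι → F) : ∑ i, D.T (Pi.single i 1) (D.row x i) = x := by
  apply (app D.P⁻¹).injective
  rw [map_sum]
  funext k
  rw [Finset.sum_apply]
  have : ∀ i, app D.P⁻¹ (D.T (Pi.single i 1) (D.row x i)) k =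
      (Pi.single i 1 : Fin n₁ → F) (D.e k).1 * D.row x i (D.e k).2 := fun i => by
    show app D.P⁻¹ (app D.P _) k = _
    rw [app_inv_app]
  simp only [this, Pi.single_apply, ite_mul, one_mul, zero_mul, Finset.sum_ite_eq,
    Finset.mem_univ, if_true]
  show app D.P⁻¹ x (D.e.symm ((D.e k).1, (D.e k).2)) = _
  simp

/-- Linear maps agreeing on pure tensors are equal. -/
lemma lin_ext {M : Type*} [AddCommGroup M] [Module F M] {f g : (ι → F) →ₗ[F] M}
    (h : ∀ a w, f (D.T a w) = g (D.T a w)) : f = g := by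
  refine LinearMap.ext fun x => ?_
  rw [← D.sum_T_row x, map_sum, map_sum]
  exact Finset.sum_congr rfl fun i _ => h _ _

lemma gl_ext_T {g h : GL ι F} (H : ∀ a w, app g (D.T a w) = app h (D.T a w)) : g = h :=
  gl_ext fun x => LinearMap.congr_fun (D.lin_ext (f := (app g).toLinearMap) (g := (app h).toLinearMap) H) x

lemma exists_dual {u : Fin n₂ → F} (hu : u ≠ 0) : ∃ α : (Fin n₂ → F) →ₗ[F] F, α u = 1 := by
  obtain ⟨i, hi⟩ := Function.ne_iff.1 hu
  exact ⟨(u i)⁻¹ • LinearMap.proj i, inv_mul_cancel₀ hi⟩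

lemma T_inj_left {u : Fin n₂ → F} (hu : u ≠ 0) {a b : Fin n₁ → F} (h : D.T a u = D.T b u) :
    a = b := by
  obtain ⟨α, hα⟩ := exists_dual hu
  simpa [hα] using congrArg (D.ct α) h

lemma T_eq_zero {a : Fin n₁ → F} {u : Fin n₂ → F} (h : D.T a u = 0) : a = 0 ∨ u = 0 := by
  by_cases hu : u = 0
  · exact .inr hu
  · exact .inl (D.T_inj_left hu (b := 0) (by simpa using h))

/-- `V₁ ⊗ u`. -/
def line (u : Fin n₂ → F) : Submodule F (ι → F) := LinearMap.range (D.T.flip u)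

lemma mem_line {u : Fin n₂ → F} (a : Fin n₁ → F) : D.T a u ∈ D.line u := ⟨a, rfl⟩

lemma mem_line_iff {u : Fin n₂ → F} {x : ι → F} : x ∈ D.line u ↔ ∃ a, D.T a u = x := Iff.rfl

lemma finrank_line {u : Fin n₂ → F} (hu : u ≠ 0) : finrank F (D.line u) = n₁ := by
  rw [line, LinearMap.finrank_range_of_inj (fun a b h => D.T_inj_left hu h)]
  simp

lemma ct_line {α : (Fin n₂ → F) →ₗ[F] F} {u : Fin n₂ → F} (h : α u = 0) {x : ι → F}
    (hx : x ∈ D.line u) : D.ct α x = 0 := by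
  obtain ⟨a, rfl⟩ := hx
  show D.ct α (D.T a u) = 0
  rw [D.ct_T, h, zero_smul]

/-- Membership in a line is detected by the contractions. -/
lemma mem_line_of_ct {u : Fin n₂ → F} {x : ι → F}
    (h : ∀ α : (Fin n₂ → F) →ₗ[F] F, α u = 0 → D.ct α x = 0) : x ∈ D.line u := by
  have hrow : ∀ i, D.row x i ∈ F ∙ u := fun i => by
    by_contra hn
    obtain ⟨f, hf1, hf2⟩ := Submodule.exists_le_ker_of_notMem hn
    exact hf1 (congrFun (h f (hf2 (Submodule.mem_span_singleton_self u))) i)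
  rw [← D.sum_T_row x]
  refine Submodule.sum_mem _ fun i _ => ?_
  obtain ⟨c, hc⟩ := Submodule.mem_span_singleton.1 (hrow i)
  rw [← hc, map_smul]
  exact Submodule.smul_mem _ _ (D.mem_line _)

/-- The element `A ⊗ B`. -/
noncomputable def kr (A : GL (Fin n₁) F) (B : GL (Fin n₂) F) : GL ι F :=
  D.P * Cfsg.Geo.glReindex D.e.symm
    ⟨(A : Matrix (Fin n₁) (Fin n₁) F) ⊗ₖ (B : Matrix (Fin n₂) (Fin n₂) F),
      ((A⁻¹ : GL (Fin n₁) F) : Matrix (Fin n₁) (Fin n₁) F) ⊗ₖ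
        ((B⁻¹ : GL (Fin n₂) F) : Matrix (Fin n₂) (Fin n₂) F),
      by rw [← Matrix.mul_kronecker_mul]; simp, by rw [← Matrix.mul_kronecker_mul]; simp⟩ * D.P⁻¹

lemma kr_mem (A : GL (Fin n₁) F) (B : GL (Fin n₂) F) :
    D.kr A B ∈ Cfsg.Geo.tensorProductSubgroup n₁ n₂ D.e D.P :=
  ⟨_, ⟨_, ⟨A, B, rfl⟩, rfl⟩, rfl⟩

lemma app_kr (A : GL (Fin n₁) F) (B : GL (Fin n₂) F) (a : Fin n₁ → F) (w : Fin n₂ → F) :
    app (D.kr A B) (D.T a w) = D.T (app A a) (app B w) := by
  show app (D.kr A B) (app D.P _) = app D.P _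
  rw [kr, map_mul, map_mul, LinearEquiv.mul_apply, LinearEquiv.mul_apply, app_inv_app]
  congr 1
  funext i
  simp only [Cfsg.Geo.glReindex, app_apply, Units.coe_mapEquiv, Matrix.mulVec, dotProduct]
  rw [← D.e.symm.sum_comp, Fintype.sum_prod_type, Finset.sum_mul_sum]
  refine Finset.sum_congr rfl fun j _ => Finset.sum_congr rfl fun k _ => ?_
  simp [Matrix.kroneckerMap_apply]
  ring

lemma exists_of_mem {g : GL ι F} (hg : g ∈ Cfsg.Geo.tensorProductSubgroup n₁ n₂ D.e D.P) :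
    ∃ (A : GL (Fin n₁) F) (B : GL (Fin n₂) F), g = D.kr A B := by
  obtain ⟨_, ⟨k, ⟨A, B, hk⟩, rfl⟩, rfl⟩ := hg
  exact ⟨A, B, Units.ext (by simp [kr, Cfsg.Geo.glReindex, hk])⟩

lemma det_kr (A : GL (Fin n₁) F) (B : GL (Fin n₂) F) :
    (D.kr A B : Matrix ι ι F).det = (A : Matrix (Fin n₁) (Fin n₁) F).det ^ n₂ *
      (B : Matrix (Fin n₂) (Fin n₂) F).det ^ n₁ := by
  rw [kr, Units.val_mul, Units.val_mul, Matrix.det_units_conj]
  simp [Cfsg.Geo.glReindex, Matrix.det_kronecker]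

lemma kr_mem_sl {A : GL (Fin n₁) F} {B : GL (Fin n₂) F}
    (hA : A ∈ Cfsg.Geo.specialLinear (Fin n₁) F) (hB : B ∈ Cfsg.Geo.specialLinear (Fin n₂) F) :
    D.kr A B ∈ Cfsg.Geo.specialLinear ι F := by
  rw [mem_sl_iff, D.det_kr, mem_sl_iff.1 hA, mem_sl_iff.1 hB]; simp

/-- `a ⊗ w ↦ a ⊗ w + α(w) k(a) ⊗ u`. -/
noncomputable def rt (k : (Fin n₁ → F) →ₗ[F] (Fin n₁ → F)) (u : Fin n₂ → F)
    (α : (Fin n₂ → F) →ₗ[F] F) : GL ι F :=
  unip (D.T.flip u ∘ₗ k ∘ₗ D.ct α)

lemma rt_apply {u : Fin n₂ → F} {α : (Fin n₂ → F) →ₗ[F] F} (h : α u = 0)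
    (k : (Fin n₁ → F) →ₗ[F] (Fin n₁ → F)) (x : ι → F) :
    app (D.rt k u α) x = x + D.T (k (D.ct α x)) u := by
  rw [rt, unip_apply fun y => ?_]
  · rfl
  · show D.T (k (D.ct α (D.T (k (D.ct α y)) u))) u = 0
    rw [D.ct_T, h]; simp

lemma rt_one_eq {u : Fin n₂ → F} {α : (Fin n₂ → F) →ₗ[F] F} (h : α u = 0) :
    D.rt LinearMap.id u α = D.kr 1 (tv u α) :=
  D.gl_ext_T fun a w => by
    rw [D.rt_apply h, D.app_kr, tv_apply h, D.ct_T]
    simp

lemma res_rt {u : Fin n₂ → F} {α : (Fin n₂ → F) →ₗ[F] F} (h : α u = 0) (hα : α ≠ 0) :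
    res (D.rt LinearMap.id u α) = D.line u := by
  refine le_antisymm (res_le fun x => ?_) ?_
  · rw [D.rt_apply h, add_sub_cancel_left]; exact D.mem_line _
  · rintro _ ⟨a, rfl⟩
    obtain ⟨w, hw⟩ := LinearMap.surjective_of_ne_zero hα 1
    refine ⟨D.T a w, ?_⟩
    show app (D.rt LinearMap.id u α) (D.T a w) - D.T a w = D.T a u
    rw [D.rt_apply h, add_sub_cancel_left, D.ct_T, hw]
    simp

lemma rt_fix {u : Fin n₂ → F} {α : (Fin n₂ → F) →ₗ[F] F} (h : α u = 0)
    (k : (Fin n₁ → F) →ₗ[F] (Fin n₁ → F)) {x : ι → F} (hx : D.ct α x = 0) :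
    app (D.rt k u α) x = x := by
  rw [D.rt_apply h, hx]; simp

lemma rt_inv {u : Fin n₂ → F} {α : (Fin n₂ → F) →ₗ[F] F} (h : α u = 0) :
    (D.rt LinearMap.id u α)⁻¹ = D.rt LinearMap.id u (-α) :=
  inv_eq_of_mul_eq_one_right (gl_ext fun x => by
    rw [map_mul, LinearEquiv.mul_apply, D.rt_apply (α := -α) (by simp [h]), D.rt_apply h,
      map_add, D.ct_T, h]
    simp only [LinearMap.id_coe, id_eq, zero_smul, add_zero, map_one, LinearEquiv.coe_one]
    have : D.ct (-α) x = -D.ct α x := by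
      funext i; rfl
    rw [this, map_neg]; simp)

end TData

end Cfsg.Agent.C4
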