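import Cfsg.Agent.Lib.C4.Roots

/-!
# Fusion of roots

An element sending enough transvections of the second factor to such transvections stabilises the
decomposition; consequently every `p`-subgroup of `M` has a conjugate in which all roots are
decomposable.
-/

set_option autoImplicit false
set_option linter.unusedSectionVars false

namespace Cfsg.Agent.C4.TData

open Matrix Module Cfsg.Agent.Transvect
open scoped MatrixGroups Kronecker

variable {ι : Type} [Fintype ι] [DecidableEq ι] {F : Type*} [Field F] [Fintype F] {n₁ n₂ : ℕ}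
  (D : TData ι F n₁ n₂) {M : Subgroup (GL ι F)}

lemma exists_gl {n : ℕ} (f : (Fin n → F) →ₗ[F] (Fin n → F)) (hf : Function.Injective f) :
    ∃ A : GL (Fin n) F, ∀ x, app A x = f x := by
  let e := LinearEquiv.ofInjectiveEndo f hf
  refine ⟨⟨LinearMap.toMatrix' e.toLinearMap, LinearMap.toMatrix' e.symm.toLinearMap, ?_, ?_⟩,
    fun x => ?_⟩
  · rw [← LinearMap.toMatrix'_comp, LinearEquiv.comp_symm, LinearMap.toMatrix'_id]
  · rw [← LinearMap.toMatrix'_comp, LinearEquiv.symm_comp, LinearMap.toMatrix'_id]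
  · rw [app_apply]
    exact LinearMap.toMatrix'_mulVec _ _

/-- An element of `M` mapping the roots of a flag to decomposable ones is in the stabiliser. -/
lemma mem_stab_of_map (hn : 0 < n₁) (h3 : 3 ≤ n₂) (hHM : D.stab ≤ M)
    (hMS : M ≤ Cfsg.Geo.specialLinear ι F) (hS : D.Scal M) {g : GL ι F} (hg : g ∈ M)
    {u₁ : Fin n₂ → F} {α₀ : (Fin n₂ → F) →ₗ[F] F} (hu₁ : u₁ ≠ 0) (hα₀ : α₀ ≠ 0) (h₀ : α₀ u₁ = 0)
    (hA : ∀ u, u ≠ 0 → α₀ u = 0 → D.IsDec (g * D.rt LinearMap.id u α₀ * g⁻¹))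
    (hB : ∀ α : (Fin n₂ → F) →ₗ[F] F, α ≠ 0 → α u₁ = 0 →
      D.IsDec (g * D.rt LinearMap.id u₁ α * g⁻¹)) :
    g ∈ D.stab := by
  have hline : ∀ u, u ≠ 0 → α₀ u = 0 → ∃ w, w ≠ 0 ∧
      (D.line u).map (app g).toLinearMap = D.line w := by
    intro u hu h
    obtain ⟨w, β, hw, hβ, hβw, he⟩ := hA u hu h
    exact ⟨w, hw, by rw [← D.res_rt h hα₀, ← res_conj, he, D.res_rt hβw hβ]⟩
  have hmaps : ∀ u, u ≠ 0 → α₀ u = 0 → ∃ (w : Fin n₂ → F) (L : (Fin n₁ → F) →ₗ[F] (Fin n₁ → F)),
      w ≠ 0 ∧ Function.Injective L ∧ ∀ a, app g (D.T a u) = D.T (L a) w := by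
    intro u hu h
    obtain ⟨w, hw, he⟩ := hline u hu h
    obtain ⟨β, hβ⟩ := exists_dual hw
    let L : (Fin n₁ → F) →ₗ[F] (Fin n₁ → F) := D.ct β ∘ₗ (app g).toLinearMap ∘ₗ D.T.flip u
    have hL : ∀ a, app g (D.T a u) = D.T (L a) w := fun a => by
      obtain ⟨b, hb⟩ : app g (D.T a u) ∈ D.line w := he ▸ ⟨_, D.mem_line a, rfl⟩
      have h1 : L a = D.ct β (D.T b w) := congrArg (D.ct β) hb.symm
      rw [h1, D.ct_T, hβ, one_smul]
      exact hb.symm
    refine ⟨w, L, hw, fun a b hab => D.T_inj_left hu ((app g).injective ?_), hL⟩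
    rw [hL, hL, hab]
  obtain ⟨w₁, L, hw₁, hLi, hL⟩ := hmaps u₁ hu₁ h₀
  have hLs : Function.Surjective L := LinearMap.injective_iff_surjective.1 hLi
  set i : Fin n₁ := ⟨0, hn⟩
  obtain ⟨aS, haS⟩ := hLs (Pi.single i 1)
  -- a common linear part on the hyperplane
  have hker : ∀ u, α₀ u = 0 → ∃ w, ∀ a, app g (D.T a u) = D.T (L a) w := by
    intro u hu
    by_cases hm : u ∈ F ∙ u₁
    · obtain ⟨c, rfl⟩ := Submodule.mem_span_singleton.1 hm
      exact ⟨c • w₁, fun a => by rw [map_smul, map_smul, hL, map_smul]⟩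
    have hu0 : u ≠ 0 := fun e => hm (e ▸ Submodule.zero_mem _)
    obtain ⟨wu, Lu, hwu, hLui, hLu⟩ := hmaps u hu0 hu
    have hs0 : u₁ + u ≠ 0 := fun e => hm (Submodule.mem_span_singleton.2 ⟨-1, by
      rw [neg_smul, one_smul, neg_eq_iff_add_eq_zero]; exact e⟩)
    obtain ⟨ws, Ls, hws, hLsi, hLs'⟩ := hmaps (u₁ + u) hs0 (by rw [map_add, h₀, hu, add_zero])
    have hne : D.line wu ≠ D.line w₁ := by
      intro e
      have he0 : (Pi.single i 1 : Fin n₁ → F) ≠ 0 := by simp
      have hx : app g (D.T (Pi.single i 1) u) ∈ D.line w₁ := e ▸ hLu _ ▸ D.mem_line _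
      obtain ⟨b, hb⟩ := hx
      obtain ⟨b', rfl⟩ := hLs b
      have h1 : D.T b' u₁ = D.T (Pi.single i 1) u := (app g).injective (by rw [hL]; exact hb)
      obtain ⟨f, hf1, hf2⟩ := Submodule.exists_le_ker_of_notMem hm
      have h2 := congrArg (D.ct f) h1
      rw [D.ct_T, D.ct_T, LinearMap.mem_ker.1 (hf2 (Submodule.mem_span_singleton_self _)),
        zero_smul] at h2
      exact he0 ((smul_eq_zero.1 h2.symm).resolve_left hf1)
    have hwi : wu ∉ F ∙ w₁ := fun h => by
      obtain ⟨c, hc⟩ := Submodule.mem_span_singleton.1 h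
      obtain ⟨a0, ha0⟩ : ∃ a : Fin n₁ → F, a ≠ 0 := ⟨Pi.single i 1, by simp⟩
      refine hne (D.line_eq_of_mem hwu (x := D.T a0 wu) (D.mem_line a0) ?_ fun e =>
        (D.T_eq_zero e).elim ha0 hwu)
      rw [← hc, map_smul]
      exact Submodule.smul_mem _ _ (D.mem_line a0)
    obtain ⟨f, hf1, hf2⟩ := Submodule.exists_le_ker_of_notMem hwi
    obtain ⟨f', hf'1, hf'2⟩ := Submodule.exists_le_ker_of_notMem
      (show w₁ ∉ F ∙ wu from fun h => by
        obtain ⟨c, hc⟩ := Submodule.mem_span_singleton.1 h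
        have hc0 : c ≠ 0 := fun e => hw₁ (by rw [← hc, e, zero_smul])
        exact hwi (Submodule.mem_span_singleton.2 ⟨c⁻¹, by rw [← hc, inv_smul_smul₀ hc0]⟩))
    have key : ∀ a, D.T (Ls a) ws = D.T (L a) w₁ + D.T (Lu a) wu := fun a => by
      rw [← hLs', map_add, map_add, hL, hLu]
    have e1 : ∀ a, f ws • Ls a = f wu • Lu a := fun a => by
      have := congrArg (D.ct f) (key a)
      rwa [D.ct_T, map_add, D.ct_T, D.ct_T,
        LinearMap.mem_ker.1 (hf2 (Submodule.mem_span_singleton_self _)), zero_smul, zero_add] at this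
    have e2 : ∀ a, f' ws • Ls a = f' w₁ • L a := fun a => by
      have := congrArg (D.ct f') (key a)
      rwa [D.ct_T, map_add, D.ct_T, D.ct_T,
        LinearMap.mem_ker.1 (hf'2 (Submodule.mem_span_singleton_self _)), zero_smul, add_zero] at this
    have hf's : f' ws ≠ 0 := fun e => by
      have := e2 (Pi.single i 1)
      rw [e, zero_smul] at this
      exact (smul_eq_zero.1 this.symm).elim hf'1 fun h => by
        have : (Pi.single i 1 : Fin n₁ → F) = 0 := hLi (h.trans (map_zero L).symm)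
        simp at this
    refine ⟨((f wu)⁻¹ * f ws * ((f' ws)⁻¹ * f' w₁)) • wu, fun a => ?_⟩
    rw [hLu, show Lu a = ((f wu)⁻¹ * f ws * ((f' ws)⁻¹ * f' w₁)) • L a from by
      rw [← smul_smul, ← smul_smul ((f' ws)⁻¹), ← e2, inv_smul_smul₀ hf's, ← smul_smul, e1,
        inv_smul_smul₀ hf1]]
    rw [map_smul, LinearMap.smul_apply, map_smul]
  let b : (Fin n₂ → F) →ₗ[F] (Fin n₂ → F) :=
    LinearMap.proj i ∘ₗ D.row ∘ₗ (app g).toLinearMap ∘ₗ D.T aS
  have hbrow : ∀ u, b u = D.row (app g (D.T aS u)) i := fun u => rfl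
  have hbker : ∀ u, α₀ u = 0 → ∀ a, app g (D.T a u) = D.T (L a) (b u) := by
    intro u hu a
    obtain ⟨w, hw⟩ := hker u hu
    rw [hw, hbrow, hw, D.row_T, haS, Pi.single_eq_same, one_smul]
  have hdual' : ∀ α : (Fin n₂ → F) →ₗ[F] F, α u₁ = 0 → α ∉ F ∙ α₀ →
      ∃ γ : (Fin n₂ → F) →ₗ[F] F, ∀ y, D.ct γ (app g y) = L (D.ct α y) := by
    intro α hαu hαm
    have hα : α ≠ 0 := fun e => hαm (e ▸ Submodule.zero_mem _)
    obtain ⟨u', α', hu', hα', hα'u', he⟩ := hB α hα hαu
    have hfix : ∀ x, D.ct α x = 0 → D.ct α' (app g x) = 0 := by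
      intro x hx
      have h1 : app (D.rt LinearMap.id u' α') (app g x) = app g x := by
        rw [← he, map_mul, map_mul, LinearEquiv.mul_apply, LinearEquiv.mul_apply, app_inv_app,
          D.rt_fix hαu _ hx]
      rw [D.rt_apply hα'u', add_eq_left] at h1
      exact (D.T_eq_zero h1).resolve_right hu'
    obtain ⟨v, hv1, hv2⟩ : ∃ v, α₀ v = 0 ∧ α v = 1 := by
      by_contra! hall
      apply hαm
      obtain ⟨z, hz⟩ := LinearMap.surjective_of_ne_zero hα₀ 1
      refine Submodule.mem_span_singleton.2 ⟨α z, LinearMap.ext fun x => ?_⟩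
      have h1 : α (x - α₀ x • z) = 0 := by
        by_contra hne
        exact hall ((α (x - α₀ x • z))⁻¹ • (x - α₀ x • z)) (by simp [hz])
          (by rw [map_smul, smul_eq_mul, inv_mul_cancel₀ hne])
      simp only [map_sub, map_smul, smul_eq_mul, sub_eq_zero] at h1
      rw [h1, LinearMap.smul_apply, smul_eq_mul, mul_comm]
    have hy : ∀ y, D.ct α' (app g y) = α' (b v) • L (D.ct α y) := by
      intro y
      have h1 := hfix (y - D.T (D.ct α y) v) (by rw [map_sub, D.ct_T, hv2, one_smul, sub_self])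
      rw [map_sub, map_sub, hbker v hv1, D.ct_T, sub_eq_zero] at h1
      exact h1
    have hne : α' (b v) ≠ 0 := by
      intro e
      apply hα'
      refine LinearMap.ext fun w => ?_
      have := hy ((app g).symm (D.T (Pi.single i 1) w))
      rw [LinearEquiv.apply_symm_apply, D.ct_T, e, zero_smul] at this
      exact (smul_eq_zero.1 this).resolve_right (by simp)
    exact ⟨(α' (b v))⁻¹ • α', fun y => by rw [D.ct_smul, hy, inv_smul_smul₀ hne]⟩
  have hdual : ∀ α : (Fin n₂ → F) →ₗ[F] F, α u₁ = 0 →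
      ∃ γ : (Fin n₂ → F) →ₗ[F] F, ∀ y, D.ct γ (app g y) = L (D.ct α y) := by
    intro α hα
    by_cases hm : α ∈ F ∙ α₀
    · obtain ⟨w, hw1, hw2⟩ : ∃ w, α₀ w = 0 ∧ w ∉ F ∙ u₁ := by
        by_contra! hall
        have hr := LinearMap.finrank_range_add_finrank_ker α₀
        have h1 : finrank F (LinearMap.range α₀) ≤ 1 :=
          (Submodule.finrank_le _).trans (Module.finrank_self F).le
        have h2 : finrank F (LinearMap.ker α₀) ≤ 1 :=
          (Submodule.finrank_mono (show LinearMap.ker α₀ ≤ F ∙ u₁ from fun z hz => hall z hz)).trans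
            (finrank_span_singleton hu₁).le
        rw [Module.finrank_fintype_fun_eq_card, Fintype.card_fin] at hr
        omega
      obtain ⟨δ, hδ1, hδ2⟩ := Submodule.exists_le_ker_of_notMem hw2
      have hδu : δ u₁ = 0 := hδ2 (Submodule.mem_span_singleton_self _)
      have hδm : δ ∉ F ∙ α₀ := fun h => by
        obtain ⟨c, rfl⟩ := Submodule.mem_span_singleton.1 h
        simp [hw1] at hδ1
      obtain ⟨γ₁, h1⟩ := hdual' δ hδu hδm
      obtain ⟨γ₂, h2⟩ := hdual' (α + δ) (by simp [hα, hδu]) fun h => hδm (by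
        have := Submodule.sub_mem _ h hm
        rwa [add_sub_cancel_left] at this)
      refine ⟨γ₂ - γ₁, fun y => ?_⟩
      rw [show D.ct (γ₂ - γ₁) (app g y) = D.ct γ₂ (app g y) - D.ct γ₁ (app g y) from rfl, h1, h2,
        ← map_sub, D.ct_add, add_sub_cancel_right]
    · exact hdual' α hα hm
  have hdiff : ∀ a u, app g (D.T a u) - D.T (L a) (b u) ∈ D.line w₁ := by
    intro a u
    set x := app g⁻¹ (app g (D.T a u) - D.T (L a) (b u)) with hx
    have hgx : app g x = app g (D.T a u) - D.T (L a) (b u) := by rw [hx, app_app_inv]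
    obtain ⟨c, hc⟩ : x ∈ D.line u₁ := D.mem_line_of_ct fun α hα => by
      obtain ⟨γ, hγ⟩ := hdual α hα
      apply hLi
      rw [← hγ, hgx, map_sub, hγ, D.ct_T, D.ct_T, map_smul, map_zero]
      have h1 := congrFun (hγ (D.T aS u)) i
      rw [D.ct_T, map_smul, haS, Pi.smul_apply, Pi.single_eq_same, smul_eq_mul, mul_one] at h1
      have h2 : γ (b u) = α u := h1
      rw [h2, sub_self]
    rw [← hgx, ← hc]
    exact ⟨L c, (hL c).symm⟩
  have hbi : Function.Injective b := (injective_iff_map_eq_zero b).2 fun u hu => by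
    have hum : u ∈ F ∙ u₁ := by
      by_contra hm
      obtain ⟨f, hf1, hf2⟩ := Submodule.exists_le_ker_of_notMem hm
      obtain ⟨γ, hγ⟩ := hdual f (hf2 (Submodule.mem_span_singleton_self _))
      have h1 := congrFun (hγ (D.T aS u)) i
      rw [D.ct_T, map_smul, haS, Pi.smul_apply, Pi.single_eq_same, smul_eq_mul, mul_one] at h1
      have h2 : γ (b u) = f u := h1
      rw [hu, map_zero] at h2
      exact hf1 h2.symm
    obtain ⟨c, rfl⟩ := Submodule.mem_span_singleton.1 hum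
    rw [map_smul, smul_eq_zero] at hu
    rcases hu with h | h
    · rw [h, zero_smul]
    · rw [hbrow, hL, D.row_T, haS, Pi.single_eq_same, one_smul] at h
      exact absurd h hw₁
  obtain ⟨A, hA'⟩ := exists_gl L hLi
  obtain ⟨B, hB'⟩ := exists_gl b hbi
  set y := (D.kr A B)⁻¹ * g with hy
  have hgy : ∀ x, app g x = app (D.kr A B) (app y x) := fun x => by
    rw [← LinearEquiv.mul_apply, ← map_mul, hy, mul_inv_cancel_left]
  have hbu₁ : b u₁ = w₁ := by rw [hbrow, hL, D.row_T, haS, Pi.single_eq_same, one_smul]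
  have hy2 : ∀ a u, app y (D.T a u) - D.T a u ∈ D.line u₁ := fun a u => by
    obtain ⟨c, hc⟩ := hdiff a u
    obtain ⟨c', rfl⟩ := hLs c
    refine ⟨c', (app (D.kr A B)).injective ?_⟩
    show app (D.kr A B) (D.T c' u₁) = _
    rw [D.app_kr, hA', hB', hbu₁, map_sub, ← hgy, D.app_kr, hA', hB']
    exact hc
  have hy1 : ∀ a u, α₀ u = 0 → app y (D.T a u) = D.T a u := fun a u hu =>
    (app (D.kr A B)).injective (by rw [← hgy, hbker u hu, D.app_kr, hA', hB'])
  obtain ⟨v₀, hv₀⟩ := LinearMap.surjective_of_ne_zero hα₀ 1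
  obtain ⟨β, hβ⟩ := exists_dual hu₁
  let k : (Fin n₁ → F) →ₗ[F] (Fin n₁ → F) :=
    D.ct β ∘ₗ ((app y).toLinearMap - LinearMap.id) ∘ₗ D.T.flip v₀
  have hyrt : y = D.rt k u₁ α₀ := D.gl_ext_T fun a u => by
    rw [D.rt_apply h₀, D.ct_T, map_smul]
    have hk : D.T (k a) u₁ = app y (D.T a v₀) - D.T a v₀ := by
      obtain ⟨c, hc⟩ := hy2 a v₀
      have h1 : k a = D.ct β (D.T c u₁) := congrArg (D.ct β) hc.symm
      rw [h1, D.ct_T, hβ, one_smul]
      exact hc
    rw [map_smul, LinearMap.smul_apply, hk]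
    have h1 := hy1 a (u - α₀ u • v₀) (by simp [hv₀])
    rw [map_sub, map_smul, map_sub, map_smul] at h1
    linear_combination (norm := module) h1
  have hkr : D.kr A B ∈ D.stab := by
    refine ⟨D.kr_mem A B, ?_⟩
    have h1 : D.kr A B = g * y⁻¹ := by rw [hy]; group
    rw [h1]
    have h2 : y ∈ Cfsg.Geo.specialLinear ι F := by rw [hyrt]; exact unip_mem_sl _
    exact Subgroup.mul_mem _ (hMS hg) (Subgroup.inv_mem _ h2)
  have hyM : y ∈ M := by rw [hy]; exact mul_mem (inv_mem (hHM hkr)) hg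
  obtain ⟨c, hc⟩ := hS k u₁ α₀ hu₁ hα₀ h₀ (hyrt ▸ hyM)
  have hys : y ∈ D.stab := by
    rw [hyrt, show k = c • LinearMap.id from LinearMap.ext hc, D.rt_smul h₀]
    exact D.rt_one_mem_stab (by simp [h₀])
  rw [show g = D.kr A B * y by rw [hy]; group]
  exact mul_mem hkr hys

/-- A root inside the stabiliser is decomposable. -/
lemma IsRoot.isDec_of_stab (hn : 0 < n₁) (h12 : n₁ < n₂) (h3 : 3 ≤ n₂) (hHM : D.stab ≤ M)
    (hS : D.Scal M) {g : GL ι F} (hg : D.IsRoot M g) (hgs : g ∈ D.stab) : D.IsDec g := by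
  obtain ⟨p, hp⟩ := CharP.exists F
  have hpp : p.Prime :=
    (CharP.char_is_prime_or_zero F p).resolve_right (CharP.char_ne_zero_of_finite F p)
  have := Fact.mk hpp
  obtain ⟨A, B, rfl⟩ := D.exists_of_mem hgs.1
  set i : Fin n₁ := ⟨0, hn⟩
  have hk : ∀ (k : ℕ) (a : Fin n₁ → F) (w : Fin n₂ → F),
      app (D.kr A B ^ k) (D.T a w) = D.T (app (A ^ k) a) (app (B ^ k) w) := by
    intro k
    induction k with
    | zero => intro a w; simp
    | succ k ih =>
      intro a w
      rw [pow_succ, map_mul, LinearEquiv.mul_apply, D.app_kr, ih, pow_succ, pow_succ, map_mul,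
        map_mul, LinearEquiv.mul_apply, LinearEquiv.mul_apply]
  obtain ⟨w₀, hw₀⟩ : ∃ w : Fin n₂ → F, w ≠ 0 := ⟨Pi.single ⟨0, by omega⟩ 1, by simp⟩
  obtain ⟨β, hβ⟩ := exists_dual (u := app (B ^ p) w₀) fun h => hw₀ ((app (B ^ p)).map_eq_zero_iff.1 h)
  have hAp : ∀ a, app (A ^ p) a = β w₀ • a := fun a => by
    have h1 := congrArg (D.ct β) (hk p a w₀)
    rw [IsRoot.pow_char D hg, map_one, LinearEquiv.coe_one, id_eq, D.ct_T, D.ct_T, hβ,
      one_smul] at h1
    exact h1.symm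
  obtain ⟨d, hd⟩ := (PerfectRing.bijective_frobenius (R := F) (p := p)).2 (β w₀)
  change d ^ p = β w₀ at hd
  have hd0 : d ≠ 0 := by
    rintro rfl
    rw [zero_pow hpp.ne_zero] at hd
    have := (app (A ^ p)).injective (a₁ := Pi.single i 1) (a₂ := 0)
      (by rw [hAp, map_zero, ← hd, zero_smul])
    simp at this
  let N : Module.End F (Fin n₁ → F) := d⁻¹ • (app A).toLinearMap - 1
  have hN : ∀ a, app A a = d • (a + N a) := fun a => by
    simp [N, smul_smul, mul_inv_cancel₀ hd0]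
  have hNp : N ^ p = 0 := by
    rcases subsingleton_or_nontrivial (Fin n₁ → F) with hs | hs
    · exact LinearMap.ext fun x => Subsingleton.elim _ _
    have : CharP (Module.End F (Fin n₁ → F)) p :=
      charP_of_injective_algebraMap (algebraMap F (Module.End F (Fin n₁ → F))).injective p
    rw [show N = d⁻¹ • (app A).toLinearMap - 1 from rfl, sub_pow_char_of_commute (p := p) (Commute.one_right (d⁻¹ • (app A).toLinearMap : Module.End F (Fin n₁ → F))),
      one_pow, sub_eq_zero, smul_pow, inv_pow, hd]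
    refine LinearMap.ext fun a => ?_
    have : ∀ k : ℕ, ((app A).toLinearMap : Module.End F (Fin n₁ → F)) ^ k = (app (A ^ k)).toLinearMap := by
      intro k
      induction k with
      | zero => rw [pow_zero, pow_zero, map_one]; rfl
      | succ k ih => rw [pow_succ, ih, pow_succ, map_mul]; rfl
    rw [LinearMap.smul_apply, this, LinearEquiv.coe_coe, hAp, inv_smul_smul₀ (hd ▸ pow_ne_zero _ hd0)]
    rfl
  have hgN : ∀ a w, app (D.kr A B) (D.T a w) = D.T (a + N a) (d • app B w) := fun a w => by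
    rw [D.app_kr, hN, map_smul, LinearMap.smul_apply, map_smul]
  by_cases hN0 : N = 0
  · obtain ⟨w, hw⟩ : ∃ w, d • app B w - w ≠ 0 := by
      by_contra! hall
      obtain ⟨m, -, r, hr, he⟩ := hg
      refine hr.ne_one D hn ?_
      have h1 : D.kr A B = 1 := D.gl_ext_T fun a w => by
        rw [hgN, hN0, LinearMap.zero_apply, add_zero, sub_eq_zero.1 (hall w)]
        simp
      rw [h1] at he
      rw [show r = m⁻¹ * (m * r * m⁻¹) * m by group, ← he]; group
    have hle : D.line (d • app B w - w) ≤ res (D.kr A B) := by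
      rintro _ ⟨a, rfl⟩
      refine ⟨D.T a w, ?_⟩
      show app (D.kr A B) (D.T a w) - D.T a w = D.T a (d • app B w - w)
      rw [hgN, hN0, LinearMap.zero_apply, add_zero, map_sub]
    refine IsRoot.isDec_of_res D hn h3 hHM hS hg hw ?_
    exact (Submodule.eq_of_le_of_finrank_eq hle
      (by rw [D.finrank_line hw, IsRoot.finrank_res D hg])).ge
  · exfalso
    obtain ⟨f, hf1, hf2⟩ : ∃ f, N f ≠ 0 ∧ N (N f) = 0 := by
      by_contra! hall
      obtain ⟨f, hf⟩ : ∃ f, N f ≠ 0 := by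
        by_contra! h; exact hN0 (LinearMap.ext h)
      have h1 : ∀ k : ℕ, 1 ≤ k → (N ^ k) f ≠ 0 := by
        intro k hk'
        induction k, hk' using Nat.le_induction with
        | base => rwa [pow_one]
        | succ k hk' ih =>
          obtain ⟨j, rfl⟩ : ∃ j, k = j + 1 := ⟨k - 1, by omega⟩
          rw [pow_succ', Module.End.mul_apply, pow_succ', Module.End.mul_apply] at *
          exact hall _ ih
      exact h1 p hpp.one_le (by rw [hNp]; rfl)
    have hind : f ∉ F ∙ N f := fun h => by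
      obtain ⟨c, hc⟩ := Submodule.mem_span_singleton.1 h
      apply hf1
      rw [← hc, map_smul, hf2, smul_zero]
    obtain ⟨φ, hφ1, hφ2⟩ := Submodule.exists_le_ker_of_notMem
      (show N f ∉ F ∙ f from fun h => by
        obtain ⟨c, hc⟩ := Submodule.mem_span_singleton.1 h
        have hc0 : c ≠ 0 := fun e => hf1 (by rw [← hc, e, zero_smul])
        exact hind (Submodule.mem_span_singleton.2 ⟨c⁻¹, by rw [← hc, inv_smul_smul₀ hc0]⟩))
    let Φ : (Fin n₂ → F) →ₗ[F] res (D.kr A B) :=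
      (((app (D.kr A B)).toLinearMap - LinearMap.id) ∘ₗ D.T f).codRestrict _ fun y => mem_res _
    have hΦ : Function.Injective Φ := (injective_iff_map_eq_zero Φ).2 fun y hy => by
      have h1 : app (D.kr A B) (D.T f y) - D.T f y = 0 := congrArg Subtype.val hy
      rw [hgN, map_add, LinearMap.add_apply] at h1
      have hB0 : app B y = 0 := by
        funext j
        have h2 := congrArg φ (congrArg (D.ct (LinearMap.proj j)) h1)
        have hφf : φ f = 0 := LinearMap.mem_ker.1 (hφ2 (Submodule.mem_span_singleton_self f))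
        simp only [map_sub, map_add, D.ct_T, map_zero, map_smul, LinearMap.proj_apply, hφf,
          smul_eq_mul, mul_zero, zero_add, sub_zero, Pi.smul_apply] at h2
        simpa [hd0, hφ1] using h2
      rw [(app B).map_eq_zero_iff.1 hB0]
    have := LinearMap.finrank_le_finrank_of_injective hΦ
    rw [IsRoot.finrank_res D hg, Module.finrank_fintype_fun_eq_card, Fintype.card_fin] at this
    omega

/-- The unipotent group of a flag. -/
def flagSub (u₁ : Fin n₂ → F) (α₀ : (Fin n₂ → F) →ₗ[F] F) : Subgroup (GL ι F) where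
  carrier := {g | g ∈ D.stab ∧ (∀ x ∈ D.line u₁, app g x = x) ∧
    (∀ x, D.ct α₀ (app g x - x) = 0) ∧ ∀ x, D.ct α₀ x = 0 → app g x - x ∈ D.line u₁}
  one_mem' := ⟨one_mem _, fun _ _ => by simp, fun _ => by simp, fun _ _ => by simp⟩
  mul_mem' := by
    rintro g h ⟨g1, g2, g3, g4⟩ ⟨e1, e2, e3, e4⟩
    refine ⟨mul_mem g1 e1, fun x hx => ?_, fun x => ?_, fun x hx => ?_⟩
    · rw [map_mul, LinearEquiv.mul_apply, e2 x hx, g2 x hx]
    · rw [map_mul, LinearEquiv.mul_apply, show app g (app h x) - x =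
        (app g (app h x) - app h x) + (app h x - x) by abel, map_add, g3, e3, add_zero]
    · rw [map_mul, LinearEquiv.mul_apply, show app g (app h x) - x =
        (app g (app h x) - app h x) + (app h x - x) by abel]
      refine Submodule.add_mem _ (g4 _ ?_) (e4 x hx)
      have := e3 x
      rwa [map_sub, hx, sub_zero] at this
  inv_mem' := by
    rintro g ⟨g1, g2, g3, g4⟩
    have key : ∀ x, app g⁻¹ x - x = -(app g (app g⁻¹ x) - app g⁻¹ x) := fun x => by
      rw [app_app_inv]; abel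
    refine ⟨inv_mem g1, fun x hx => ?_, fun x => ?_, fun x hx => ?_⟩
    · conv_lhs => rw [← g2 x hx, app_inv_app]
    · rw [key, map_neg, g3, neg_zero]
    · rw [key]
      refine Submodule.neg_mem _ (g4 _ ?_)
      have := g3 (app g⁻¹ x)
      rwa [app_app_inv, map_sub, hx, zero_sub, neg_eq_zero] at this

lemma isPGroup_flagSub {p : ℕ} [Fact p.Prime] [CharP F p] (u₁ : Fin n₂ → F)
    (α₀ : (Fin n₂ → F) →ₗ[F] F) : IsPGroup p (D.flagSub u₁ α₀) := by
  rintro ⟨g, hg1, hg2, hg3, hg4⟩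
  refine ⟨2, Subtype.ext (gl_ext fun x => ?_)⟩
  show app (g ^ p ^ 2) x = app 1 x
  have h1 : ∀ k : ℕ, ∀ y, ∃ z ∈ D.line u₁, app (g ^ k) y = y + (k : F) • (app g y - y) + z := by
    intro k
    induction k with
    | zero => exact fun y => ⟨0, Submodule.zero_mem _, by simp⟩
    | succ k ih =>
      intro y
      obtain ⟨z, hz, e⟩ := ih y
      refine ⟨(k : F) • (app g (app g y - y) - (app g y - y)) + z,
        Submodule.add_mem _ (Submodule.smul_mem _ _ (hg4 _ (hg3 y))) hz, ?_⟩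
      rw [pow_succ', map_mul, LinearEquiv.mul_apply, e, map_add, map_add, map_smul, hg2 z hz]
      push_cast
      module
  obtain ⟨z, hz, e⟩ := h1 p x
  rw [CharP.cast_eq_zero F p, zero_smul, add_zero] at e
  have hfix : ∀ k : ℕ, app (g ^ k) z = z := by
    intro k
    induction k with
    | zero => simp
    | succ k ih => rw [pow_succ, map_mul, LinearEquiv.mul_apply, hg2 z hz, ih]
  have h2 : ∀ k : ℕ, app ((g ^ p) ^ k) x = x + (k : F) • z := by
    intro k
    induction k with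
    | zero => simp
    | succ k ih =>
      rw [pow_succ', map_mul, LinearEquiv.mul_apply, ih, map_add, map_smul, e, hfix]
      push_cast
      module
  rw [sq, pow_mul, h2, CharP.cast_eq_zero]
  simp

/-- Roots in a `p`-subgroup of `M` become decomposable after conjugation. -/
theorem exists_conj_isDec {p : ℕ} [Fact p.Prime] [CharP F p] (hn : 0 < n₁) (h12 : n₁ < n₂)
    (h3 : 3 ≤ n₂) (hHM : D.stab ≤ M) (hMS : M ≤ Cfsg.Geo.specialLinear ι F) (hS : D.Scal M)
    {S : Subgroup (GL ι F)} (hSM : S ≤ M) (hSp : IsPGroup p S) :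
    ∃ m ∈ M, ∀ s ∈ S, D.IsRoot M s → D.IsDec (m * s * m⁻¹) := by
  classical
  have : Finite (GL ι F) := Finite.of_injective (fun g : GL ι F => (g : Matrix ι ι F)) Units.val_injective
  set j : Fin n₂ := ⟨0, by omega⟩
  set j' : Fin n₂ := ⟨1, by omega⟩
  have hjj : j ≠ j' := by simp [j, j', Fin.ext_iff]
  set u₁ : Fin n₂ → F := Pi.single j 1
  set α₀ : (Fin n₂ → F) →ₗ[F] F := LinearMap.proj j'
  have hu₁ : u₁ ≠ 0 := by simp [u₁]
  have hα₀ : α₀ ≠ 0 := fun e => one_ne_zero (α := F) (by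
    simpa [α₀] using LinearMap.congr_fun e (Pi.single j' 1))
  have h₀ : α₀ u₁ = 0 := by simp [α₀, u₁, hjj.symm]
  obtain ⟨P, hUP, hmax⟩ : ∃ P : Subgroup (GL ι F), D.flagSub u₁ α₀ ≤ P ∧
      Maximal (fun Q : Subgroup (GL ι F) => IsPGroup p Q ∧ Q ≤ D.stab) P :=
    Finite.exists_le_maximal ⟨D.isPGroup_flagSub u₁ α₀, fun g hg => hg.1⟩
  obtain ⟨⟨hPp, hPs⟩, hPmax⟩ := hmax
  have hU : ∀ u α, α u = 0 → (α = α₀ ∨ u = u₁) → α₀ u = 0 → α u₁ = 0 →
      D.rt LinearMap.id u α ∈ P := by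
    intro u α h hor h1 h2
    refine hUP ⟨D.rt_one_mem_stab h, fun x hx => D.rt_fix h _ (D.ct_line h2 hx), fun x => ?_,
      fun x hx => ?_⟩
    · rw [D.rt_apply h, add_sub_cancel_left, D.ct_T, h1, zero_smul]
    · rw [D.rt_apply h, add_sub_cancel_left]
      rcases hor with rfl | rfl
      · rw [hx]; simp
      · exact D.mem_line _
  obtain ⟨Q, hQ⟩ := (hPp.comap_subtype (K := M)).exists_le_sylow
  have hPM : P ≤ M := hPs.trans hHM
  have hQP : (Q : Subgroup M) = P.subgroupOf M := by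
    by_contra hne
    have hlt : P.subgroupOf M < (Q : Subgroup M) := lt_of_le_of_ne hQ fun e => hne e.symm
    have := Q.isPGroup'.isNilpotent
    have hlt' : (P.subgroupOf M).subgroupOf (Q : Subgroup M) < ⊤ := by
      rw [lt_top_iff_ne_top, Ne, Subgroup.subgroupOf_eq_top]
      exact not_le_of_gt hlt
    obtain ⟨x, hxN, hxP⟩ := SetLike.exists_of_lt (normalizerCondition_of_isNilpotent _ hlt')
    apply hxP
    have hx' : ∀ h : GL ι F, h ∈ P → ((x : M) : GL ι F) * h * ((x : M) : GL ι F)⁻¹ ∈ P := fun h hh =>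
      (Subgroup.mem_normalizer_iff.1 hxN ⟨⟨h, hPM hh⟩, hQ hh⟩).1 hh
    have hxs : ((x : M) : GL ι F) ∈ D.stab := by
      refine D.mem_stab_of_map hn h3 hHM hMS hS (x : M).2 hu₁ hα₀ h₀ (fun u hu h => ?_)
        fun α hα h => ?_
      · exact IsRoot.isDec_of_stab D hn h12 h3 hHM hS
          (IsRoot.conj D (IsDec.isRoot D ⟨u, α₀, hu, hα₀, h, rfl⟩) (x : M).2)
          (hPs (hx' _ (hU u α₀ h (.inl rfl) h h₀)))
      · exact IsRoot.isDec_of_stab D hn h12 h3 hHM hS
          (IsRoot.conj D (IsDec.isRoot D ⟨u₁, α, hu₁, hα, h, rfl⟩) (x : M).2)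
          (hPs (hx' _ (hU u₁ α h (.inr rfl) h₀ h)))
    have hle : P ⊔ Subgroup.zpowers ((x : M) : GL ι F) ≤ ((Q : Subgroup M)).map M.subtype :=
      sup_le (fun h hh => ⟨⟨h, hPM hh⟩, hQ hh, rfl⟩)
        ((Subgroup.zpowers_le).2 ⟨(x : M), x.2, rfl⟩)
    have hin := hPmax ⟨(Q.isPGroup'.map M.subtype).to_le hle,
      sup_le hPs ((Subgroup.zpowers_le).2 hxs)⟩ le_sup_left
    exact hin (Subgroup.mem_sup_right (Subgroup.mem_zpowers _))
  obtain ⟨Q', hQ'⟩ := (hSp.comap_subtype (K := M)).exists_le_sylow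
  obtain ⟨m, hm⟩ := MulAction.exists_smul_eq M Q' Q
  refine ⟨(m : GL ι F), m.2, fun s hs hsr => IsRoot.isDec_of_stab D hn h12 h3 hHM hS
    (IsRoot.conj D hsr m.2) (hPs ?_)⟩
  have h1 : m * ⟨s, hSM hs⟩ * m⁻¹ ∈ (Q : Subgroup M) := by
    rw [← hm, Sylow.coe_subgroup_smul]
    exact ⟨⟨s, hSM hs⟩, hQ' hs, rfl⟩
  rw [hQP] at h1
  exact h1

end Cfsg.Agent.C4.TData
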