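import Cfsg.Agent.Lib.C4.Fusion

/-!
# Tensor stabilisers in `SL` are maximal

Residual spaces of roots are equal or contain no common vector with a decomposable one, and a root
with the latter property is impossible.
-/

set_option autoImplicit false
set_option linter.unusedSectionVars false

namespace Cfsg.Agent.C4.TData

open Matrix Module Cfsg.Agent.Transvect
open scoped MatrixGroups Kronecker

variable {ι : Type} [Fintype ι] [DecidableEq ι] {F : Type*} [Field F] [Fintype F] {n₁ n₂ : ℕ}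
  (D : TData ι F n₁ n₂) {M : Subgroup (GL ι F)}

/-- A root whose residual space meets a decomposable one is decomposable. -/
theorem IsRoot.isDec_of_meet (hn : 0 < n₁) (h12 : n₁ < n₂) (h3 : 3 ≤ n₂) (hHM : D.stab ≤ M)
    (hMS : M ≤ Cfsg.Geo.specialLinear ι F) (hS : D.Scal M) {g : GL ι F} (hg : D.IsRoot M g)
    {u : Fin n₂ → F} (hu : u ≠ 0) {w : ι → F} (hwg : w ∈ res g) (hwu : w ∈ D.line u) (hw : w ≠ 0) :
    D.IsDec g := by
  classical
  obtain ⟨p, hp⟩ := CharP.exists F
  have := Fact.mk ((CharP.char_is_prime_or_zero F p).resolve_right (CharP.char_ne_zero_of_finite F p))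
  have hgM := IsRoot.mem D hHM hg
  refine IsRoot.isDec_of_res D hn h3 hHM hS hg hu fun y hy => ?_
  -- an axis for which `y` goes to the common part
  let K : Submodule F (Fin n₁ → F) := (res g).comap (D.T.flip u)
  obtain ⟨α, hα, hαu, hαy⟩ : ∃ α : (Fin n₂ → F) →ₗ[F] F, α ≠ 0 ∧ α u = 0 ∧ D.ct α y ∈ K := by
    have hK : 0 < finrank F K := by
      obtain ⟨a, rfl⟩ := hwu
      rw [Module.finrank_pos_iff]
      exact nontrivial_of_ne (⟨a, hwg⟩ : K) 0 fun e => hw (by
        rw [show a = 0 from congrArg Subtype.val e, map_zero])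
    let A0 : Submodule F ((Fin n₂ → F) →ₗ[F] F) := LinearMap.ker (LinearMap.applyₗ u)
    let Ψ : A0 →ₗ[F] (Fin n₁ → F) ⧸ K :=
      { toFun := fun α => K.mkQ (D.ct α.1 y)
        map_add' := fun α β => by rw [Submodule.coe_add, D.ct_add, map_add]
        map_smul' := fun c α => by rw [SetLike.val_smul, D.ct_smul, map_smul, RingHom.id_apply] }
    have h1 : n₂ - 1 ≤ finrank F A0 := by
      have hr := LinearMap.finrank_range_add_finrank_ker
        (LinearMap.applyₗ u : ((Fin n₂ → F) →ₗ[F] F) →ₗ[F] F)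
      have h2 := (Submodule.finrank_le
        (LinearMap.range (LinearMap.applyₗ u : ((Fin n₂ → F) →ₗ[F] F) →ₗ[F] F))).trans
        (Module.finrank_self F).le
      rw [Module.finrank_linearMap, Module.finrank_fintype_fun_eq_card, Fintype.card_fin,
        Module.finrank_self, mul_one] at hr
      show n₂ - 1 ≤ finrank F (LinearMap.ker _)
      omega
    have h2 : finrank F ((Fin n₁ → F) ⧸ K) < n₁ := by
      have := K.finrank_quotient_add_finrank
      rw [Module.finrank_fintype_fun_eq_card, Fintype.card_fin] at this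
      omega
    have hni : ¬ Function.Injective Ψ := fun hi => by
      have := LinearMap.finrank_le_finrank_of_injective hi
      omega
    obtain ⟨a, b, hab, hne⟩ := Function.not_injective_iff.1 hni
    refine ⟨(a - b : A0).1, fun e => hne (sub_eq_zero.1 (Subtype.ext e)), (a - b).2, ?_⟩
    rw [← Submodule.Quotient.mk_eq_zero]
    show Ψ (a - b) = 0
    exact (map_sub Ψ a b).trans (sub_eq_zero.2 hab)
  set r := D.rt LinearMap.id u α with hr
  have hrd : D.IsDec r := ⟨u, α, hu, hα, hαu, rfl⟩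
  have hrM : r ∈ M := hHM hrd.mem_stab
  let G : Subgroup (GL ι F) := Subgroup.closure {g, r}
  have hgG : g ∈ G := Subgroup.subset_closure (by simp)
  have hrG : r ∈ G := Subgroup.subset_closure (by simp)
  have hGM : G ≤ M := (Subgroup.closure_le _).2 (by simp [Set.insert_subset_iff, hgM, hrM])
  have hpg : ∀ x ∈ G, D.IsRoot M x → IsPGroup p ((Subgroup.zpowers x).comap G.subtype) := by
    intro x hx hxr
    refine IsPGroup.comap_subtype ?_
    rintro ⟨z, k, rfl⟩
    refine ⟨1, Subtype.ext ?_⟩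
    show (x ^ k) ^ p ^ 1 = 1
    rw [pow_one, ← zpow_natCast, ← _root_.zpow_mul, mul_comm, _root_.zpow_mul, zpow_natCast,
      IsRoot.pow_char D hxr, _root_.one_zpow]
  have : Finite (GL ι F) := Finite.of_injective (fun g : GL ι F => (g : Matrix ι ι F)) Units.val_injective
  obtain ⟨Q1, hQ1⟩ := (hpg r hrG (hrd.isRoot D)).exists_le_sylow
  obtain ⟨Q2, hQ2⟩ := (hpg g hgG hg).exists_le_sylow
  obtain ⟨z, hz⟩ := MulAction.exists_smul_eq G Q2 Q1
  -- both roots are decomposable after a conjugation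
  obtain ⟨m, hm, hdec⟩ := D.exists_conj_isDec hn h12 h3 hHM hMS hS
    (S := (Q1 : Subgroup G).map G.subtype)
    (fun x hx => by obtain ⟨x, -, rfl⟩ := hx; exact hGM x.2) (Q1.isPGroup'.map _)
  have h1 : r ∈ (Q1 : Subgroup G).map G.subtype :=
    ⟨⟨r, hrG⟩, hQ1 (Subgroup.mem_zpowers r), rfl⟩
  have h2 : (z : GL ι F) * g * (z : GL ι F)⁻¹ ∈ (Q1 : Subgroup G).map G.subtype := by
    refine ⟨z * ⟨g, hgG⟩ * z⁻¹, ?_, rfl⟩
    rw [← hz, Sylow.coe_subgroup_smul]
    exact ⟨⟨g, hgG⟩, hQ2 (Subgroup.mem_zpowers g), rfl⟩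
  obtain ⟨u', α', hu', hα', hαu', e'⟩ := hdec r h1 (hrd.isRoot D)
  obtain ⟨u'', α'', hu'', hα'', hαu'', e''⟩ := hdec _ h2 (IsRoot.conj D hg (hGM z.2))
  -- the group fixes the common vector, and moves `y` only along another
  have hfixr : ∀ x ∈ D.line u, app r x = x := fun x hx => D.rt_fix hαu _ (D.ct_line hαu hx)
  have hfix : ∀ x, x ∈ res g → x ∈ D.line u → app (z : GL ι F) x = x := by
    intro x hxg hxu
    have : ∀ h ∈ G, app h x = x := by
      intro h hh
      induction hh using Subgroup.closure_induction with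
      | mem h hh =>
        rcases hh with rfl | rfl
        · exact IsRoot.fix_res D hg hxg
        · exact hfixr x hxu
      | one => simp
      | mul a b _ _ ha hb => rw [map_mul, LinearEquiv.mul_apply, hb, ha]
      | inv a _ ha => conv_lhs => rw [← ha, app_inv_app]
    exact this _ z.2
  have hL : (res g).map (app (z : GL ι F)).toLinearMap = D.line u := by
    apply Submodule.map_injective_of_injective (f := (app m).toLinearMap) (app m).injective
    rw [← res_conj, ← res_conj, e'', D.res_rt hαu'' hα'', ← D.res_rt hαu hα, ← hr, ← res_conj, e',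
      D.res_rt hαu' hα']
    refine D.line_eq_of_mem hu'' (x := app m w) ?_ ?_ (fun e => hw ((app m).map_eq_zero_iff.1 e))
    · rw [← D.res_rt hαu'' hα'', ← e'', res_conj, res_conj]
      exact ⟨w, ⟨w, hwg, hfix w hwg hwu⟩, rfl⟩
    · rw [← D.res_rt hαu' hα', ← e', res_conj, hr, D.res_rt hαu hα]
      exact ⟨w, hwu, rfl⟩
  set t := D.T (D.ct α y) u with ht
  have htg : t ∈ res g := hαy
  have htu : t ∈ D.line u := D.mem_line _
  have hmove : ∃ c : F, app (z : GL ι F) y = y + c • t := by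
    have hfixt : ∀ h ∈ G, app h t = t ∧ ∃ c : F, app h y = y + c • t := by
      intro h hh
      induction hh using Subgroup.closure_induction with
      | mem h hh =>
        rcases hh with rfl | rfl
        · exact ⟨IsRoot.fix_res D hg htg, 0, by rw [IsRoot.fix_res D hg hy, zero_smul, add_zero]⟩
        · exact ⟨hfixr t htu, 1, by rw [hr, D.rt_apply hαu, one_smul]; rfl⟩
      | one => exact ⟨by simp, 0, by simp⟩
      | mul a b _ _ ha hb =>
        obtain ⟨a1, c, a2⟩ := ha
        obtain ⟨b1, d, b2⟩ := hb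
        refine ⟨by rw [map_mul, LinearEquiv.mul_apply, b1, a1], c + d, ?_⟩
        rw [map_mul, LinearEquiv.mul_apply, b2, map_add, map_smul, a1, a2, add_smul, add_assoc]
      | inv a _ ha =>
        obtain ⟨a1, c, a2⟩ := ha
        have h1 : app a⁻¹ t = t := by conv_lhs => rw [← a1, app_inv_app]
        refine ⟨h1, -c, (app a).injective ?_⟩
        rw [app_app_inv, map_add, map_smul, a1, a2, neg_smul, add_neg_cancel_right]
    exact (hfixt _ z.2).2
  obtain ⟨c, hc⟩ := hmove
  have h4 : app (z : GL ι F) y ∈ D.line u := hL ▸ ⟨y, hy, rfl⟩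
  rw [hc] at h4
  simpa using Submodule.sub_mem _ h4 (Submodule.smul_mem _ c htu)

/-- No root is outside the stabiliser. -/
theorem isDec_of_isRoot (hn : 0 < n₁) (h12 : n₁ < n₂) (h3 : 3 ≤ n₂) (hHM : D.stab ≤ M)
    (hMS : M ≤ Cfsg.Geo.specialLinear ι F) (hS : D.Scal M) {g : GL ι F} (hg : D.IsRoot M g) :
    D.IsDec g := by
  by_contra hnd
  have hgM := IsRoot.mem D hHM hg
  have hfree : ∀ {u : Fin n₂ → F} {x : ι → F}, u ≠ 0 → x ∈ res g → x ∈ D.line u → x = 0 := by
    intro u x hu h1 h2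
    by_contra hx
    exact hnd (IsRoot.isDec_of_meet D hn h12 h3 hHM hMS hS hg hu h1 h2 hx)
  let A : (ι → F) →ₗ[F] (ι → F) := (app g).toLinearMap - LinearMap.id
  have hA : ∀ x, app g x = x + A x := fun x => by simp [A]
  set i : Fin n₁ := ⟨0, hn⟩
  obtain ⟨u, hu, hua⟩ : ∃ u, u ≠ 0 ∧ app g (D.T (Pi.single i 1) u) = D.T (Pi.single i 1) u := by
    let Φ : (Fin n₂ → F) →ₗ[F] res g := (A ∘ₗ D.T (Pi.single i 1)).codRestrict _ fun y => mem_res _
    have hni : ¬ Function.Injective Φ := fun hi => by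
      have := LinearMap.finrank_le_finrank_of_injective hi
      rw [IsRoot.finrank_res D hg, Module.finrank_fintype_fun_eq_card, Fintype.card_fin] at this
      omega
    rw [injective_iff_map_eq_zero] at hni
    push Not at hni
    obtain ⟨u, h1, h2⟩ := hni
    exact ⟨u, h2, sub_eq_zero.1 (congrArg Subtype.val h1)⟩
  -- `g` fixes `V₁ ⊗ u`
  have hline : ∀ a, app g (D.T a u) = D.T a u := by
    obtain ⟨w, hw⟩ := exists_indep h3 u u
    obtain ⟨α, hα1, hα2⟩ := Submodule.exists_le_ker_of_notMem hw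
    have hαu : α u = 0 := hα2 (Submodule.subset_span (by simp))
    have hα : α ≠ 0 := fun e => hα1 (by rw [e]; rfl)
    have hdec : D.IsDec (D.rt LinearMap.id u α) := ⟨u, α, hu, hα, hαu, rfl⟩
    have hY := IsRoot.conj D (hdec.isRoot D (M := M)) hgM
    have hres : res (g * D.rt LinearMap.id u α * g⁻¹) = (D.line u).map (app g).toLinearMap := by
      rw [res_conj, D.res_rt hαu hα]
    have ha0 : D.T (Pi.single i 1) u ≠ 0 := fun e => (D.T_eq_zero e).elim (by simp) hu
    have hmem : D.T (Pi.single i 1) u ∈ res (g * D.rt LinearMap.id u α * g⁻¹) := by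
      rw [hres]; exact ⟨_, D.mem_line _, hua⟩
    obtain ⟨v, β, hv, hβ, hβv, he⟩ :=
      IsRoot.isDec_of_meet D hn h12 h3 hHM hMS hS hY hu hmem (D.mem_line _) ha0
    have heq : D.line v = D.line u := D.line_eq_of_mem hv
      (by rw [he, D.res_rt hβv hβ] at hmem; exact hmem) (D.mem_line _) ha0
    intro a
    have h1 : app g (D.T a u) ∈ D.line u := by
      rw [← heq, ← D.res_rt hβv hβ, ← he, hres]
      exact ⟨_, D.mem_line _, rfl⟩
    exact sub_eq_zero.1 (hfree hu (mem_res _) (Submodule.sub_mem _ h1 (D.mem_line _)))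
  have hgA : ∀ x, app g (A x) = A x := fun x => IsRoot.fix_res D hg (mem_res x)
  have hAu : ∀ α : (Fin n₂ → F) →ₗ[F] F, α u = 0 →
      ∃ γ : (Fin n₂ → F) →ₗ[F] F, γ u = 0 ∧ ∀ x, D.ct α (A x) = D.ct γ x := by
    intro α hα
    set r := D.rt LinearMap.id u α with hr
    have hrM : r ∈ M := hHM (D.rt_one_mem_stab hα)
    set z := r⁻¹ * g * r * g⁻¹ with hzdef
    have hzM : z ∈ M := mul_mem (mul_mem (mul_mem (inv_mem hrM) hgM) hrM) (inv_mem hgM)
    have hz : ∀ x, app z x = x - D.T (D.ct α (A x)) u := by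
      intro x
      have e1 : app g⁻¹ x = x - A x := (app g).injective (by
        rw [app_app_inv, map_sub, hgA, hA, add_sub_cancel_right])
      rw [hzdef, map_mul, map_mul, map_mul, LinearEquiv.mul_apply, LinearEquiv.mul_apply,
        LinearEquiv.mul_apply, e1, hr, D.rt_inv hα, D.rt_apply hα]
      rw [map_add, map_sub, hgA, hline, hA x, add_sub_cancel_right,
        D.rt_apply (α := -α) (by simp [hα])]
      have e2 : ∀ y, D.ct (-α) y = -D.ct α y := fun y => by funext j; rfl
      simp only [e2, LinearMap.id_coe, id_eq, map_neg, LinearMap.neg_apply, map_add, D.ct_T, hα,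
        zero_smul, map_sub, LinearMap.sub_apply, map_zero, add_zero]
      abel
    obtain ⟨γ, hγu, e⟩ := D.eq_rt_of_res hn h3 hHM hS hzM hu
      (res_le fun x => by rw [hz, sub_sub_cancel_left]; exact Submodule.neg_mem _ (D.mem_line _))
      fun a => by
        have : A (D.T a u) = 0 := by
          show app g (D.T a u) - D.T a u = 0
          rw [hline, sub_self]
        rw [hz, this, map_zero, map_zero, LinearMap.zero_apply, sub_zero]
    refine ⟨-γ, by simp [hγu], fun x => D.T_inj_left hu ?_⟩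
    have h1 := hz x
    rw [e, D.rt_apply hγu] at h1
    rw [show D.ct (-γ) x = -D.ct γ x from by funext j; rfl, map_neg, LinearMap.neg_apply]
    linear_combination (norm := module) h1
  by_cases hall : ∀ α : (Fin n₂ → F) →ₗ[F] F, α u = 0 → ∀ x, D.ct α (A x) = 0
  · refine hnd (IsRoot.isDec_of_res D hn h3 hHM hS hg hu fun y hy => ?_)
    obtain ⟨x, rfl⟩ := hy
    exact D.mem_line_of_ct fun α hα => hall α hα x
  push Not at hall
  obtain ⟨α, hα, x₀, hx₀⟩ := hall
  obtain ⟨γ, -, hγ⟩ := hAu α hα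
  have hγ0 : γ ≠ 0 := fun e => hx₀ (by rw [hγ, e, D.ct_zero])
  have hsurj : LinearMap.range (D.ct γ) = ⊤ := LinearMap.range_eq_top.2 fun a => by
    obtain ⟨w, hw⟩ := LinearMap.surjective_of_ne_zero hγ0 1
    exact ⟨D.T a w, by rw [D.ct_T, hw, one_smul]⟩
  have hle : LinearMap.ker A ≤ LinearMap.ker (D.ct γ) := fun x hx => by
    rw [LinearMap.mem_ker, ← hγ, LinearMap.mem_ker.1 hx, map_zero]
  have heq : LinearMap.ker A = LinearMap.ker (D.ct γ) := by
    refine Submodule.eq_of_le_of_finrank_eq hle ?_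
    have h1 := LinearMap.finrank_range_add_finrank_ker A
    have h2 := LinearMap.finrank_range_add_finrank_ker (D.ct γ)
    rw [show finrank F (LinearMap.range A) = n₁ from IsRoot.finrank_res D hg] at h1
    rw [hsurj, finrank_top, show finrank F (Fin n₁ → F) = n₁ from by simp] at h2
    omega
  obtain ⟨v, hv, e⟩ := D.eq_rt_of_fix hn h3 hHM hS hgM hγ0
    (fun x hx => by
      have : A x = 0 := LinearMap.mem_ker.1 (heq.symm ▸ LinearMap.mem_ker.2 hx)
      rw [hA, this, add_zero])
    fun x => LinearMap.mem_ker.1 (hle (LinearMap.mem_ker.2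
      (show app g (app g x - x) - (app g x - x) = 0 by
        rw [IsRoot.fix_res D hg (mem_res x), sub_self])))
  refine hnd ⟨v, γ, fun hv0 => hx₀ ?_, hγ0, hv, e⟩
  have : A x₀ = 0 := by
    show app g x₀ - x₀ = 0
    rw [e, D.rt_apply hv, hv0, map_zero, add_zero, sub_self]
  rw [this, map_zero]

/-- The tensor stabiliser of `SL` is maximal. -/
theorem isMaximalIn_stab (h1 : 2 ≤ n₁) (h12 : n₁ < n₂) (hex : ¬ (n₁ = 2 ∧ Fintype.card F = 2)) :
    Cfsg.Geo.IsMaximalIn (Cfsg.Geo.specialLinear ι F) D.stab := by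
  have hn : 0 < n₁ := by omega
  have h3 : 3 ≤ n₂ := by omega
  have hq : 3 ≤ n₁ ∨ 3 ≤ Fintype.card F := by
    by_contra! h
    have := Fintype.one_lt_card (α := F)
    exact hex ⟨by omega, by omega⟩
  set i : Fin n₁ := ⟨0, hn⟩
  set i' : Fin n₁ := ⟨1, by omega⟩
  set j : Fin n₂ := ⟨0, by omega⟩
  set j' : Fin n₂ := ⟨1, by omega⟩
  have hii : i' ≠ i := by simp [i, i', Fin.ext_iff]
  have hjj : j' ≠ j := by simp [j, j', Fin.ext_iff]
  refine isMaximalIn_of_forall inf_le_right ?_ fun M hHM hMS g hg hgn => ?_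
  · let φ : (ι → F) →ₗ[F] F := LinearMap.proj i' ∘ₗ D.ct (LinearMap.proj j')
    have hφ : φ (D.T (Pi.single i 1) (Pi.single j 1)) = 0 := by simp [φ, hii]
    refine ⟨tv (D.T (Pi.single i 1) (Pi.single j 1)) φ, tv_mem_sl _ _, fun h => ?_⟩
    obtain ⟨A, B, e⟩ := D.exists_of_mem h.1
    have h2 := congrArg (fun g => app g (D.T (Pi.single i' 1) (Pi.single j' 1))) e
    simp only [tv_apply hφ, D.app_kr] at h2
    have h3' : φ (D.T (Pi.single i' 1) (Pi.single j' 1)) = 1 := by simp [φ]
    rw [h3', one_smul] at h2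
    have hj := congrArg (D.ct (LinearMap.proj j)) h2
    have hj' := congrArg (D.ct (LinearMap.proj j')) h2
    simp only [map_add, D.ct_T, LinearMap.proj_apply, Pi.single_eq_same, one_smul,
      Pi.single_eq_of_ne hjj, Pi.single_eq_of_ne hjj.symm, zero_smul, zero_add, add_zero] at hj hj'
    have a1 := congrFun hj i
    have a2 := congrFun hj i'
    have a3 := congrFun hj' i'
    simp only [Pi.smul_apply, Pi.single_eq_same, Pi.single_eq_of_ne hii, Pi.single_eq_of_ne hii.symm,
      smul_eq_mul] at a1 a2 a3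
    rcases mul_eq_zero.1 a2.symm with h' | h'
    · rw [h', zero_mul] at a1; exact one_ne_zero a1
    · rw [h', mul_zero] at a3; exact one_ne_zero a3
  · by_cases hS : D.Scal M
    · exfalso
      refine hgn ?_
      obtain ⟨w, hw⟩ := exists_indep h3 (Pi.single j 1 : Fin n₂ → F) (Pi.single j 1)
      obtain ⟨α, hα1, hα2⟩ := Submodule.exists_le_ker_of_notMem hw
      have hdec : ∀ {u : Fin n₂ → F} {β : (Fin n₂ → F) →ₗ[F] F}, u ≠ 0 → β ≠ 0 → β u = 0 →
          D.IsDec (g * D.rt LinearMap.id u β * g⁻¹) := fun {u β} hu hβ h =>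
        D.isDec_of_isRoot hn h12 h3 hHM hMS hS
          (IsRoot.conj D (IsDec.isRoot D ⟨u, β, hu, hβ, h, rfl⟩) hg)
      have hα : α ≠ 0 := fun e => hα1 (by rw [e]; rfl)
      have hαu : α (Pi.single j 1) = 0 := hα2 (Submodule.subset_span (by simp))
      exact D.mem_stab_of_map hn h3 hHM hMS hS hg (u₁ := Pi.single j 1) (α₀ := α) (by simp) hα hαu
        (fun u hu h => hdec hu hα h) fun β hβ h => hdec (by simp) hβ h
    · exact D.sl_le_of_not_scal h1 hq h3 hHM hS

end Cfsg.Agent.C4.TData
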