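import Cfsg.Agent.Lib.C4.Scal

/-!
# Root elements of an overgroup of a tensor stabiliser

A root is an `M`-conjugate of `1 ⊗ transvection`. Under `Scal`, a root whose residual space is, or
whose fixed space is, decomposable is itself `1 ⊗ transvection`.
-/

set_option autoImplicit false
set_option linter.unusedSectionVars false

namespace Cfsg.Agent.C4.TData

open Matrix Module Cfsg.Agent.Transvect
open scoped MatrixGroups Kronecker

variable {ι : Type} [Fintype ι] [DecidableEq ι] {F : Type*} [Field F] [Fintype F] {n₁ n₂ : ℕ}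
  (D : TData ι F n₁ n₂) {M : Subgroup (GL ι F)}

/-- `g = 1 ⊗ (1 + u α)`, a transvection. -/
def IsDec (g : GL ι F) : Prop :=
  ∃ (u : Fin n₂ → F) (α : (Fin n₂ → F) →ₗ[F] F),
    u ≠ 0 ∧ α ≠ 0 ∧ α u = 0 ∧ g = D.rt LinearMap.id u α

/-- An `M`-conjugate of a transvection of the second factor. -/
def IsRoot (M : Subgroup (GL ι F)) (g : GL ι F) : Prop :=
  ∃ m ∈ M, ∃ r, D.IsDec r ∧ g = m * r * m⁻¹

lemma IsDec.mem_stab {g : GL ι F} (h : D.IsDec g) : g ∈ D.stab := by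
  obtain ⟨u, α, -, -, h, rfl⟩ := h
  exact D.rt_one_mem_stab h

lemma IsDec.ne_one (hn : 0 < n₁) {g : GL ι F} (h : D.IsDec g) : g ≠ 1 := by
  obtain ⟨u, α, hu, hα, h, rfl⟩ := h
  intro e
  have hl : D.line u = ⊥ := by
    rw [← D.res_rt h hα, e]
    exact le_bot_iff.1 (res_le fun x => by simp)
  have := D.finrank_line hu
  rw [hl, finrank_bot] at this
  omega

lemma IsRoot.mem (hHM : D.stab ≤ M) {g : GL ι F} (h : D.IsRoot M g) : g ∈ M := by
  obtain ⟨m, hm, r, hr, rfl⟩ := h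
  exact mul_mem (mul_mem hm (hHM hr.mem_stab)) (inv_mem hm)

lemma IsRoot.conj {g : GL ι F} (h : D.IsRoot M g) {m : GL ι F} (hm : m ∈ M) :
    D.IsRoot M (m * g * m⁻¹) := by
  obtain ⟨m', hm', r, hr, rfl⟩ := h
  exact ⟨m * m', mul_mem hm hm', r, hr, by group⟩

lemma IsDec.isRoot {g : GL ι F} (h : D.IsDec g) : D.IsRoot M g :=
  ⟨1, one_mem M, g, h, by group⟩

lemma IsRoot.finrank_res {g : GL ι F} (h : D.IsRoot M g) : finrank F (res g) = n₁ := by
  obtain ⟨m, -, r, ⟨u, α, hu, hα, h, rfl⟩, rfl⟩ := h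
  rw [res_conj, LinearEquiv.finrank_map_eq, D.res_rt h hα, D.finrank_line hu]

lemma IsRoot.fix_res {g : GL ι F} (h : D.IsRoot M g) {x : ι → F} (hx : x ∈ res g) :
    app g x = x := by
  obtain ⟨m, -, r, ⟨u, α, hu, hα, h, rfl⟩, rfl⟩ := h
  rw [res_conj, D.res_rt h hα] at hx
  obtain ⟨y, hy, rfl⟩ := hx
  simp only [map_mul, LinearEquiv.mul_apply, LinearEquiv.coe_coe, app_inv_app,
    D.rt_fix h _ (D.ct_line h hy)]

lemma IsRoot.pow_char {p : ℕ} [Fact p.Prime] [CharP F p] {g : GL ι F} (h : D.IsRoot M g) :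
    g ^ p = 1 := by
  obtain ⟨m, -, r, ⟨u, α, hu, hα, h, rfl⟩, rfl⟩ := h
  rw [conj_pow, TData.rt, unip_pow_char, mul_one, mul_inv_cancel]
  intro x
  show D.T (D.ct α (D.T (D.ct α x) u)) u = 0
  rw [D.ct_T, h, zero_smul, map_zero, LinearMap.zero_apply]

lemma exists_ker_pair (h3 : 3 ≤ n₂) (α β : (Fin n₂ → F) →ₗ[F] F) :
    ∃ z, z ≠ 0 ∧ α z = 0 ∧ β z = 0 := by
  have hr := LinearMap.finrank_range_add_finrank_ker (α.prod β)
  have h1 : finrank F (LinearMap.range (α.prod β)) ≤ 2 :=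
    (Submodule.finrank_le _).trans (by rw [Module.finrank_prod, Module.finrank_self])
  rw [Module.finrank_fintype_fun_eq_card, Fintype.card_fin] at hr
  obtain ⟨z, hz, hz0⟩ := Submodule.exists_mem_ne_zero_of_ne_bot
    (show LinearMap.ker (α.prod β) ≠ ⊥ from fun e => by rw [e, finrank_bot] at hr; omega)
  have hz' : α z = 0 ∧ β z = 0 := Prod.mk_eq_zero.1 (LinearMap.mem_ker.1 hz)
  exact ⟨z, hz0, hz'⟩

lemma exists_axis (h3 : 3 ≤ n₂) (u z : Fin n₂ → F) :
    ∃ β : (Fin n₂ → F) →ₗ[F] F, β ≠ 0 ∧ β u = 0 ∧ β z = 0 := by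
  obtain ⟨w, hw⟩ := exists_indep h3 u z
  obtain ⟨β, h1, h2⟩ := Submodule.exists_le_ker_of_notMem hw
  exact ⟨β, fun e => h1 (by rw [e]; rfl), h2 (Submodule.subset_span (by simp)),
    h2 (Submodule.subset_span (by simp))⟩

/-- An element of `M` acting as `1` on `V₁ ⊗ u` and modulo it is `1 ⊗ (1 + u γ)`. -/
lemma eq_rt_of_res (hn : 0 < n₁) (h3 : 3 ≤ n₂) (hHM : D.stab ≤ M) (hS : D.Scal M) {g : GL ι F}
    (hg : g ∈ M) {u : Fin n₂ → F} (hu : u ≠ 0) (hres : res g ≤ D.line u)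
    (hfix : ∀ a, app g (D.T a u) = D.T a u) :
    ∃ γ : (Fin n₂ → F) →ₗ[F] F, γ u = 0 ∧ g = D.rt LinearMap.id u γ := by
  obtain ⟨α, hα⟩ := exists_dual hu
  let K : (Fin n₂ → F) → (Fin n₁ → F) →ₗ[F] (Fin n₁ → F) := fun z =>
    D.ct α ∘ₗ ((app g).toLinearMap - LinearMap.id) ∘ₗ D.T.flip z
  have hK : ∀ a z, app g (D.T a z) = D.T a z + D.T (K z a) u := fun a z => by
    obtain ⟨b, hb⟩ := hres (mem_res (D.T a z))
    have h1 : K z a = D.ct α (D.T b u) := congrArg (D.ct α) hb.symm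
    rw [h1, D.ct_T, hα, one_smul, ← sub_eq_iff_eq_add']
    exact hb.symm
  have hKu : K u = 0 := LinearMap.ext fun a => by
    show D.ct α (app g (D.T a u) - D.T a u) = 0
    rw [hfix, sub_self, map_zero]
  have hscal : ∀ z, ∃ c : F, ∀ a, K z a = c • a := by
    intro z
    obtain ⟨β, hβ0, hβu, hβz⟩ := exists_axis h3 u z
    have ht := hHM (D.rt_one_mem_stab (u := z) hβz)
    have hmem := mul_mem (mul_mem (mul_mem ht hg) (inv_mem ht)) (inv_mem hg)
    have e : D.rt LinearMap.id z β * g * (D.rt LinearMap.id z β)⁻¹ * g⁻¹ = D.rt (-K z) u β := by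
      rw [mul_inv_eq_iff_eq_mul, mul_inv_eq_iff_eq_mul]
      refine D.gl_ext_T fun a y => ?_
      simp only [map_mul, LinearEquiv.mul_apply, hK, hKu, LinearMap.zero_apply, map_zero, map_add,
        D.rt_apply hβu, D.rt_apply hβz, D.ct_T, hβu, hβz, LinearMap.id_coe, id_eq, map_smul, LinearMap.smul_apply,
        LinearMap.neg_apply, map_neg, zero_smul, smul_zero, add_zero]
      module
    obtain ⟨c, hc⟩ := hS (-K z) u β hu hβ0 hβu (e ▸ hmem)
    exact ⟨-c, fun a => by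
      have := hc a
      rw [LinearMap.neg_apply, neg_eq_iff_eq_neg] at this
      rw [this, neg_smul]⟩
  set i : Fin n₁ := ⟨0, hn⟩
  let γ : (Fin n₂ → F) →ₗ[F] F := LinearMap.proj i ∘ₗ D.ct α ∘ₗ
    ((app g).toLinearMap - LinearMap.id) ∘ₗ D.T (Pi.single i 1)
  have hγ : ∀ z a, K z a = γ z • a := by
    intro z a
    obtain ⟨c, hc⟩ := hscal z
    have h1 : γ z = c := by
      have h2 := congrFun (hc (Pi.single i 1)) i
      simp only [Pi.smul_apply, Pi.single_eq_same, smul_eq_mul, mul_one] at h2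
      exact h2
    rw [h1, hc]
  have hγu : γ u = 0 := by
    have h1 : app g (D.T (Pi.single i 1) u) - D.T (Pi.single i 1) u = 0 := by rw [hfix, sub_self]
    show D.ct α (app g (D.T (Pi.single i 1) u) - D.T (Pi.single i 1) u) i = 0
    rw [h1, map_zero]; rfl
  refine ⟨γ, hγu, D.gl_ext_T fun a z => ?_⟩
  rw [hK, hγ, D.rt_apply hγu, D.ct_T]
  rfl

/-- An element of `M` fixing `V₁ ⊗ ker α` pointwise, with residual space inside it, is
`1 ⊗ (1 + v α)`. -/
lemma eq_rt_of_fix (hn : 0 < n₁) (h3 : 3 ≤ n₂) (hHM : D.stab ≤ M) (hS : D.Scal M) {g : GL ι F}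
    (hg : g ∈ M) {α : (Fin n₂ → F) →ₗ[F] F} (hα : α ≠ 0)
    (hfix : ∀ x, D.ct α x = 0 → app g x = x) (hres : ∀ x, D.ct α (app g x - x) = 0) :
    ∃ v, α v = 0 ∧ g = D.rt LinearMap.id v α := by
  obtain ⟨v₀, hv₀⟩ := LinearMap.surjective_of_ne_zero hα 1
  let L : (Fin n₁ → F) →ₗ[F] (ι → F) := ((app g).toLinearMap - LinearMap.id) ∘ₗ D.T.flip v₀
  have hL0 : ∀ a, D.ct α (L a) = 0 := fun a => hres _
  have hg' : ∀ a y, app g (D.T a y) = D.T a y + α y • L a := fun a y => by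
    have h1 := hfix (D.T a (y - α y • v₀))
      (by rw [D.ct_T, map_sub, map_smul, hv₀, smul_eq_mul, mul_one, sub_self, zero_smul])
    rw [map_sub, map_smul, map_sub, map_smul] at h1
    show _ = _ + α y • (app g (D.T a v₀) - D.T a v₀)
    linear_combination (norm := module) h1
  have hscal : ∀ β : (Fin n₂ → F) →ₗ[F] F, ∃ c : F, ∀ a, D.ct β (L a) = c • a := by
    intro β
    obtain ⟨z, hz0, hαz, hβz⟩ := exists_ker_pair h3 α β
    have ht := hHM (D.rt_one_mem_stab (u := z) hβz)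
    have hmem := mul_mem (mul_mem (mul_mem ht hg) (inv_mem ht)) (inv_mem hg)
    have hgL : ∀ a, app g (L a) = L a := fun a => hfix _ (hL0 a)
    clear_value L
    have e : D.rt LinearMap.id z β * g * (D.rt LinearMap.id z β)⁻¹ * g⁻¹ =
        D.rt (D.ct β ∘ₗ L) z α := by
      rw [mul_inv_eq_iff_eq_mul, mul_inv_eq_iff_eq_mul]
      refine D.gl_ext_T fun a y => ?_
      simp only [map_mul, LinearEquiv.mul_apply, hg', map_add, D.rt_apply hαz, D.rt_apply hβz,
        D.ct_T, hαz, hβz, hgL, hL0, LinearMap.id_coe, id_eq, map_smul, LinearMap.smul_apply,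
        LinearMap.comp_apply, zero_smul, smul_zero, map_zero, LinearMap.zero_apply, add_zero]
      simp only [LinearMap.add_apply, LinearMap.smul_apply]
      module
    exact hS _ z α hz0 hα hαz (e ▸ hmem)
  set i : Fin n₁ := ⟨0, hn⟩
  set v : Fin n₂ → F := D.row (L (Pi.single i 1)) i
  have hβv : ∀ β a, D.ct β (L a) = β v • a := by
    intro β a
    obtain ⟨c, hc⟩ := hscal β
    have h1 : β v = c := by
      have h2 := congrFun (hc (Pi.single i 1)) i
      simp only [Pi.smul_apply, Pi.single_eq_same, smul_eq_mul, mul_one] at h2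
      exact h2
    rw [h1, hc]
  have hLv : ∀ a, L a = D.T a v := fun a => by
    rw [← D.sum_T_row (L a), ← D.sum_T_row (D.T a v)]
    refine Finset.sum_congr rfl fun j _ => ?_
    congr 1
    funext k
    have h1 := congrFun (hβv (LinearMap.proj k) a) j
    show D.row (L a) j k = D.row (D.T a v) j k
    rw [D.row_T]
    simpa [TData.ct, mul_comm] using h1
  have hαv : α v = 0 := by
    have := congrFun (hL0 (Pi.single i 1)) i
    rw [hLv, D.ct_T] at this
    simpa using this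
  refine ⟨v, hαv, D.gl_ext_T fun a y => ?_⟩
  rw [hg', hLv, D.rt_apply hαv, D.ct_T]
  simp

/-- A root with decomposable residual space is decomposable. -/
lemma IsRoot.isDec_of_res (hn : 0 < n₁) (h3 : 3 ≤ n₂) (hHM : D.stab ≤ M) (hS : D.Scal M)
    {g : GL ι F} (hg : D.IsRoot M g) {u : Fin n₂ → F} (hu : u ≠ 0) (hres : res g ≤ D.line u) :
    D.IsDec g := by
  have heq : res g = D.line u :=
    Submodule.eq_of_le_of_finrank_eq hres (by rw [hg.finrank_res, D.finrank_line hu])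
  have hgM : g ∈ M := IsRoot.mem D hHM hg
  have hfix : ∀ a, app g (D.T a u) = D.T a u := fun a =>
    IsRoot.fix_res D hg (by rw [heq]; exact D.mem_line a)
  obtain ⟨γ, hγu, rfl⟩ := D.eq_rt_of_res hn h3 hHM hS hgM hu hres hfix
  refine ⟨u, γ, hu, fun e => ?_, hγu, rfl⟩
  have h1 := hg.finrank_res
  have h2 : res (D.rt LinearMap.id u γ) = ⊥ := le_bot_iff.1 (res_le fun x => by
    rw [D.rt_apply hγu, e]; simp [D.ct_zero])
  rw [h2, finrank_bot] at h1
  omega

/-- Two decomposable spaces meeting in a non-zero vector are equal. -/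
lemma line_eq_of_mem {u v : Fin n₂ → F} (hu : u ≠ 0) {x : ι → F} (hx : x ∈ D.line u)
    (hx' : x ∈ D.line v) (hx0 : x ≠ 0) : D.line u = D.line v := by
  obtain ⟨a, rfl⟩ := hx
  obtain ⟨b, hb⟩ := hx'
  simp only [LinearMap.flip_apply] at hx0 hb
  obtain ⟨i, hi⟩ := Function.ne_iff.1 (fun h => hx0 (by rw [h]; simp) : a ≠ 0)
  have h1 := congrFun (congrArg D.row hb) i
  rw [D.row_T, D.row_T] at h1
  have hb0 : b i ≠ 0 := fun h => smul_ne_zero hi hu (by rw [← h1, h, zero_smul])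
  have huv : u = ((a i)⁻¹ * b i) • v := by
    rw [← smul_smul, h1, inv_smul_smul₀ hi]
  rw [huv]
  refine le_antisymm ?_ ?_
  · rintro _ ⟨c, rfl⟩
    exact ⟨((a i)⁻¹ * b i) • c, by simp⟩
  · rintro _ ⟨c, rfl⟩
    refine ⟨((a i)⁻¹ * b i)⁻¹ • c, ?_⟩
    simp only [LinearMap.flip_apply, map_smul, LinearMap.smul_apply]
    rw [smul_smul, inv_mul_cancel₀ (mul_ne_zero (inv_ne_zero hi) hb0), one_smul]

end Cfsg.Agent.C4.TData
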