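import Cfsg.Agent.Lib.C4.Basic

/-!
# A non-scalar root element gives all transvections

If `M` contains the tensor stabiliser and some `1 + k ⊗ (u α)` with `k` not scalar, then `M`
contains every transvection.
-/

set_option autoImplicit false
set_option linter.unusedSectionVars false

namespace Cfsg.Agent.C4.TData

open Matrix Module Cfsg.Agent.Transvect
open scoped MatrixGroups Kronecker

variable {ι : Type} [Fintype ι] [DecidableEq ι] {F : Type*} [Field F] {n₁ n₂ : ℕ}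
  (D : TData ι F n₁ n₂)

/-- The tensor stabiliser inside `SL`. -/
def stab : Subgroup (GL ι F) :=
  Cfsg.Geo.tensorProductSubgroup n₁ n₂ D.e D.P ⊓ Cfsg.Geo.specialLinear ι F

lemma kr_mem_stab {A : GL (Fin n₁) F} {B : GL (Fin n₂) F}
    (hA : A ∈ Cfsg.Geo.specialLinear (Fin n₁) F) (hB : B ∈ Cfsg.Geo.specialLinear (Fin n₂) F) :
    D.kr A B ∈ D.stab :=
  ⟨D.kr_mem A B, D.kr_mem_sl hA hB⟩

lemma rt_one_mem_stab {u : Fin n₂ → F} {α : (Fin n₂ → F) →ₗ[F] F} (h : α u = 0) :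
    D.rt LinearMap.id u α ∈ D.stab := by
  rw [D.rt_one_eq h]; exact D.kr_mem_stab (one_mem _) (tv_mem_sl _ _)

/-- `1 + k ⊗ (u α) ∈ M` forces `k` to be scalar. -/
def Scal (M : Subgroup (GL ι F)) : Prop :=
  ∀ (k : (Fin n₁ → F) →ₗ[F] (Fin n₁ → F)) (u : Fin n₂ → F) (α : (Fin n₂ → F) →ₗ[F] F),
    u ≠ 0 → α ≠ 0 → α u = 0 → D.rt k u α ∈ M → ∃ c : F, ∀ a, k a = c • a

lemma conj_rt (A : GL (Fin n₁) F) (B : GL (Fin n₂) F) (k : (Fin n₁ → F) →ₗ[F] (Fin n₁ → F))
    {u : Fin n₂ → F} {α : (Fin n₂ → F) →ₗ[F] F} (h : α u = 0) :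
    D.kr A B * D.rt k u α * (D.kr A B)⁻¹ =
      D.rt ((app A).toLinearMap ∘ₗ k ∘ₗ (app A⁻¹).toLinearMap) (app B u)
        (α ∘ₗ (app B⁻¹).toLinearMap) := by
  have h' : (α ∘ₗ (app B⁻¹).toLinearMap) (app B u) = 0 := by
    simp only [LinearMap.comp_apply, LinearEquiv.coe_coe, app_inv_app, h]
  rw [mul_inv_eq_iff_eq_mul]
  refine D.gl_ext_T fun a w => ?_
  simp only [map_mul, LinearEquiv.mul_apply, D.rt_apply h, D.app_kr, map_add, D.rt_apply h',
    D.ct_T, LinearMap.comp_apply, LinearEquiv.coe_coe, app_inv_app, map_smul, LinearMap.smul_apply]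

lemma exists_indep (h3 : 3 ≤ n₂) (u v : Fin n₂ → F) : ∃ w, w ∉ Submodule.span F ({u, v} : Set (Fin n₂ → F)) := by
  by_contra! h
  classical
  have hle := finrank_span_finset_le_card (R := F) ({u, v} : Finset (Fin n₂ → F))
  rw [Finset.coe_pair, Set.finrank,
    show Submodule.span F ({u, v} : Set (Fin n₂ → F)) = ⊤ from eq_top_iff.2 fun w _ => h w,
    finrank_top, Module.finrank_fintype_fun_eq_card, Fintype.card_fin] at hle
  have := hle.trans Finset.card_le_two
  omega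

/-- `SL` is transitive on a centre and an axis through it. -/
lemma exists_sl_pair [Fintype F] (h3 : 3 ≤ n₂) {u u' : Fin n₂ → F}
    {α α' : (Fin n₂ → F) →ₗ[F] F} (hu : u ≠ 0) (hu' : u' ≠ 0) (hα : α ≠ 0) (hα' : α' ≠ 0)
    (h : α u = 0) (h' : α' u' = 0) :
    ∃ B ∈ Cfsg.Geo.specialLinear (Fin n₂) F, app B u = u' ∧ α ∘ₗ (app B⁻¹).toLinearMap = α' := by
  -- move the centre
  have hc : ∃ B ∈ Cfsg.Geo.specialLinear (Fin n₂) F, app B u = u' := by
    have step : ∀ x y : Fin n₂ → F, x ≠ 0 → y ∉ F ∙ x →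
        ∃ B ∈ Cfsg.Geo.specialLinear (Fin n₂) F, app B x = y := by
      intro x y hx hy
      obtain ⟨φ, hφ1, hφ2⟩ := Submodule.exists_le_ker_of_notMem
        (show x ∉ F ∙ (y - x) from fun hm => by
          obtain ⟨c, hc⟩ := Submodule.mem_span_singleton.1 hm
          rcases eq_or_ne c 0 with rfl | hc0
          · exact hx (by simpa using hc.symm)
          · refine hy (Submodule.mem_span_singleton.2 ⟨1 + c⁻¹, ?_⟩)
            rw [add_smul, one_smul, ← eq_sub_iff_add_eq', ← hc, inv_smul_smul₀ hc0, hc])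
      have h0 : ((φ x)⁻¹ • φ) (y - x) = 0 := by
        simp [LinearMap.mem_ker.1 (hφ2 (Submodule.mem_span_singleton_self _))]
      refine ⟨tv (y - x) ((φ x)⁻¹ • φ), tv_mem_sl _ _, ?_⟩
      rw [tv_apply h0, LinearMap.smul_apply, smul_eq_mul, inv_mul_cancel₀ hφ1, one_smul,
        add_sub_cancel]
    obtain ⟨w, hw⟩ := exists_indep h3 u u'
    have hw0 : w ≠ 0 := fun e => hw (e ▸ Submodule.zero_mem _)
    obtain ⟨B₁, hB₁, e1⟩ := step u w hu fun hm =>
      hw (Submodule.span_mono (by simp) hm)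
    obtain ⟨B₂, hB₂, e2⟩ := step w u' hw0 fun hm => by
      obtain ⟨c, hc⟩ := Submodule.mem_span_singleton.1 hm
      have hc0 : c ≠ 0 := fun e => hu' (by rw [← hc, e, zero_smul])
      refine hw ?_
      rw [← inv_smul_smul₀ hc0 w, hc]
      exact Submodule.smul_mem _ _ (Submodule.subset_span (by simp))
    exact ⟨B₂ * B₁, mul_mem hB₂ hB₁, by rw [map_mul, LinearEquiv.mul_apply, e1, e2]⟩
  -- move the axis, fixing the centre
  have hs : ∀ β γ : (Fin n₂ → F) →ₗ[F] F, β ≠ 0 → γ ∉ F ∙ β → β u' = 0 → γ u' = 0 →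
      ∃ B ∈ Cfsg.Geo.specialLinear (Fin n₂) F, app B u' = u' ∧
        β ∘ₗ (app B⁻¹).toLinearMap = γ := by
    intro β γ hβ hγ hβu hγu
    obtain ⟨z, hz1, hz2⟩ : ∃ z, β z ≠ 0 ∧ (γ - β) z = 0 := by
      by_contra! hall
      apply hγ
      have hker : LinearMap.ker (γ - β) ≤ LinearMap.ker β := fun z hz => by
        by_contra hne; exact hall z hne hz
      obtain ⟨w, hw⟩ := LinearMap.surjective_of_ne_zero hβ 1
      refine Submodule.mem_span_singleton.2 ⟨γ w, LinearMap.ext fun x => ?_⟩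
      by_cases hd : (γ - β) w = 0
      · exact absurd (hker hd) (by simp [hw])
      · have hx := hker (show x - ((γ - β) x / (γ - β) w) • w ∈ LinearMap.ker (γ - β) by
          rw [LinearMap.mem_ker, map_sub, map_smul, smul_eq_mul, div_mul_cancel₀ _ hd, sub_self])
        rw [LinearMap.mem_ker, map_sub, map_smul, hw, smul_eq_mul, mul_one, sub_eq_zero,
          eq_div_iff hd] at hx
        simp only [LinearMap.sub_apply, hw] at hx
        simp only [LinearMap.smul_apply, smul_eq_mul]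
        linear_combination hx
    set δ := (β z)⁻¹ • (γ - β) with hδ
    have hδz : δ z = 0 := by simp only [hδ, LinearMap.smul_apply, hz2, smul_zero]
    refine ⟨(tv z δ)⁻¹, inv_mem (tv_mem_sl _ _), ?_, LinearMap.ext fun x => ?_⟩
    · rw [tv_inv hδz, tv_apply (by simp [hδz])]
      simp [hδ, hβu, hγu]
    · simp only [inv_inv, LinearMap.comp_apply, LinearEquiv.coe_coe]
      rw [tv_apply hδz, map_add, map_smul]
      simp only [hδ, LinearMap.smul_apply, LinearMap.sub_apply, smul_eq_mul]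
      field_simp
      ring
  obtain ⟨B₀, hB₀, e0⟩ := hc
  set β := α ∘ₗ (app B₀⁻¹).toLinearMap with hβ
  have hβu : β u' = 0 := by
    rw [← e0, hβ]; simp only [LinearMap.comp_apply, LinearEquiv.coe_coe, app_inv_app, h]
  have hβ0 : β ≠ 0 := fun e => hα (LinearMap.ext fun x => by
    simpa only [hβ, LinearMap.comp_apply, LinearEquiv.coe_coe, app_inv_app, LinearMap.zero_apply]
      using LinearMap.congr_fun e (app B₀ x))
  obtain ⟨γ, hγu, hγ1, hγ2⟩ : ∃ γ : (Fin n₂ → F) →ₗ[F] F,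
      γ u' = 0 ∧ γ ∉ F ∙ β ∧ α' ∉ F ∙ γ := by
    by_cases hm : α' ∈ F ∙ β
    · -- both proportional: any third functional vanishing at `u'`
      obtain ⟨z, hz, hz'⟩ : ∃ z, β z = 0 ∧ z ∉ F ∙ u' := by
        by_contra! hall
        have hr := LinearMap.finrank_range_add_finrank_ker β
        have h1 : finrank F (LinearMap.range β) ≤ 1 :=
          (Submodule.finrank_le _).trans (Module.finrank_self F).le
        have h2 : finrank F (LinearMap.ker β) ≤ 1 :=
          (Submodule.finrank_mono (show LinearMap.ker β ≤ F ∙ u' from fun z hz => hall z hz)).trans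
            (finrank_span_singleton hu').le
        rw [Module.finrank_fintype_fun_eq_card, Fintype.card_fin] at hr
        omega
      obtain ⟨γ, hγz, hγu⟩ := Submodule.exists_le_ker_of_notMem hz'
      refine ⟨γ, hγu (Submodule.mem_span_singleton_self _), fun hh => hγz ?_, fun hh => ?_⟩
      · obtain ⟨c, rfl⟩ := Submodule.mem_span_singleton.1 hh
        simp [hz]
      · obtain ⟨c, hc⟩ := Submodule.mem_span_singleton.1 hh
        obtain ⟨d, hd⟩ := Submodule.mem_span_singleton.1 hm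
        have hc0 : c ≠ 0 := fun e => hα' (by rw [← hc, e, zero_smul])
        exact mul_ne_zero hc0 hγz (by
          simpa [hz] using (LinearMap.congr_fun (hc.trans hd.symm) z))
    · refine ⟨β + α', by simp [hβu, h'], fun hh => hm ?_, fun hh => hm ?_⟩
      · have := Submodule.sub_mem _ hh (Submodule.mem_span_singleton_self β)
        rwa [add_sub_cancel_left] at this
      · obtain ⟨c, hc⟩ := Submodule.mem_span_singleton.1 hh
        have hc0 : c ≠ 0 := fun e => hα' (by rw [← hc, e, zero_smul])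
        have hc1 : c ≠ 1 := fun e => hβ0 (by rw [e, one_smul] at hc; simpa using hc)
        refine Submodule.mem_span_singleton.2 ⟨c / (1 - c), ?_⟩
        rw [smul_add] at hc
        have : c • β = (1 - c) • α' := LinearMap.ext fun x => by
          have hx := LinearMap.congr_fun hc x
          simp only [LinearMap.add_apply, LinearMap.smul_apply, smul_eq_mul] at hx ⊢
          linear_combination hx
        rw [div_eq_inv_mul, mul_smul, this, inv_smul_smul₀ (sub_ne_zero.2 hc1.symm)]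
  have hγ0 : γ ≠ 0 := fun e => hγ1 (e ▸ Submodule.zero_mem _)
  obtain ⟨B₁, hB₁, e1, f1⟩ := hs β γ hβ0 hγ1 hβu hγu
  obtain ⟨B₂, hB₂, e2, f2⟩ := hs γ α' hγ0 hγ2 hγu h'
  refine ⟨B₂ * B₁ * B₀, mul_mem (mul_mem hB₂ hB₁) hB₀, ?_, ?_⟩
  · rw [map_mul, map_mul, LinearEquiv.mul_apply, LinearEquiv.mul_apply, e0, e1, e2]
  · rw [← f2, ← f1, hβ]
    exact LinearMap.ext fun x => by
      simp [_root_.mul_inv_rev, map_mul, LinearEquiv.mul_apply]

variable [Fintype F] {M : Subgroup (GL ι F)}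

lemma rt_mem_congr (h3 : 3 ≤ n₂) (hHM : D.stab ≤ M) {k : (Fin n₁ → F) →ₗ[F] (Fin n₁ → F)}
    {u u' : Fin n₂ → F} {α α' : (Fin n₂ → F) →ₗ[F] F} (hu : u ≠ 0) (hu' : u' ≠ 0) (hα : α ≠ 0)
    (hα' : α' ≠ 0) (h : α u = 0) (h' : α' u' = 0) (hk : D.rt k u α ∈ M) : D.rt k u' α' ∈ M := by
  obtain ⟨B, hB, e1, e2⟩ := exists_sl_pair h3 hu hu' hα hα' h h'
  have hg : D.kr 1 B ∈ M := hHM (D.kr_mem_stab (one_mem _) hB)
  have := mul_mem (mul_mem hg hk) (inv_mem hg)
  rw [D.conj_rt 1 B k h, e1, e2] at this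
  convert this using 2
  exact LinearMap.ext fun a => by simp

lemma exists_notMem_span {k : (Fin n₁ → F) →ₗ[F] (Fin n₁ → F)}
    (hk : ¬ ∃ c : F, ∀ a, k a = c • a) : ∃ a, k a ∉ F ∙ a := by
  by_contra! h
  choose c hc using fun a => Submodule.mem_span_singleton.1 (h a)
  rcases subsingleton_or_nontrivial (Fin n₁ → F) with hs | hs
  · exact hk ⟨0, fun a => Subsingleton.elim _ _⟩
  obtain ⟨a₀, ha₀⟩ := exists_ne (0 : Fin n₁ → F)
  refine hk ⟨c a₀, fun a => ?_⟩
  by_cases hm : a ∈ F ∙ a₀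
  · obtain ⟨d, rfl⟩ := Submodule.mem_span_singleton.1 hm
    rw [map_smul, ← hc a₀, smul_comm]
  · have e := hc (a₀ + a)
    rw [map_add, ← hc a₀, ← hc a, smul_add] at e
    have e' : (c (a₀ + a) - c a₀) • a₀ = (c a - c (a₀ + a)) • a := by
      rw [sub_smul, sub_smul, sub_eq_sub_iff_add_eq_add, e, add_comm]
    by_cases h1 : c a - c (a₀ + a) = 0
    · rw [h1, zero_smul, smul_eq_zero, or_iff_left ha₀] at e'
      rw [← hc a, sub_eq_zero.1 h1, sub_eq_zero.1 e']
    · exact absurd (Submodule.mem_span_singleton.2 ⟨(c a - c (a₀ + a))⁻¹ * (c (a₀ + a) - c a₀), by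
        rw [← smul_smul, e', inv_smul_smul₀ h1]⟩) hm

lemma rt_mul_rt {u : Fin n₂ → F} {α : (Fin n₂ → F) →ₗ[F] F} (h : α u = 0)
    (k k' : (Fin n₁ → F) →ₗ[F] (Fin n₁ → F)) :
    D.rt k u α * D.rt k' u α = D.rt (k + k') u α :=
  gl_ext fun x => by
    rw [map_mul, LinearEquiv.mul_apply, D.rt_apply h, D.rt_apply h, D.rt_apply h, map_add, D.ct_T,
      h]
    simp [LinearMap.add_apply]
    abel

lemma rt_smul {u : Fin n₂ → F} {α : (Fin n₂ → F) →ₗ[F] F} (h : α u = 0)
    (k : (Fin n₁ → F) →ₗ[F] (Fin n₁ → F)) (c : F) : D.rt (c • k) u α = D.rt k (c • u) α :=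
  gl_ext fun x => by
    rw [D.rt_apply h, D.rt_apply (by simp [h])]
    simp

/-- The maps `k` with all `1 + k ⊗ (u α)` in `M`. -/
noncomputable def kSub (h3 : 3 ≤ n₂) (hHM : D.stab ≤ M) :
    Submodule F ((Fin n₁ → F) →ₗ[F] (Fin n₁ → F)) where
  carrier := {k | ∀ u α, u ≠ 0 → α ≠ 0 → α u = 0 → D.rt k u α ∈ M}
  add_mem' hk hk' u α hu hα h := by
    rw [← D.rt_mul_rt h]; exact mul_mem (hk u α hu hα h) (hk' u α hu hα h)
  zero_mem' u α hu hα h := by
    rw [show D.rt 0 u α = 1 from gl_ext fun x => by rw [D.rt_apply h]; simp]; exact one_mem _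
  smul_mem' c k hk u α hu hα h := by
    rcases eq_or_ne c 0 with rfl | hc
    · rw [zero_smul, show D.rt 0 u α = 1 from gl_ext fun x => by rw [D.rt_apply h]; simp]
      exact one_mem _
    · rw [D.rt_smul h]
      exact hk _ _ (smul_ne_zero hc hu) hα (by simp [h])

lemma mem_kSub_of_mem (h3 : 3 ≤ n₂) (hHM : D.stab ≤ M)
    {k : (Fin n₁ → F) →ₗ[F] (Fin n₁ → F)} {u : Fin n₂ → F} {α : (Fin n₂ → F) →ₗ[F] F}
    (hu : u ≠ 0) (hα : α ≠ 0) (h : α u = 0) (hk : D.rt k u α ∈ M) : k ∈ D.kSub h3 hHM :=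
  fun _ _ hu' hα' h' => D.rt_mem_congr h3 hHM hu hu' hα hα' h h' hk

lemma kSub_conj (h3 : 3 ≤ n₂) (hHM : D.stab ≤ M) {k : (Fin n₁ → F) →ₗ[F] (Fin n₁ → F)}
    (hk : k ∈ D.kSub h3 hHM) {A : GL (Fin n₁) F} (hA : A ∈ Cfsg.Geo.specialLinear (Fin n₁) F) :
    (app A).toLinearMap ∘ₗ k ∘ₗ (app A⁻¹).toLinearMap ∈ D.kSub h3 hHM := by
  intro u α hu hα h
  have hg : D.kr A 1 ∈ M := hHM (D.kr_mem_stab hA (one_mem _))
  have := mul_mem (mul_mem hg (hk u α hu hα h)) (inv_mem hg)
  rw [D.conj_rt A 1 k h] at this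
  convert this using 2
  · simp
  · exact LinearMap.ext fun x => by simp

/-- A non-scalar `k` gives a nilpotent of rank one. -/
lemma exists_rank_one (h2 : 2 ≤ n₁) (hq : 3 ≤ n₁ ∨ 3 ≤ Fintype.card F) (h3 : 3 ≤ n₂)
    (hHM : D.stab ≤ M) {k : (Fin n₁ → F) →ₗ[F] (Fin n₁ → F)} (hk : k ∈ D.kSub h3 hHM)
    (hns : ¬ ∃ c : F, ∀ a, k a = c • a) :
    ∃ (a : Fin n₁ → F) (φ : (Fin n₁ → F) →ₗ[F] F),
      a ≠ 0 ∧ φ ≠ 0 ∧ φ a = 0 ∧ φ.smulRight a ∈ D.kSub h3 hHM := by
  obtain ⟨e₁, he⟩ := exists_notMem_span hns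
  have he0 : e₁ ≠ 0 := fun h => he (by rw [h, map_zero]; exact Submodule.zero_mem _)
  have conj : ∀ {k : (Fin n₁ → F) →ₗ[F] (Fin n₁ → F)}, k ∈ D.kSub h3 hHM →
      ∀ (φ : (Fin n₁ → F) →ₗ[F] F), φ e₁ = 0 →
      (app (tv e₁ φ)).toLinearMap ∘ₗ k ∘ₗ (app (tv e₁ φ)⁻¹).toLinearMap - k ∈ D.kSub h3 hHM :=
    fun hk φ _ => Submodule.sub_mem _ (D.kSub_conj h3 hHM hk (tv_mem_sl _ _)) hk
  by_cases h31 : 3 ≤ n₁
  · obtain ⟨w, hw⟩ : ∃ w, w ∉ Submodule.span F ({e₁, k e₁} : Set (Fin n₁ → F)) :=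
      exists_indep h31 e₁ (k e₁)
    obtain ⟨φ, hφw, hφ⟩ := Submodule.exists_le_ker_of_notMem hw
    have hφ1 : φ e₁ = 0 := hφ (Submodule.subset_span (by simp))
    have hφ2 : φ (k e₁) = 0 := hφ (Submodule.subset_span (by simp))
    set K₁ := (app (tv e₁ φ)).toLinearMap ∘ₗ k ∘ₗ (app (tv e₁ φ)⁻¹).toLinearMap - k with hK₁
    have hK₁x : ∀ x, K₁ x = φ (k x) • e₁ - φ x • k e₁ := fun x => by
      simp only [hK₁, LinearMap.sub_apply, LinearMap.comp_apply, LinearEquiv.coe_coe]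
      rw [tv_inv hφ1, tv_apply (φ := -φ) (by simp [hφ1]), tv_apply hφ1]
      simp only [LinearMap.neg_apply, neg_smul, map_add, map_neg, map_smul, hφ2, smul_zero,
        neg_zero, add_zero]
      module
    obtain ⟨χ, hχ1, hχ⟩ := Submodule.exists_le_ker_of_notMem he
    have hχe : χ e₁ = 0 := hχ (Submodule.mem_span_singleton_self _)
    have hχ' : ((χ (k e₁))⁻¹ • χ) e₁ = 0 := by simp [hχe]
    have h2m := conj (conj hk φ hφ1) ((χ (k e₁))⁻¹ • χ) hχ'
    refine ⟨e₁, -φ, he0, neg_ne_zero.2 fun e => hφw (by rw [e]; rfl), by simp [hφ1], ?_⟩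
    convert h2m using 1
    refine LinearMap.ext fun x => ?_
    simp only [LinearMap.sub_apply, LinearMap.comp_apply, LinearEquiv.coe_coe, ← hK₁]
    rw [tv_inv hχ', tv_apply (φ := -((χ (k e₁))⁻¹ • χ)) (by simp [hχe]), tv_apply hχ']
    simp only [hK₁x, LinearMap.smulRight_apply, LinearMap.neg_apply, LinearMap.smul_apply,
      map_add, map_smul, map_sub, hχe, hφ1, hφ2, smul_eq_mul]
    match_scalars <;> field_simp <;> ring
  · have hq3 : 3 ≤ Fintype.card F := hq.resolve_left h31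
    obtain ⟨φ, hφ, hφ1⟩ := Submodule.exists_le_ker_of_notMem he
    have hφe : φ e₁ = 0 := hφ1 (Submodule.mem_span_singleton_self _)
    obtain ⟨l, hl0, hl1⟩ : ∃ l : F, l ≠ 0 ∧ l ≠ 1 := by
      classical
      by_contra! hall
      have := Finset.card_le_card (show (Finset.univ : Finset F) ⊆ {0, 1} from fun x _ => by
        rcases eq_or_ne x 0 with h | h
        · simp [h]
        · simp [hall x h])
      rw [Finset.card_univ] at this
      have := this.trans Finset.card_le_two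
      omega
    have h1 := conj hk (l • φ) (by simp [hφe])
    have h2m := Submodule.sub_mem _ h1 (Submodule.smul_mem _ l (conj hk φ hφe))
    refine ⟨e₁, ((l - l ^ 2) * φ (k e₁)) • φ, he0, smul_ne_zero (mul_ne_zero ?_ hφ)
      (fun e => hφ (by rw [e]; rfl)), by simp [hφe], ?_⟩
    · rw [sq, ← mul_one_sub]; exact mul_ne_zero hl0 (sub_ne_zero.2 hl1.symm)
    convert h2m using 1
    refine LinearMap.ext fun x => ?_
    simp only [LinearMap.sub_apply, LinearMap.comp_apply, LinearEquiv.coe_coe, LinearMap.smul_apply]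
    rw [tv_inv (φ := l • φ) (by simp [hφe]), tv_inv hφe, tv_apply (φ := -(l • φ)) (by simp [hφe]),
      tv_apply (φ := l • φ) (by simp [hφe]), tv_apply (φ := -φ) (by simp [hφe]), tv_apply hφe]
    simp only [LinearMap.smulRight_apply, LinearMap.neg_apply, LinearMap.smul_apply, map_add,
      map_smul, smul_eq_mul]
    match_scalars <;> ring

/-- All trace zero rank one maps. -/
lemma smulRight_mem_kSub (h2 : 2 ≤ n₁) (h3 : 3 ≤ n₂) (hHM : D.stab ≤ M)
    {a : Fin n₁ → F} {φ : (Fin n₁ → F) →ₗ[F] F} (ha : a ≠ 0) (hφ : φ ≠ 0) (hφa : φ a = 0)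
    (hk : φ.smulRight a ∈ D.kSub h3 hHM) {b : Fin n₁ → F} {ψ : (Fin n₁ → F) →ₗ[F] F}
    (hψb : ψ b = 0) : ψ.smulRight b ∈ D.kSub h3 hHM := by
  have axis : ∀ {a : Fin n₁ → F} {φ : (Fin n₁ → F) →ₗ[F] F}, φ ≠ 0 → φ a = 0 →
      φ.smulRight a ∈ D.kSub h3 hHM → ∀ ψ : (Fin n₁ → F) →ₗ[F] F, ψ a = 0 →
        ψ.smulRight a ∈ D.kSub h3 hHM := by
    intro a φ hφ hφa hk ψ hψ
    by_cases hm : ∃ c, φ c ≠ 0 ∧ ψ c = 0
    · obtain ⟨c, hc1, hc2⟩ := hm
      have h1 := D.kSub_conj h3 hHM hk (tv_mem_sl c ψ)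
      have h2m := Submodule.smul_mem _ (φ c)⁻¹ (Submodule.sub_mem _ hk h1)
      convert h2m using 1
      refine LinearMap.ext fun x => ?_
      simp only [LinearMap.smul_apply, LinearMap.sub_apply, LinearMap.comp_apply,
        LinearEquiv.coe_coe, LinearMap.smulRight_apply]
      rw [tv_inv hc2, tv_apply (φ := -ψ) (by simp [hc2]), tv_apply hc2]
      simp only [map_add, map_smul, LinearMap.neg_apply, smul_eq_mul, hψ]
      match_scalars <;> field_simp <;> ring
    · simp only [not_exists, not_and] at hm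
      obtain ⟨w, hw⟩ := LinearMap.surjective_of_ne_zero hφ 1
      have heq : ψ = ψ w • φ := LinearMap.ext fun x => by
        have : φ (ψ w • x - ψ x • w) = 0 := by
          by_contra hne
          exact hm _ hne (by simp [mul_comm])
        simp only [map_sub, map_smul, hw, smul_eq_mul, mul_one] at this
        simp only [LinearMap.smul_apply, smul_eq_mul]
        linear_combination -this
      rw [heq]
      convert Submodule.smul_mem _ (ψ w) hk using 1
      exact LinearMap.ext fun x => by simp [smul_smul]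
  have centre : ∀ b, b ∉ F ∙ a → ∃ ψ : (Fin n₁ → F) →ₗ[F] F, ψ ≠ 0 ∧ ψ b = 0 ∧
      ψ.smulRight b ∈ D.kSub h3 hHM := by
    intro b hb
    have hd : b - a ∉ F ∙ a := fun hm => hb (by
      have := Submodule.add_mem _ hm (Submodule.mem_span_singleton_self a)
      rwa [sub_add_cancel] at this)
    obtain ⟨χ, hχ1, hχ2⟩ := Submodule.exists_le_ker_of_notMem
      (show a ∉ F ∙ (b - a) from fun hm => by
        obtain ⟨c, hc⟩ := Submodule.mem_span_singleton.1 hm
        rcases eq_or_ne c 0 with rfl | hc0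
        · exact ha (by simpa using hc.symm)
        · exact hd (Submodule.mem_span_singleton.2 ⟨c⁻¹, by
            rw [← inv_smul_smul₀ hc0 (b - a), hc]⟩))
    have hχd : ((χ a)⁻¹ • χ) (b - a) = 0 := by
      rw [LinearMap.smul_apply, LinearMap.mem_ker.1 (hχ2 (Submodule.mem_span_singleton_self _)),
        smul_zero]
    have h1 := D.kSub_conj h3 hHM hk (tv_mem_sl (b - a) ((χ a)⁻¹ • χ))
    refine ⟨φ ∘ₗ (app (tv (b - a) ((χ a)⁻¹ • χ))⁻¹).toLinearMap, fun e => hφ ?_, ?_, ?_⟩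
    · refine LinearMap.ext fun x => ?_
      have := LinearMap.congr_fun e (app (tv (b - a) ((χ a)⁻¹ • χ)) x)
      simpa only [LinearMap.comp_apply, LinearEquiv.coe_coe, app_inv_app, LinearMap.zero_apply] using this
    · have hb' : b = app (tv (b - a) ((χ a)⁻¹ • χ)) a := by
        rw [tv_apply hχd, LinearMap.smul_apply, smul_eq_mul, inv_mul_cancel₀ hχ1, one_smul,
          add_sub_cancel]
      rw [LinearMap.comp_apply, LinearEquiv.coe_coe]
      nth_rw 2 [hb']
      rw [app_inv_app, hφa]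
    · convert h1 using 1
      refine LinearMap.ext fun x => ?_
      simp only [LinearMap.comp_apply, LinearEquiv.coe_coe, LinearMap.smulRight_apply, map_smul]
      rw [tv_apply hχd, LinearMap.smul_apply, smul_eq_mul, inv_mul_cancel₀ hχ1, one_smul,
        add_sub_cancel]
  by_cases hb : b ∈ F ∙ a
  · obtain ⟨c, rfl⟩ := Submodule.mem_span_singleton.1 hb
    rcases eq_or_ne c 0 with rfl | hc
    · convert Submodule.zero_mem (D.kSub h3 hHM) using 1
      exact LinearMap.ext fun x => by simp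
    · have hψa : ψ a = 0 := by simpa [hc] using hψb
      convert Submodule.smul_mem _ c (axis hφ hφa hk ψ hψa) using 1
      exact LinearMap.ext fun x => smul_comm (ψ x) c a
  · obtain ⟨ψ', h1, h2', h3'⟩ := centre b hb
    exact axis h1 h2' h3' ψ hψb

/-- A non-scalar `k` gives all transvections. -/
theorem sl_le_of_not_scal (h2 : 2 ≤ n₁) (hq : 3 ≤ n₁ ∨ 3 ≤ Fintype.card F) (h3 : 3 ≤ n₂)
    (hHM : D.stab ≤ M) (hns : ¬ D.Scal M) : Cfsg.Geo.specialLinear ι F ≤ M := by
  unfold Scal at hns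
  push Not at hns
  obtain ⟨k, u₀, α₀, hu₀, hα₀, h₀, hk, hk'⟩ := hns
  have hkK := D.mem_kSub_of_mem h3 hHM hu₀ hα₀ h₀ hk
  obtain ⟨a₁, φ₁, ha₁, hφ₁, hφa₁, hE⟩ := D.exists_rank_one h2 hq h3 hHM hkK
    (by push Not; exact hk')
  -- transvections `(a ⊗ u, φ ⊗ α)` with `φ a = 0 = α u`
  have base : ∀ (a : Fin n₁ → F) (u : Fin n₂ → F) (φ : (Fin n₁ → F) →ₗ[F] F)
      (α : (Fin n₂ → F) →ₗ[F] F), φ a = 0 → α u = 0 → φ ∘ₗ D.ct α ∈ axes M (D.T a u) := by
    intro a u φ α hφ hα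
    refine ⟨by rw [LinearMap.comp_apply, D.ct_T, hα]; simp, fun c => ?_⟩
    by_cases hu : u = 0
    · rw [hu, map_zero, show tv (0 : ι → F) (c • φ ∘ₗ D.ct α) = 1 from gl_ext fun x => by
        rw [tv_apply (by simp)]; simp]
      exact one_mem _
    by_cases hα0 : α = 0
    · rw [hα0, show (c • φ ∘ₗ D.ct 0 : (ι → F) →ₗ[F] F) = 0 from LinearMap.ext fun x => by
        simp [D.ct_zero], tv_zero]
      exact one_mem _
    have hm := D.smulRight_mem_kSub h2 h3 hHM ha₁ hφ₁ hφa₁ hE (b := a) (ψ := c • φ) (by simp [hφ])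
      u α hu hα0 hα
    convert hm using 1
    refine gl_ext fun x => ?_
    rw [tv_apply (by simp [D.ct_T, hα]), D.rt_apply hα]
    simp [smul_smul]
  have hc : ∀ {b : Fin n₁ → F} {v : Fin n₂ → F} {ψ : (Fin n₁ → F) →ₗ[F] F}
      {β : (Fin n₂ → F) →ₗ[F] F}, ψ b * β v = 0 → (ψ ∘ₗ D.ct β) (D.T b v) = 0 :=
    fun {b v ψ β} h => by rw [LinearMap.comp_apply, D.ct_T, map_smul, smul_eq_mul, mul_comm]; exact h
  have conjAx : ∀ {a b : Fin n₁ → F} {u v : Fin n₂ → F} {φ ψ : (Fin n₁ → F) →ₗ[F] F}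
      {α β : (Fin n₂ → F) →ₗ[F] F}, φ ∘ₗ D.ct α ∈ axes M (D.T a u) →
      ψ ∘ₗ D.ct β ∈ axes M (D.T b v) → ψ a * β u = 0 → φ b * α v = 1 →
      ψ ∘ₗ D.ct β ∈ axes M (D.T a u) := by
    intro a b u v φ ψ α β h1 h2' h4 h5
    have hg := h2'.2 1
    rw [one_smul] at hg
    have h6 := axes_conj hg h1
    rw [tv_apply h2'.1, hc h4, zero_smul, add_zero] at h6
    have h7 := Submodule.sub_mem _ h1 h6
    convert h7 using 1
    refine LinearMap.ext fun x => ?_
    simp only [LinearMap.sub_apply, LinearMap.comp_apply, LinearEquiv.coe_coe]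
    rw [tv_inv h2'.1, tv_apply (φ := -(ψ ∘ₗ D.ct β))
      (by rw [LinearMap.neg_apply, h2'.1, neg_zero])]
    simp only [map_add, map_smul, D.ct_T, LinearMap.neg_apply, LinearMap.comp_apply, smul_eq_mul]
    linear_combination -(ψ (D.ct β x)) * h5
  have pick : ∀ (u : Fin n₂ → F) (β : (Fin n₂ → F) →ₗ[F] F), β ≠ 0 → ∃ v, β v = 0 ∧ v ∉ F ∙ u := by
    intro u β hβ
    by_contra! hall
    have hr := LinearMap.finrank_range_add_finrank_ker β
    have h1 : finrank F (LinearMap.range β) ≤ 1 :=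
      (Submodule.finrank_le _).trans (Module.finrank_self F).le
    have hk2 : finrank F (LinearMap.ker β) ≤ 1 :=
      (Submodule.finrank_mono (show LinearMap.ker β ≤ F ∙ u from fun z hz => hall z hz)).trans
        ((finrank_span_le_card ({u} : Set (Fin n₂ → F))).trans (by simp))
    rw [Module.finrank_fintype_fun_eq_card, Fintype.card_fin] at hr
    omega
  have zero_case : ∀ (a : Fin n₁ → F) (u : Fin n₂ → F) (ψ : (Fin n₁ → F) →ₗ[F] F),
      ψ ∘ₗ D.ct 0 ∈ axes M (D.T a u) := fun a u ψ => by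
    rw [show ψ ∘ₗ D.ct 0 = 0 from LinearMap.ext fun x => by simp [D.ct_zero]]
    exact Submodule.zero_mem _
  have step2 : ∀ (a : Fin n₁ → F) (u : Fin n₂ → F) (ψ : (Fin n₁ → F) →ₗ[F] F)
      (β : (Fin n₂ → F) →ₗ[F] F), β u = 0 → ψ ∘ₗ D.ct β ∈ axes M (D.T a u) := by
    intro a u ψ β hβ
    by_cases hψ : ψ a = 0
    · exact base a u ψ β hψ hβ
    by_cases hβ0 : β = 0
    · rw [hβ0]; exact zero_case a u ψ
    obtain ⟨v, hv, hvu⟩ := pick u β hβ0
    obtain ⟨α, hα1, hα2⟩ := Submodule.exists_le_ker_of_notMem hvu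
    obtain ⟨b, hb, hb0⟩ : ∃ b, ψ b = 0 ∧ b ≠ 0 := by
      obtain ⟨b, hb1, hb2⟩ := Submodule.exists_mem_ne_zero_of_ne_bot
        (show LinearMap.ker ψ ≠ ⊥ from fun e => by
          have hr := LinearMap.finrank_range_add_finrank_ker ψ
          have h1 : finrank F (LinearMap.range ψ) ≤ 1 :=
            (Submodule.finrank_le _).trans (Module.finrank_self F).le
          rw [e, finrank_bot, Module.finrank_fintype_fun_eq_card, Fintype.card_fin] at hr
          omega)
      exact ⟨b, hb1, hb2⟩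
    obtain ⟨φ, hφ1, hφ2⟩ := Submodule.exists_le_ker_of_notMem (show b ∉ F ∙ a from fun hm => by
      obtain ⟨c, rfl⟩ := Submodule.mem_span_singleton.1 hm
      simp [hψ] at hb
      exact hb0 (by simp [hb]))
    refine conjAx (φ := (φ b * α v)⁻¹ • φ) (b := b) (v := v)
      (base a u _ α (by simp [LinearMap.mem_ker.1 (hφ2 (Submodule.mem_span_singleton_self a))])
        (hα2 (Submodule.mem_span_singleton_self u)))
      (base b v ψ β hb hv) (by rw [hβ, mul_zero]) ?_
    rw [LinearMap.smul_apply, smul_eq_mul, mul_assoc, inv_mul_cancel₀ (mul_ne_zero hφ1 hα1)]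
  have step3 : ∀ (a : Fin n₁ → F) (u : Fin n₂ → F) (ψ : (Fin n₁ → F) →ₗ[F] F)
      (β : (Fin n₂ → F) →ₗ[F] F), ψ a = 0 → ψ ∘ₗ D.ct β ∈ axes M (D.T a u) := by
    intro a u ψ β hψ
    by_cases hβ0 : β = 0
    · rw [hβ0]; exact zero_case a u ψ
    by_cases ha : a = 0
    · rw [ha]; exact ⟨by simp, fun c => by
        rw [map_zero, LinearMap.zero_apply, show tv (0 : ι → F) (c • ψ ∘ₗ D.ct β) = 1 from
          gl_ext fun x => by rw [tv_apply (by simp)]; simp]
        exact one_mem _⟩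
    obtain ⟨v, hv, hvu⟩ := pick u β hβ0
    obtain ⟨α, hα1, hα2⟩ := Submodule.exists_le_ker_of_notMem hvu
    obtain ⟨i, hi⟩ := Function.ne_iff.1 ha
    refine conjAx (φ := (a i * α v)⁻¹ • LinearMap.proj i) (b := a) (v := v)
      (step2 a u _ α (hα2 (Submodule.mem_span_singleton_self u)))
      (base a v ψ β hψ hv) (by rw [hψ, zero_mul]) ?_
    rw [LinearMap.smul_apply, smul_eq_mul, LinearMap.proj_apply, mul_assoc,
      inv_mul_cancel₀ (mul_ne_zero hi hα1)]
  have full : ∀ (a : Fin n₁ → F) (u : Fin n₂ → F), IsFull M (D.T a u) := by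
    intro a u f hf
    by_cases ha : a = 0
    · refine ⟨hf, fun c => ?_⟩
      rw [ha, map_zero, LinearMap.zero_apply, show tv (0 : ι → F) (c • f) = 1 from
        gl_ext fun x => by rw [tv_apply (by simp)]; simp]
      exact one_mem _
    obtain ⟨i, hi⟩ := Function.ne_iff.1 ha
    let φ₀ : (Fin n₁ → F) →ₗ[F] F := (a i)⁻¹ • LinearMap.proj i
    let β₀ : (Fin n₂ → F) →ₗ[F] F := f ∘ₗ D.T a
    let β : Fin n₁ → (Fin n₂ → F) →ₗ[F] F := fun j => f ∘ₗ D.T (Pi.single j 1)
    have hdec : f = φ₀ ∘ₗ D.ct β₀ +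
        ∑ j, (LinearMap.proj j - a j • φ₀) ∘ₗ D.ct (β j) := by
      refine D.lin_ext fun b w => ?_
      simp only [LinearMap.add_apply, LinearMap.sum_apply, LinearMap.comp_apply, D.ct_T, map_smul,
        LinearMap.sub_apply, LinearMap.smul_apply, LinearMap.proj_apply, smul_eq_mul, β, β₀]
      have e1 : f (D.T b w) = ∑ j, b j * f (D.T (Pi.single j 1) w) := by
        conv_lhs => rw [pi_eq_sum_univ' b, map_sum, LinearMap.sum_apply, map_sum]
        simp [map_smul]
      have e2 : f (D.T a w) = ∑ j, a j * f (D.T (Pi.single j 1) w) := by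
        conv_lhs => rw [pi_eq_sum_univ' a, map_sum, LinearMap.sum_apply, map_sum]
        simp [map_smul]
      simp only [e1, e2, Finset.sum_mul, ← Finset.sum_add_distrib]
      exact Finset.sum_congr rfl fun j _ => by ring
    rw [hdec]
    refine Submodule.add_mem _ (step2 a u φ₀ β₀ hf) (Submodule.sum_mem _ fun j _ => step3 a u _ _ ?_)
    simp only [φ₀, LinearMap.sub_apply, LinearMap.smul_apply, LinearMap.proj_apply, smul_eq_mul]
    rw [inv_mul_cancel₀ hi, mul_one, sub_self]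
  have hall : ∀ (s : Finset (Fin n₁)) (x : ι → F),
      IsFull M (∑ i ∈ s, D.T (Pi.single i 1) (D.row x i)) := by
    intro s x
    induction s using Finset.induction_on with
    | empty => rw [Finset.sum_empty]; simpa using full 0 0
    | @insert i s hi ih =>
      rw [Finset.sum_insert hi, add_comm]
      set w := ∑ i ∈ s, D.T (Pi.single i 1) (D.row x i)
      by_cases hw : w ∈ F ∙ D.T (Pi.single i 1) (D.row x i)
      · obtain ⟨c, hc⟩ := Submodule.mem_span_singleton.1 hw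
        rw [← hc]
        nth_rw 2 [← one_smul F (D.T (Pi.single i 1) (D.row x i))]
        rw [← add_smul]
        rcases eq_or_ne (c + 1) 0 with h0 | h0
        · rw [h0, zero_smul]; simpa using full 0 0
        · exact (full _ _).smul h0
      · obtain ⟨f, hf1, hf2⟩ := Submodule.exists_le_ker_of_notMem hw
        have hf : ((f w)⁻¹ • f) (D.T (Pi.single i 1) (D.row x i)) = 0 := by
          rw [LinearMap.smul_apply, LinearMap.mem_ker.1 (hf2 (Submodule.mem_span_singleton_self _)),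
            smul_zero]
        have hm := (full _ _ _ hf).2 1
        rw [one_smul] at hm
        have := ih.conj hm
        rwa [tv_apply hf, LinearMap.smul_apply, smul_eq_mul, inv_mul_cancel₀ hf1, one_smul] at this
  exact sl_le_of_isFull M fun v _ => D.sum_T_row v ▸ hall Finset.univ v

end Cfsg.Agent.C4.TData
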