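import Cfsg.Agent.Lib.Orth.Eichler
import Cfsg.Agent.Lib.Transvect.Basic

/-!
# Tensor products of two alternating spaces inside an orthogonal space

* `SS Q n₁ n₂` : a bilinear `t` with `p(a ⊗ b, a' ⊗ b') = f(a,a') g(b,b')`, `Q` zero on pure tensors
* `pr b x` : the contraction of `x` with `b`
* `uB b c`, `ee X b β` : the unipotent isometries supported by one or two rulings
* `exists_move`, `exists_move_pair` : transvections of the right factor move vectors and orthogonal pairs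
* `shear_mem_eichGen`, `Mov.mem_eichGen`
-/

set_option autoImplicit false
set_option linter.unusedSectionVars false
set_option linter.unusedSimpArgs false

namespace Cfsg.Agent.C4

open Cfsg Matrix Module Cfsg.Agent.Orth
open QuadraticMap (polar)

/-! ### forms on coordinate spaces -/

section Forms

variable {F : Type*} [Field F] {n : ℕ} (f : (Fin n → F) →ₗ[F] (Fin n → F) →ₗ[F] F)

/-- A non-degenerate form identifies the space with its dual. -/
noncomputable def repDual (hnd : ∀ a, (∀ a', f a a' = 0) → a = 0) :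
    (Fin n → F) ≃ₗ[F] Module.Dual F (Fin n → F) :=
  LinearMap.linearEquivOfInjective f (LinearMap.ker_eq_bot.1 (LinearMap.ker_eq_bot'.2 fun a ha =>
    hnd a fun a' => by rw [ha]; rfl)) Subspace.dual_finrank_eq.symm

theorem repDual_symm_apply (hnd : ∀ a, (∀ a', f a a' = 0) → a = 0) (φ : Module.Dual F (Fin n → F))
    (a' : Fin n → F) : f ((repDual f hnd).symm φ) a' = φ a' := by
  conv_rhs => rw [← (repDual f hnd).apply_symm_apply φ]
  rfl

end Forms

variable {ι : Type} [Fintype ι] [DecidableEq ι] {F : Type*} [Field F]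

/-- An orthogonal space as the tensor product of two alternating spaces, with pure tensors singular. -/
structure SS (Q : QuadraticForm F (ι → F)) (n₁ n₂ : ℕ) where
  t : (Fin n₁ → F) →ₗ[F] (Fin n₂ → F) →ₗ[F] (ι → F)
  f : (Fin n₁ → F) →ₗ[F] (Fin n₁ → F) →ₗ[F] F
  g : (Fin n₂ → F) →ₗ[F] (Fin n₂ → F) →ₗ[F] F
  falt : ∀ a, f a a = 0
  galt : ∀ b, g b b = 0
  fnd : ∀ a, (∀ a', f a a' = 0) → a = 0
  gnd : ∀ b, (∀ b', g b b' = 0) → b = 0
  pol : ∀ a b a' b', polar ⇑Q (t a b) (t a' b') = f a a' * g b b'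
  pure : ∀ a b, Q (t a b) = 0
  spn : Submodule.span F {x | ∃ a b, t a b = x} = ⊤

variable {Q : QuadraticForm F (ι → F)} {n₁ n₂ : ℕ}

/-- The same with the factors exchanged. -/
def SS.swap (C : SS Q n₁ n₂) : SS Q n₂ n₁ where
  t := C.t.flip
  f := C.g
  g := C.f
  falt := C.galt
  galt := C.falt
  fnd := C.gnd
  gnd := C.fnd
  pol a b a' b' := by rw [LinearMap.flip_apply, LinearMap.flip_apply, C.pol, mul_comm]
  pure a b := C.pure b a
  spn := by
    rw [← C.spn]; congr 1; ext x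
    exact ⟨fun ⟨a, b, h⟩ => ⟨b, a, h⟩, fun ⟨a, b, h⟩ => ⟨b, a, h⟩⟩

namespace SS

variable (C : SS Q n₁ n₂)

theorem ext_pure {M : Type*} [AddCommGroup M] [Module F M] {L L' : (ι → F) →ₗ[F] M}
    (h : ∀ a b, L (C.t a b) = L' (C.t a b)) : L = L' :=
  LinearMap.ext_on C.spn (by rintro _ ⟨a, b, rfl⟩; exact h a b)

theorem iso_ext {u v : IsoGrp Q} (h : ∀ a b, ap u (C.t a b) = ap v (C.t a b)) : u = v :=
  ext_ap fun x => LinearMap.congr_fun (C.ext_pure h) x

theorem f_skew (a a' : Fin n₁ → F) : C.f a a' = - C.f a' a := by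
  have h := C.falt (a + a')
  simp only [map_add, LinearMap.add_apply, C.falt, zero_add, add_zero] at h
  linear_combination h

theorem g_skew (b b' : Fin n₂ → F) : C.g b b' = - C.g b' b := C.swap.f_skew b b'

theorem g_zero_comm {b b' : Fin n₂ → F} (h : C.g b b' = 0) : C.g b' b = 0 := by
  rw [C.g_skew, h, neg_zero]

theorem f_zero_comm {a a' : Fin n₁ → F} (h : C.f a a' = 0) : C.f a' a = 0 := C.swap.g_zero_comm h

theorem f_ext {a a' : Fin n₁ → F} (h : ∀ z, C.f a z = C.f a' z) : a = a' :=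
  sub_eq_zero.1 (C.fnd _ fun z => by rw [map_sub, LinearMap.sub_apply, h, sub_self])

/-! ### choosing vectors -/

/-- A vector outside a subspace pairs with a vector orthogonal to it. -/
theorem exists_pair {W : Submodule F (Fin n₂ → F)} {e : Fin n₂ → F} (he : e ∉ W) :
    ∃ x, (∀ w ∈ W, C.g w x = 0) ∧ C.g e x = 1 := by
  obtain ⟨φ, hφ, hφe⟩ := Transvect.exists_dual_eq_one he
  refine ⟨-(repDual C.g C.gnd).symm φ, fun w hw => ?_, ?_⟩
  · rw [map_neg, C.g_skew, neg_neg, repDual_symm_apply, hφ w hw]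
  · rw [map_neg, C.g_skew, neg_neg, repDual_symm_apply, hφe]

theorem exists_dual {b : Fin n₂ → F} (hb : b ≠ 0) : ∃ x, C.g b x = 1 := by
  obtain ⟨x, -, hx⟩ := C.exists_pair (W := ⊥) (e := b) (by simpa using hb)
  exact ⟨x, hx⟩

/-- Few linear conditions have a solution outside a small subspace. -/
theorem exists_ker_not_mem {k : ℕ} (φ : Fin k → Module.Dual F (Fin n₂ → F))
    (W : Submodule F (Fin n₂ → F)) (h : k + finrank F W < n₂) :
    ∃ x, (∀ i, φ i x = 0) ∧ x ∉ W := by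
  have h1 := (LinearMap.pi φ).finrank_range_add_finrank_ker
  have h2 := Submodule.finrank_le (LinearMap.range (LinearMap.pi φ))
  rw [finrank_space, Fintype.card_fin] at h1 h2
  obtain ⟨x, hx, hxW⟩ := SetLike.exists_of_lt (p := W ⊓ LinearMap.ker (LinearMap.pi φ))
    (q := LinearMap.ker (LinearMap.pi φ)) (lt_of_le_of_ne inf_le_right fun he => by
      have := Submodule.finrank_mono (inf_le_left : W ⊓ LinearMap.ker (LinearMap.pi φ) ≤ W)
      rw [he] at this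
      omega)
  exact ⟨x, fun i => congrFun (LinearMap.mem_ker.1 hx) i, fun hW => hxW ⟨hW, hx⟩⟩

theorem finrank_span_pair_le (b β : Fin n₂ → F) : finrank F (Submodule.span F {b, β}) ≤ 2 := by
  classical
  have : ({b, β} : Set (Fin n₂ → F)) = (({b, β} : Finset (Fin n₂ → F)) : Set (Fin n₂ → F)) := by simp
  rw [this]
  exact (finrank_span_finset_le_card _).trans Finset.card_le_two

/-- A vector orthogonal to two given ones and outside their span. -/
theorem exists_perp_pair (h : 5 ≤ n₂) (b β : Fin n₂ → F) :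
    ∃ e, C.g b e = 0 ∧ C.g β e = 0 ∧ e ∉ Submodule.span F {b, β} := by
  obtain ⟨x, hx, hxW⟩ := exists_ker_not_mem ![C.g b, C.g β] (Submodule.span F {b, β}) (by
    have := finrank_span_pair_le b β; omega)
  exact ⟨x, hx 0, hx 1, hxW⟩

/-- A hyperbolic pair orthogonal to two given vectors. -/
theorem exists_hyp_perp (h : 5 ≤ n₂) (b β : Fin n₂ → F) :
    ∃ e d, C.g b e = 0 ∧ C.g β e = 0 ∧ C.g b d = 0 ∧ C.g β d = 0 ∧ C.g e d = 1 := by
  obtain ⟨e, h1, h2, he⟩ := C.exists_perp_pair h b β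
  obtain ⟨d, hd, hed⟩ := C.exists_pair he
  exact ⟨e, d, h1, h2, hd b (Submodule.subset_span (by simp)), hd β (Submodule.subset_span (by simp)),
    hed⟩

/-! ### the adjoint -/

/-- The adjoint for `f`: `f (dag X u) v = f u (X v)`. -/
noncomputable def dag (X : (Fin n₁ → F) →ₗ[F] (Fin n₁ → F)) : (Fin n₁ → F) →ₗ[F] (Fin n₁ → F) :=
  (repDual C.f C.fnd).symm.toLinearMap.comp (X.dualMap.comp C.f)

theorem f_dag (X : (Fin n₁ → F) →ₗ[F] (Fin n₁ → F)) (u v : Fin n₁ → F) :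
    C.f (C.dag X u) v = C.f u (X v) := by
  rw [dag, LinearMap.comp_apply, LinearEquiv.coe_coe, repDual_symm_apply]; rfl

theorem f_dag_right (X : (Fin n₁ → F) →ₗ[F] (Fin n₁ → F)) (u v : Fin n₁ → F) :
    C.f u (C.dag X v) = C.f (X u) v := by
  rw [C.f_skew, C.f_dag, C.f_skew, neg_neg]

theorem dag_eq {X Y : (Fin n₁ → F) →ₗ[F] (Fin n₁ → F)} (h : ∀ u v, C.f (Y u) v = C.f u (X v)) :
    C.dag X = Y :=
  LinearMap.ext fun u => C.f_ext fun v => by rw [C.f_dag, h]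

theorem dag_dag (X : (Fin n₁ → F) →ₗ[F] (Fin n₁ → F)) : C.dag (C.dag X) = X :=
  C.dag_eq fun u v => (C.f_dag_right X u v).symm

theorem dag_id : C.dag LinearMap.id = LinearMap.id := C.dag_eq fun _ _ => rfl

theorem dag_add (X Y : (Fin n₁ → F) →ₗ[F] (Fin n₁ → F)) : C.dag (X + Y) = C.dag X + C.dag Y :=
  C.dag_eq fun u v => by simp [C.f_dag]

theorem dag_sub (X Y : (Fin n₁ → F) →ₗ[F] (Fin n₁ → F)) : C.dag (X - Y) = C.dag X - C.dag Y :=
  C.dag_eq fun u v => by simp [C.f_dag]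

theorem dag_smul (c : F) (X : (Fin n₁ → F) →ₗ[F] (Fin n₁ → F)) : C.dag (c • X) = c • C.dag X :=
  C.dag_eq fun u v => by simp [C.f_dag]

theorem dag_comp (X Y : (Fin n₁ → F) →ₗ[F] (Fin n₁ → F)) :
    C.dag (X.comp Y) = (C.dag Y).comp (C.dag X) :=
  C.dag_eq fun u v => by simp [C.f_dag]

/-! ### contraction -/

/-- Contraction with `b`: `f (pr b x) a = p(x, a ⊗ b)`. -/
noncomputable def pr : (Fin n₂ → F) →ₗ[F] (ι → F) →ₗ[F] (Fin n₁ → F) :=
  LinearMap.mk₂ F (fun b x => (repDual C.f C.fnd).symm ((Q.polarBilin x).comp (C.t.flip b)))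
    (fun b b' x => by rw [← map_add]; congr 1; ext a; simp [pl_add_right])
    (fun c b x => by rw [← map_smul]; congr 1; ext a; simp [pl_smul_right])
    (fun b x x' => by rw [← map_add]; congr 1; ext a; simp [pl_add_left])
    (fun c b x => by rw [← map_smul]; congr 1; ext a; simp [pl_smul_left])

theorem f_pr (b : Fin n₂ → F) (x : ι → F) (a : Fin n₁ → F) :
    C.f (C.pr b x) a = polar ⇑Q x (C.t a b) := by
  rw [pr, LinearMap.mk₂_apply, repDual_symm_apply]; rfl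

theorem pr_t (b : Fin n₂ → F) (a : Fin n₁ → F) (y : Fin n₂ → F) :
    C.pr b (C.t a y) = C.g y b • a :=
  C.f_ext fun z => by rw [C.f_pr, C.pol, map_smul, LinearMap.smul_apply, smul_eq_mul, mul_comm]

theorem polar_t (x : ι → F) (a : Fin n₁ → F) (b : Fin n₂ → F) :
    polar ⇑Q x (C.t a b) = C.f (C.pr b x) a := (C.f_pr b x a).symm

theorem pr_surj {b : Fin n₂ → F} (hb : b ≠ 0) (a : Fin n₁ → F) : ∃ x, C.pr b x = a := by
  obtain ⟨y, hy⟩ := C.exists_dual hb
  exact ⟨C.t (-a) y, by rw [pr_t, C.g_skew, hy, neg_one_smul, neg_neg]⟩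

theorem t_inj {b : Fin n₂ → F} (hb : b ≠ 0) {a a' : Fin n₁ → F} (h : C.t a b = C.t a' b) : a = a' := by
  obtain ⟨y, hy⟩ := C.exists_dual hb
  simpa [C.pr_t, hy] using congrArg (C.pr y) h

theorem t_inj_left {a : Fin n₁ → F} (ha : a ≠ 0) {b b' : Fin n₂ → F} (h : C.t a b = C.t a b') : b = b' :=
  C.swap.t_inj ha h

/-- Equal pure tensors are proportional. -/
theorem left_of_t_eq {a a' : Fin n₁ → F} {b b' : Fin n₂ → F} (hb : b ≠ 0)
    (h : C.t a b = C.t a' b') : ∃ c : F, a = c • a' := by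
  obtain ⟨y, hy⟩ := C.exists_dual hb
  exact ⟨C.g b' y, by simpa [C.pr_t, hy] using congrArg (C.pr y) h⟩

theorem right_of_t_eq {a a' : Fin n₁ → F} {b b' : Fin n₂ → F} (ha : a ≠ 0)
    (h : C.t a b = C.t a' b') : ∃ c : F, b = c • b' := C.swap.left_of_t_eq ha h

end SS

/-! ### shears -/

open Classical in
/-- The isometry `1 + D` when `D² = 0` and `1 + D` preserves `Q`; the identity otherwise. -/
noncomputable def shear (Q : QuadraticForm F (ι → F)) (D : (ι → F) →ₗ[F] (ι → F)) : IsoGrp Q :=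
  if h : (∀ x, D (D x) = 0) ∧ ∀ x, Q (x + D x) = Q x then
    ⟨⟨LinearMap.toMatrix' (LinearMap.id + D), LinearMap.toMatrix' (LinearMap.id - D),
      by rw [← LinearMap.toMatrix'_comp, ← LinearMap.toMatrix'_id]; congr 1
         ext x; simp [h.1],
      by rw [← LinearMap.toMatrix'_comp, ← LinearMap.toMatrix'_id]; congr 1
         ext x; simp [h.1]⟩,
      fun x _ => by
        show Q (LinearMap.toMatrix' (LinearMap.id + D) *ᵥ x) = Q x
        rw [← Matrix.toLin'_apply, Matrix.toLin'_toMatrix']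
        exact h.2 x⟩
  else 1

theorem shear_ap {D : (ι → F) →ₗ[F] (ι → F)} (h1 : ∀ x, D (D x) = 0)
    (h2 : ∀ x, Q (x + D x) = Q x) (x : ι → F) : ap (shear Q D) x = x + D x := by
  rw [ap_apply, shear, dif_pos ⟨h1, h2⟩]
  show LinearMap.toMatrix' (LinearMap.id + D) *ᵥ x = _
  rw [← Matrix.toLin'_apply, Matrix.toLin'_toMatrix']
  rfl

namespace SS

variable (C : SS Q n₁ n₂)

/-- `x ↦ x + c · (pr b x) ⊗ b`. -/
noncomputable def uB (b : Fin n₂ → F) (c : F) : IsoGrp Q :=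
  shear Q (c • (C.t.flip b).comp (C.pr b))

theorem uB_ap (b : Fin n₂ → F) (c : F) (x : ι → F) :
    ap (C.uB b c) x = x + c • C.t (C.pr b x) b := by
  rw [uB, shear_ap]
  · rfl
  · intro x
    simp [C.pr_t, C.galt]
  · intro x
    simp [Q_add, C.pure, Q_smul, pl_smul_right, C.polar_t, C.falt]

theorem uB_t (b : Fin n₂ → F) (c : F) (a : Fin n₁ → F) (y : Fin n₂ → F) :
    ap (C.uB b c) (C.t a y) = C.t a (y + (c * C.g y b) • b) := by
  rw [uB_ap, pr_t, map_add, map_smul, map_smul, LinearMap.smul_apply, smul_smul]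

theorem uB_add (b : Fin n₂ → F) (c c' : F) : C.uB b c * C.uB b c' = C.uB b (c + c') :=
  C.iso_ext fun a y => by
    simp only [ap_mul, uB_t, map_add, map_smul, LinearMap.add_apply, LinearMap.smul_apply, C.galt,
      smul_zero, add_zero, smul_eq_mul]
    module

theorem uB_zero (b : Fin n₂ → F) : C.uB b 0 = 1 := ext_ap fun x => by simp [uB_ap]

theorem uB_inv (b : Fin n₂ → F) (c : F) : (C.uB b c)⁻¹ = C.uB b (-c) :=
  inv_eq_of_mul_eq_one_right (by rw [uB_add, add_neg_cancel, uB_zero])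

theorem uB_zero_vec (c : F) : C.uB 0 c = 1 := ext_ap fun x => by simp [uB_ap]

/-- `x ↦ x + X (pr β x) ⊗ b + dag X (pr b x) ⊗ β`. -/
noncomputable def ee (X : (Fin n₁ → F) →ₗ[F] (Fin n₁ → F)) (b β : Fin n₂ → F) : IsoGrp Q :=
  shear Q ((C.t.flip b).comp (X.comp (C.pr β)) + (C.t.flip β).comp ((C.dag X).comp (C.pr b)))

variable {C}

theorem ee_ap (X : (Fin n₁ → F) →ₗ[F] (Fin n₁ → F)) {b β : Fin n₂ → F} (h : C.g b β = 0)
    (x : ι → F) :
    ap (C.ee X b β) x = x + (C.t (X (C.pr β x)) b + C.t (C.dag X (C.pr b x)) β) := by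
  rw [ee, shear_ap]
  · rfl
  · intro x
    simp [C.pr_t, C.galt, h, C.g_zero_comm h]
  · intro x
    simp [Q_add, C.pure, pl_add_right, C.polar_t, C.pr_t, h, C.f_dag_right,
      C.f_skew (C.pr b x), C.f_dag]

theorem ee_add (X Y : (Fin n₁ → F) →ₗ[F] (Fin n₁ → F)) {b β : Fin n₂ → F} (h : C.g b β = 0) :
    C.ee X b β * C.ee Y b β = C.ee (X + Y) b β :=
  ext_ap fun x => by
    simp only [ap_mul, ee_ap _ h, map_add, C.pr_t, C.galt, h, C.g_zero_comm h, C.dag_add, zero_smul,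
      map_zero, add_zero, LinearMap.add_apply, LinearMap.zero_apply]
    abel

theorem ee_zero {b β : Fin n₂ → F} (h : C.g b β = 0) : C.ee 0 b β = 1 :=
  ext_ap fun x => by
    rw [ee_ap _ h, show C.dag 0 = 0 from C.dag_eq fun u v => by simp]; simp

theorem ee_inv (X : (Fin n₁ → F) →ₗ[F] (Fin n₁ → F)) {b β : Fin n₂ → F} (h : C.g b β = 0) :
    (C.ee X b β)⁻¹ = C.ee (-X) b β :=
  inv_eq_of_mul_eq_one_right (by rw [ee_add X (-X) h, add_neg_cancel, ee_zero h])

theorem ee_swap (X : (Fin n₁ → F) →ₗ[F] (Fin n₁ → F)) {b β : Fin n₂ → F} (h : C.g b β = 0) :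
    C.ee (C.dag X) β b = C.ee X b β :=
  ext_ap fun x => by
    rw [ee_ap _ (C.g_zero_comm h), ee_ap _ h, C.dag_dag, add_comm (C.t _ β)]

theorem ee_smul (X : (Fin n₁ → F) →ₗ[F] (Fin n₁ → F)) {b β : Fin n₂ → F} (h : C.g b β = 0)
    (c : F) : C.ee X (c • b) β = C.ee (c • X) b β :=
  ext_ap fun x => by
    rw [ee_ap _ (by rw [map_smul, LinearMap.smul_apply, h, smul_zero]), ee_ap _ h, C.dag_smul]
    simp

/-! ### tensor operators -/

variable (C)

/-- `h` acts as `σ ⊗ τ`. -/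
def Ten (σ : (Fin n₁ → F) ≃ₗ[F] (Fin n₁ → F)) (τ : (Fin n₂ → F) ≃ₗ[F] (Fin n₂ → F))
    (h : IsoGrp Q) : Prop :=
  ∀ a y, ap h (C.t a y) = C.t (σ a) (τ y)

/-- `h` preserves the tensor decomposition. -/
def IsTen (h : IsoGrp Q) : Prop := ∃ σ τ, C.Ten σ τ h

variable {C}

theorem Ten.mul {σ σ' : (Fin n₁ → F) ≃ₗ[F] (Fin n₁ → F)} {τ τ' : (Fin n₂ → F) ≃ₗ[F] (Fin n₂ → F)}
    {h h' : IsoGrp Q} (H : C.Ten σ τ h) (H' : C.Ten σ' τ' h') :
    C.Ten (σ'.trans σ) (τ'.trans τ) (h * h') := fun a y => by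
  rw [ap_mul, H', H]; rfl

theorem Ten.inv {σ : (Fin n₁ → F) ≃ₗ[F] (Fin n₁ → F)} {τ : (Fin n₂ → F) ≃ₗ[F] (Fin n₂ → F)}
    {h : IsoGrp Q} (H : C.Ten σ τ h) : C.Ten σ.symm τ.symm h⁻¹ := fun a y => by
  conv_lhs => rw [← σ.apply_symm_apply a, ← τ.apply_symm_apply y, ← H, ap_inv_ap]

theorem IsTen.mul {h h' : IsoGrp Q} (H : C.IsTen h) (H' : C.IsTen h') : C.IsTen (h * h') := by
  obtain ⟨σ, τ, H⟩ := H; obtain ⟨σ', τ', H'⟩ := H'
  exact ⟨_, _, H.mul H'⟩

theorem IsTen.inv {h : IsoGrp Q} (H : C.IsTen h) : C.IsTen h⁻¹ := by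
  obtain ⟨σ, τ, H⟩ := H
  exact ⟨_, _, H.inv⟩

theorem IsTen.one : C.IsTen (1 : IsoGrp Q) := ⟨.refl F _, .refl F _, fun a y => by simp⟩

theorem Ten.swap {σ : (Fin n₁ → F) ≃ₗ[F] (Fin n₁ → F)} {τ : (Fin n₂ → F) ≃ₗ[F] (Fin n₂ → F)}
    {h : IsoGrp Q} (H : C.Ten σ τ h) : C.swap.Ten τ σ h := fun y a => H a y

theorem Ten.pr_conj {σ : (Fin n₁ → F) ≃ₗ[F] (Fin n₁ → F)} {τ : (Fin n₂ → F) ≃ₗ[F] (Fin n₂ → F)}
    {h : IsoGrp Q} (H : C.Ten σ τ h) (hσ : ∀ u v, C.f (σ u) (σ v) = C.f u v) (b : Fin n₂ → F)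
    (x : ι → F) : C.pr (τ b) (ap h x) = σ (C.pr b x) :=
  C.f_ext fun z => by
    obtain ⟨a, rfl⟩ := σ.surjective z
    rw [C.f_pr, ← H, polar_ap, hσ, C.f_pr]

theorem dag_conj {σ : (Fin n₁ → F) ≃ₗ[F] (Fin n₁ → F)} (hσ : ∀ u v, C.f (σ u) (σ v) = C.f u v)
    (X : (Fin n₁ → F) →ₗ[F] (Fin n₁ → F)) :
    C.dag (σ.toLinearMap.comp (X.comp σ.symm.toLinearMap)) =
      σ.toLinearMap.comp ((C.dag X).comp σ.symm.toLinearMap) :=
  C.dag_eq fun u v => by
    obtain ⟨u, rfl⟩ := σ.surjective u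
    obtain ⟨v, rfl⟩ := σ.surjective v
    simp [hσ, C.f_dag]

theorem Ten.conj_ee {σ : (Fin n₁ → F) ≃ₗ[F] (Fin n₁ → F)} {τ : (Fin n₂ → F) ≃ₗ[F] (Fin n₂ → F)}
    {h : IsoGrp Q} (H : C.Ten σ τ h) (hσ : ∀ u v, C.f (σ u) (σ v) = C.f u v)
    (X : (Fin n₁ → F) →ₗ[F] (Fin n₁ → F)) {b β : Fin n₂ → F} (hb : C.g b β = 0)
    (hb' : C.g (τ b) (τ β) = 0) :
    h * C.ee X b β * h⁻¹ = C.ee (σ.toLinearMap.comp (X.comp σ.symm.toLinearMap)) (τ b) (τ β) := by
  rw [mul_inv_eq_iff_eq_mul]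
  refine ext_ap fun x => ?_
  rw [ap_mul, ap_mul, ee_ap _ hb, ee_ap _ hb', map_add, map_add, H, H, C.dag_conj hσ,
    H.pr_conj hσ, H.pr_conj hσ]
  simp

theorem Ten.conj_uB {σ : (Fin n₁ → F) ≃ₗ[F] (Fin n₁ → F)} {τ : (Fin n₂ → F) ≃ₗ[F] (Fin n₂ → F)}
    {h : IsoGrp Q} (H : C.Ten σ τ h) (hσ : ∀ u v, C.f (σ u) (σ v) = C.f u v) (b : Fin n₂ → F)
    (c : F) : h * C.uB b c * h⁻¹ = C.uB (τ b) c := by
  rw [mul_inv_eq_iff_eq_mul]
  refine ext_ap fun x => ?_
  rw [ap_mul, ap_mul, uB_ap, uB_ap, map_add, map_smul, H, H.pr_conj hσ]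

/-! ### moves of the right factor -/

variable (C)

/-- The transvection `y ↦ y + c g(y,v) v`. -/
noncomputable def tvB (v : Fin n₂ → F) (c : F) : (Fin n₂ → F) ≃ₗ[F] (Fin n₂ → F) :=
  LinearEquiv.ofLinearMap (LinearMap.id + (c • C.g.flip v).smulRight v)
    (LinearMap.id - (c • C.g.flip v).smulRight v)
    (by ext y; simp [C.galt]) (by ext y; simp [C.galt])

theorem tvB_apply (v : Fin n₂ → F) (c : F) (y : Fin n₂ → F) :
    C.tvB v c y = y + (c * C.g y v) • v := rfl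

theorem tvB_iso (v : Fin n₂ → F) (c : F) (y z : Fin n₂ → F) :
    C.g (C.tvB v c y) (C.tvB v c z) = C.g y z := by
  simp [tvB_apply, C.galt, C.g_skew v z]
  ring

theorem uB_ten (v : Fin n₂ → F) (c : F) : C.Ten (.refl F _) (C.tvB v c) (C.uB v c) :=
  fun a y => C.uB_t v c a y

/-- `h = 1 ⊗ τ`, a product of transvections of the right factor. -/
structure Mov (τ : (Fin n₂ → F) ≃ₗ[F] (Fin n₂ → F)) (h : IsoGrp Q) : Prop where
  ten : C.Ten (.refl F _) τ h
  iso : ∀ y z, C.g (τ y) (τ z) = C.g y z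
  mem : h ∈ Subgroup.closure {x | ∃ v c, x = C.uB v c}

variable {C}

theorem Mov.mul {τ τ' : (Fin n₂ → F) ≃ₗ[F] (Fin n₂ → F)} {h h' : IsoGrp Q} (H : C.Mov τ h)
    (H' : C.Mov τ' h') : C.Mov (τ'.trans τ) (h * h') :=
  ⟨fun a y => (H.ten.mul H'.ten) a y, fun y z => by
    rw [LinearEquiv.trans_apply, LinearEquiv.trans_apply, H.iso, H'.iso], mul_mem H.mem H'.mem⟩

theorem Mov.isTen {τ : (Fin n₂ → F) ≃ₗ[F] (Fin n₂ → F)} {h : IsoGrp Q} (H : C.Mov τ h) : C.IsTen h :=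
  ⟨_, _, H.ten⟩

variable (C)

theorem mov_uB (v : Fin n₂ → F) (c : F) : C.Mov (C.tvB v c) (C.uB v c) :=
  ⟨C.uB_ten v c, C.tvB_iso v c, Subgroup.subset_closure ⟨v, c, rfl⟩⟩

theorem exists_move_nonorth {b b' : Fin n₂ → F} (h : C.g b b' ≠ 0) :
    ∃ τ u, C.Mov τ u ∧ τ b = b' ∧ ∀ y, C.g y b = 0 → C.g y b' = 0 → τ y = y := by
  refine ⟨_, _, C.mov_uB (b' - b) (C.g b b')⁻¹, ?_, fun y h1 h2 => ?_⟩
  · rw [tvB_apply, map_sub, C.galt, sub_zero, inv_mul_cancel₀ h, one_smul, add_sub_cancel]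
  · rw [tvB_apply, map_sub, h1, h2, sub_zero, mul_zero, zero_smul, add_zero]

/-- Two non-zero vectors have a common partner. -/
theorem exists_both {W : Submodule F (Fin n₂ → F)} {b b' : Fin n₂ → F} (hb : b ∉ W) (hb' : b' ∉ W) :
    ∃ z, (∀ w ∈ W, C.g w z = 0) ∧ C.g b z ≠ 0 ∧ C.g b' z ≠ 0 := by
  obtain ⟨z, hzW, hz⟩ := C.exists_pair hb
  obtain ⟨z', hzW', hz'⟩ := C.exists_pair hb'
  by_cases h1 : C.g b' z = 0
  · by_cases h2 : C.g b z' = 0
    · exact ⟨z + z', fun w hw => by rw [map_add, hzW w hw, hzW' w hw, add_zero],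
        by rw [map_add, hz, h2, add_zero]; exact one_ne_zero,
        by rw [map_add, h1, hz', zero_add]; exact one_ne_zero⟩
    · exact ⟨z', hzW', h2, by rw [hz']; exact one_ne_zero⟩
  · exact ⟨z, hzW, by rw [hz]; exact one_ne_zero, h1⟩

theorem exists_move {b b' : Fin n₂ → F} (hb : b ≠ 0) (hb' : b' ≠ 0) :
    ∃ τ u, C.Mov τ u ∧ τ b = b' := by
  obtain ⟨z, -, hz, hz'⟩ := C.exists_both (W := ⊥) (by simpa using hb) (by simpa using hb')
  obtain ⟨τ, u, hu, h1, -⟩ := C.exists_move_nonorth hz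
  obtain ⟨τ', u', hu', h1', -⟩ := C.exists_move_nonorth (b := z) (b' := b')
    (by rw [C.g_skew]; exact neg_ne_zero.2 hz')
  exact ⟨_, _, hu'.mul hu, by rw [LinearEquiv.trans_apply, h1, h1']⟩

/-- An orthogonal independent pair. -/
def Pr (b β : Fin n₂ → F) : Prop := b ≠ 0 ∧ C.g b β = 0 ∧ β ∉ F ∙ b

variable {C}

theorem Pr.left {b β : Fin n₂ → F} (h : C.Pr b β) : b ≠ 0 := h.1

theorem Pr.orth {b β : Fin n₂ → F} (h : C.Pr b β) : C.g b β = 0 := h.2.1

theorem Pr.right {b β : Fin n₂ → F} (h : C.Pr b β) : β ≠ 0 :=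
  fun h0 => h.2.2 (by rw [h0]; exact Submodule.zero_mem _)

theorem Pr.swap {b β : Fin n₂ → F} (h : C.Pr b β) : C.Pr β b := by
  refine ⟨h.right, C.g_zero_comm h.orth, fun hb => h.2.2 ?_⟩
  obtain ⟨c, rfl⟩ := Submodule.mem_span_singleton.1 hb
  have hc : c ≠ 0 := fun h0 => h.left (by rw [h0, zero_smul])
  exact Submodule.mem_span_singleton.2 ⟨c⁻¹, by rw [smul_smul, inv_mul_cancel₀ hc, one_smul]⟩

theorem Pr.smul {b β : Fin n₂ → F} (h : C.Pr b β) {c : F} (hc : c ≠ 0) : C.Pr b (c • β) := by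
  refine ⟨h.left, by rw [map_smul, h.orth, smul_zero], fun hm => h.2.2 ?_⟩
  have := (F ∙ b).smul_mem c⁻¹ hm
  rwa [smul_smul, inv_mul_cancel₀ hc, one_smul] at this

theorem Mov.pr {τ : (Fin n₂ → F) ≃ₗ[F] (Fin n₂ → F)} {u : IsoGrp Q} (H : C.Mov τ u)
    {b β : Fin n₂ → F} (h : C.Pr b β) : C.Pr (τ b) (τ β) := by
  refine ⟨fun h0 => h.left (τ.map_eq_zero_iff.1 h0), by rw [H.iso, h.orth], fun hm => h.2.2 ?_⟩
  obtain ⟨c, hc⟩ := Submodule.mem_span_singleton.1 hm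
  exact Submodule.mem_span_singleton.2 ⟨c, τ.injective (by rw [map_smul, hc])⟩

theorem Pr.exists_move {b β b' β' : Fin n₂ → F} (h : C.Pr b β) (h' : C.Pr b' β') :
    ∃ τ u, C.Mov τ u ∧ τ b = b' ∧ τ β = β' := by
  obtain ⟨τ, u, hu, h1⟩ := C.exists_move h.left h'.left
  have h2 : C.Pr b' (τ β) := h1 ▸ hu.pr h
  obtain ⟨z, hzW, hz, hz'⟩ := C.exists_both h2.2.2 h'.2.2
  have hbz : C.g b' z = 0 := hzW b' (Submodule.mem_span_singleton_self b')
  obtain ⟨τ₁, u₁, hu₁, e1, f1⟩ := C.exists_move_nonorth hz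
  obtain ⟨τ₂, u₂, hu₂, e2, f2⟩ := C.exists_move_nonorth (b := z) (b' := β')
    (by rw [C.g_skew]; exact neg_ne_zero.2 hz')
  refine ⟨_, _, hu₂.mul (hu₁.mul hu), ?_, ?_⟩
  · rw [LinearEquiv.trans_apply, LinearEquiv.trans_apply, h1, f1 b' h2.orth hbz,
      f2 b' hbz h'.orth]
  · rw [LinearEquiv.trans_apply, LinearEquiv.trans_apply, e1, e2]

variable (C)

theorem exists_pr (h : 5 ≤ n₂) {b : Fin n₂ → F} (hb : b ≠ 0) : ∃ β, C.Pr b β := by
  obtain ⟨e, he, -, hne⟩ := C.exists_perp_pair h b b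
  exact ⟨e, hb, he, fun hm => hne (Submodule.span_mono (by simp) hm)⟩

variable {C}

theorem ee_mul_of_orth (X : (Fin n₁ → F) →ₗ[F] (Fin n₁ → F)) {b β β' : Fin n₂ → F}
    (h : C.g b β = 0) (h' : C.g b β' = 0) (hββ : C.g β β' = 0) :
    C.ee X b β * C.ee X b β' = C.ee X b (β + β') :=
  ext_ap fun x => by
    simp only [ap_mul, ee_ap _ h, ee_ap _ h',
      ee_ap _ (show C.g b (β + β') = 0 by rw [map_add, h, h', add_zero]), map_add, C.pr_t, C.galt, h,
      C.g_zero_comm h', C.g_zero_comm hββ, C.g_zero_comm h, zero_smul, map_zero, add_zero,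
      LinearMap.add_apply, LinearMap.zero_apply]
    abel

/-! ### membership in `Ω` -/

/-- A shear with totally singular image is a product of Eichler transformations. -/
theorem shear_mem_eichGen (hnd : Q.polarBilin.Nondegenerate) :
    ∀ (k : ℕ) (D : (ι → F) →ₗ[F] (ι → F)), finrank F (LinearMap.range D) ≤ k →
      (∀ x, D (D x) = 0) → (∀ x, Q (D x) = 0) → (∀ x, polar ⇑Q x (D x) = 0) →
      shear Q D ∈ eichGen Q := by
  intro k
  induction k with
  | zero =>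
    intro D hk hDD hQD hpD
    have hD : D = 0 := LinearMap.range_eq_bot.1 (Submodule.finrank_eq_zero.1 (by omega))
    have : shear Q D = 1 := ext_ap fun x => by
      rw [shear_ap hDD (fun x => by rw [Q_add, hQD, hpD, add_zero, add_zero]), hD, ap_one,
        LinearMap.zero_apply, add_zero]
    rw [this]; exact one_mem _
  | succ k ih =>
    intro D hk hDD hQD hpD
    have hiso : ∀ x, Q (x + D x) = Q x := fun x => by rw [Q_add, hQD, hpD, add_zero, add_zero]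
    by_cases hD : D = 0
    · have : shear Q D = 1 := ext_ap fun x => by
        rw [shear_ap hDD hiso, hD, ap_one, LinearMap.zero_apply, add_zero]
      rw [this]; exact one_mem _
    obtain ⟨x0, hx0⟩ : ∃ x0, D x0 ≠ 0 := by
      by_contra! hall
      exact hD (LinearMap.ext hall)
    have skew : ∀ x y, polar ⇑Q x (D y) = - polar ⇑Q (D x) y := by
      intro x y
      have := hpD (x + y)
      rw [map_add, pl_add_left, pl_add_right, pl_add_right, hpD, hpD, zero_add, add_zero] at this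
      rw [pl_comm Q (D x) y]
      linear_combination this
    have horth : ∀ x y, polar ⇑Q (D x) (D y) = 0 := fun x y => by
      have := hQD (x + y)
      rwa [map_add, Q_add, hQD, hQD, zero_add, zero_add] at this
    obtain ⟨y, hy⟩ := exists_polar_ne hnd hx0
    set u := D x0 with hu
    set v := D ((polar ⇑Q u y)⁻¹ • y) with hv
    have hx0v : polar ⇑Q v x0 = -1 := by
      rw [pl_comm, hv, skew, ← hu, pl_smul_right, inv_mul_cancel₀ hy]
    have hQu : Q u = 0 := hQD _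
    have huv : polar ⇑Q u v = 0 := horth _ _
    let R : (ι → F) →ₗ[F] (ι → F) := (Q.polarBilin u).smulRight v - (Q.polarBilin v).smulRight u
    have hR : ∀ x, R x = polar ⇑Q u x • v - polar ⇑Q v x • u := fun x => rfl
    set D' := D - R with hD'
    have hsub : ∀ x, ∃ z, D' x = D z := fun x =>
      ⟨x - (polar ⇑Q u x • ((polar ⇑Q u y)⁻¹ • y) - polar ⇑Q v x • x0), by
        simp [hD', hR, hu, hv]⟩
    have hD'D' : ∀ x, D' (D' x) = 0 := fun x => by
      obtain ⟨z, hz⟩ := hsub x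
      rw [hz, hD', LinearMap.sub_apply, hDD, hR, pl_comm Q u, pl_comm Q v, hu, hv, horth, horth]
      simp
    have hQD' : ∀ x, Q (D' x) = 0 := fun x => by obtain ⟨z, hz⟩ := hsub x; rw [hz, hQD]
    have hpD' : ∀ x, polar ⇑Q x (D' x) = 0 := fun x => by
      rw [hD', LinearMap.sub_apply, pl_sub_right, hpD, hR, pl_sub_right, pl_smul_right, pl_smul_right,
        pl_comm Q x u, pl_comm Q x v]
      ring
    have hx0' : D' x0 = 0 := by
      rw [hD', LinearMap.sub_apply, hR, ← hu, hx0v, show polar ⇑Q u x0 = 0 by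
        rw [pl_comm, hu]; exact hpD x0]
      simp
    have hlt : finrank F (LinearMap.range D') < finrank F (LinearMap.range D) := by
      refine Submodule.finrank_lt_finrank_of_lt (lt_of_le_of_ne ?_ fun he => ?_)
      · rintro _ ⟨x, rfl⟩
        obtain ⟨z, hz⟩ := hsub x
        exact ⟨z, hz.symm⟩
      · obtain ⟨x, hx⟩ : v ∈ LinearMap.range D' := by rw [he]; exact ⟨_, rfl⟩
        have h2 : polar ⇑Q x0 (D' x) = 0 := by
          have := hpD' (x0 + x)
          rw [map_add, hx0', zero_add, pl_add_left, hpD', add_zero] at this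
          exact this
        rw [hx, pl_comm, hx0v] at h2
        exact one_ne_zero (α := F) (neg_eq_zero.1 h2)
    have h1 := ih D' (by omega) hD'D' hQD' hpD'
    have h2 : eich Q u v * shear Q D' = shear Q D := ext_ap fun x => by
      obtain ⟨z, hz⟩ := hsub x
      rw [ap_mul, shear_ap hD'D' (fun x => by rw [Q_add, hQD', hpD', add_zero, add_zero]),
        shear_ap hDD hiso, eich_ap hQu huv, hQD, zero_mul, add_zero, pl_add_right, pl_add_right,
        show polar ⇑Q u (D' x) = 0 by rw [hz]; exact horth _ _,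
        show polar ⇑Q v (D' x) = 0 by rw [hz]; exact horth _ _, add_zero, add_zero, hD',
        LinearMap.sub_apply, hR]
      abel
    rw [← h2]
    exact mul_mem (eich_mem_eichGen u v) h1

theorem uB_mem_eichGen (hnd : Q.polarBilin.Nondegenerate) (b : Fin n₂ → F) (c : F) :
    C.uB b c ∈ eichGen Q :=
  shear_mem_eichGen hnd _ _ le_rfl (fun x => by simp [C.pr_t, C.galt])
    (fun x => by simp [Q_smul, C.pure]) (fun x => by simp [pl_smul_right, C.polar_t, C.falt])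

theorem Mov.mem_eichGen (hnd : Q.polarBilin.Nondegenerate) {τ : (Fin n₂ → F) ≃ₗ[F] (Fin n₂ → F)}
    {u : IsoGrp Q} (H : C.Mov τ u) : u ∈ eichGen Q :=
  ((Subgroup.closure_le _).2 (by rintro _ ⟨v, c, rfl⟩; exact uB_mem_eichGen hnd v c)) H.mem

end SS

end Cfsg.Agent.C4
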