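import Cfsg.Agent.Lib.C4.SympBase

/-!
# Generation of `Ω` from a tensor stabiliser and one root element

* `Ovr C M` : `M` contains the left and right transvection factors
* `omega_le_of_e0` : all `eich (a ⊗ b) (a ⊗ b')` with `g b b' = 0` give `Ω`
* `omega_le_of_root` : one `eich (a ⊗ b) (a' ⊗ b)` with `f a a' = 0` gives `Ω`
-/

set_option autoImplicit false
set_option linter.unusedSectionVars false
set_option linter.unusedSimpArgs false

namespace Cfsg.Agent.C4

open Cfsg Matrix Module Cfsg.Agent.Orth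
open QuadraticMap (polar)

variable {ι : Type} [Fintype ι] [DecidableEq ι] {F : Type*} [Field F] [Fintype F]
variable {Q : QuadraticForm F (ι → F)} {n₁ n₂ : ℕ}

/-! ### Eichler calculus -/

theorem eich_flip {u w : ι → F} (hu : Q u = 0) (hw : Q w = 0) (h : polar ⇑Q u w = 0) :
    eich Q u w = eich Q w (-u) :=
  ext_ap fun x => by
    rw [eich_ap hu h, eich_ap hw (by rw [pl_neg_right, pl_comm, h, neg_zero]), QuadraticMap.map_neg, hu,
      hw, pl_neg_left]
    module

theorem eich_mem_flip {M : Subgroup (IsoGrp Q)} {u w : ι → F} (hu : Q u = 0) (hw : Q w = 0)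
    (h : polar ⇑Q u w = 0) (hm : eich Q u w ∈ M) : eich Q w u ∈ M := by
  have := inv_mem hm
  rwa [eich_flip hu hw h, eich_inv, neg_neg] at this

theorem eich_zero_left (w : ι → F) : eich Q 0 w = 1 := by
  rw [← zero_smul F (0 : ι → F), eich_smul_left, zero_smul, eich_zero]

/-- Two root elements with exactly one non-zero pairing produce a third. -/
theorem eich_chain {M : Subgroup (IsoGrp Q)} {x y z w : ι → F} (hx : Q x = 0) (hy : Q y = 0)
    (hz : Q z = 0) (hw : Q w = 0) (hxy : polar ⇑Q x y = 0) (hzw : polar ⇑Q z w = 0)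
    (hxz : polar ⇑Q x z = 0) (hxw : polar ⇑Q x w = 0) (hyw : polar ⇑Q y w = 0)
    (hyz : polar ⇑Q y z = 1) (h1 : eich Q x y ∈ M) (h2 : eich Q z w ∈ M) : eich Q w x ∈ M := by
  have hz' : ap (eich Q x y) z = z - x := by
    rw [eich_ap hx hxy, hxz, hyz, hy]; module
  have hw' : ap (eich Q x y) w = w := by
    rw [eich_ap hx hxy, hxw, hyw, hy]; module
  have h3 := mul_mem (mul_mem (mul_mem h1 h2) (inv_mem h1)) (inv_mem h2)
  rw [conj_eich, hz', hw', eich_flip (by rw [Q_sub, hz, hx, pl_comm Q z x, hxz]; ring) hw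
      (by rw [pl_sub_left, hzw, hxw, sub_zero]), eich_flip hz hw hzw, eich_inv,
    eich_add hw (by rw [pl_neg_right, pl_sub_right, pl_comm Q w z, hzw, pl_comm Q w x, hxw]; simp)
      (by rw [neg_neg, pl_comm, hzw]), show -(z - x) + -(-z) = x by abel] at h3
  exact h3

namespace SS

variable (C : SS Q n₁ n₂) (M : Subgroup (IsoGrp Q))

/-- `M` contains all `1 ⊗ τ` and `σ ⊗ 1` for products of transvections. -/
structure Ovr : Prop where
  right : ∀ τ u, C.Mov τ u → u ∈ M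
  left : ∀ σ u, C.swap.Mov σ u → u ∈ M

/-- All `eich (a ⊗ b) (a ⊗ b')` with `b ⊥ b'`. -/
def E0 : Prop := ∀ a b b', C.g b b' = 0 → eich Q (C.t a b) (C.t a b') ∈ M

variable {C M}

theorem typeII (h5 : 5 ≤ n₂) (h0 : C.E0 M) (a d : Fin n₁ → F) (b b' : Fin n₂ → F)
    (hb : C.g b b' = 0) : eich Q (C.t a b) (C.t d b') ∈ M := by
  have main : ∀ (a d : Fin n₁ → F) (b b' : Fin n₂ → F), C.g b b' = 0 → C.f a d ≠ 0 →
      eich Q (C.t d b') (C.t a b) ∈ M := by
    intro a d b b' hb had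
    obtain ⟨e, e', h1, h2, h3, h4, h5'⟩ := C.exists_hyp_perp h5 b b'
    refine eich_chain (x := C.t a b) (y := C.t a e) (z := C.t d ((C.f a d)⁻¹ • e')) (w := C.t d b')
      (C.pure _ _) (C.pure _ _) (C.pure _ _) (C.pure _ _) ?_ ?_ ?_ ?_ ?_ ?_ (h0 a b e h1)
      (h0 d _ b' (by rw [map_smul, LinearMap.smul_apply, C.g_zero_comm h4, smul_zero]))
    all_goals rw [C.pol]
    · rw [C.falt, zero_mul]
    · rw [C.falt, zero_mul]
    · rw [map_smul, h3, smul_zero, mul_zero]
    · rw [hb, mul_zero]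
    · rw [C.g_zero_comm h2, mul_zero]
    · rw [map_smul, smul_eq_mul, h5', mul_one, mul_inv_cancel₀ had]
  by_cases had : C.f a d = 0
  · rcases eq_or_ne a 0 with rfl | ha
    · rw [map_zero, LinearMap.zero_apply, eich_zero_left]; exact one_mem M
    obtain ⟨d1, hd1⟩ := C.swap.exists_dual ha
    have hd1' : C.f a d1 ≠ 0 := by rw [show C.f a d1 = 1 from hd1]; exact one_ne_zero
    have e1 := eich_mem_flip (C.pure _ _) (C.pure _ _)
      (by rw [C.pol, C.g_zero_comm hb, mul_zero]) (main a d1 b b' hb hd1')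
    have e2 := eich_mem_flip (C.pure _ _) (C.pure _ _)
      (by rw [C.pol, C.g_zero_comm hb, mul_zero]) (main a (d - d1) b b' hb
        (by rw [map_sub, had, zero_sub]; exact neg_ne_zero.2 hd1'))
    have := mul_mem e1 e2
    rwa [eich_add (C.pure _ _) (by rw [C.pol, hb, mul_zero]) (by rw [C.pol, hb, mul_zero]),
      ← LinearMap.add_apply, ← map_add, add_sub_cancel] at this
  · exact eich_mem_flip (C.pure _ _) (C.pure _ _) (by rw [C.pol, C.g_zero_comm hb, mul_zero])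
      (main a d b b' hb had)

theorem typeI (h5 : 5 ≤ n₂) (h0 : C.E0 M) (a d : Fin n₁ → F) (b b' : Fin n₂ → F)
    (had : C.f a d = 0) : eich Q (C.t a b) (C.t d b') ∈ M := by
  by_cases hb : C.g b b' = 0
  · exact typeII h5 h0 a d b b' hb
  rcases eq_or_ne a 0 with rfl | ha
  · rw [map_zero, LinearMap.zero_apply, eich_zero_left]; exact one_mem M
  obtain ⟨c, hc⟩ := C.swap.exists_dual ha
  have hc' : C.f a c = 1 := hc
  obtain ⟨e, e', h1, h2, h3, h4, h5'⟩ := C.exists_hyp_perp h5 b b'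
  refine eich_mem_flip (C.pure _ _) (C.pure _ _) (by rw [C.pol, C.f_zero_comm had, zero_mul])
    (eich_chain (x := C.t a b) (y := C.t a e) (z := C.t c e') (w := C.t d b')
      (C.pure _ _) (C.pure _ _) (C.pure _ _) (C.pure _ _) ?_ ?_ ?_ ?_ ?_ ?_
      (h0 a b e h1) (typeII h5 h0 c d e' b' (C.g_zero_comm h4)))
  all_goals rw [C.pol]
  · rw [C.falt, zero_mul]
  · rw [C.g_zero_comm h4, mul_zero]
  · rw [h3, mul_zero]
  · rw [had, zero_mul]
  · rw [had, zero_mul]
  · rw [hc', h5', one_mul]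

theorem omega_le_of_e0 (hG : Good Q) (hcard : 5 ≤ Fintype.card ι) (hn₁ : 0 < n₁) (h5 : 5 ≤ n₂)
    (h0 : C.E0 M) : Omega F ⇑Q ≤ M := by
  classical
  have key : ∀ (a0 a1 : Fin n₁ → F) (b0 b1 : Fin n₂ → F), C.f a0 a1 = 1 → C.g b0 b1 = 1 →
      ∀ w, polar ⇑Q (C.t a0 b0) w = 0 → eich Q (C.t a0 b0) w ∈ M := by
    intro a0 a1 b0 b1 hf hg w hw
    let e := C.t a0 b0
    let f := C.t a1 b1
    let S : Set (ι → F) := {z | polar ⇑Q e z = 0 ∧ eich Q e z ∈ M}
    have hadd : ∀ z z', z ∈ S → z' ∈ S → z + z' ∈ S := fun z z' hz hz' =>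
      ⟨by rw [pl_add_right, hz.1, hz'.1, add_zero], by
        rw [← eich_add (C.pure _ _) hz.1 hz'.1]; exact mul_mem hz.2 hz'.2⟩
    let L : (ι → F) → (ι → F) := fun z => z - polar ⇑Q e z • f
    have hall : ∀ z, ∀ c : F, L (c • z) ∈ S := by
      intro z
      have hz : z ∈ Submodule.span F {x | ∃ a b, C.t a b = x} := by rw [C.spn]; trivial
      induction hz using Submodule.span_induction with
      | mem x hx =>
        obtain ⟨a, b, rfl⟩ := hx
        intro c
        rw [← LinearMap.smul_apply, ← map_smul]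
        generalize c • a = a'
        have hp : polar ⇑Q e (C.t a' b) = C.f a0 a' * C.g b0 b := C.pol _ _ _ _
        have e1 : L (C.t a' b) = C.t (a' - C.f a0 a' • a1) b +
            C.t (C.f a0 a' • a1) (b - C.g b0 b • b1) := by
          show C.t a' b - polar ⇑Q e (C.t a' b) • C.t a1 b1 = _
          rw [hp]
          simp only [map_sub, map_smul, LinearMap.sub_apply, LinearMap.smul_apply]
          module
        rw [e1]
        have hA : C.f a0 (a' - C.f a0 a' • a1) = 0 := by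
          rw [map_sub, map_smul, hf, smul_eq_mul, mul_one, sub_self]
        have hB : C.g b0 (b - C.g b0 b • b1) = 0 := by
          rw [map_sub, map_smul, hg, smul_eq_mul, mul_one, sub_self]
        exact hadd _ _ ⟨by rw [C.pol, hA, zero_mul], typeI h5 h0 _ _ _ _ hA⟩
          ⟨by rw [C.pol, hB, mul_zero], typeII h5 h0 _ _ _ _ hB⟩
      | zero =>
        intro c
        refine ⟨by simp [L], ?_⟩
        simp only [L, smul_zero, pl_zero_right, zero_smul, sub_zero, eich_zero]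
        exact one_mem M
      | add x y _ _ hx hy =>
        intro c
        have e1 : L (c • (x + y)) = L (c • x) + L (c • y) := by
          simp only [L, smul_add, pl_add_right, add_smul]; abel
        rw [e1]; exact hadd _ _ (hx c) (hy c)
      | smul r x _ hx => intro c; rw [smul_smul]; exact hx _
    have := (hall w 1).2
    simp only [L, one_smul] at this
    rwa [show polar ⇑Q e w = 0 from hw, zero_smul, sub_zero] at this
  have ha : (Pi.single ⟨0, hn₁⟩ 1 : Fin n₁ → F) ≠ 0 := by simp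
  obtain ⟨a1, ha1⟩ := C.swap.exists_dual ha
  have hb : (Pi.single ⟨0, by omega⟩ 1 : Fin n₂ → F) ≠ 0 := by simp
  obtain ⟨b1, hb1⟩ := C.exists_dual hb
  have hf : C.f (Pi.single ⟨0, hn₁⟩ 1) a1 = 1 := ha1
  have hp : HPair Q (C.t (Pi.single ⟨0, hn₁⟩ 1) (Pi.single ⟨0, by omega⟩ 1)) (C.t a1 b1) :=
    ⟨C.pure _ _, C.pure _ _, by rw [C.pol, hf, hb1, mul_one]⟩
  rw [omega_eq_eichPair hG (by omega) (.inr hcard) hp, eichPair, Subgroup.closure_le]
  rintro _ ⟨w, hw, rfl | rfl⟩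
  · exact key _ _ _ _ hf hb1 w (mem_perp.1 hw).1
  · refine key a1 (-(Pi.single ⟨0, hn₁⟩ 1)) b1 (-(Pi.single ⟨0, by omega⟩ 1)) ?_ ?_ w (mem_perp.1 hw).2
    · rw [map_neg, C.f_skew, neg_neg, hf]
    · rw [map_neg, C.g_skew, neg_neg, hb1]

/-! ### conjugating root elements -/

theorem conj_root (hM : C.Ovr M) {τ : (Fin n₂ → F) ≃ₗ[F] (Fin n₂ → F)} {u : IsoGrp Q}
    (hu : C.Mov τ u) {a a' : Fin n₁ → F} {b b' : Fin n₂ → F}
    (h : eich Q (C.t a b) (C.t a' b') ∈ M) : eich Q (C.t a (τ b)) (C.t a' (τ b')) ∈ M := by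
  have h1 := mul_mem (mul_mem (hM.right _ _ hu) h) (inv_mem (hM.right _ _ hu))
  rwa [conj_eich, hu.ten, hu.ten] at h1

theorem conj_root_left (hM : C.Ovr M) {σ : (Fin n₁ → F) ≃ₗ[F] (Fin n₁ → F)} {u : IsoGrp Q}
    (hu : C.swap.Mov σ u) {a a' : Fin n₁ → F} {b b' : Fin n₂ → F}
    (h : eich Q (C.t a b) (C.t a' b') ∈ M) : eich Q (C.t (σ a) b) (C.t (σ a') b') ∈ M := by
  have h1 := mul_mem (mul_mem (hM.left _ _ hu) h) (inv_mem (hM.left _ _ hu))
  have hten : ∀ p q, ap u (C.t p q) = C.t (σ p) q := fun p q => hu.ten q p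
  rwa [conj_eich, hten, hten] at h1

theorem e0_of_one (hM : C.Ovr M) {a : Fin n₁ → F} (ha : a ≠ 0)
    (h : ∀ b b', C.g b b' = 0 → eich Q (C.t a b) (C.t a b') ∈ M) : C.E0 M := by
  intro a' b b' hb
  rcases eq_or_ne a' 0 with rfl | ha'
  · rw [map_zero, LinearMap.zero_apply, eich_zero_left]; exact one_mem M
  obtain ⟨σ, u, hu, rfl⟩ := C.swap.exists_move ha ha'
  exact conj_root_left hM hu (h b b' hb)

theorem omega_le_of_root (hG : Good Q) (hcard : 5 ≤ Fintype.card ι) (hn₁ : 0 < n₁) (h5 : 5 ≤ n₂)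
    (hM : C.Ovr M) {a a' : Fin n₁ → F} {b : Fin n₂ → F} (hb : b ≠ 0) (ha : a ≠ 0)
    (haa : C.f a a' = 0) (hne : a' ∉ F ∙ a) (h : eich Q (C.t a b) (C.t a' b) ∈ M) :
    Omega F ⇑Q ≤ M := by
  have s1 : ∀ b, eich Q (C.t a b) (C.t a' b) ∈ M := fun b' => by
    rcases eq_or_ne b' 0 with rfl | hb'
    · rw [map_zero, eich_zero_left]; exact one_mem M
    obtain ⟨τ, u, hu, rfl⟩ := C.exists_move hb hb'
    exact conj_root hM hu h
  have s2 : ∀ c, C.f a c = 0 → C.f a' c ≠ 0 → ∀ b, eich Q (C.t a b) (C.t c b) ∈ M := by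
    intro c hc hc' b
    obtain ⟨σ, u, hu, h1, hfix⟩ := C.swap.exists_move_nonorth (b := a') (b' := c) hc'
    have h2 := conj_root_left hM hu (s1 b)
    rwa [h1, hfix a haa hc] at h2
  obtain ⟨c0, hc0, hc0'⟩ := C.swap.exists_pair (W := F ∙ a) hne
  have hac : C.f a c0 = 0 := hc0 a (Submodule.mem_span_singleton_self a)
  have hac' : C.f a' c0 = 1 := hc0'
  refine omega_le_of_e0 hG hcard hn₁ h5 (e0_of_one hM ha ?_)
  have s4 : ∀ b b', C.g b b' ≠ 0 → eich Q (C.t a b) (C.t a b') ∈ M := by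
    intro b b' hbb
    refine eich_mem_flip (C.pure _ _) (C.pure _ _) (by rw [C.pol, C.falt, zero_mul])
      (eich_chain (x := C.t a b) (y := C.t a' b) (z := C.t ((C.g b b')⁻¹ • c0) b') (w := C.t a b')
        (C.pure _ _) (C.pure _ _) (C.pure _ _) (C.pure _ _) ?_ ?_ ?_ ?_ ?_ ?_ (s1 b)
        (eich_mem_flip (C.pure _ _) (C.pure _ _) ?_ (s2 _ ?_ ?_ b')))
    · rw [C.pol, haa, zero_mul]
    · rw [C.pol, map_smul, LinearMap.smul_apply, C.f_zero_comm hac, smul_zero, zero_mul]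
    · rw [C.pol, map_smul, hac, smul_zero, zero_mul]
    · rw [C.pol, C.falt, zero_mul]
    · rw [C.pol, C.f_zero_comm haa, zero_mul]
    · rw [C.pol, map_smul, hac', smul_eq_mul, mul_one, inv_mul_cancel₀ hbb]
    · rw [C.pol, map_smul, hac, smul_zero, zero_mul]
    · rw [map_smul, hac, smul_zero]
    · rw [map_smul, hac', smul_eq_mul, mul_one]; exact inv_ne_zero hbb
  intro b b' hbb
  rcases eq_or_ne b 0 with rfl | hb'
  · rw [map_zero, eich_zero_left]; exact one_mem M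
  obtain ⟨z, hz⟩ := C.exists_dual hb'
  have := mul_mem (s4 b z (by rw [hz]; exact one_ne_zero))
    (s4 b (b' - z) (by rw [map_sub, hbb, hz, zero_sub]; exact neg_ne_zero.2 one_ne_zero))
  rwa [eich_add (C.pure _ _) (by rw [C.pol, C.falt, zero_mul]) (by rw [C.pol, C.falt, zero_mul]),
    ← map_add, add_sub_cancel] at this

end SS

end Cfsg.Agent.C4
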