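import Cfsg.Agent.Lib.C4.SympStab
import Cfsg.Agent.Lib.Orth.Geo
import Cfsg.Agent.Lib.Orth.TensorTwo
import Cfsg.Agent.Lib.Linear.AltObstruction

/-!
# The stabiliser of `Sp ⊗ Sp` is maximal in `Ω`
-/

set_option autoImplicit false
set_option linter.unusedSectionVars false
set_option linter.unusedSimpArgs false

namespace Cfsg.Agent.C4

open Cfsg Matrix Module Cfsg.Agent.Orth
open QuadraticMap (polar)
open Cfsg.Agent.Transvect (tp tp_apply app app_apply exists_app_tp)

variable {ι : Type} [Fintype ι] [DecidableEq ι] {F : Type*} [Field F]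

/-- A coordinate form as a bilinear map. -/
def flin₂ {n : ℕ} {f : (Fin n → F) → (Fin n → F) → F} (hf : Geo.IsBilinearForm f) :
    (Fin n → F) →ₗ[F] (Fin n → F) →ₗ[F] F :=
  LinearMap.mk₂ F f (fun a b c => hf.add_left a b c) (fun r a b => hf.smul_left r a b)
    (fun a b c => hf.add_right a b c) (fun r a b => hf.smul_right r a b)

theorem nondeg_of_symplectic {n : ℕ} {f : (Fin n → F) → (Fin n → F) → F} (hf : Geo.IsSymplecticForm f)
    (a : Fin n → F) (h : ∀ a', f a a' = 0) : a = 0 := by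
  by_contra ha
  obtain ⟨-, y, hy⟩ := hf.nondegenerate a ha
  exact hy (h y)

theorem even_of_symplectic {n : ℕ} {f : (Fin n → F) → (Fin n → F) → F} (hf : Geo.IsSymplecticForm f) :
    Even n :=
  Linear.even_finrank_of_alt_nondeg n (flin₂ hf.bilinear) hf.alternating (nondeg_of_symplectic hf)
    (by rw [Module.finrank_fintype_fun_eq_card, Fintype.card_fin])

theorem span_tp {d t : ℕ} (e : ι ≃ Fin d × Fin t) (P : GL ι F) :
    Submodule.span F {x | ∃ a b, tp e P a b = x} = ⊤ := by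
  rw [eq_top_iff, ← ((Pi.basisFun F ι).map (app P)).span_eq, Submodule.span_le]
  rintro _ ⟨i, rfl⟩
  refine Submodule.subset_span ⟨Pi.single (e i).1 1, Pi.single (e i).2 1, ?_⟩
  rw [Basis.map_apply, Pi.basisFun_apply, tp_apply]
  congr 1
  funext j
  by_cases hji : j = i
  · subst hji; simp
  · rw [Pi.single_eq_of_ne hji]
    by_cases h1 : (e j).1 = (e i).1
    · rw [Pi.single_eq_of_ne (fun h2 => hji (e.injective (Prod.ext h1 h2))), mul_zero]
    · rw [Pi.single_eq_of_ne h1, zero_mul]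

variable [Fintype F]

/-- The stabiliser of a tensor product of two alternating spaces of different dimensions is maximal. -/
theorem isMaximalIn_symp_tensor {Q : QuadraticForm F (ι → F)} (hG : Good Q) {n₁ n₂ : ℕ}
    (hcard : 12 ≤ Fintype.card ι) (h12 : n₁ < n₂) (hex : ¬ (Fintype.card F = 2 ∧ n₁ = 2))
    (e : ι ≃ Fin n₁ × Fin n₂) (P : GL ι F) {f₁ : (Fin n₁ → F) → (Fin n₁ → F) → F}
    {f₂ : (Fin n₂ → F) → (Fin n₂ → F) → F} (hf₁ : Geo.IsSymplecticForm f₁)
    (hf₂ : Geo.IsSymplecticForm f₂) (hT : Geo.IsTensorFormStructure id (polar ⇑Q) f₁ f₂ e P)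
    (hpure : ∀ x v, Q (tp e P x v) = 0) :
    Geo.IsMaximalIn (Geo.omegaGL ⇑Q) (Geo.tensorProductSubgroup n₁ n₂ e P ⊓ Geo.omegaGL ⇑Q) := by
  classical
  obtain ⟨κ, hκ, htp⟩ := Transvect.form_tp (σ := id) (fun _ _ => rfl)
    (Aschbacher.FrameThree.fog_eq hf₁.bilinear) (Aschbacher.FrameThree.fog_eq hf₂.bilinear) hT
  have hn : n₁ * n₂ = Fintype.card ι := by rw [Fintype.card_congr e]; simp
  obtain ⟨k₁, hk₁⟩ := even_of_symplectic hf₁
  obtain ⟨k₂, hk₂⟩ := even_of_symplectic hf₂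
  have hpos : 0 < n₁ := by
    rcases Nat.eq_zero_or_pos n₁ with h | h
    · rw [h, zero_mul] at hn; omega
    · exact h
  have h5 : 5 ≤ n₂ := by
    by_contra hlt
    obtain rfl : n₂ = 4 := by omega
    obtain rfl : n₁ = 2 := by omega
    omega
  let C : SS Q n₁ n₂ :=
    { t := tp e P
      f := κ • flin₂ hf₁.bilinear
      g := flin₂ hf₂.bilinear
      falt := fun a => by simp [flin₂, hf₁.alternating]
      galt := hf₂.alternating
      fnd := fun a h => nondeg_of_symplectic hf₁ a fun a' =>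
        (mul_eq_zero.1 (by simpa [flin₂] using h a')).resolve_left hκ
      gnd := nondeg_of_symplectic hf₂
      pol := fun a b a' b' => by rw [htp, ← mul_assoc]; rfl
      pure := hpure
      spn := span_tp e P }
  have hH : ∀ g : IsoGrp Q, C.IsTen g →
      (g : GL ι F) ∈ Geo.tensorProductSubgroup n₁ n₂ e P := by
    rintro g ⟨σ, τ, hg⟩
    let mk : ∀ {k : ℕ}, ((Fin k → F) ≃ₗ[F] (Fin k → F)) → GL (Fin k) F := fun {k} σ =>
      ⟨LinearMap.toMatrix' σ.toLinearMap, LinearMap.toMatrix' σ.symm.toLinearMap,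
        by rw [← LinearMap.toMatrix'_comp, LinearEquiv.comp_coe, LinearEquiv.symm_trans_self]; simp,
        by rw [← LinearMap.toMatrix'_comp, LinearEquiv.comp_coe, LinearEquiv.self_trans_symm]; simp⟩
    have hmk : ∀ {k : ℕ} (σ : (Fin k → F) ≃ₗ[F] (Fin k → F)) a, app (mk σ) a = σ a := fun {k} σ a => by
      show LinearMap.toMatrix' σ.toLinearMap *ᵥ a = σ a
      rw [← Matrix.toLin'_apply, Matrix.toLin'_toMatrix']; rfl
    let T : GL ι F := Units.map (PrimeDim.cj P).toMonoidHom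
      ⟨Aschbacher.tens e (mk σ : Matrix (Fin n₁) (Fin n₁) F) (mk τ : Matrix (Fin n₂) (Fin n₂) F),
        Aschbacher.tens e (((mk σ)⁻¹ : GL (Fin n₁) F) : Matrix (Fin n₁) (Fin n₁) F)
          (((mk τ)⁻¹ : GL (Fin n₂) F) : Matrix (Fin n₂) (Fin n₂) F),
        by rw [Aschbacher.tens_mul, Units.mul_inv, Units.mul_inv, Aschbacher.tens_one],
        by rw [Aschbacher.tens_mul, Units.inv_mul, Units.inv_mul, Aschbacher.tens_one]⟩
    have hT' : (g : GL ι F) = T := by
      refine Transvect.gl_ext fun x => LinearMap.congr_fun (f := (app (g : GL ι F)).toLinearMap)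
        (g := (app T).toLinearMap) (tp_basis_ext e P fun a b => ?_) x
      have h1 := app_tp_of_eq (e := e) (P := P) (T := T) (A := mk σ) (B := mk τ) rfl
        (Pi.single a 1) (Pi.single b 1)
      rw [hmk, hmk] at h1
      exact (hg (Pi.single a 1) (Pi.single b 1)).trans h1.symm
    rw [hT', Aschbacher.mem_tensorProductSubgroup_iff]
    exact ⟨mk σ, mk τ, rfl⟩
  have hH' : ∀ g : IsoGrp Q, (g : GL ι F) ∈ Geo.tensorProductSubgroup n₁ n₂ e P → C.IsTen g := by
    intro g hg
    obtain ⟨A, B, h⟩ := exists_app_tp hg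
    exact ⟨app A, app B, fun a y => h a y⟩
  have hE : eichGen Q ≤ Omega F ⇑Q := eichGen_le_omega hG.nd (by omega) (.inr (by omega))
  refine Transvect.isMaximalIn_of_forall inf_le_right ?_ fun M hHM hMK g hg hgH => ?_
  · -- an element of `Ω` outside the stabiliser
    obtain ⟨b, hb⟩ : ∃ b : Fin n₂ → F, b ≠ 0 := ⟨Pi.single ⟨0, by omega⟩ 1, by simp⟩
    obtain ⟨b', hbb⟩ := C.exists_pr h5 hb
    obtain ⟨y, hy, hy'⟩ := C.exists_pair (W := F ∙ b') (e := b) hbb.swap.2.2
    have ha : (Pi.single ⟨0, hpos⟩ 1 : Fin n₁ → F) ≠ 0 := by simp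
    obtain ⟨α, hα⟩ := C.swap.exists_dual ha
    set a : Fin n₁ → F := Pi.single ⟨0, hpos⟩ 1
    have hα' : C.f a α = 1 := hα
    refine ⟨(eich Q (C.t a b) (C.t a b') : GL ι F),
      coe_mem_omegaGL.2 (hE (eich_mem_eichGen _ _)), fun hmem => ?_⟩
    obtain ⟨σ, τ, hten⟩ := hH' _ hmem.1
    have hby' : C.g b' y = 0 := hy b' (Submodule.mem_span_singleton_self b')
    have h1 : C.t (σ α) (τ y) = C.t α y + C.t a b' := by
      rw [← hten, eich_ap (C.pure _ _) (by rw [C.pol, C.falt, zero_mul]), C.pol, C.pol, C.pure,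
        hα', hy', hby']
      module
    obtain ⟨z, hz, hyz⟩ := C.exists_pair (W := F ∙ b') (e := y) fun hm => by
      obtain ⟨r, rfl⟩ := Submodule.mem_span_singleton.1 hm
      rw [map_smul, hbb.orth, smul_zero] at hy'
      exact zero_ne_one hy'
    obtain ⟨z', hz', hbz'⟩ := C.exists_pair (W := F ∙ y) (e := b') fun hm => by
      obtain ⟨r, hr⟩ := Submodule.mem_span_singleton.1 hm
      have h0 := hbb.orth
      rw [← hr, map_smul, hy', smul_eq_mul, mul_one] at h0
      exact hbb.right (by rw [← hr, h0, zero_smul])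
    have e1 := congrArg (C.pr z) h1
    have e2 := congrArg (C.pr z') h1
    rw [map_add, C.pr_t, C.pr_t, C.pr_t, hyz, hz b' (Submodule.mem_span_singleton_self b'), one_smul,
      zero_smul, add_zero] at e1
    rw [map_add, C.pr_t, C.pr_t, C.pr_t, hbz', hz' y (Submodule.mem_span_singleton_self y), one_smul,
      zero_smul, zero_add] at e2
    have h3 := congrArg (C.f a) e1
    have h4 := congrArg (C.f a) e2
    simp only [map_smul, C.falt, hα', smul_eq_mul] at h3 h4
    rcases mul_eq_zero.1 h4 with h5' | h5'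
    · rw [h5', zero_smul] at e2; exact ha e2.symm
    · rw [h5', mul_zero] at h3; exact zero_ne_one h3
  · -- an overgroup with a further element
    obtain ⟨g, hgΩ, rfl⟩ := mem_omegaGL_iff.1 (hMK hg)
    have hM : C.Ovr (M.comap (Cfsg.isometryGroup F ⇑Q).subtype) :=
      ⟨fun τ u hu => hHM ⟨hH u hu.isTen, coe_mem_omegaGL.2 (hE (hu.mem_eichGen hG.nd))⟩,
        fun σ u hu => hHM ⟨hH u ⟨σ, .refl F _, fun p q => hu.ten q p⟩,
          coe_mem_omegaGL.2 (hE (hu.mem_eichGen hG.nd))⟩⟩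
    have h1 : Cfsg.Omega F ⇑Q ≤ M.comap (Cfsg.isometryGroup F ⇑Q).subtype :=
      C.omega_le_of_not_isTen hG (by omega) hpos (by omega) h5 (fun h2 => by
          have := Fintype.one_lt_card (α := F)
          by_contra hq
          exact hex ⟨by omega, h2⟩)
        hM hg fun hten => hgH ⟨hH g hten, coe_mem_omegaGL.2 hgΩ⟩
    intro x hx
    obtain ⟨h, hh, rfl⟩ := mem_omegaGL_iff.1 hx
    exact h1 hh

end Cfsg.Agent.C4
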