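import Cfsg.Agent.Lib.C4.SympGen

/-!
# A proper overgroup meets the unipotent radical of a ruling stabiliser in the tensor part only

* `qlemma` : an element `x ↦ x + T (pr b x) ⊗ b` has scalar `T`
* `scalar_of_InX` : pairs `(X, dag X)` realised on all orthogonal pairs of rulings are scalars
* `ulemma` : an element fixing `A ⊗ b` pointwise moves `A ⊗ b^⊥` by scalars modulo `A ⊗ b`
-/

set_option autoImplicit false
set_option linter.unusedSectionVars false
set_option linter.unusedSimpArgs false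

namespace Cfsg.Agent.C4

open Cfsg Matrix Module Cfsg.Agent.Orth
open QuadraticMap (polar)

variable {ι : Type} [Fintype ι] [DecidableEq ι] {F : Type*} [Field F] [Fintype F]
variable {Q : QuadraticForm F (ι → F)} {n₁ n₂ : ℕ}

theorem scalar_of_lines {n : ℕ} (T : (Fin n → F) →ₗ[F] (Fin n → F)) (h : ∀ a, T a ∈ F ∙ a) :
    ∃ c : F, T = c • LinearMap.id := by
  by_cases h0 : ∀ a : Fin n → F, a = 0
  · exact ⟨0, LinearMap.ext fun a => by rw [h0 a, map_zero, map_zero]⟩
  push Not at h0
  obtain ⟨a0, ha0⟩ := h0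
  obtain ⟨c, hc⟩ := Submodule.mem_span_singleton.1 (h a0)
  refine ⟨c, LinearMap.ext fun a => ?_⟩
  rw [LinearMap.smul_apply, LinearMap.id_apply]
  obtain ⟨d, hd⟩ := Submodule.mem_span_singleton.1 (h a)
  by_cases hm : a ∈ F ∙ a0
  · obtain ⟨r, rfl⟩ := Submodule.mem_span_singleton.1 hm
    rw [map_smul, ← hc, smul_comm]
  · obtain ⟨e, he⟩ := Submodule.mem_span_singleton.1 (h (a0 + a))
    rw [map_add, ← hc, ← hd] at he
    have hlin : (e - c) • a0 + (e - d) • a = 0 := by
      rw [sub_smul, sub_smul, ← sub_eq_zero.2 he]; module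
    have hed : e - d = 0 := by
      by_contra hne
      exact hm (Submodule.mem_span_singleton.2 ⟨-((e - d)⁻¹ * (e - c)), by
        rw [neg_smul, mul_smul, eq_neg_of_add_eq_zero_left hlin, smul_neg, smul_smul,
          inv_mul_cancel₀ hne, one_smul, neg_neg]⟩)
    rw [hed, zero_smul, add_zero] at hlin
    have hec := (smul_eq_zero.1 hlin).resolve_right ha0
    rw [← hd, ← sub_eq_zero.1 hed, sub_eq_zero.1 hec]

namespace SS

variable (C : SS Q n₁ n₂) (M : Subgroup (IsoGrp Q))

/-- The standing hypotheses on a proper overgroup. -/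
structure Hyp : Prop where
  good : Good Q
  card : 5 ≤ Fintype.card ι
  pos : 0 < n₁
  five : 5 ≤ n₂
  ovr : C.Ovr M
  ns : ¬ Omega F ⇑Q ≤ M
  big : n₁ = 2 → 2 < Fintype.card F

/-- `X` is realised in `M` on every orthogonal pair of rulings. -/
def InX (X : (Fin n₁ → F) →ₗ[F] (Fin n₁ → F)) : Prop := ∀ b β, C.Pr b β → C.ee X b β ∈ M

variable {C M} (H : C.Hyp M)
include H

theorem qlemma {b : Fin n₂ → F} (hb : b ≠ 0) {T : (Fin n₁ → F) →ₗ[F] (Fin n₁ → F)} {m : IsoGrp Q}
    (hm : m ∈ M) (h : ∀ x, ap m x = x + C.t (T (C.pr b x)) b) : ∃ c : F, T = c • LinearMap.id := by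
  have halt : ∀ u, C.f u (T u) = 0 := fun u => by
    obtain ⟨x, rfl⟩ := C.pr_surj hb u
    have h1 := Q_ap m x
    rw [h, Q_add, C.pure, C.polar_t, add_zero, add_eq_left] at h1
    exact h1
  have hskew : ∀ u v, C.f (T u) v = C.f u (T v) := fun u v => by
    have h1 := halt (u + v)
    simp only [map_add, LinearMap.add_apply, halt, zero_add, add_zero] at h1
    rw [C.f_skew (T u) v]
    linear_combination -h1
  refine scalar_of_lines T fun a => ?_
  by_contra hne
  have ha : a ≠ 0 := fun h0 => hne (by rw [h0, map_zero]; exact Submodule.zero_mem _)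
  set s := C.swap.uB a 1
  set σ := C.swap.tvB a 1
  have hs : C.swap.Mov σ s := C.swap.mov_uB a 1
  have hsT : C.Ten σ (.refl F _) s := fun p q => hs.ten q p
  have hσ : ∀ u, σ u = u + C.f u a • a := fun u => by
    rw [show σ u = u + ((1 : F) * C.f u a) • a from rfl, one_mul]
  have hsm : s * m * s⁻¹ = (eich Q (C.t a b) (C.t (T a) b))⁻¹ * m := by
    rw [mul_inv_eq_iff_eq_mul]
    refine ext_ap fun x => ?_
    have hp : C.pr b (ap s x) = σ (C.pr b x) := hsT.pr_conj hs.iso b x
    simp only [ap_mul, eich_inv]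
    rw [h, map_add, hsT, h (ap s x), hp, LinearEquiv.refl_apply,
      eich_ap (C.pure _ _) (by rw [pl_neg_right, C.pol, halt, zero_mul, neg_zero]),
      QuadraticMap.map_neg, C.pure, pl_neg_left, pl_comm Q (C.t a b), pl_comm Q (C.t (T a) b),
      C.polar_t, C.polar_t]
    simp only [map_add, map_smul, hp, C.pr_t, C.galt, zero_smul, map_zero, hσ, LinearMap.add_apply,
      LinearMap.smul_apply, LinearMap.zero_apply, C.falt, halt, smul_eq_mul, mul_zero, add_zero, zero_mul,
      hskew (C.pr b x) a]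
    module
  have h1 := mul_mem (mul_mem (mul_mem (H.ovr.left _ _ hs) hm) (inv_mem (H.ovr.left _ _ hs))) (inv_mem hm)
  rw [hsm, mul_inv_cancel_right, inv_mem_iff] at h1
  exact H.ns (omega_le_of_root H.good H.card H.pos H.five H.ovr hb ha (halt a) hne h1)

theorem inX_of_one {X : (Fin n₁ → F) →ₗ[F] (Fin n₁ → F)} {b β : Fin n₂ → F} (hp : C.Pr b β)
    (h : C.ee X b β ∈ M) : C.InX M X := by
  intro b' β' hp'
  obtain ⟨τ, u, hu, rfl, rfl⟩ := hp.exists_move hp'
  have h1 := mul_mem (mul_mem (H.ovr.right _ _ hu) h) (inv_mem (H.ovr.right _ _ hu))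
  rwa [hu.ten.conj_ee (fun _ _ => rfl) X hp.orth hp'.orth] at h1

theorem inX_one : C.InX M LinearMap.id := by
  intro b β hp
  have h1 : ∀ v c, C.uB v c ∈ M := fun v c => H.ovr.right _ _ (C.mov_uB v c)
  have e1 : C.ee LinearMap.id b β = C.uB (b + β) 1 * C.uB b (-1) * C.uB β (-1) :=
    ext_ap fun x => by
      simp only [ap_mul, ee_ap _ hp.orth, uB_ap, map_add, map_smul, map_neg, LinearMap.add_apply,
        LinearMap.smul_apply, C.pr_t, C.galt, hp.orth, C.g_zero_comm hp.orth, C.dag_id, LinearMap.id_coe,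
        id_eq, zero_smul, smul_zero, map_zero, add_zero, LinearMap.zero_apply]
      module
  rw [e1]
  exact mul_mem (mul_mem (h1 _ _) (h1 _ _)) (h1 _ _)

theorem inX_add {X Y : (Fin n₁ → F) →ₗ[F] (Fin n₁ → F)} (hX : C.InX M X) (hY : C.InX M Y) :
    C.InX M (X + Y) := fun b β hp => by
  rw [← ee_add X Y hp.orth]; exact mul_mem (hX b β hp) (hY b β hp)

theorem inX_neg {X : (Fin n₁ → F) →ₗ[F] (Fin n₁ → F)} (hX : C.InX M X) : C.InX M (-X) :=
  fun b β hp => by rw [← ee_inv X hp.orth]; exact inv_mem (hX b β hp)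

theorem inX_sub {X Y : (Fin n₁ → F) →ₗ[F] (Fin n₁ → F)} (hX : C.InX M X) (hY : C.InX M Y) :
    C.InX M (X - Y) := by
  rw [sub_eq_add_neg]; exact inX_add H hX (inX_neg H hY)

theorem inX_smul {X : (Fin n₁ → F) →ₗ[F] (Fin n₁ → F)} (hX : C.InX M X) (c : F) :
    C.InX M (c • X) := fun b β hp => by
  rcases eq_or_ne c 0 with rfl | hc
  · rw [zero_smul, ee_zero hp.orth]; exact one_mem M
  · rw [← ee_smul X hp.orth c]; exact hX _ _ (hp.swap.smul hc).swap

theorem inX_dag {X : (Fin n₁ → F) →ₗ[F] (Fin n₁ → F)} (hX : C.InX M X) : C.InX M (C.dag X) :=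
  fun b β hp => by
    rw [← ee_swap (C.dag X) hp.orth, C.dag_dag]; exact hX β b hp.swap

theorem inX_comp {X Y : (Fin n₁ → F) →ₗ[F] (Fin n₁ → F)} (hX : C.InX M X) (hY : C.InX M Y) :
    C.InX M (X.comp Y) := fun b d hp => by
  obtain ⟨e, e', h1, h2, h3, h4, h5⟩ := C.exists_hyp_perp H.five b d
  -- `β = e'`, `g = e` with `g(g,β) = 1`
  have hpb : C.Pr b e' := ⟨hp.left, h3, fun hm => by
    obtain ⟨r, hr⟩ := Submodule.mem_span_singleton.1 hm
    rw [← hr, map_smul, C.g_zero_comm h1, smul_zero] at h5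
    exact zero_ne_one h5⟩
  have hpd : C.Pr e d := SS.Pr.swap (C := C) (b := d) (β := e) ⟨hp.right, h2, fun hm => by
    obtain ⟨r, hr⟩ := Submodule.mem_span_singleton.1 hm
    rw [← hr, map_smul, LinearMap.smul_apply, h4, smul_zero] at h5
    exact zero_ne_one h5⟩
  have key : C.ee X b e' * C.ee Y e d = C.ee (X.comp Y) b d * C.ee Y e d * C.ee X b e' :=
    ext_ap fun x => by
      simp only [ap_mul, ee_ap _ hpb.orth, ee_ap _ hpd.orth, ee_ap _ hp.orth, map_add, C.pr_t, C.galt,
        h1, h2, h3, h4, h5, hp.orth, C.g_zero_comm h1, C.g_zero_comm h2, C.g_zero_comm h3,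
        C.g_zero_comm h4, C.g_zero_comm hp.orth, C.g_skew e' e, neg_smul, one_smul, map_neg,
        C.dag_comp, LinearMap.comp_apply, zero_smul, smul_zero, map_zero, add_zero, zero_add,
        LinearMap.add_apply, LinearMap.neg_apply, LinearMap.zero_apply]
      abel
  have hA := hX b e' hpb
  have hB := hY e d hpd
  have := mul_mem (mul_mem (mul_mem hA hB) (inv_mem hA)) (inv_mem hB)
  rwa [key, mul_inv_cancel_right, mul_inv_cancel_right] at this

theorem inX_conj {X : (Fin n₁ → F) →ₗ[F] (Fin n₁ → F)} (hX : C.InX M X)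
    {σ : (Fin n₁ → F) ≃ₗ[F] (Fin n₁ → F)} {u : IsoGrp Q} (hu : C.swap.Mov σ u) :
    C.InX M (σ.toLinearMap.comp (X.comp σ.symm.toLinearMap)) := fun b β hp => by
  have hten : C.Ten σ (.refl F _) u := fun p q => hu.ten q p
  have h1 := mul_mem (mul_mem (H.ovr.left _ _ hu) (hX b β hp)) (inv_mem (H.ovr.left _ _ hu))
  rwa [hten.conj_ee hu.iso X hp.orth hp.orth] at h1

theorem inX_norm {X : (Fin n₁ → F) →ₗ[F] (Fin n₁ → F)} (hX : C.InX M X) :
    ∃ μ : F, X.comp (C.dag X) = μ • LinearMap.id := by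
  obtain ⟨b, hb⟩ : ∃ b : Fin n₂ → F, b ≠ 0 :=
    ⟨fun _ => 1, fun h => one_ne_zero (α := F) (congrFun h ⟨0, by have := H.five; omega⟩)⟩
  obtain ⟨β, β', h1, -, h3, -, h5⟩ := C.exists_hyp_perp H.five b b
  have hp : ∀ z, C.g b z = 0 → C.g β z ≠ 0 ∨ C.g z β' ≠ 0 → C.Pr b z := fun z hz hne => by
    refine ⟨hb, hz, fun hm => ?_⟩
    obtain ⟨r, rfl⟩ := Submodule.mem_span_singleton.1 hm
    simp [C.g_zero_comm h1, h3] at hne
  have p1 : C.Pr b β := hp β h1 (.inr (by rw [h5]; exact one_ne_zero))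
  have p2 : C.Pr b β' := hp β' h3 (.inl (by rw [h5]; exact one_ne_zero))
  have p3 : C.Pr b (β + β') := hp _ (by rw [map_add, h1, h3, add_zero]) (.inr (by
    rw [map_add, LinearMap.add_apply, h5, C.galt, add_zero]; exact one_ne_zero))
  have hm := mul_mem (mul_mem (hX _ _ p1) (hX _ _ p2)) (inv_mem (hX _ _ p3))
  obtain ⟨c, hc⟩ := qlemma H hb (T := -(X.comp (C.dag X))) hm fun x => by
    have hd : C.dag (-X) = -C.dag X := C.dag_eq fun u v => by simp [C.f_dag]
    rw [ee_inv X p3.orth]
    simp only [ap_mul, ee_ap _ p1.orth, ee_ap _ p2.orth, ee_ap _ p3.orth, hd, map_add, map_neg,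
      LinearMap.add_apply, LinearMap.neg_apply, C.pr_t, C.galt, h1, h3, h5, C.g_zero_comm h1,
      C.g_zero_comm h3, C.g_skew β' β, LinearMap.comp_apply, zero_smul, smul_zero, map_zero, add_zero,
      zero_add, neg_smul, one_smul, neg_zero, LinearMap.zero_apply]
    abel
  exact ⟨-c, (neg_eq_iff_eq_neg.1 hc).trans (by ext; simp)⟩

theorem inX_trace {X : (Fin n₁ → F) →ₗ[F] (Fin n₁ → F)} (hX : C.InX M X) :
    ∃ c : F, C.dag X = c • LinearMap.id - X := by
  obtain ⟨μ, hμ⟩ := inX_norm H hX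
  obtain ⟨ν, hν⟩ := inX_norm H (inX_add H hX (inX_one H))
  rw [C.dag_add, C.dag_id] at hν
  simp only [LinearMap.add_comp, LinearMap.comp_add, LinearMap.id_comp, LinearMap.comp_id, hμ] at hν
  refine ⟨ν - μ - 1, ?_⟩
  refine LinearMap.ext fun u => ?_
  have := LinearMap.congr_fun hν u
  simp only [LinearMap.add_apply, LinearMap.smul_apply, LinearMap.id_apply] at this
  simp only [LinearMap.sub_apply, LinearMap.smul_apply, LinearMap.id_apply, sub_smul, one_smul, ← this]
  abel

/-- The difference of a conjugate by the transvection along `a`. -/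
theorem inX_delta {X : (Fin n₁ → F) →ₗ[F] (Fin n₁ → F)} (hX : C.InX M X) (a : Fin n₁ → F) :
    ∃ Y, C.InX M Y ∧ C.dag Y = -Y ∧ ∀ u,
      Y u = C.f (X u) a • a - C.f u a • X a - (C.f u a * C.f (X a) a) • a := by
  have hu := C.swap.mov_uB a 1
  set σ := C.swap.tvB a 1
  obtain ⟨c, hc⟩ := inX_trace H hX
  refine ⟨_, inX_sub H (inX_conj H hX hu) hX, ?_, fun u => ?_⟩
  · rw [C.dag_sub, C.dag_conj hu.iso, hc]
    refine LinearMap.ext fun u => ?_
    simp
  · have hs : ∀ v, σ v = v + C.f v a • a := fun v => by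
      rw [show σ v = v + ((1 : F) * C.f v a) • a from rfl, one_mul]
    have hinv : σ.symm u = u - C.f u a • a := by
      rw [LinearEquiv.symm_apply_eq, hs]
      simp [C.falt]
    simp only [LinearMap.sub_apply, LinearMap.comp_apply, LinearEquiv.coe_coe, hinv, hs, map_sub,
      map_smul, LinearMap.sub_apply, LinearMap.smul_apply, smul_eq_mul]
    module

/-- With at least three dimensions on the left the realised maps are scalars. -/
theorem scalar_of_InX_three (h3 : 3 ≤ n₁) {X : (Fin n₁ → F) →ₗ[F] (Fin n₁ → F)} (hX : C.InX M X) :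
    ∃ c : F, X = c • LinearMap.id := by
  have halt : ∀ {Z : (Fin n₁ → F) →ₗ[F] (Fin n₁ → F)}, C.InX M Z → ∀ a, C.f (Z a) a = 0 := by
    intro Z hZ a
    obtain ⟨Y, hY, hYd, hYu⟩ := inX_delta H hZ a
    obtain ⟨μ, hμ⟩ := inX_norm H hY
    obtain ⟨x, hx, hx0⟩ := exists_ker_not_mem ![C.f.flip a, (C.f.flip a).comp Z]
      (⊥ : Submodule F (Fin n₁ → F)) (by rw [finrank_bot]; omega)
    have hx0' : x ≠ 0 := by simpa using hx0
    have e1 : C.f x a = 0 := hx 0
    have e2 : C.f (Z x) a = 0 := hx 1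
    have hYx : Y x = 0 := by rw [hYu, e1, e2]; simp
    have hμ0 : μ = 0 := by
      have := LinearMap.congr_fun hμ x
      rw [hYd, LinearMap.comp_apply, LinearMap.neg_apply, hYx, neg_zero, map_zero,
        LinearMap.smul_apply, LinearMap.id_apply] at this
      exact (smul_eq_zero.1 this.symm).resolve_right hx0'
    have hYa : Y a = C.f (Z a) a • a := by rw [hYu, C.falt]; simp
    have := LinearMap.congr_fun hμ a
    rw [hYd, LinearMap.comp_apply, LinearMap.neg_apply, map_neg, hYa, map_smul, hYa, hμ0,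
      zero_smul, LinearMap.zero_apply, neg_eq_zero, smul_smul, smul_eq_zero] at this
    rcases this with h | h
    · exact mul_self_eq_zero.1 h
    · rw [h]; simp
  have hsymm : ∀ {Z : (Fin n₁ → F) →ₗ[F] (Fin n₁ → F)}, C.InX M Z → C.dag Z = Z := fun {Z} hZ =>
    C.dag_eq fun u v => by
      have := halt hZ (u + v)
      simp only [map_add, LinearMap.add_apply, halt hZ, zero_add, add_zero] at this
      rw [C.f_skew u (Z v)]
      linear_combination this
  refine scalar_of_lines X fun a => ?_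
  by_contra hne
  obtain ⟨c, hac, hc⟩ := C.swap.exists_pair (W := F ∙ a) hne
  have hac' : C.f a c = 0 := hac a (Submodule.mem_span_singleton_self a)
  have hc' : C.f (X a) c = 1 := hc
  obtain ⟨Ya, hYa, -, hYau⟩ := inX_delta H hX a
  obtain ⟨Yc, hYc, -, hYcu⟩ := inX_delta H hX c
  have hcomm : Ya.comp Yc = Yc.comp Ya := by
    rw [← hsymm (inX_comp H hYa hYc), C.dag_comp, hsymm hYa, hsymm hYc]
  have h1 : Ya a = 0 := by rw [hYau, halt hX, C.falt]; simp
  have h2 : Yc a = c := by rw [hYcu, hac', hc']; simp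
  have hXc : C.f (X c) a = -1 := by
    have := halt hX (a + c)
    simp only [map_add, LinearMap.add_apply, halt hX, zero_add, add_zero, hc'] at this
    linear_combination this
  have h3' : Ya c = -a := by rw [hYau, C.f_zero_comm hac', hXc]; simp
  have := LinearMap.congr_fun hcomm a
  rw [LinearMap.comp_apply, LinearMap.comp_apply, h1, h2, map_zero, h3', neg_eq_zero] at this
  exact hne (by rw [this, map_zero]; exact Submodule.zero_mem _)

/-- In dimension two on the left the realised maps are scalars over fields with more than two elements. -/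
theorem scalar_of_InX_two (h2 : n₁ = 2) {X : (Fin n₁ → F) →ₗ[F] (Fin n₁ → F)} (hX : C.InX M X) :
    ∃ c : F, X = c • LinearMap.id := by
  classical
  refine scalar_of_lines X fun a => ?_
  by_contra hne
  have two : ∀ {u v : Fin n₁ → F}, C.f u v ≠ 0 → ∀ (L L' : (Fin n₁ → F) →ₗ[F] (Fin n₁ → F)),
      L u = L' u → L v = L' v → L = L' := by
    intro u v huv L L' hu hv
    have hli : LinearIndependent F ![u, v] := by
      rw [LinearIndependent.pair_iff]
      intro s t hst
      have h1 : C.f (s • u + t • v) v = 0 := by rw [hst]; simp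
      have h2 : C.f u (s • u + t • v) = 0 := by rw [hst]; simp
      simp [C.falt, huv] at h1 h2
      exact ⟨h1, h2⟩
    exact (basisOfLinearIndependentOfCardEqFinrank hli
      (by rw [finrank_space]; simp [h2])).ext fun i => by fin_cases i <;> simpa using (by assumption)
  have hv0 : C.f (X a) a ≠ 0 := fun h0 => hne (by
    obtain ⟨z, hz⟩ := C.swap.exists_dual (b := a) fun h => hne (by rw [h, map_zero]; exact Submodule.zero_mem _)
    have hz' : C.f a z = 1 := hz
    have := two (u := a) (v := z) (by rw [hz']; exact one_ne_zero)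
      ((C.f (X a)).smulRight a) ((C.f a).smulRight (C.f (X a) z • a))
      (by simp [h0, C.falt]) (by simp [hz'])
    have h4 : X a = C.f (X a) z • a := C.f_ext fun w => by
      have h5 := congrArg (fun L => C.f (L w) z) this
      simp [hz'] at h5
      simp [h5, mul_comm]
    rw [h4]; exact Submodule.smul_mem _ _ (Submodule.mem_span_singleton_self a))
  obtain ⟨l, hl⟩ := inX_trace H hX
  obtain ⟨μ, hμ⟩ := inX_norm H hX
  -- a multiple of `a` for which the construction is non-degenerate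
  obtain ⟨r, hr, hκ⟩ : ∃ r : F, r ≠ 0 ∧ ((2 : F) ≠ 0 ∨ l - r * r * C.f (X a) a ≠ 0) := by
    by_cases h0 : (2 : F) = 0
    · by_cases h1 : l - C.f (X a) a = 0
      · obtain ⟨r, hr⟩ : ∃ r : F, r ≠ 0 ∧ r ≠ 1 := by
          by_contra! hall
          have hc : Fintype.card F ≤ 2 := by
            rw [← Finset.card_univ]
            exact (Finset.card_le_card (t := {0, 1}) fun x _ => by
              by_cases hx : x = 0 <;> simp [hx, hall]).trans Finset.card_le_two
          have := H.big h2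
          omega
        refine ⟨r, hr.1, .inr fun h3 => hr.2 ?_⟩
        have h4 : (r * r - 1) * C.f (X a) a = 0 := by linear_combination h1 - h3
        have h5 : (r - 1) * (r - 1) = 0 := by
          linear_combination (mul_eq_zero.1 h4).resolve_right hv0 - (r - 1) * h0
        exact sub_eq_zero.1 (mul_self_eq_zero.1 h5)
      · exact ⟨1, one_ne_zero, .inr (by simpa using h1)⟩
    · exact ⟨1, one_ne_zero, .inl h0⟩
  set a' := r • a with ha'
  set v := X a' with hv
  set ξ := C.f v a' with hξ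
  have hξ0 : ξ ≠ 0 := by
    rw [hξ, hv, ha']; simp only [map_smul, LinearMap.smul_apply, smul_eq_mul]
    exact mul_ne_zero hr (mul_ne_zero hr hv0)
  have hξl : (2 : F) ≠ 0 ∨ l - ξ ≠ 0 := by
    rw [hξ, hv, ha']; simpa [mul_assoc] using hκ
  obtain ⟨Y, hY, -, hYu⟩ := inX_delta H hX a'
  set R := Y - ξ • LinearMap.id with hR
  have hRX : C.InX M R := inX_sub H hY (inX_smul H (inX_one H) _)
  have hRa : R a' = 0 := by simp [hR, hYu, C.falt, ← hv, ← hξ]
  have hXv : C.f (X v) a' = l * ξ := by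
    have h1 := LinearMap.congr_fun hμ a'
    rw [hl] at h1
    simp only [LinearMap.comp_apply, LinearMap.sub_apply, LinearMap.smul_apply, LinearMap.id_apply,
      map_sub, map_smul, ← hv] at h1
    have h2 := congrArg (fun z => C.f z a') h1
    simp only [map_sub, map_smul, LinearMap.sub_apply, LinearMap.smul_apply, C.falt, smul_eq_mul,
      mul_zero, ← hξ] at h2
    linear_combination -h2
  have hRv : R v = (l * ξ - ξ * ξ) • a' - (2 * ξ) • v := by
    simp only [hR, LinearMap.sub_apply, LinearMap.smul_apply, LinearMap.id_apply, hYu, hXv, ← hv, ← hξ]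
    module
  -- the transvection is realised
  let τ : (Fin n₁ → F) →ₗ[F] (Fin n₁ → F) := (C.f.flip a').smulRight a'
  have hτX : C.InX M τ := by
    rcases eq_or_ne (2 : F) 0 with h0 | h0
    · have hk := hξl.resolve_left (not_not.2 h0)
      have : τ = (l - ξ)⁻¹ • R := two (u := v) (v := a') hξ0 _ _ (by
        simp only [τ, LinearMap.smulRight_apply, LinearMap.flip_apply, LinearMap.smul_apply, hRv, h0,
          zero_mul, zero_smul, sub_zero, smul_smul, ← hξ]
        congr 1; field_simp) (by simp [τ, hRa, C.falt])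
      rw [this]; exact inX_smul H hRX _
    · obtain ⟨R', hR', -, hR'u⟩ := inX_delta H hRX a'
      have : τ = (-(2 * ξ))⁻¹ • R' := two (u := v) (v := a') hξ0 _ _ (by
        simp only [τ, LinearMap.smulRight_apply, LinearMap.flip_apply, LinearMap.smul_apply, hR'u, hRv,
          hRa, map_sub, map_smul, map_zero, LinearMap.sub_apply, LinearMap.smul_apply,
          LinearMap.zero_apply, C.falt, smul_eq_mul, mul_zero, smul_zero, zero_smul, sub_zero, zero_sub,
          smul_smul, ← hξ]
        congr 1; field_simp) (by simp [τ, hR'u, hRa, C.falt])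
      rw [this]; exact inX_smul H hR' _
  have ha0 : a' ≠ 0 := fun h0 => hξ0 (by rw [hξ, h0, map_zero])
  refine H.ns (omega_le_of_e0 H.good H.card H.pos H.five (e0_of_one H.ovr ha0 fun b b' hbb => ?_))
  have hτd : C.dag τ = -τ := C.dag_eq fun u w => by
    simp [τ, C.f_skew w a']; ring
  by_cases hp : C.Pr b' b
  · have h1 := hτX b' b hp
    have e1 : C.ee τ b' b = (eich Q (C.t a' b) (C.t a' b'))⁻¹ ∨ C.ee τ b' b = eich Q (C.t a' b) (C.t a' b') := by
      refine .inr (ext_ap fun x => ?_)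
      rw [ee_ap _ hp.orth, eich_ap (C.pure _ _) (by rw [C.pol, C.falt, zero_mul]), hτd, C.pure,
        pl_comm Q (C.t a' b), pl_comm Q (C.t a' b'), C.polar_t, C.polar_t]
      simp [τ]
      module
    rcases e1 with e1 | e1 <;> rw [e1] at h1
    · simpa using inv_mem h1
    · exact h1
  · rcases eq_or_ne b' 0 with rfl | hb'
    · rw [map_zero, eich_zero]; exact one_mem M
    have hm : b ∈ F ∙ b' := by
      by_contra hm; exact hp ⟨hb', C.g_zero_comm hbb, hm⟩
    obtain ⟨s, rfl⟩ := Submodule.mem_span_singleton.1 hm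
    rw [map_smul, eich_smul_left]
    rw [show s • C.t a' b' = (0 : ι → F) + s • C.t a' b' from (zero_add _).symm,
      eich_add_smul_self (C.pure _ _) (pl_zero_right Q _), eich_zero]
    exact one_mem M

theorem scalar_of_InX {X : (Fin n₁ → F) →ₗ[F] (Fin n₁ → F)} (hX : C.InX M X) :
    ∃ c : F, X = c • LinearMap.id := by
  rcases Nat.lt_or_ge n₁ 3 with h | h
  · rcases Nat.lt_or_ge n₁ 2 with h1 | h1
    · have hp := H.pos
      obtain rfl : n₁ = 1 := by omega
      refine scalar_of_lines X fun a => ?_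
      by_cases ha : a = 0
      · rw [ha, map_zero]; exact Submodule.zero_mem _
      · have e : a = a 0 • (1 : Fin 1 → F) := by ext i; fin_cases i; simp
        refine Submodule.mem_span_singleton.2 ⟨X a 0 / a 0, ?_⟩
        ext i
        fin_cases i
        have : a 0 ≠ 0 := fun h0 => ha (by ext i; fin_cases i; exact h0)
        simp [this]
    · exact scalar_of_InX_two H (by omega) hX
  · exact scalar_of_InX_three H h hX

/-- Elements fixing a ruling pointwise. -/
theorem ulemma {b : Fin n₂ → F} {m : IsoGrp Q} (hm : m ∈ M)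
    (hfix : ∀ a, ap m (C.t a b) = C.t a b)
    (Φ : (Fin n₂ → F) →ₗ[F] (Fin n₁ → F) →ₗ[F] (Fin n₁ → F))
    (hΦ : ∀ a y, C.g y b = 0 → ap m (C.t a y) = C.t a y + C.t (Φ y a) b)
    {β : Fin n₂ → F} (hp : C.Pr b β) : ∃ c : F, Φ β = c • LinearMap.id := by
  set h := C.uB β 1 with hh
  have hhM : h ∈ M := H.ovr.right _ _ (C.mov_uB β 1)
  set m2 := h * m * h⁻¹ * m⁻¹ with hm2
  have hm2M : m2 ∈ M := mul_mem (mul_mem (mul_mem hhM hm) (inv_mem hhM)) (inv_mem hm)
  set X := -(Φ β) with hXdef
  have hinv : ∀ a, ap m⁻¹ (C.t a b) = C.t a b := fun a => by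
    conv_lhs => rw [← hfix a, ap_inv_ap]
  have hminv : ∀ a y, C.g y b = 0 → ap m⁻¹ (C.t a y) = C.t a y - C.t (Φ y a) b := fun a y hy => by
    refine ap_inj m ?_
    rw [ap_ap_inv, map_sub, hΦ a y hy, hfix, add_sub_cancel_right]
  have hbβ : C.g b β = 0 := hp.orth
  have hformula : ∀ a y, C.g y b = 0 → ap m2 (C.t a y) = C.t a y + C.t (C.g y β • X a) b := by
    intro a y hy
    have hy' : C.g (y + ((-1) * C.g y β) • β) b = 0 := by
      simp [hy, C.g_zero_comm hbβ]
    rw [hm2, ap_mul, ap_mul, ap_mul, hminv a y hy, map_sub, hh, uB_inv, uB_t, uB_t, hbβ, mul_zero,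
      zero_smul, add_zero, map_sub, hfix, hΦ a _ hy', map_sub, map_add, uB_t, uB_t, uB_t, hbβ, mul_zero,
      zero_smul, add_zero]
    simp only [hXdef, map_add, map_smul, map_neg, LinearMap.add_apply, LinearMap.smul_apply,
      LinearMap.neg_apply, C.galt, smul_zero, add_zero, mul_zero, smul_eq_mul, one_mul, neg_mul,
      neg_smul]
    module
  -- the part fixing `A ⊗ b^⊥`
  set e0 := C.ee X b β
  set n := e0⁻¹ * m2 with hn
  have hnfix : ∀ a y, C.g y b = 0 → ap n (C.t a y) = C.t a y := fun a y hy => by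
    refine ap_inj e0 ?_
    rw [hn, ap_mul, ap_ap_inv, hformula a y hy, ee_ap _ hbβ, C.pr_t, C.pr_t, hy, zero_smul, map_smul]
    simp
  obtain ⟨bs, hbs⟩ := C.exists_dual hp.left
  have hbs' : C.g (-bs) b = 1 := by rw [map_neg, LinearMap.neg_apply, C.g_skew, hbs, neg_neg]
  set b' := -bs
  let S : (Fin n₁ → F) →ₗ[F] (Fin n₁ → F) :=
    -((C.pr b').comp (((ap n) - LinearMap.id).comp (C.t.flip b')))
  have hW : ∀ x, C.pr b x = 0 → ap n x = x := by
    have : ((ap n) - LinearMap.id).comp
        (LinearMap.id - (C.t.flip b').comp (C.pr b)) = 0 := C.ext_pure fun a y => by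
      have hz : C.g (y - C.g y b • b') b = 0 := by simp [hbs']
      have h1 := hnfix a (y - C.g y b • b') hz
      simp only [map_sub, map_smul] at h1
      simp [C.pr_t, h1]
    intro x hx
    have := LinearMap.congr_fun this x
    simpa [hx, sub_eq_zero] using this
  have hnx : ∀ x, ap n x = x + C.t (S (C.pr b x)) b := by
    intro x
    set w := C.t (C.pr b x) b' with hw
    have hxw : ap n (x - w) = x - w := hW _ (by rw [map_sub, hw, C.pr_t, hbs', one_smul, sub_self])
    set z := ap n w - w with hz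
    have horth : ∀ a y, C.g y b = 0 → polar ⇑Q z (C.t a y) = 0 := fun a y hy => by
      rw [hz, pl_sub_left]
      nth_rewrite 1 [← hnfix a y hy]
      rw [polar_ap, sub_self]
    have hzeq : z = C.t (-C.pr b' z) b := by
      have hlin : Q.polarBilin z = Q.polarBilin (C.t (-C.pr b' z) b) := C.ext_pure fun a y => by
        have h1 := horth a (y - C.g y b • b') (by simp [hbs'])
        simp only [map_sub, map_smul, LinearMap.sub_apply, LinearMap.smul_apply, pl_sub_right,
          pl_smul_right, sub_eq_zero] at h1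
        simp only [QuadraticMap.polarBilin_apply_apply, C.pol, map_neg, LinearMap.neg_apply, h1,
          C.polar_t z a b', C.g_skew b y]
        ring
      exact sub_eq_zero.1 (H.good.nd.1 _ fun y => by
        rw [map_sub, LinearMap.sub_apply, hlin, sub_self])
    calc ap n x = ap n (x - w) + ap n w := by rw [← map_add, sub_add_cancel]
      _ = x + z := by rw [hxw, hz]; abel
      _ = x + C.t (S (C.pr b x)) b := by rw [hzeq]; simp [S, hz, hw]
  obtain ⟨β', h1, h2, h3⟩ := C.exists_perp_pair H.five b β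
  have hp2 : C.Pr b β' := ⟨hp.left, h1, fun hm => h3 (Submodule.span_mono (by simp) hm)⟩
  have hp3 : C.Pr b (β + β') := ⟨hp.left, by rw [map_add, hbβ, h1, add_zero], fun hm => h3 <| by
    have := Submodule.sub_mem _ (Submodule.span_mono (by simp : ({b} : Set _) ⊆ {b, β}) hm)
      (Submodule.subset_span (by simp : β ∈ ({b, β} : Set _)))
    rwa [add_sub_cancel_left] at this⟩
  obtain ⟨τ, u, hu, e1, e2⟩ := hp.exists_move hp3
  have hun : u * n * u⁻¹ = n := by
    rw [mul_inv_eq_iff_eq_mul]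
    refine ext_ap fun x => ?_
    have hp' : C.pr b (ap u x) = C.pr b x := by
      have := hu.ten.pr_conj (fun _ _ => rfl) b x
      rwa [e1] at this
    rw [ap_mul u n, ap_mul n u, hnx, hnx, hp', map_add, hu.ten, e1]
    rfl
  have huM := H.ovr.right _ _ hu
  have h4 : u * m2 * u⁻¹ * m2⁻¹ = C.ee X b β' := by
    have hue : u * e0 * u⁻¹ = C.ee X b (β + β') := by
      have := hu.ten.conj_ee (fun _ _ => rfl) X hbβ (by rw [hu.iso, hbβ])
      rw [e1, e2] at this
      exact this
    have hm2e : m2 = e0 * n := by rw [hn, mul_inv_cancel_left]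
    rw [hm2e, show u * (e0 * n) * u⁻¹ * (e0 * n)⁻¹ = (u * e0 * u⁻¹) * (u * n * u⁻¹) * n⁻¹ * e0⁻¹ by group,
      hun, mul_inv_cancel_right, hue, add_comm, ← ee_mul_of_orth X h1 hbβ (C.g_zero_comm h2),
      mul_inv_cancel_right]
  have hX : C.InX M X := inX_of_one H hp2 (h4 ▸
    mul_mem (mul_mem (mul_mem huM hm2M) (inv_mem huM)) (inv_mem hm2M))
  obtain ⟨c, hc⟩ := scalar_of_InX H hX
  exact ⟨-c, (neg_eq_iff_eq_neg.1 (hXdef ▸ hc)).trans (by ext; simp)⟩

end SS

end Cfsg.Agent.C4
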