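import Cfsg.Agent.Lib.C4.SympScalar

/-!
# Overgroups of the stabiliser of a tensor product of two alternating spaces

* `isTen_of_stab` : in a proper overgroup the stabiliser of a ruling is in the tensor stabiliser
* `omega_le_of_not_isTen` : a subgroup above both factors with a non-tensor element contains `Ω`
-/

set_option autoImplicit false
set_option linter.unusedSectionVars false
set_option linter.unusedSimpArgs false

namespace Cfsg.Agent.C4

open Cfsg Matrix Module Cfsg.Agent.Orth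
open QuadraticMap (polar)

variable {ι : Type} [Fintype ι] [DecidableEq ι] {F : Type*} [Field F] [Fintype F]
variable {Q : QuadraticForm F (ι → F)} {n₁ n₂ : ℕ}

namespace SS

variable {C : SS Q n₁ n₂} {M : Subgroup (IsoGrp Q)} (H : C.Hyp M)
include H

theorem eq_ruling_of_orth {b b' : Fin n₂ → F} (hbs : C.g b' b = 1) {z : ι → F}
    (h : ∀ a y, C.g y b = 0 → polar ⇑Q z (C.t a y) = 0) : z = C.t (-C.pr b' z) b := by
  have hlin : Q.polarBilin z = Q.polarBilin (C.t (-C.pr b' z) b) := C.ext_pure fun a y => by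
    have h1 := h a (y - C.g y b • b') (by simp [hbs])
    simp only [map_sub, map_smul, LinearMap.sub_apply, LinearMap.smul_apply, pl_sub_right,
      pl_smul_right, sub_eq_zero] at h1
    simp only [QuadraticMap.polarBilin_apply_apply, C.pol, map_neg, LinearMap.neg_apply, h1,
      C.polar_t z a b', C.g_skew b y]
    ring
  exact sub_eq_zero.1 (H.good.nd.1 _ fun y => by
    rw [map_sub, LinearMap.sub_apply, hlin, sub_self])

theorem exists_fdual : ∃ a0 a1 : Fin n₁ → F, C.f a0 a1 = 1 := by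
  have ha : (Pi.single ⟨0, H.pos⟩ 1 : Fin n₁ → F) ≠ 0 := by simp
  obtain ⟨a1, ha1⟩ := C.swap.exists_dual ha
  exact ⟨_, a1, ha1⟩

theorem similitude_of_stab {g : IsoGrp Q} (hg : g ∈ M) {b : Fin n₂ → F} (hb : b ≠ 0)
    {σ : (Fin n₁ → F) ≃ₗ[F] (Fin n₁ → F)} (hσ : ∀ a, ap g (C.t a b) = C.t (σ a) b) :
    ∃ ν : F, ν ≠ 0 ∧ (∀ u v, C.f (σ u) (σ v) = ν * C.f u v) ∧
      ∀ x, C.pr b (ap g⁻¹ x) = ν • σ.symm (C.pr b x) := by
  have hpr : ∀ x, C.pr b (ap g⁻¹ x) = C.dag σ.toLinearMap (C.pr b x) := fun x => C.f_ext fun z => by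
    rw [C.f_pr, C.f_dag, LinearEquiv.coe_coe, C.f_pr, ← hσ, ← polar_ap g, ap_ap_inv]
  have hu : C.uB b 1 ∈ M := H.ovr.right _ _ (C.mov_uB b 1)
  obtain ⟨ν, hν⟩ := qlemma H hb (T := σ.toLinearMap.comp (C.dag σ.toLinearMap))
    (mul_mem (mul_mem hg hu) (inv_mem hg)) fun x => by
      rw [ap_mul, ap_mul, uB_ap, one_smul, map_add, ap_ap_inv, hσ, hpr]; rfl
  have hdag : ∀ u, C.dag σ.toLinearMap u = ν • σ.symm u := fun u => σ.injective (by
    have := LinearMap.congr_fun hν u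
    rw [LinearMap.comp_apply, LinearEquiv.coe_coe, LinearMap.smul_apply, LinearMap.id_apply] at this
    rw [this, map_smul, σ.apply_symm_apply])
  have hsim : ∀ u v, C.f (σ u) (σ v) = ν * C.f u v := fun u v => by
    have := C.f_dag σ.toLinearMap (σ u) v
    rw [hdag, σ.symm_apply_apply, map_smul, LinearMap.smul_apply, LinearEquiv.coe_coe] at this
    exact this.symm
  refine ⟨ν, fun h0 => ?_, hsim, fun x => by rw [hpr, hdag]⟩
  obtain ⟨a0, a1, ha⟩ := exists_fdual H
  have := hsim (σ.symm a0) (σ.symm a1)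
  rw [h0, zero_mul, σ.apply_symm_apply, σ.apply_symm_apply, ha] at this
  exact one_ne_zero this

theorem perp_tensor {g : IsoGrp Q} (hg : g ∈ M) {b : Fin n₂ → F} (hb : b ≠ 0)
    {σ : (Fin n₁ → F) ≃ₗ[F] (Fin n₁ → F)} (hσ : ∀ a, ap g (C.t a b) = C.t (σ a) b)
    {β : Fin n₂ → F} (hβ : C.g β b = 0) : ∃ w, ∀ a, ap g (C.t a β) = C.t (σ a) w := by
  by_cases hmem : β ∈ F ∙ b
  · obtain ⟨r, rfl⟩ := Submodule.mem_span_singleton.1 hmem
    exact ⟨r • b, fun a => by rw [map_smul, map_smul, hσ, map_smul]⟩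
  have hp : C.Pr b β := ⟨hb, C.g_zero_comm hβ, hmem⟩
  obtain ⟨ν, hν, hsim, hpr⟩ := similitude_of_stab H hg hb hσ
  obtain ⟨bd, hbd⟩ := C.exists_dual hb
  have hbs : C.g (-bd) b = 1 := by rw [map_neg, LinearMap.neg_apply, C.g_skew, hbd, neg_neg]
  set b' := -bd
  have hσinv : ∀ a, ap g⁻¹ (C.t a b) = C.t (σ.symm a) b := fun a => by
    conv_lhs => rw [← σ.apply_symm_apply a, ← hσ, ap_inv_ap]
  obtain ⟨a0, a1, ha01⟩ := exists_fdual H
  -- the first element
  set L : (ι → F) →ₗ[F] (Fin n₁ → F) := σ.toLinearMap.comp ((C.pr β).comp (ap g⁻¹)) with hL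
  set Φ := C.t.flip.compr₂ L with hΦdef
  have hΦap : ∀ y a, Φ y a = σ (C.pr β (ap g⁻¹ (C.t a y))) := fun y a => rfl
  have hee : C.ee LinearMap.id b β ∈ M := inX_one H b β hp
  have hm : g * C.ee LinearMap.id b β * g⁻¹ ∈ M := mul_mem (mul_mem hg hee) (inv_mem hg)
  have happ : ∀ x, ap (g * C.ee LinearMap.id b β * g⁻¹) x =
      x + (ap g (C.t (C.pr β (ap g⁻¹ x)) b) + ap g (C.t (C.pr b (ap g⁻¹ x)) β)) := fun x => by
    rw [ap_mul, ap_mul, ee_ap _ hp.orth, map_add, map_add, ap_ap_inv, C.dag_id]; rfl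
  have hscal : ∀ y, C.g y b = 0 → ∃ c : F, Φ y = c • LinearMap.id := by
    intro y hy
    by_cases hym : y ∈ F ∙ b
    · obtain ⟨r, rfl⟩ := Submodule.mem_span_singleton.1 hym
      refine ⟨0, LinearMap.ext fun a => ?_⟩
      rw [hΦap, map_smul, map_smul, hσinv, map_smul, C.pr_t, hp.orth]
      simp
    refine ulemma H hm (fun a => ?_) Φ (fun a y hy => ?_) ⟨hb, C.g_zero_comm hy, hym⟩
    · rw [happ, hσinv, C.pr_t, C.pr_t, hp.orth, C.galt]; simp
    · rw [happ, hσ, ← hΦap, hpr, C.pr_t, hy]; simp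
  set lam : Module.Dual F (Fin n₂ → F) := (C.f.flip a1).comp (Φ.flip a0) with hlamdef
  have hlam : ∀ y, C.g y b = 0 → ∀ a, Φ y a = lam y • a := fun y hy a => by
    obtain ⟨c, hc⟩ := hscal y hy
    have : lam y = c := by simp [hlamdef, hc, ha01]
    rw [this, hc]; rfl
  -- the image of `β`
  set φ : Module.Dual F (Fin n₂ → F) :=
    ν⁻¹ • lam.comp (LinearMap.id - (C.g.flip b).smulRight b') with hφdef
  set w := -((repDual C.g C.gnd).symm φ) with hwdef
  have hgw : ∀ y, C.g y w = φ y := fun y => by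
    rw [hwdef, map_neg, C.g_skew, neg_neg, repDual_symm_apply]
  have hφ : ∀ y, C.g y b = 0 → φ y = ν⁻¹ * lam y := fun y hy => by simp [hφdef, hy]
  have hbw : C.g b w = 0 := by
    rw [hgw, hφ b (C.galt b)]
    have h1 := hlam b (C.galt b) a0
    rw [hΦap, hσinv, C.pr_t, hp.orth, zero_smul, map_zero] at h1
    have ha0 : a0 ≠ 0 := fun h0 => by simp [h0] at ha01
    rw [(smul_eq_zero.1 h1.symm).resolve_right ha0, mul_zero]
  set S : (Fin n₁ → F) →ₗ[F] (Fin n₁ → F) :=
    -((C.pr b').comp ((ap g).comp (C.t.flip β) - (C.t.flip w).comp σ.toLinearMap)) with hSdef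
  have himg : ∀ a, ap g (C.t a β) = C.t (σ a) w + C.t (S a) b := by
    intro c
    have hz := eq_ruling_of_orth H hbs (z := ap g (C.t c β) - C.t (σ c) w) fun a y hy => by
      rw [pl_sub_left, C.pol]
      have h1 : polar ⇑Q (ap g (C.t c β)) (C.t a y) = C.f (C.pr β (ap g⁻¹ (C.t a y))) c := by
        rw [C.f_pr, pl_comm Q (ap g⁻¹ (C.t a y)), ← polar_ap g (C.t c β), ap_ap_inv]
      have h2 : C.pr β (ap g⁻¹ (C.t a y)) = lam y • σ.symm a := σ.injective (by
        rw [← hΦap, hlam y hy a, map_smul, σ.apply_symm_apply])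
      have h3 := hsim (σ.symm a) c
      rw [σ.apply_symm_apply] at h3
      rw [h1, h2, map_smul, LinearMap.smul_apply, smul_eq_mul, C.g_skew w y, hgw, hφ y hy,
        C.f_skew (σ c) a, h3]
      field_simp
      ring
    rw [eq_add_of_sub_eq hz, add_comm]
    simp [hSdef]
  have hwb : w ∉ F ∙ b := by
    intro hwm
    obtain ⟨r, hr⟩ := Submodule.mem_span_singleton.1 hwm
    obtain ⟨y, hy, hβy⟩ := C.exists_pair hmem
    have heq : C.t a0 β = C.t (σ.symm (r • σ a0 + S a0)) b := ap_inj g (by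
      rw [himg, hσ, σ.apply_symm_apply, ← hr]; simp)
    have := congrArg (C.pr y) heq
    rw [C.pr_t, C.pr_t, hβy, hy b (Submodule.mem_span_singleton_self b), one_smul, zero_smul] at this
    simp [this] at ha01
  -- the second element
  set Φ' : (Fin n₂ → F) →ₗ[F] (Fin n₁ → F) →ₗ[F] (Fin n₁ → F) :=
    (ν • C.g.flip w).smulRight (S.comp σ.symm.toLinearMap) with hΦ'def
  have hm2 : C.uB w (-ν) * (g * C.uB β 1 * g⁻¹) ∈ M :=
    mul_mem (H.ovr.right _ _ (C.mov_uB w _))
      (mul_mem (mul_mem hg (H.ovr.right _ _ (C.mov_uB β 1))) (inv_mem hg))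
  obtain ⟨y, hy, hwy⟩ := C.exists_pair hwb
  have hby : C.g b y = 0 := hy b (Submodule.mem_span_singleton_self b)
  have hpy : C.Pr b y := ⟨hb, hby, fun hm => by
    obtain ⟨r, rfl⟩ := Submodule.mem_span_singleton.1 hm
    rw [map_smul, C.g_zero_comm hbw, smul_zero] at hwy
    exact zero_ne_one hwy⟩
  obtain ⟨c, hc⟩ := ulemma H hm2 (fun a => by
      rw [ap_mul, ap_mul, ap_mul, hσinv, uB_t, hp.orth, mul_zero, zero_smul, add_zero, hσ,
        σ.apply_symm_apply, uB_t, hbw, mul_zero, zero_smul, add_zero])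
    Φ' (fun a z hz => by
      have h2 : C.pr β (ap g⁻¹ (C.t a z)) = (ν * C.g z w) • σ.symm a := σ.injective (by
        rw [← hΦap, hlam z hz a, map_smul, σ.apply_symm_apply, hgw, hφ z hz,
          mul_inv_cancel_left₀ hν])
      rw [ap_mul, ap_mul, ap_mul, C.uB_ap β, one_smul, map_add, ap_ap_inv, h2, map_smul, LinearMap.smul_apply, map_smul, himg]
      simp only [map_add, uB_t, map_smul, LinearMap.smul_apply, LinearMap.add_apply, σ.apply_symm_apply,
        C.galt, hbw, mul_zero, zero_smul, smul_zero, add_zero, hΦ'def, LinearMap.smulRight_apply,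
        LinearMap.comp_apply, LinearEquiv.coe_coe, LinearMap.flip_apply, smul_eq_mul]
      module) hpy
  have hgyw : C.g y w = -1 := by rw [C.g_skew, hwy]
  have hS : ∀ a, S a = (-(c / ν)) • σ a := fun a => by
    have := LinearMap.congr_fun hc (σ a)
    simp only [hΦ'def, LinearMap.smulRight_apply, LinearMap.smul_apply, LinearMap.flip_apply,
      LinearMap.comp_apply, LinearEquiv.coe_coe, σ.symm_apply_apply, hgyw, LinearMap.id_apply,
      smul_eq_mul, mul_neg, mul_one, neg_smul, LinearMap.neg_apply] at this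
    have h1 : S a = ν⁻¹ • ν • S a := by rw [smul_smul, inv_mul_cancel₀ hν, one_smul]
    rw [h1, neg_eq_iff_eq_neg.1 this, smul_neg, smul_smul, neg_smul, div_eq_inv_mul]
  exact ⟨w + (-(c / ν)) • b, fun a => by rw [himg, hS]; simp⟩

/-- In a proper overgroup, stabilising a ruling means preserving the decomposition. -/
theorem isTen_of_stab {g : IsoGrp Q} (hg : g ∈ M) {b : Fin n₂ → F} (hb : b ≠ 0)
    (h : ∀ a, ∃ a', ap g (C.t a b) = C.t a' b) : C.IsTen g := by
  obtain ⟨bs, hbs⟩ := C.exists_dual hb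
  set s : (Fin n₁ → F) →ₗ[F] (Fin n₁ → F) := (C.pr bs).comp ((ap g).comp (C.t.flip b)) with hs
  have hs' : ∀ a, ap g (C.t a b) = C.t (s a) b := fun a => by
    obtain ⟨a', ha'⟩ := h a
    simp [hs, ha', C.pr_t, hbs]
  let σ := LinearEquiv.ofInjectiveEndo s (fun a a' haa => C.t_inj hb (ap_inj g (by rw [hs', hs', haa])))
  have hσ : ∀ a, ap g (C.t a b) = C.t (σ a) b := hs'
  obtain ⟨β, hβ⟩ := C.exists_pr H.five hb
  obtain ⟨w, hw⟩ := perp_tensor H hg hb hσ (β := β) (C.g_zero_comm hβ.orth)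
  obtain ⟨a0, a1, ha01⟩ := exists_fdual H
  have ha0 : a0 ≠ 0 := fun h0 => by simp [h0] at ha01
  have hw0 : w ≠ 0 := fun h0 => by
    have h1 := hw a0
    rw [h0, map_zero] at h1
    have h2 : C.t a0 β = 0 := ap_inj g (by rw [h1, map_zero])
    exact ha0 (C.t_inj hβ.right (a' := 0) (by rw [h2, map_zero, LinearMap.zero_apply]))
  obtain ⟨τ, u, hu, hτ⟩ := C.exists_move hw0 hβ.right
  have hg' : u * g ∈ M := mul_mem (H.ovr.right _ _ hu) hg
  have hg'β : ∀ a, ap (u * g) (C.t a β) = C.t (σ a) β := fun a => by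
    rw [ap_mul, hw, hu.ten, hτ]; rfl
  obtain ⟨a2, ha2⟩ := C.swap.exists_dual (b := σ a0) fun h0 => ha0 (σ.map_eq_zero_iff.1 h0)
  have ha2' : C.f (σ a0) a2 = 1 := ha2
  set T : (Fin n₂ → F) →ₗ[F] (Fin n₂ → F) := (C.swap.pr a2).comp ((ap g).comp (C.t a0)) with hTdef
  have hT : ∀ y z, (∀ a, ap g (C.t a y) = C.t (σ a) z) → T y = z := fun y z hz => by
    have := C.swap.pr_t a2 z (σ a0)
    simp only [hTdef, LinearMap.comp_apply, hz]
    rw [show C.t (σ a0) z = C.swap.t z (σ a0) from rfl, this,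
      show C.swap.g (σ a0) a2 = C.f (σ a0) a2 from rfl, ha2', one_smul]
  obtain ⟨e, he, he'⟩ := C.exists_pair (W := F ∙ β) (e := b) hβ.swap.2.2
  have heb : C.g (-e) b = 1 := by rw [map_neg, LinearMap.neg_apply, C.g_skew, he', neg_neg]
  have heβ : C.g (-e) β = 0 := by
    rw [map_neg, LinearMap.neg_apply, C.g_zero_comm (he β (Submodule.mem_span_singleton_self β)), neg_zero]
  have main : ∀ a y, ap g (C.t a y) = C.t (σ a) (T y) := by
    intro a y
    have h1 : C.g (y - C.g y b • (-e)) b = 0 := by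
      rw [map_sub, map_smul, LinearMap.sub_apply, LinearMap.smul_apply, heb, smul_eq_mul, mul_one, sub_self]
    obtain ⟨z1, hz1⟩ := perp_tensor H hg hb hσ h1
    have h2 : C.g (C.g y b • (-e)) β = 0 := by rw [map_smul, LinearMap.smul_apply, heβ, smul_zero]
    obtain ⟨z2, hz2⟩ := perp_tensor H hg' hβ.right hg'β h2
    have hall : ∀ a, ap g (C.t a y) = C.t (σ a) (z1 + τ.symm z2) := fun a => by
      have h3 : ap g (C.t a (C.g y b • (-e))) = C.t (σ a) (τ.symm z2) := ap_inj u (by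
        rw [← ap_mul, hz2, hu.ten, τ.apply_symm_apply]; rfl)
      conv_lhs => rw [← sub_add_cancel y (C.g y b • (-e))]
      rw [map_add, map_add, hz1, h3, map_add]
    rw [hT y _ hall]
    exact hall a
  exact ⟨σ, LinearEquiv.ofInjectiveEndo T (fun y y' hyy =>
    C.t_inj_left ha0 (ap_inj g (by rw [main, main, hyy]))), main⟩

/-- A conjugate of `uB b₁ 1` stabilising a ruling comes from the tensor stabiliser. -/
theorem isTen_of_conj_stab (hlt : n₁ < n₂) {g : IsoGrp Q} (hg : g ∈ M) {b0 b1 : Fin n₂ → F}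
    (hb0 : b0 ≠ 0) (hb1 : b1 ≠ 0)
    (h : ∀ a, ∃ a', ap (g * C.uB b1 1 * g⁻¹) (C.t a b0) = C.t a' b0) : C.IsTen g := by
  have hu : C.uB b1 1 ∈ M := H.ovr.right _ _ (C.mov_uB b1 1)
  obtain ⟨σ, τ, hm⟩ := isTen_of_stab H (mul_mem (mul_mem hg hu) (inv_mem hg)) hb0 h
  have happ : ∀ x, ap (g * C.uB b1 1 * g⁻¹) x = x + ap g (C.t (C.pr b1 (ap g⁻¹ x)) b1) := fun x => by
    rw [ap_mul, ap_mul, uB_ap, one_smul, map_add, ap_ap_inv]
  obtain ⟨s, hs⟩ := scalar_of_lines σ.toLinearMap fun a => by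
    rcases eq_or_ne a 0 with rfl | ha
    · simp
    let L : (Fin n₂ → F) →ₗ[F] (Fin n₁ → F) := (C.pr b1).comp ((ap g⁻¹).comp (C.t a))
    obtain ⟨y, hy, hy0⟩ := exists_ker_not_mem (fun i : Fin n₁ => (LinearMap.proj i).comp L)
      (⊥ : Submodule F (Fin n₂ → F)) (by rw [finrank_bot]; omega)
    have hy1 : C.pr b1 (ap g⁻¹ (C.t a y)) = 0 := funext hy
    have h1 := happ (C.t a y)
    rw [hy1, map_zero, LinearMap.zero_apply, map_zero, add_zero, hm a y] at h1
    have hy' : τ y ≠ 0 := fun h0 => hy0 (by simpa using τ.map_eq_zero_iff.1 h0)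
    obtain ⟨c, hc⟩ := C.left_of_t_eq hy' h1
    rw [LinearEquiv.coe_coe, hc]
    exact Submodule.smul_mem _ _ (Submodule.mem_span_singleton_self a)
  have hm' : ∀ a y, ap (g * C.uB b1 1 * g⁻¹) (C.t a y) = C.t a (s • τ y) := fun a y => by
    have := LinearMap.congr_fun hs a
    rw [LinearEquiv.coe_coe, LinearMap.smul_apply, LinearMap.id_apply] at this
    rw [hm, this, map_smul, LinearMap.smul_apply, map_smul]
  obtain ⟨y0, hy0⟩ : ∃ y0, s • τ y0 - y0 ≠ 0 := by
    by_contra! hall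
    have hone : g * C.uB b1 1 * g⁻¹ = 1 := C.iso_ext fun a y => by
      rw [hm', ap_one, sub_eq_zero.1 (hall y)]
    have h1 : C.uB b1 1 = 1 := by
      have := congrArg (fun m => g⁻¹ * m * g) hone
      simpa [mul_assoc] using this
    obtain ⟨a0, a1, ha01⟩ := exists_fdual H
    obtain ⟨y, hy⟩ := C.exists_dual hb1
    have h2 := congrArg (fun m => ap m (C.t a0 (-y))) h1
    have hyb : C.g (-y) b1 = 1 := by rw [map_neg, LinearMap.neg_apply, C.g_skew, hy, neg_neg]
    simp only [uB_t, hyb, mul_one, one_smul, ap_one] at h2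
    rw [map_add, add_eq_left] at h2
    have := C.t_inj hb1 (a' := 0) (h2.trans (by rw [map_zero, LinearMap.zero_apply]))
    simp [this] at ha01
  set z := s • τ y0 - y0
  set ρ : (Fin n₁ → F) →ₗ[F] (Fin n₁ → F) := (C.pr b1).comp ((ap g⁻¹).comp (C.t.flip y0)) with hρdef
  have hρ : ∀ a, C.t a z = ap g (C.t (ρ a) b1) := fun a => by
    rw [map_sub, ← hm', happ, add_sub_cancel_left]; rfl
  let e := LinearEquiv.ofInjectiveEndo ρ (fun a a' haa => C.t_inj hy0 (by rw [hρ, hρ, haa]))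
  obtain ⟨τ', u, hu', hτ'⟩ := C.exists_move hy0 hb1
  have hten : C.IsTen (u * g) := isTen_of_stab H (mul_mem (H.ovr.right _ _ hu') hg) hb1 fun a => by
    refine ⟨e.symm a, ?_⟩
    conv_lhs => rw [← e.apply_symm_apply a]
    rw [ap_mul, show (e (e.symm a)) = ρ (e.symm a) from rfl, ← hρ, hu'.ten, hτ']
    rfl
  have := hu'.isTen.inv.mul hten
  rwa [inv_mul_cancel_left] at this

omit H in
/-- A subgroup containing both factors and a non-tensor element contains `Ω`. -/
theorem omega_le_of_not_isTen (hG : Good Q) (hcard : 5 ≤ Fintype.card ι) (hpos : 0 < n₁)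
    (hlt : n₁ + 1 < n₂) (h5 : 5 ≤ n₂) (hbig : n₁ = 2 → 2 < Fintype.card F) (hM : C.Ovr M)
    {g : IsoGrp Q} (hg : g ∈ M) (hgn : ¬ C.IsTen g) : Omega F ⇑Q ≤ M := by
  by_contra hns
  have H : C.Hyp M := ⟨hG, hcard, hpos, h5, hM, hns, hbig⟩
  set b0 : Fin n₂ → F := Pi.single ⟨0, by omega⟩ 1
  have hb0 : b0 ≠ 0 := by simp [b0]
  let I : IsoGrp Q → Submodule F (Fin n₁ → F) := fun g =>
    (LinearMap.range (C.t.flip b0)).comap ((ap g).comp (C.t.flip b0))
  suffices h : ∀ k, ∀ g ∈ M, ¬ C.IsTen g → n₁ < finrank F (I g) + k → False from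
    h (n₁ + 1) g hg hgn (by omega)
  intro k
  induction k with
  | zero =>
    intro g _ _ hk
    have := Submodule.finrank_le (I g)
    rw [finrank_space, Fintype.card_fin] at this
    omega
  | succ k ih =>
    intro g hg hgn hk
    obtain ⟨a1, ha1⟩ : ∃ a, a ∉ I g := by
      by_contra! hall
      refine hgn (isTen_of_stab H hg hb0 fun a => ?_)
      obtain ⟨a', ha'⟩ := hall a
      exact ⟨a', ha'.symm⟩
    set w := ap g (C.t a1 b0)
    obtain ⟨b1, hb1, hb10⟩ := exists_ker_not_mem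
      (Fin.cons (C.g b0) fun i : Fin n₁ => (LinearMap.proj i).comp (C.pr.flip w))
      (⊥ : Submodule F (Fin n₂ → F)) (by rw [finrank_bot]; omega)
    have hb01 : C.g b0 b1 = 0 := hb1 0
    have hw1 : C.pr b1 w = 0 := funext fun i => hb1 i.succ
    set g' := g⁻¹ * C.uB b1 1 * g with hg'
    have hfix : ∀ a, a ∈ I g ⊔ F ∙ a1 → ap g' (C.t a b0) = C.t a b0 := by
      intro a ha
      obtain ⟨p, hp, q, hq, rfl⟩ := Submodule.mem_sup.1 ha
      obtain ⟨r, rfl⟩ := Submodule.mem_span_singleton.1 hq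
      obtain ⟨c, hc⟩ := hp
      have h1 : ap g (C.t p b0) = C.t c b0 := hc.symm
      rw [map_add, LinearMap.add_apply, map_add, hg', ap_mul, ap_mul, ap_mul, ap_mul, h1, uB_t, hb01,
        map_smul, LinearMap.smul_apply, map_smul]
      simp only [mul_zero, zero_smul, add_zero]
      rw [uB_ap, map_smul, show ap g (C.t a1 b0) = w from rfl, hw1]
      simp only [map_zero, LinearMap.zero_apply, smul_zero, add_zero]
      rw [← h1, ap_inv_ap, map_smul, ap_inv_ap]
    have ha10 : a1 ≠ 0 := fun h0 => ha1 (by rw [h0]; exact Submodule.zero_mem _)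
    have hg'n : ¬ C.IsTen g' := by
      rintro ⟨σ, τ, hst⟩
      have h1 := (hst a1 b0).symm.trans (hfix a1 (Submodule.mem_sup_right (Submodule.mem_span_singleton_self a1)))
      obtain ⟨c, hc⟩ := C.right_of_t_eq (fun h0 => ha10 (σ.map_eq_zero_iff.1 h0)) h1
      refine hgn ?_
      have := isTen_of_conj_stab H (by omega) (inv_mem hg) hb0 (by simpa using hb10) fun a => ⟨c • σ a, by
        rw [inv_inv, ← hg', hst, hc, map_smul, map_smul, LinearMap.smul_apply]⟩
      simpa using this.inv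
    refine ih g' (mul_mem (mul_mem (inv_mem hg) (hM.right _ _ (C.mov_uB b1 1))) hg) hg'n ?_
    have hsup : I g ⊔ F ∙ a1 ≤ I g' := fun a ha => ⟨a, (hfix a ha).symm⟩
    have hlt' : I g < I g ⊔ F ∙ a1 := lt_of_le_of_ne le_sup_left fun he => ha1 (by
      rw [he]; exact Submodule.mem_sup_right (Submodule.mem_span_singleton_self a1))
    have := Submodule.finrank_lt_finrank_of_lt hlt'
    have := Submodule.finrank_mono hsup
    omega

end SS

end Cfsg.Agent.C4
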