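import Cfsg.Agent.Lib.C4.SympBase

/-!
# Tensor products of two spaces with reflexive forms

* `TT ι F n₁ n₂` : `V = A ⊗ B` with `p = f ⊗ g` in odd characteristic
* `prB`, `prA` : contractions; `tm N K` : the operator `N ⊗ K`; `te σ τ` : the isomorphism `σ ⊗ τ`
* `Dop a x`, `exp2` : Eichler operators and their exponentials
* `Root l N` : square-zero skew operators of rank `l` on the left factor
-/

set_option autoImplicit false
set_option linter.unusedSectionVars false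
set_option linter.unusedSimpArgs false

namespace Cfsg.Agent.TenForm

open Module
open Cfsg.Agent.C4 (repDual repDual_symm_apply)

variable {ι : Type} [Fintype ι] [DecidableEq ι] {F : Type*} [Field F] {n₁ n₂ : ℕ}

/-- A tensor decomposition of a space with a reflexive form. -/
structure TT (ι : Type) [Fintype ι] [DecidableEq ι] (F : Type*) [Field F] (n₁ n₂ : ℕ) where
  t : (Fin n₁ → F) →ₗ[F] (Fin n₂ → F) →ₗ[F] (ι → F)
  p : (ι → F) →ₗ[F] (ι → F) →ₗ[F] F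
  f : (Fin n₁ → F) →ₗ[F] (Fin n₁ → F) →ₗ[F] F
  g : (Fin n₂ → F) →ₗ[F] (Fin n₂ → F) →ₗ[F] F
  s₁ : F
  s₂ : F
  hf : ∀ a a', f a' a = s₁ * f a a'
  hg : ∀ b b', g b' b = s₂ * g b b'
  hs₁ : s₁ * s₁ = 1
  hs₂ : s₂ * s₂ = 1
  two : (2 : F) ≠ 0
  fnd : ∀ a, (∀ a', f a a' = 0) → a = 0
  gnd : ∀ b, (∀ b', g b b' = 0) → b = 0
  pnd : ∀ x, (∀ y, p x y = 0) → x = 0
  pol : ∀ a b a' b', p (t a b) (t a' b') = f a a' * g b b'
  spn : Submodule.span F {x | ∃ a b, t a b = x} = ⊤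

namespace TT

/-- The factors exchanged. -/
def swap (C : TT ι F n₁ n₂) : TT ι F n₂ n₁ where
  t := C.t.flip
  p := C.p
  f := C.g
  g := C.f
  s₁ := C.s₂
  s₂ := C.s₁
  hf := C.hg
  hg := C.hf
  hs₁ := C.hs₂
  hs₂ := C.hs₁
  two := C.two
  fnd := C.gnd
  gnd := C.fnd
  pnd := C.pnd
  pol a b a' b' := by rw [LinearMap.flip_apply, LinearMap.flip_apply, C.pol, mul_comm]
  spn := by
    rw [← C.spn]; congr 1; ext x
    exact ⟨fun ⟨a, b, h⟩ => ⟨b, a, h⟩, fun ⟨a, b, h⟩ => ⟨b, a, h⟩⟩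

variable (C : TT ι F n₁ n₂)

theorem ext_pure {M : Type*} [AddCommGroup M] [Module F M] {L L' : (ι → F) →ₗ[F] M}
    (h : ∀ a b, L (C.t a b) = L' (C.t a b)) : L = L' :=
  LinearMap.ext_on C.spn (by rintro _ ⟨a, b, rfl⟩; exact h a b)

theorem ext_pure₂ {L L' : (ι → F) →ₗ[F] (ι → F) →ₗ[F] F}
    (h : ∀ a b a' b', L (C.t a b) (C.t a' b') = L' (C.t a b) (C.t a' b')) : L = L' :=
  C.ext_pure fun a b => C.ext_pure (h a b)

theorem hp (x y : ι → F) : C.p y x = C.s₁ * C.s₂ * C.p x y :=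
  LinearMap.congr_fun (LinearMap.congr_fun (C.ext_pure₂ (L := C.p.flip) (L' := (C.s₁ * C.s₂) • C.p)
    fun a b a' b' => by simp only [LinearMap.flip_apply, LinearMap.smul_apply, C.pol, C.hf a a',
      C.hg b b', smul_eq_mul]; ring) x) y

theorem s₁_ne : C.s₁ ≠ 0 := fun h => by simpa [h] using C.hs₁
theorem s₂_ne : C.s₂ ≠ 0 := fun h => by simpa [h] using C.hs₂

theorem f_zero_comm {a a' : Fin n₁ → F} (h : C.f a a' = 0) : C.f a' a = 0 := by
  rw [C.hf, h, mul_zero]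

theorem g_zero_comm {b b' : Fin n₂ → F} (h : C.g b b' = 0) : C.g b' b = 0 := C.swap.f_zero_comm h

theorem p_zero_comm {x y : ι → F} (h : C.p x y = 0) : C.p y x = 0 := by rw [C.hp, h, mul_zero]

theorem pnd' {x : ι → F} (h : ∀ y, C.p y x = 0) : x = 0 := C.pnd x fun y => C.p_zero_comm (h y)

theorem f_ext {a a' : Fin n₁ → F} (h : ∀ z, C.f a z = C.f a' z) : a = a' :=
  sub_eq_zero.1 (C.fnd _ fun z => by rw [map_sub, LinearMap.sub_apply, h, sub_self])

theorem p_ext {x x' : ι → F} (h : ∀ a b, C.p x (C.t a b) = C.p x' (C.t a b)) : x = x' :=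
  sub_eq_zero.1 (C.pnd _ fun y => by
    rw [map_sub, LinearMap.sub_apply, LinearMap.congr_fun (C.ext_pure h) y, sub_self])

/-! ### duals -/

/-- A functional on the left factor is given by a vector. -/
theorem exists_rep (φ : Module.Dual F (Fin n₁ → F)) : ∃ u, ∀ z, C.f u z = φ z :=
  ⟨(repDual C.f C.fnd).symm φ, repDual_symm_apply C.f C.fnd φ⟩

/-- A vector outside a subspace pairs with a vector orthogonal to it. -/
theorem exists_pair {W : Submodule F (Fin n₁ → F)} {a : Fin n₁ → F} (ha : a ∉ W) :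
    ∃ x, (∀ w ∈ W, C.f w x = 0) ∧ C.f a x = 1 := by
  obtain ⟨φ, hφ, hφa⟩ := Transvect.exists_dual_eq_one ha
  obtain ⟨u, hu⟩ := C.exists_rep φ
  exact ⟨C.s₁ • u, fun w hw => by rw [map_smul, C.hf u w, hu, hφ w hw, mul_zero, smul_zero],
    by rw [map_smul, C.hf u a, hu, hφa, smul_eq_mul, mul_one, C.hs₁]⟩

theorem exists_dual {a : Fin n₁ → F} (ha : a ≠ 0) : ∃ x, C.f a x = 1 := by
  obtain ⟨x, -, hx⟩ := C.exists_pair (W := ⊥) (a := a) (by simpa using ha)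
  exact ⟨x, hx⟩

/-- Twice orthogonal means being in the subspace. -/
theorem mem_of_perp {W : Submodule F (Fin n₁ → F)} {a : Fin n₁ → F}
    (h : ∀ x, (∀ w ∈ W, C.f w x = 0) → C.f a x = 0) : a ∈ W := by
  by_contra ha
  obtain ⟨x, hx, hx1⟩ := C.exists_pair ha
  rw [h x hx] at hx1
  exact zero_ne_one hx1

/-! ### contractions -/

/-- `f (prB y x) a = p (x, a ⊗ y)`. -/
noncomputable def prB : (Fin n₂ → F) →ₗ[F] (ι → F) →ₗ[F] (Fin n₁ → F) :=
  LinearMap.mk₂ F (fun y x => (repDual C.f C.fnd).symm ((C.p x).comp (C.t.flip y)))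
    (fun y y' x => by rw [← map_add]; congr 1; ext a; simp)
    (fun c y x => by rw [← map_smul]; congr 1; ext a; simp)
    (fun y x x' => by rw [← map_add]; congr 1; ext a; simp)
    (fun c y x => by rw [← map_smul]; congr 1; ext a; simp)

/-- `g (prA a x) y = p (x, a ⊗ y)`. -/
noncomputable def prA : (Fin n₁ → F) →ₗ[F] (ι → F) →ₗ[F] (Fin n₂ → F) := C.swap.prB

theorem f_prB (y : Fin n₂ → F) (x : ι → F) (a : Fin n₁ → F) :
    C.f (C.prB y x) a = C.p x (C.t a y) := by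
  rw [prB, LinearMap.mk₂_apply, repDual_symm_apply]; rfl

theorem g_prA (a : Fin n₁ → F) (x : ι → F) (y : Fin n₂ → F) :
    C.g (C.prA a x) y = C.p x (C.t a y) := C.swap.f_prB a x y

theorem prB_t (y : Fin n₂ → F) (a : Fin n₁ → F) (z : Fin n₂ → F) :
    C.prB y (C.t a z) = C.g z y • a :=
  C.f_ext fun w => by rw [C.f_prB, C.pol, map_smul, LinearMap.smul_apply, smul_eq_mul, mul_comm]

theorem prA_t (a : Fin n₁ → F) (c : Fin n₁ → F) (z : Fin n₂ → F) :
    C.prA a (C.t c z) = C.f c a • z := C.swap.prB_t a z c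

theorem t_inj {b : Fin n₂ → F} (hb : b ≠ 0) {a a' : Fin n₁ → F} (h : C.t a b = C.t a' b) : a = a' := by
  obtain ⟨y, hy⟩ := C.swap.exists_dual hb
  have hy' : C.g b y = 1 := hy
  simpa [C.prB_t, hy'] using congrArg (C.prB y) h

theorem t_inj_left {a : Fin n₁ → F} (ha : a ≠ 0) {b b' : Fin n₂ → F} (h : C.t a b = C.t a b') :
    b = b' := C.swap.t_inj ha h

/-- The dual of the standard basis of the right factor. -/
noncomputable def dB (i : Fin n₂) : Fin n₂ → F :=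
  C.s₂ • (repDual C.g C.gnd).symm (LinearMap.proj i)

theorem g_dB (z : Fin n₂ → F) (i : Fin n₂) : C.g z (C.dB i) = z i := by
  rw [dB, map_smul, C.hg _ z, repDual_symm_apply, smul_eq_mul, ← mul_assoc, C.hs₂, one_mul]; rfl

/-- `N ⊗ K`. -/
noncomputable def tm (N : (Fin n₁ → F) →ₗ[F] (Fin n₁ → F)) (K : (Fin n₂ → F) →ₗ[F] (Fin n₂ → F)) :
    (ι → F) →ₗ[F] (ι → F) :=
  ∑ i, (C.t.flip (K (Pi.single i 1))).comp (N.comp (C.prB (C.dB i)))

theorem tm_t (N : (Fin n₁ → F) →ₗ[F] (Fin n₁ → F)) (K : (Fin n₂ → F) →ₗ[F] (Fin n₂ → F))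
    (a : Fin n₁ → F) (z : Fin n₂ → F) : C.tm N K (C.t a z) = C.t (N a) (K z) := by
  conv_rhs => rw [pi_eq_sum_univ' z]
  simp [tm, C.prB_t, C.g_dB, map_sum]

theorem tm_one : C.tm LinearMap.id LinearMap.id = LinearMap.id :=
  C.ext_pure fun a b => by simp [C.tm_t]

theorem eq_sum (x : ι → F) : x = ∑ i, C.t (C.prB (C.dB i) x) (Pi.single i 1) := by
  conv_lhs => rw [← LinearMap.id_apply (R := F) x, ← C.tm_one]
  simp [tm]

theorem tm_comp (N N' : (Fin n₁ → F) →ₗ[F] (Fin n₁ → F)) (K K' : (Fin n₂ → F) →ₗ[F] (Fin n₂ → F))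
    (x : ι → F) : C.tm N K (C.tm N' K' x) = C.tm (N.comp N') (K.comp K') x :=
  LinearMap.congr_fun (C.ext_pure (L := (C.tm N K).comp (C.tm N' K')) fun a b => by
    simp [C.tm_t]) x

theorem tm_swap (N : (Fin n₁ → F) →ₗ[F] (Fin n₁ → F)) (K : (Fin n₂ → F) →ₗ[F] (Fin n₂ → F)) :
    C.swap.tm K N = C.tm N K :=
  C.ext_pure fun a b => by
    rw [C.tm_t, show C.t a b = C.swap.t b a from rfl, C.swap.tm_t]; rfl

theorem tm_zero (K : (Fin n₂ → F) →ₗ[F] (Fin n₂ → F)) : C.tm 0 K = 0 :=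
  C.ext_pure fun a b => by simp [C.tm_t]

theorem tm_smul (c : F) (N : (Fin n₁ → F) →ₗ[F] (Fin n₁ → F)) (K : (Fin n₂ → F) →ₗ[F] (Fin n₂ → F)) :
    C.tm (c • N) K = c • C.tm N K :=
  C.ext_pure fun a b => by simp [C.tm_t]

theorem tm_smul_right (c : F) (N : (Fin n₁ → F) →ₗ[F] (Fin n₁ → F))
    (K : (Fin n₂ → F) →ₗ[F] (Fin n₂ → F)) : C.tm N (c • K) = c • C.tm N K :=
  C.ext_pure fun a b => by simp [C.tm_t]

theorem tm_add (N N' : (Fin n₁ → F) →ₗ[F] (Fin n₁ → F)) (K : (Fin n₂ → F) →ₗ[F] (Fin n₂ → F)) :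
    C.tm (N + N') K = C.tm N K + C.tm N' K :=
  C.ext_pure fun a b => by simp [C.tm_t]

theorem tm_add_right (N : (Fin n₁ → F) →ₗ[F] (Fin n₁ → F))
    (K K' : (Fin n₂ → F) →ₗ[F] (Fin n₂ → F)) : C.tm N (K + K') = C.tm N K + C.tm N K' :=
  C.ext_pure fun a b => by simp [C.tm_t]

theorem prB_tm (N : (Fin n₁ → F) →ₗ[F] (Fin n₁ → F)) (y : Fin n₂ → F) (x : ι → F) :
    C.prB y (C.tm N LinearMap.id x) = N (C.prB y x) :=
  LinearMap.congr_fun (C.ext_pure (L := (C.prB y).comp (C.tm N LinearMap.id))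
    (L' := N.comp (C.prB y)) fun a b => by simp [C.tm_t, C.prB_t]) x

/-- A rank one coincidence of tensor operators. -/
theorem eq_smul_of_tm {N N' : (Fin n₁ → F) →ₗ[F] (Fin n₁ → F)}
    {K K' : (Fin n₂ → F) →ₗ[F] (Fin n₂ → F)} (h : C.tm N K = C.tm N' K') (hN : N ≠ 0) :
    ∃ c : F, K = c • K' := by
  obtain ⟨a, ha⟩ : ∃ a, N a ≠ 0 := by
    by_contra! hall
    exact hN (LinearMap.ext hall)
  obtain ⟨u, hu⟩ := C.exists_dual ha
  refine ⟨C.f (N' a) u, LinearMap.ext fun z => ?_⟩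
  have := congrArg (C.prA u) (LinearMap.congr_fun h (C.t a z))
  rw [C.tm_t, C.tm_t, C.prA_t, C.prA_t, hu, one_smul] at this
  exact this

/-! ### `L ⊗ B` -/

/-- The vectors all of whose contractions lie in `L`. -/
noncomputable def sub (L : Submodule F (Fin n₁ → F)) : Submodule F (ι → F) := ⨅ y, L.comap (C.prB y)

theorem mem_sub {L : Submodule F (Fin n₁ → F)} {x : ι → F} : x ∈ C.sub L ↔ ∀ y, C.prB y x ∈ L := by
  simp [sub]

theorem t_mem_sub {L : Submodule F (Fin n₁ → F)} {a : Fin n₁ → F} (ha : a ∈ L) (y : Fin n₂ → F) :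
    C.t a y ∈ C.sub L :=
  C.mem_sub.2 fun z => by rw [C.prB_t]; exact L.smul_mem _ ha

theorem sub_mono {L L' : Submodule F (Fin n₁ → F)} (h : L ≤ L') : C.sub L ≤ C.sub L' :=
  fun _ hx => C.mem_sub.2 fun y => h (C.mem_sub.1 hx y)

/-- Linear maps agreeing on `a ⊗ y`, `a ∈ L`, agree on `L ⊗ B`. -/
theorem eq_on_sub {M : Type*} [AddCommGroup M] [Module F M] {L : Submodule F (Fin n₁ → F)}
    {φ ψ : (ι → F) →ₗ[F] M} (h : ∀ a ∈ L, ∀ y, φ (C.t a y) = ψ (C.t a y)) {x : ι → F}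
    (hx : x ∈ C.sub L) : φ x = ψ x := by
  rw [C.eq_sum x, map_sum, map_sum]
  exact Finset.sum_congr rfl fun i _ => h _ (C.mem_sub.1 hx _) _

theorem range_tm (N : (Fin n₁ → F) →ₗ[F] (Fin n₁ → F)) :
    LinearMap.range (C.tm N LinearMap.id) = C.sub (LinearMap.range N) := by
  refine le_antisymm ?_ fun x hx => ?_
  · rintro _ ⟨x, rfl⟩
    exact C.mem_sub.2 fun y => by rw [C.prB_tm]; exact ⟨_, rfl⟩
  · rw [C.eq_sum x]
    refine Submodule.sum_mem _ fun i _ => ?_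
    obtain ⟨a, ha⟩ := C.mem_sub.1 hx (C.dB i)
    exact ⟨C.t a (Pi.single i 1), by rw [C.tm_t, ha]; rfl⟩

theorem ker_tm (N : (Fin n₁ → F) →ₗ[F] (Fin n₁ → F)) :
    LinearMap.ker (C.tm N LinearMap.id) = C.sub (LinearMap.ker N) := by
  ext x
  rw [LinearMap.mem_ker, C.mem_sub]
  refine ⟨fun h y => by rw [LinearMap.mem_ker, ← C.prB_tm, h, map_zero], fun h => ?_⟩
  rw [C.eq_sum x, map_sum]
  exact Finset.sum_eq_zero fun i _ => by
    rw [C.tm_t, LinearMap.mem_ker.1 (h _), map_zero, LinearMap.zero_apply]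

theorem finrank_sub (L : Submodule F (Fin n₁ → F)) :
    finrank F (C.sub L) = finrank F L * n₂ := by
  let Φ : C.sub L →ₗ[F] (Fin n₂ → L) := LinearMap.pi fun i =>
    ((C.prB (C.dB i)).comp (C.sub L).subtype).codRestrict L fun x => C.mem_sub.1 x.2 _
  have hb : Function.Bijective Φ := by
    refine ⟨(injective_iff_map_eq_zero Φ).2 fun x hx => Subtype.ext ?_, fun w => ?_⟩
    · rw [C.eq_sum x.1]
      refine Finset.sum_eq_zero fun i _ => ?_
      have h1 : C.prB (C.dB i) x.1 = 0 := congrArg Subtype.val (congrFun hx i)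
      rw [h1, map_zero, LinearMap.zero_apply]
    · refine ⟨⟨∑ i, C.t (w i) (Pi.single i 1), Submodule.sum_mem _ fun i _ => C.t_mem_sub (w i).2 _⟩,
        funext fun j => Subtype.ext ?_⟩
      show C.prB (C.dB j) (∑ i, C.t (w i) (Pi.single i 1)) = _
      simp [map_sum, C.prB_t, C.g_dB, Pi.single_apply, ite_smul]
  rw [(LinearEquiv.ofBijective Φ hb).finrank_eq, Module.finrank_pi_fintype, Finset.sum_const,
    Finset.card_univ, Fintype.card_fin, smul_eq_mul, mul_comm]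

theorem finrank_range_tm (N : (Fin n₁ → F) →ₗ[F] (Fin n₁ → F)) :
    finrank F (LinearMap.range (C.tm N LinearMap.id)) = finrank F (LinearMap.range N) * n₂ := by
  rw [C.range_tm, C.finrank_sub]

theorem finrank_range_tm_right (K : (Fin n₂ → F) →ₗ[F] (Fin n₂ → F)) :
    finrank F (LinearMap.range (C.tm LinearMap.id K)) = finrank F (LinearMap.range K) * n₁ := by
  rw [← C.tm_swap, C.swap.finrank_range_tm]

/-! ### isometries, skew operators -/

/-- `X` is skew for `p`. -/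
def Skew (X : (ι → F) →ₗ[F] (ι → F)) : Prop := ∀ x y, C.p (X x) y = -C.p x (X y)

/-- `N` is skew for `f`. -/
def SkewA (N : (Fin n₁ → F) →ₗ[F] (Fin n₁ → F)) : Prop := ∀ x y, C.f (N x) y = -C.f x (N y)

/-- `N` is self-adjoint for `f`. -/
def SelfA (N : (Fin n₁ → F) →ₗ[F] (Fin n₁ → F)) : Prop := ∀ x y, C.f (N x) y = C.f x (N y)

theorem adjoint_tm {N N' : (Fin n₁ → F) →ₗ[F] (Fin n₁ → F)} {K K' : (Fin n₂ → F) →ₗ[F] (Fin n₂ → F)}
    (hN : ∀ x y, C.f (N x) y = C.f x (N' y)) (hK : ∀ x y, C.g (K x) y = C.g x (K' y)) (x y : ι → F) :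
    C.p (C.tm N K x) y = C.p x (C.tm N' K' y) :=
  LinearMap.congr_fun (LinearMap.congr_fun (C.ext_pure₂ (L := C.p.comp (C.tm N K))
    (L' := C.p.compl₂ (C.tm N' K')) fun a b a' b' => by
      simp [C.tm_t, C.pol, hN, hK]) x) y

theorem skew_tm {N : (Fin n₁ → F) →ₗ[F] (Fin n₁ → F)} (h : C.SkewA N) :
    C.Skew (C.tm N LinearMap.id) := fun x y => by
  rw [C.adjoint_tm (N' := -N) (K' := LinearMap.id) (fun x y => by simp [h x y]) fun _ _ => rfl,
    show -N = (-1 : F) • N from (neg_one_smul F N).symm, C.tm_smul]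
  simp

/-- `m` preserves `p`. -/
def Iso (m : (ι → F) ≃ₗ[F] (ι → F)) : Prop := ∀ x y, C.p (m x) (m y) = C.p x y

variable {C} in
theorem Iso.symm_left {m : (ι → F) ≃ₗ[F] (ι → F)} (h : C.Iso m) (x y : ι → F) :
    C.p (m.symm x) y = C.p x (m y) := by rw [← h, m.apply_symm_apply]

variable {C} in
theorem Iso.symm_right {m : (ι → F) ≃ₗ[F] (ι → F)} (h : C.Iso m) (x y : ι → F) :
    C.p x (m.symm y) = C.p (m x) y := by rw [← h, m.apply_symm_apply]

/-- `σ ⊗ τ`. -/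
noncomputable def te (σ : (Fin n₁ → F) ≃ₗ[F] (Fin n₁ → F)) (τ : (Fin n₂ → F) ≃ₗ[F] (Fin n₂ → F)) :
    (ι → F) ≃ₗ[F] (ι → F) :=
  LinearEquiv.ofLinearMap (C.tm σ.toLinearMap τ.toLinearMap) (C.tm σ.symm.toLinearMap τ.symm.toLinearMap)
    (C.ext_pure fun a b => by simp [C.tm_t]) (C.ext_pure fun a b => by simp [C.tm_t])

theorem te_t (σ : (Fin n₁ → F) ≃ₗ[F] (Fin n₁ → F)) (τ : (Fin n₂ → F) ≃ₗ[F] (Fin n₂ → F))
    (a : Fin n₁ → F) (z : Fin n₂ → F) : C.te σ τ (C.t a z) = C.t (σ a) (τ z) := C.tm_t _ _ a z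

theorem te_apply (σ : (Fin n₁ → F) ≃ₗ[F] (Fin n₁ → F)) (τ : (Fin n₂ → F) ≃ₗ[F] (Fin n₂ → F))
    (x : ι → F) : C.te σ τ x = C.tm σ.toLinearMap τ.toLinearMap x := rfl

theorem te_swap (σ : (Fin n₁ → F) ≃ₗ[F] (Fin n₁ → F)) (τ : (Fin n₂ → F) ≃ₗ[F] (Fin n₂ → F)) :
    C.swap.te τ σ = C.te σ τ :=
  LinearEquiv.ext fun x => by rw [te_apply, te_apply, C.tm_swap]

/-- `m` preserves the decomposition. -/
def IsTen (m : (ι → F) ≃ₗ[F] (ι → F)) : Prop :=
  ∃ (σ : (Fin n₁ → F) ≃ₗ[F] (Fin n₁ → F)) (τ : (Fin n₂ → F) ≃ₗ[F] (Fin n₂ → F)),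
    ∀ a z, m (C.t a z) = C.t (σ a) (τ z)

theorem eq_te {m : (ι → F) ≃ₗ[F] (ι → F)} {σ : (Fin n₁ → F) ≃ₗ[F] (Fin n₁ → F)}
    {τ : (Fin n₂ → F) ≃ₗ[F] (Fin n₂ → F)} (h : ∀ a z, m (C.t a z) = C.t (σ a) (τ z)) :
    m = C.te σ τ :=
  LinearEquiv.ext fun x => LinearMap.congr_fun (C.ext_pure (L := m.toLinearMap)
    (L' := (C.te σ τ).toLinearMap) fun a z => by simp [h, C.te_t]) x

/-! ### square-zero and cube-zero exponentials -/

/-- The rank one operator `z ↦ f(a,z) b`. -/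
def sm (b a : Fin n₁ → F) : (Fin n₁ → F) →ₗ[F] (Fin n₁ → F) := (C.f a).smulRight b

theorem sm_apply (b a z : Fin n₁ → F) : C.sm b a z = C.f a z • b := rfl

/-- `z ↦ f(x,z) a - s₁ f(a,z) x`. -/
def Dop (a x : Fin n₁ → F) : (Fin n₁ → F) →ₗ[F] (Fin n₁ → F) := C.sm a x - C.s₁ • C.sm x a

theorem Dop_apply (a x z : Fin n₁ → F) :
    C.Dop a x z = C.f x z • a - (C.s₁ * C.f a z) • x := by
  simp [Dop, sm_apply, mul_smul]

theorem skewA_Dop (a x : Fin n₁ → F) : C.SkewA (C.Dop a x) := fun z w => by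
  simp only [Dop_apply, map_sub, map_smul, LinearMap.sub_apply, LinearMap.smul_apply, smul_eq_mul,
    C.hf a z, C.hf x z]
  linear_combination -(C.f x z * C.f a w) * C.hs₁

theorem Dop_sq {a x : Fin n₁ → F} (ha : C.f a a = 0) (hx : C.f a x = 0) (z : Fin n₁ → F) :
    C.Dop a x (C.Dop a x z) = (-C.s₁ * C.f a z * C.f x x) • a := by
  simp only [Dop_apply, map_sub, map_smul, smul_eq_mul, ha, hx, C.f_zero_comm hx, mul_zero, sub_zero,
    zero_sub, zero_smul, smul_zero, neg_smul, smul_smul]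
  module

theorem Dop_cube {a x : Fin n₁ → F} (ha : C.f a a = 0) (hx : C.f a x = 0) (z : Fin n₁ → F) :
    C.Dop a x (C.Dop a x (C.Dop a x z)) = 0 := by
  rw [C.Dop_sq ha hx z, map_smul, Dop_apply, ha, C.f_zero_comm hx]; simp

theorem smul_Dop (c : F) (a x : Fin n₁ → F) : C.Dop (c • a) x = c • C.Dop a x :=
  LinearMap.ext fun z => by
    simp only [Dop_apply, map_smul, LinearMap.smul_apply, smul_eq_mul, smul_sub, smul_smul]
    module

/-- `1 + D + D²/2` when `D³ = 0`. -/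
noncomputable def exp2 {E : Type*} [AddCommGroup E] [Module F E] (h2 : (2 : F) ≠ 0) (D : E →ₗ[F] E)
    (h : ∀ x, D (D (D x)) = 0) : E ≃ₗ[F] E :=
  LinearEquiv.ofLinearMap (LinearMap.id + D + (2 : F)⁻¹ • D.comp D)
    (LinearMap.id - D + (2 : F)⁻¹ • D.comp D)
    (LinearMap.ext fun x => by
      simp only [LinearMap.comp_apply, LinearMap.add_apply, LinearMap.sub_apply, LinearMap.smul_apply,
        LinearMap.id_apply, map_add, map_sub, map_smul, h, map_zero, smul_zero, sub_zero, add_zero]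
      match_scalars <;> field_simp <;> ring)
    (LinearMap.ext fun x => by
      simp only [LinearMap.comp_apply, LinearMap.add_apply, LinearMap.sub_apply, LinearMap.smul_apply,
        LinearMap.id_apply, map_add, map_sub, map_smul, h, map_zero, smul_zero, sub_zero, add_zero]
      match_scalars <;> field_simp <;> ring)

/-- The Eichler isometry of the left factor. -/
noncomputable def eA {a x : Fin n₁ → F} (ha : C.f a a = 0) (hx : C.f a x = 0) :
    (Fin n₁ → F) ≃ₗ[F] (Fin n₁ → F) := exp2 C.two (C.Dop a x) (C.Dop_cube ha hx)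

theorem eA_apply {a x : Fin n₁ → F} (ha : C.f a a = 0) (hx : C.f a x = 0) (z : Fin n₁ → F) :
    C.eA ha hx z = z + C.Dop a x z + (2 : F)⁻¹ • C.Dop a x (C.Dop a x z) := rfl

theorem eA_symm {a x : Fin n₁ → F} (ha : C.f a a = 0) (hx : C.f a x = 0) (z : Fin n₁ → F) :
    (C.eA ha hx).symm z = z - C.Dop a x z + (2 : F)⁻¹ • C.Dop a x (C.Dop a x z) := rfl

theorem eA_iso {a x : Fin n₁ → F} (ha : C.f a a = 0) (hx : C.f a x = 0) (u v : Fin n₁ → F) :
    C.f (C.eA ha hx u) (C.eA ha hx v) = C.f u v := by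
  have hs : C.f (C.eA ha hx u) (C.eA ha hx v) = C.f u ((C.eA ha hx).symm (C.eA ha hx v)) := by
    rw [C.eA_apply ha hx u, C.eA_symm]
    have hsk : ∀ u v, C.f (C.Dop a x u) v = -C.f u (C.Dop a x v) := C.skewA_Dop a x
    simp only [map_add, map_sub, map_smul, LinearMap.add_apply, LinearMap.smul_apply,
      hsk, neg_neg, smul_eq_mul, mul_neg, map_neg]
    ring
  rw [hs, LinearEquiv.symm_apply_apply]

/-- The Eichler elements of the left factor. -/
def LeftE (M : Subgroup ((ι → F) ≃ₗ[F] (ι → F))) : Prop :=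
  ∀ (a x : Fin n₁ → F) (ha : C.f a a = 0) (hx : C.f a x = 0),
    C.te (C.eA ha hx) (LinearEquiv.refl F _) ∈ M

/-! ### roots -/

/-- A square-zero operator `Dop a a'` of rank `l`. -/
def Root (l : ℕ) (N : (Fin n₁ → F) →ₗ[F] (Fin n₁ → F)) : Prop :=
  ∃ a a', C.f a a = 0 ∧ C.f a a' = 0 ∧ C.f a' a' = 0 ∧ N = C.Dop a a' ∧
    finrank F (LinearMap.range N) = l

variable {C} {l : ℕ} {N : (Fin n₁ → F) →ₗ[F] (Fin n₁ → F)}

theorem Root.skewA (h : C.Root l N) : C.SkewA N := by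
  obtain ⟨a, a', -, -, -, rfl, -⟩ := h; exact C.skewA_Dop a a'

theorem Root.sq (h : C.Root l N) (z : Fin n₁ → F) : N (N z) = 0 := by
  obtain ⟨a, a', ha, haa, ha', rfl, -⟩ := h
  rw [C.Dop_sq ha haa, ha', mul_zero, zero_smul]

theorem Root.finrank_range (h : C.Root l N) : finrank F (LinearMap.range N) = l := by
  obtain ⟨a, a', -, -, -, -, hl⟩ := h; exact hl

/-- The kernel of a skew operator is orthogonal to its image. -/
theorem SkewA.mem_ker_iff (h : C.SkewA N) {z : Fin n₁ → F} :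
    N z = 0 ↔ ∀ u ∈ LinearMap.range N, C.f u z = 0 := by
  refine ⟨?_, fun hz => C.fnd _ fun w => ?_⟩
  · rintro hz _ ⟨w, rfl⟩
    rw [h, hz, map_zero, neg_zero]
  · rw [h, C.f_zero_comm (hz _ ⟨w, rfl⟩), neg_zero]

/-- The image of a skew operator is orthogonal to nothing but the kernel. -/
theorem SkewA.mem_range_iff (h : C.SkewA N) {u : Fin n₁ → F} :
    u ∈ LinearMap.range N ↔ ∀ z, N z = 0 → C.f u z = 0 :=
  ⟨fun hu z hz => h.mem_ker_iff.1 hz u hu,
    fun hu => C.mem_of_perp fun x hx => hu x (h.mem_ker_iff.2 hx)⟩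

theorem Root.range_le_ker (h : C.Root l N) : LinearMap.range N ≤ LinearMap.ker N := by
  rintro _ ⟨z, rfl⟩; exact h.sq z

theorem Root.isotropic (h : C.Root l N) {u v : Fin n₁ → F} (hu : u ∈ LinearMap.range N)
    (hv : v ∈ LinearMap.range N) : C.f u v = 0 :=
  h.skewA.mem_ker_iff.1 (h.range_le_ker hv) u hu

/-- The element `1 + c N` of the left factor. -/
theorem Root.exists_elem (h : C.Root l N) {M : Subgroup ((ι → F) ≃ₗ[F] (ι → F))} (hM : C.LeftE M)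
    (c : F) : ∃ m ∈ M, ∀ x, m x = x + c • C.tm N LinearMap.id x := by
  obtain ⟨a, a', ha, haa, ha', rfl, -⟩ := h
  have hca : C.f (c • a) (c • a) = 0 := by simp [ha]
  have hcx : C.f (c • a) a' = 0 := by simp [haa]
  refine ⟨_, hM (c • a) a' hca hcx, fun x => LinearMap.congr_fun (C.ext_pure
    (L := (C.te (C.eA hca hcx) (LinearEquiv.refl F _)).toLinearMap)
    (L' := LinearMap.id + c • C.tm (C.Dop a a') LinearMap.id) fun b z => ?_) x⟩
  simp [C.te_t, C.eA_apply, C.Dop_sq hca hcx, ha', C.tm_t, C.smul_Dop, C.Dop_sq ha haa]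

end TT

end Cfsg.Agent.TenForm
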