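import Mathlib
import Cfsg.Agent.EqLemmas

/-!
# Two opposite shears generate a group of even order

* `exists_sylow_inv` : an involutory automorphism of a group of odd order fixes a Sylow subgroup
  containing a given inverted `p`-element
* `even_of_shears`
-/

set_option autoImplicit false
set_option linter.unusedSectionVars false
set_option linter.unusedSimpArgs false

namespace Cfsg.Agent.TenForm

open Module
open scoped Pointwise

theorem exists_fixed_of_invol {α : Type*} [Finite α] (e : α → α) (he : ∀ x, e (e x) = x)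
    (h : Odd (Nat.card α)) : ∃ x, e x = x := by
  classical
  cases nonempty_fintype α
  let σ : Equiv.Perm α := ⟨e, e, he, he⟩
  haveI : Fact (Nat.Prime 2) := ⟨Nat.prime_two⟩
  have hσ : σ ^ 2 ^ 1 = 1 := Equiv.ext fun x => by
    simp [σ, pow_succ, Equiv.Perm.mul_apply, he]
  exact Equiv.Perm.exists_fixed_point_of_prime (σ := σ) (n := 1) (p := 2)
    (by rw [← Nat.card_eq_fintype_card]; exact fun hd => (Nat.not_even_iff_odd.2 h) (even_iff_two_dvd.2 hd))
    hσ

section

variable {G : Type*} [Group G] [Finite G] {p : ℕ} [Fact p.Prime]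

theorem exists_sylow_inv (hodd : Odd (Nat.card G)) (c : G ≃* G) (hc : ∀ x, c (c x) = x) {u : G}
    (hu : u ^ p = 1) (hcu : c u = u⁻¹) : ∃ P : Sylow p G, u ∈ P ∧ ∀ x, x ∈ P → c x ∈ P := by
  classical
  let Ss : Set (Subgroup G) := {S | IsPGroup p S ∧ u ∈ S ∧ ∀ x ∈ S, c x ∈ S}
  have hne : Ss.Nonempty := by
    refine ⟨Subgroup.zpowers u, fun x => ⟨1, ?_⟩, Subgroup.mem_zpowers u, fun x hx => ?_⟩
    · obtain ⟨x, i, rfl⟩ := x
      refine Subtype.ext ?_
      rw [pow_one, SubgroupClass.coe_pow, OneMemClass.coe_one]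
      show (u ^ i) ^ p = 1
      rw [← zpow_natCast, ← zpow_mul, mul_comm, zpow_mul, zpow_natCast, hu, one_zpow]
    · obtain ⟨i, rfl⟩ := hx
      rw [map_zpow, hcu, inv_zpow]
      exact inv_mem (Subgroup.zpow_mem _ (Subgroup.mem_zpowers u) i)
  obtain ⟨S, hS, hmax⟩ := Set.exists_max_image Ss (fun S => Nat.card S) (Set.toFinite _) hne
  obtain ⟨hSp, huS, hSc⟩ := hS
  obtain ⟨P, hP⟩ := hSp.exists_le_sylow
  rcases hP.lt_or_eq with hlt | heq
  swap
  · exact ⟨P, hP huS, fun x hx => show c x ∈ (P : Subgroup G) from heq ▸ hSc x (heq ▸ hx)⟩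
  exfalso
  set N := Subgroup.normalizer (S : Set G) with hN
  have hSN : S ≤ N := Subgroup.le_normalizer
  -- a larger `p`-subgroup of the normalizer
  set R : Subgroup P := S.subgroupOf (P : Subgroup G)
  have hR : R < ⊤ := lt_top_iff_ne_top.2 fun h => hlt.not_ge (Subgroup.subgroupOf_eq_top.1 h)
  haveI : Finite P := inferInstance
  haveI : Group.IsNilpotent P := IsPGroup.isNilpotent P.isPGroup'
  obtain ⟨w, hw, hwR⟩ := SetLike.exists_of_lt (Group.normalizerCondition_of_isNilpotent R hR)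
  have hwN : (w : G) ∈ N := Subgroup.mem_normalizer_iff.2 fun s => by
    refine ⟨fun hs => ?_, fun hs => ?_⟩
    · exact (Subgroup.mem_normalizer_iff.1 hw ⟨s, hP hs⟩).1 hs
    · have hsP : s ∈ (P : Subgroup G) := by
        have h1 := mul_mem (mul_mem (inv_mem w.2) (hP hs)) w.2
        rwa [show (w : G)⁻¹ * ((w : G) * s * (w : G)⁻¹) * w = s by group] at h1
      exact (Subgroup.mem_normalizer_iff.1 hw ⟨s, hsP⟩).2 hs
  -- an invariant Sylow subgroup of the normalizer
  have hcN : ∀ x ∈ N, c x ∈ N := fun x hx => Subgroup.mem_normalizer_iff.2 fun s => by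
    have hcS : ∀ s, s ∈ S ↔ c s ∈ S := fun s => ⟨hSc s, fun h => hc s ▸ hSc _ h⟩
    have := Subgroup.mem_normalizer_iff.1 hx (c s)
    rw [hcS s, hcS (c x * s * (c x)⁻¹), this, map_mul, map_mul, map_inv, hc]
  let cN : N ≃* N :=
    { toFun := fun x => ⟨c x, hcN x x.2⟩
      invFun := fun x => ⟨c x, hcN x x.2⟩
      left_inv := fun x => Subtype.ext (hc x)
      right_inv := fun x => Subtype.ext (hc x)
      map_mul' := fun x y => Subtype.ext (map_mul c _ _) }
  have hoddN : Odd (Nat.card (Sylow p N)) := by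
    obtain ⟨Q⟩ := (inferInstance : Nonempty (Sylow p N))
    exact Odd.of_dvd_nat hodd
      ((Q.card_dvd_index.trans (Subgroup.index_dvd_card _)).trans (Subgroup.card_subgroup_dvd_card N))
  obtain ⟨Q, hQ⟩ := exists_fixed_of_invol (fun Q : Sylow p N => (cN : MulAut N) • Q) (fun Q => by
    show (cN : MulAut N) • (cN : MulAut N) • Q = Q
    rw [← mul_smul, show (cN : MulAut N) * cN = 1 from MulEquiv.ext fun x => Subtype.ext (hc x),
      one_smul]) hoddN
  have hQc : ∀ x ∈ (Q : Subgroup N), cN x ∈ (Q : Subgroup N) := fun x hx => by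
    have h := congrArg (fun Q : Sylow p N => (Q : Subgroup N)) hQ
    simp only [Sylow.pointwise_smul_def] at h
    rw [← h]
    exact Subgroup.smul_mem_pointwise_smul x _ _ hx
  have hSnorm : (S.subgroupOf N).Normal := Subgroup.normal_in_normalizer
  have hSQ : S.subgroupOf N ≤ (Q : Subgroup N) := by
    have hp : IsPGroup p (S.subgroupOf N) := hSp.comap_subtype
    rw [← Q.is_maximal' (Q.isPGroup'.to_sup_of_normal_right hp) le_sup_left]
    exact le_sup_right
  set Q' : Subgroup G := (Q : Subgroup N).map N.subtype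
  have hQ'c : Q' ∈ Ss := by
    refine ⟨Q.isPGroup'.map _, ⟨⟨u, hSN huS⟩, hSQ huS, rfl⟩, ?_⟩
    rintro _ ⟨x, hx, rfl⟩
    exact ⟨cN x, hQc x hx, rfl⟩
  have hle : S ≤ Q' := fun s hs => ⟨⟨s, hSN hs⟩, hSQ hs, rfl⟩
  have hcard := hmax Q' hQ'c
  have hSQeq : S = Q' := Subgroup.eq_of_le_of_card_ge hle hcard
  -- `⟨S, w⟩` is a `p`-subgroup of the normalizer inside a conjugate of `Q`
  obtain ⟨Q₂, hQ₂⟩ := (P.isPGroup'.comap_subtype (K := N)).exists_le_sylow
  have hcard₂ : Nat.card Q₂ = Nat.card S := by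
    have e1 : Nat.card Q₂ = Nat.card (Q : Subgroup N) := by
      rw [Sylow.card_eq_multiplicity Q₂, Sylow.card_eq_multiplicity Q]
    rw [e1, hSQeq]
    exact (Nat.card_congr ((Q : Subgroup N).equivMapOfInjective N.subtype N.subtype_injective).toEquiv)
  have hle₂ : S.subgroupOf N ≤ (Q₂ : Subgroup N) := le_trans (Subgroup.comap_mono hP) hQ₂
  have e2 : S.subgroupOf N = (Q₂ : Subgroup N) := Subgroup.eq_of_le_of_card_ge hle₂ (by
    rw [hcard₂, Nat.card_congr (Subgroup.subgroupOfEquivOfLe hSN).toEquiv])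
  exact hwR (show (⟨w, hwN⟩ : N) ∈ S.subgroupOf N from
    e2 ▸ hQ₂ (show (⟨w, hwN⟩ : N) ∈ (P : Subgroup G).subgroupOf N from w.2))

theorem exists_fixed_conj (hodd : Odd (Nat.card G)) (c : G ≃* G) (hc : ∀ x, c (c x) = x)
    (P P' : Sylow p G) (hP : ∀ x, x ∈ P → c x ∈ P) (hP' : ∀ x, x ∈ P' → c x ∈ P') :
    ∃ x, c x = x ∧ ∀ a, a ∈ P' → x⁻¹ * a * x ∈ P := by
  obtain ⟨y, hy⟩ := MulAction.exists_smul_eq G P P'
  have hy' : ∀ a, a ∈ P' ↔ y⁻¹ * a * y ∈ P := fun a => by
    show a ∈ (P' : Subgroup G) ↔ _ ∈ (P : Subgroup G)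
    rw [← hy, Sylow.coe_subgroup_smul, Subgroup.mem_pointwise_smul_iff_inv_smul_mem]
    simp [MulAut.smul_def, MulAut.inv_def, MulAut.conj_symm_apply]
  set n := y⁻¹ * c y with hn
  have hcn : c n = n⁻¹ := by rw [hn, map_mul, map_inv, hc, mul_inv_rev, inv_inv]
  have hnN : n ∈ Subgroup.normalizer ((P : Subgroup G) : Set G) := by
    refine Subgroup.mem_normalizer_iff.2 fun a => ?_
    have key : ∀ a, a ∈ P → n * a * n⁻¹ ∈ P := fun a ha => by
      have h1 : y * c a * y⁻¹ ∈ P' := (hy' _).2 (by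
        rw [show y⁻¹ * (y * c a * y⁻¹) * y = c a by group]; exact hP a ha)
      have h2 := (hy' _).1 (hP' _ h1)
      rw [map_mul, map_mul, map_inv, hc] at h2
      rw [hn, show y⁻¹ * c y * a * (y⁻¹ * c y)⁻¹ = y⁻¹ * (c y * a * (c y)⁻¹) * y by group]
      exact h2
    refine ⟨key a, fun h => ?_⟩
    have h1 := hP _ (key _ (hP _ h))
    rw [map_mul, map_mul, hcn] at h1
    rw [map_mul, map_mul, map_inv, hcn] at h1
    have h2 := hP _ h1
    rw [map_mul, map_mul, hc, map_inv, map_inv, hcn, inv_inv] at h2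
    have h3 := hP _ h
    rw [map_mul, map_mul, map_inv, hcn, inv_inv] at h3
    have h4 := key _ h3
    rw [show n * (n⁻¹ * c a * n) * n⁻¹ = c a by group] at h4
    have := hP _ h4
    rwa [hc] at this
  obtain ⟨k, hk⟩ := hodd
  set s := n ^ (k + 1) with hs
  have hss : s * s = n := by
    rw [hs, ← pow_add, show k + 1 + (k + 1) = Nat.card G + 1 by omega, pow_succ, pow_card_eq_one', one_mul]
  refine ⟨y * s, ?_, fun a ha => ?_⟩
  · rw [map_mul, hs, map_pow, hcn, inv_pow, ← hs, show c y = y * n by rw [hn]; group, mul_assoc]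
    congr 1
    rw [← hss]; group
  · have hsN : s⁻¹ ∈ Subgroup.normalizer ((P : Subgroup G) : Set G) := inv_mem (pow_mem hnN _)
    have := (Subgroup.mem_normalizer_iff.1 hsN _).1 ((hy' a).1 ha)
    rw [inv_inv] at this
    show (y * s)⁻¹ * a * (y * s) ∈ (P : Subgroup G)
    rwa [show (y * s)⁻¹ * a * (y * s) = s⁻¹ * (y⁻¹ * a * y) * s by group]

end

section

variable {F : Type*} [Field F] [Fintype F] {I J : Type*} [AddCommGroup I] [Module F I]
  [AddCommGroup J] [Module F J] [Finite I] [Finite J]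

/-- Two opposite invertible shears generate a group of even order. -/
theorem even_of_shears [Nontrivial I] (h2 : (2 : F) ≠ 0) (A : J ≃ₗ[F] I) (B : I ≃ₗ[F] J)
    (u v : (I × J) ≃ₗ[F] (I × J)) (hu : ∀ i j, u (i, j) = (i + A j, j))
    (hv : ∀ i j, v (i, j) = (i, j + B i)) :
    Even (Nat.card (Subgroup.closure ({u, v} : Set ((I × J) ≃ₗ[F] (I × J))))) := by
  classical
  haveI : Finite (I × J) := inferInstance
  haveI : Finite ((I × J) ≃ₗ[F] (I × J)) :=
    Finite.of_injective (fun e => (e : I × J → I × J)) DFunLike.coe_injective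
  set Γ := Subgroup.closure ({u, v} : Set ((I × J) ≃ₗ[F] (I × J)))
  rw [← Nat.not_odd_iff_even]
  intro hodd
  set p := ringChar F
  haveI : CharP F p := ringChar.charP F
  haveI hpf : Fact p.Prime := ⟨CharP.char_is_prime F p⟩
  let d : (I × J) ≃ₗ[F] (I × J) := (LinearEquiv.refl F I).prodCongr (LinearEquiv.neg F)
  have hd : ∀ i j, d (i, j) = (i, -j) := fun i j => rfl
  have hdd : d * d = 1 := LinearEquiv.ext fun x => by
    obtain ⟨i, j⟩ := x; simp [LinearEquiv.mul_apply, hd]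
  have hdi : d⁻¹ = d := inv_eq_of_mul_eq_one_right hdd
  set φ := MulAut.conj d with hφ
  have hφ2 : ∀ x, φ (φ x) = x := fun x => by
    simp only [hφ, MulAut.conj_apply, hdi]
    rw [show d * (d * x * d) * d = (d * d) * x * (d * d) by group, hdd, one_mul, mul_one]
  have hshear : φ u * u = 1 ∧ φ v * v = 1 := by
    constructor <;> refine LinearEquiv.ext fun x => ?_ <;> obtain ⟨i, j⟩ := x <;>
      simp [hφ, MulAut.conj_apply, hdi, LinearEquiv.mul_apply, hd, hu, hv]
  have hφu : φ u = u⁻¹ := eq_inv_of_mul_eq_one_left hshear.1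
  have hφv : φ v = v⁻¹ := eq_inv_of_mul_eq_one_left hshear.2
  have hΓ : ∀ x ∈ Γ, φ x ∈ Γ := fun x hx => by
    refine Subgroup.closure_induction (p := fun x _ => φ x ∈ Γ) ?_ (by simp [one_mem])
      (fun a b _ _ ha hb => by rw [map_mul]; exact mul_mem ha hb)
      (fun a _ ha => by rw [map_inv]; exact inv_mem ha) hx
    rintro y (rfl | rfl)
    · rw [hφu]; exact inv_mem (Subgroup.subset_closure (Or.inl rfl))
    · rw [hφv]; exact inv_mem (Subgroup.subset_closure (Or.inr rfl))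
  let c : Γ ≃* Γ :=
    { toFun := fun x => ⟨φ x, hΓ x x.2⟩
      invFun := fun x => ⟨φ x, hΓ x x.2⟩
      left_inv := fun x => Subtype.ext (hφ2 x)
      right_inv := fun x => Subtype.ext (hφ2 x)
      map_mul' := fun x y => Subtype.ext (map_mul φ _ _) }
  have hc : ∀ x, c (c x) = x := fun x => Subtype.ext (hφ2 x)
  have hpow : ∀ (n : ℕ) i j, (u ^ n) (i, j) = (i + (n : F) • A j, j) ∧
      (v ^ n) (i, j) = (i, j + (n : F) • B i) := fun n => by
    induction n with
    | zero => intro i j; simp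
    | succ n ih =>
      intro i j
      rw [pow_succ, pow_succ, LinearEquiv.mul_apply, LinearEquiv.mul_apply, hu, hv, (ih _ _).1, (ih _ _).2]
      constructor <;> simp [add_smul, add_assoc, add_comm ((n : F) • _)]
  have hup : u ^ p = 1 ∧ v ^ p = 1 := by
    constructor <;> refine LinearEquiv.ext fun x => ?_ <;> obtain ⟨i, j⟩ := x <;>
      simp [hpow, CharP.cast_eq_zero]
  let u' : Γ := ⟨u, Subgroup.subset_closure (Or.inl rfl)⟩
  let v' : Γ := ⟨v, Subgroup.subset_closure (Or.inr rfl)⟩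
  obtain ⟨P, huP, hPc⟩ := exists_sylow_inv hodd c hc (p := p) (u := u') (Subtype.ext hup.1)
    (Subtype.ext hφu)
  obtain ⟨P', hvP, hP'c⟩ := exists_sylow_inv hodd c hc (p := p) (u := v') (Subtype.ext hup.2)
    (Subtype.ext hφv)
  obtain ⟨x, hx, hxP⟩ := exists_fixed_conj hodd c hc P P' hPc hP'c
  -- a fixed vector of `P`
  obtain ⟨w, hw⟩ := exists_ne (0 : I)
  have hdvd : p ∣ Nat.card (I × J) := by
    have hord : addOrderOf ((w, 0) : I × J) = p := by
      refine addOrderOf_eq_prime ?_ fun h => hw (congrArg Prod.fst h)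
      rw [← Nat.cast_smul_eq_nsmul F, CharP.cast_eq_zero, zero_smul]
    rw [← hord]; exact addOrderOf_dvd_natCard _
  obtain ⟨⟨i, j⟩, hfix, hne⟩ := P.isPGroup'.exists_fixed_point_of_prime_dvd_card_of_fixed_point (I × J)
    hdvd (a := (0 : I × J)) (MulAction.mem_fixedPoints.2 fun g => smul_zero g)
  have hfix' : ∀ g : Γ, g ∈ P → (g : (I × J) ≃ₗ[F] (I × J)) (i, j) = (i, j) := fun g hg =>
    MulAction.mem_fixedPoints.1 hfix ⟨g, hg⟩
  have hj : j = 0 := by
    have := congrArg Prod.fst (hfix' u' huP)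
    rw [show (u' : (I × J) ≃ₗ[F] (I × J)) (i, j) = (i + A j, j) from hu i j] at this
    simpa using this
  subst hj
  set y := (x : (I × J) ≃ₗ[F] (I × J)) (i, 0) with hy
  have hdy : d y = y := by
    have e1 : φ (x : (I × J) ≃ₗ[F] (I × J)) = x := congrArg Subtype.val hx
    rw [hφ, MulAut.conj_apply, hdi] at e1
    have e2 := LinearEquiv.congr_fun e1 (i, 0)
    rw [LinearEquiv.mul_apply, LinearEquiv.mul_apply, show d (i, (0 : J)) = (i, 0) by rw [hd, neg_zero]] at e2
    exact e2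
  have hy2 : y.2 = 0 := by
    have h := congrArg Prod.snd hdy
    rw [show d y = (y.1, -y.2) from rfl, eq_comm, ← sub_eq_zero, sub_neg_eq_add, ← two_smul F] at h
    exact (smul_eq_zero.1 h).resolve_left h2
  have hvy : v y = y := by
    have h := hfix' _ (hxP v' hvP)
    have h' := congrArg (x : (I × J) ≃ₗ[F] (I × J)) h
    simp only [Subgroup.coe_mul, Subgroup.coe_inv, LinearEquiv.mul_apply] at h'
    rw [show ∀ z, (x : (I × J) ≃ₗ[F] (I × J)) (((x : (I × J) ≃ₗ[F] (I × J))⁻¹) z) = z from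
      fun z => (x : (I × J) ≃ₗ[F] (I × J)).apply_symm_apply z] at h'
    exact h'
  rw [show y = (y.1, y.2) from rfl, hv, Prod.ext_iff] at hvy
  have hy1 : y.1 = 0 := by simpa using hvy.2
  exact hne ((x : (I × J) ≃ₗ[F] (I × J)).injective (by
    show (x : (I × J) ≃ₗ[F] (I × J)) 0 = (x : (I × J) ≃ₗ[F] (I × J)) (i, 0)
    rw [map_zero, ← hy, show y = (y.1, y.2) from rfl, hy1, hy2]; rfl))

end

end Cfsg.Agent.TenForm
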