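import Cfsg.Agent.Lib.C4.TenStab
import Cfsg.Agent.Lib.C4.TenInvol

/-!
# Descent on two conjugate root rulings

* `root_of` : skew square-zero operators of rank `l` are roots
* `isTen_of_conj` : if a conjugate of a root element is a tensor product, so is the conjugating element
* `isTen_of_mem` : under `QProp` every element of the overgroup is a tensor product
-/

set_option autoImplicit false
set_option linter.unusedSectionVars false
set_option linter.unusedSimpArgs false

namespace Cfsg.Agent.TenForm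

open Module

variable {ι : Type} [Fintype ι] [DecidableEq ι] {F : Type*} [Field F] [Fintype F] {n₁ n₂ : ℕ}

/-- Rank is invariant under composition with equivalences on the left. -/
theorem rank_equiv_comp {V V' W : Type*} [AddCommGroup V] [Module F V] [AddCommGroup V'] [Module F V']
    [AddCommGroup W] [Module F W] (e : V' ≃ₗ[F] W) (X : V →ₗ[F] V') :
    finrank F (LinearMap.range (e.toLinearMap.comp X)) = finrank F (LinearMap.range X) := by
  rw [LinearMap.range_comp]; exact e.finrank_map_eq _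

/-- Rank is invariant under composition with equivalences on the right. -/
theorem rank_comp_equiv {V V' W : Type*} [AddCommGroup V] [Module F V] [AddCommGroup V'] [Module F V']
    [AddCommGroup W] [Module F W] (X : V →ₗ[F] V') (e : W ≃ₗ[F] V) :
    finrank F (LinearMap.range (X.comp e.toLinearMap)) = finrank F (LinearMap.range X) := by
  rw [LinearEquiv.range_comp]

namespace TT

variable {C : TT ι F n₁ n₂}
variable {l : ℕ} {M : Subgroup ((ι → F) ≃ₗ[F] (ι → F))} {N : (Fin n₁ → F) →ₗ[F] (Fin n₁ → F)}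

theorem Hyp.npos (H : C.Hyp M l) : 0 < n₂ ∧ 0 < n₁ ∧ 1 ≤ l := by
  refine ⟨by rcases H.dimB with h | h <;> omega, ?_, ?_⟩ <;>
    rcases H.kind with h | h <;> have := H.big <;> omega

/-- A basis of a line. -/
theorem range_one (hs : C.SkewA N) (hsq : ∀ z, N (N z) = 0)
    (hl : finrank F (LinearMap.range N) = 1) :
    ∃ e d, ∃ c : F, C.f e e = 0 ∧ C.f e d = 1 ∧ N d = c • e ∧ (∀ z, N z = C.f e z • N d) := by
  obtain ⟨⟨e, he⟩, he0, hspan⟩ := finrank_eq_one_iff'.1 hl
  obtain ⟨d, hd⟩ := C.exists_dual (fun h => he0 (Subtype.ext h))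
  obtain ⟨c, hc⟩ := hspan ⟨N d, ⟨d, rfl⟩⟩
  have hee : C.f e e = 0 := hs.mem_ker_iff.1 (by obtain ⟨w, rfl⟩ := he; exact hsq w) e he
  refine ⟨e, d, c, hee, hd, (congrArg Subtype.val hc).symm, fun z => ?_⟩
  have h : N (z - C.f e z • d) = 0 := hs.mem_ker_iff.2 fun u hu => by
    obtain ⟨s, hs'⟩ := hspan ⟨u, hu⟩
    rw [← show s • e = u from congrArg Subtype.val hs']
    simp [hd]
  rwa [map_sub, map_smul, sub_eq_zero] at h

theorem skew_rank_ne_one (h1 : C.s₁ = 1) (hs : C.SkewA N) (hsq : ∀ z, N (N z) = 0) :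
    finrank F (LinearMap.range N) ≠ 1 := fun hl => by
  obtain ⟨e, d, c, -, hd, hNd, hz⟩ := range_one hs hsq hl
  have h0 := hs d d
  rw [hNd, map_smul, LinearMap.smul_apply, map_smul, hd, f_comm h1 d e, hd, smul_eq_mul, mul_one] at h0
  have hc : c = 0 := (mul_eq_zero.1 (show (2 : F) * c = 0 by linear_combination h0)).resolve_left C.two
  have hN0 : N = 0 := LinearMap.ext fun z => by rw [hz, hNd, hc]; simp
  rw [hN0, LinearMap.range_zero, finrank_bot] at hl
  omega

theorem exists_two_basis {W : Submodule F (Fin n₁ → F)} (h : finrank F W = 2) :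
    ∃ e₁ e₂, e₁ ∈ W ∧ e₂ ∈ W ∧ LinearIndependent F ![e₁, e₂] ∧
      ∀ u ∈ W, ∃ a b : F, u = a • e₁ + b • e₂ := by
  let bb := finBasisOfFinrankEq F W h
  refine ⟨(bb 0).1, (bb 1).1, (bb 0).2, (bb 1).2, ?_, fun u hu => ⟨bb.repr ⟨u, hu⟩ 0, bb.repr ⟨u, hu⟩ 1, ?_⟩⟩
  · rw [LinearIndependent.pair_iff]
    intro a b hab
    have h0 : a • bb 0 + b • bb 1 = 0 := Subtype.ext hab
    have h1 := Fintype.linearIndependent_iff.1 bb.linearIndependent ![a, b]
      (by simpa [Fin.sum_univ_two] using h0)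
    exact ⟨h1 0, h1 1⟩
  · have := congrArg Subtype.val (bb.sum_repr ⟨u, hu⟩)
    rw [Fin.sum_univ_two] at this
    exact this.symm

/-- Skew square-zero operators of rank `l` are roots. -/
theorem root_of (H : C.Hyp M l) (hs : C.SkewA N) (hsq : ∀ z, N (N z) = 0)
    (hl : finrank F (LinearMap.range N) = l) : C.Root l N := by
  have h22 := C.two
  rcases H.kind with ⟨rfl, h1, -⟩ | ⟨rfl, h1⟩
  · obtain ⟨e, d, c, hee, hd, hNd, hz⟩ := range_one hs hsq hl
    refine ⟨e, (c / 2) • e, hee, by simp [hee], by simp [hee], LinearMap.ext fun z => ?_, hl⟩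
    rw [hz, hNd, Dop_apply, h1]
    simp
    match_scalars <;> field_simp <;> ring
  · obtain ⟨e₁, e₂, he₁, he₂, hli, hspan⟩ := exists_two_basis hl
    have hiso : ∀ {u v}, u ∈ LinearMap.range N → v ∈ LinearMap.range N → C.f u v = 0 := fun hu hv =>
      hs.mem_ker_iff.1 (by obtain ⟨w, rfl⟩ := hv; exact hsq w) _ hu
    obtain ⟨d₁, h11, h21⟩ := exists_dual_pair (C := C) hli
    obtain ⟨d₂, h22', h12⟩ := exists_dual_pair (C := C) (LinearIndependent.pair_symm_iff.1 hli)
    have hNz : ∀ z, N z = C.f e₁ z • N d₁ + C.f e₂ z • N d₂ := fun z => by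
      have h : N (z - C.f e₁ z • d₁ - C.f e₂ z • d₂) = 0 := hs.mem_ker_iff.2 fun u hu => by
        obtain ⟨a, b, rfl⟩ := hspan u hu
        simp [h11, h21, h22', h12]
      rw [map_sub, map_sub, map_smul, map_smul, sub_sub, sub_eq_zero] at h
      exact h
    obtain ⟨p, q, hp⟩ := hspan (N d₁) ⟨d₁, rfl⟩
    obtain ⟨p', q', hp'⟩ := hspan (N d₂) ⟨d₂, rfl⟩
    have a1 := hs d₁ d₁
    have a2 := hs d₂ d₂
    have a3 := hs d₁ d₂
    rw [f_comm h1 d₁ (N d₁), hp] at a1
    rw [f_comm h1 d₂ (N d₂), hp'] at a2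
    rw [f_comm h1 d₁ (N d₂), hp, hp'] at a3
    simp [h11, h21, h22', h12] at a1 a2 a3
    have hp0 : p = 0 := (mul_eq_zero.1 (show (2 : F) * p = 0 by linear_combination a1)).resolve_left h22
    have hq0 : q' = 0 := (mul_eq_zero.1 (show (2 : F) * q' = 0 by linear_combination a2)).resolve_left h22
    refine ⟨q • e₂, e₁, by simp [hiso he₂ he₂], by simp [hiso he₂ he₁], hiso he₁ he₁,
      LinearMap.ext fun z => ?_, hl⟩
    rw [hNz, hp, hp', hp0, hq0, Dop_apply, h1]
    simp [a3]
    module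

/-- An isotropic subspace of dimension `l` is the image of a root. -/
theorem root_of_isotropic (H : C.Hyp M l) {W : Submodule F (Fin n₁ → F)} (hW : finrank F W = l)
    (hiso : ∀ u ∈ W, ∀ v ∈ W, C.f u v = 0) : ∃ N, C.Root l N ∧ LinearMap.range N = W := by
  rcases H.kind with ⟨rfl, h1, -⟩ | ⟨rfl, h1⟩
  · obtain ⟨⟨e, he⟩, he0, hspan⟩ := finrank_eq_one_iff'.1 hW
    obtain ⟨d, hd⟩ := C.exists_dual (fun h => he0 (Subtype.ext h))
    have hr : LinearMap.range (C.Dop e e) = W := by
      refine le_antisymm ?_ fun u hu => ?_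
      · rintro _ ⟨z, rfl⟩
        rw [Dop_apply]
        exact W.sub_mem (W.smul_mem _ he) (W.smul_mem _ he)
      · obtain ⟨s, hs⟩ := hspan ⟨u, hu⟩
        refine ⟨(s / 2) • d, ?_⟩
        have h22 := C.two
        rw [← show s • e = u from congrArg Subtype.val hs]
        simp [Dop_apply, hd, h1]
        match_scalars <;> field_simp <;> ring
    exact ⟨C.Dop e e, ⟨e, e, hiso e he e he, hiso e he e he, hiso e he e he, rfl, by rw [hr, hW]⟩, hr⟩
  · obtain ⟨e₁, e₂, he₁, he₂, hli, hspan⟩ := exists_two_basis hW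
    obtain ⟨d₁, h11, h21⟩ := exists_dual_pair (C := C) hli
    obtain ⟨d₂, h22', h12⟩ := exists_dual_pair (C := C) (LinearIndependent.pair_symm_iff.1 hli)
    have hr : LinearMap.range (C.Dop e₁ e₂) = W := by
      refine le_antisymm ?_ fun u hu => ?_
      · rintro _ ⟨z, rfl⟩
        rw [Dop_apply]
        exact W.sub_mem (W.smul_mem _ he₁) (W.smul_mem _ he₂)
      · obtain ⟨a, b, rfl⟩ := hspan u hu
        exact ⟨a • d₂ - b • d₁, by simp [Dop_apply, h1, h11, h21, h22', h12]⟩
    exact ⟨C.Dop e₁ e₂,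
      ⟨e₁, e₂, hiso e₁ he₁ e₁ he₁, hiso e₁ he₁ e₂ he₂, hiso e₂ he₂ e₂ he₂, rfl, by rw [hr, hW]⟩, hr⟩

/-- The conjugate of an operator. -/
abbrev cjE (g : (ι → F) ≃ₗ[F] (ι → F)) (X : (ι → F) →ₗ[F] (ι → F)) : (ι → F) →ₗ[F] (ι → F) :=
  g.toLinearMap.comp (X.comp g.symm.toLinearMap)

theorem cjE_apply (g : (ι → F) ≃ₗ[F] (ι → F)) (X : (ι → F) →ₗ[F] (ι → F)) (x : ι → F) :
    cjE g X x = g (X (g.symm x)) := rfl

theorem cjE_rank (g : (ι → F) ≃ₗ[F] (ι → F)) (X : (ι → F) →ₗ[F] (ι → F)) :
    finrank F (LinearMap.range (cjE g X)) = finrank F (LinearMap.range X) := by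
  rw [rank_equiv_comp, rank_comp_equiv]

theorem Skew.cjE {X : (ι → F) →ₗ[F] (ι → F)} (h : C.Skew X) {g : (ι → F) ≃ₗ[F] (ι → F)}
    (hg : C.Iso g) : C.Skew (TT.cjE g X) := fun x y => by
  rw [cjE_apply, cjE_apply, ← hg.symm_right, h, hg.symm_left]

/-- An element conjugating a root element into the tensor stabiliser is in it. -/
theorem isTen_of_conj (H : C.Hyp M l) (hQ : C.QProp M l) (hN : C.Root l N)
    {g : (ι → F) ≃ₗ[F] (ι → F)} (hg : g ∈ M) {m : (ι → F) ≃ₗ[F] (ι → F)}
    (hm : ∀ x, m x = x + cjE g (C.Tm N) x) (hT : C.IsTen m) : C.IsTen g := by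
  classical
  obtain ⟨hn2, hn1, hl1⟩ := H.npos
  set T' := cjE g (C.Tm N) with hT'
  have hsk : C.Skew T' := hN.skewT.cjE (H.iso g hg)
  have hsq : ∀ x, T' (T' x) = 0 := fun x => by
    simp only [hT', cjE_apply, LinearEquiv.symm_apply_apply, hN.sqT, map_zero]
  have hrk : finrank F (LinearMap.range T') = l * n₂ := by
    rw [hT', cjE_rank, C.finrank_range_tm, hN.finrank_range]
  obtain ⟨σ, τ, hst⟩ := hT
  have hT'2 : ∀ a y, T' (C.t a y) = C.t (σ a) (τ y) - C.t a y := fun a y => by
    rw [← hst, hm, add_sub_cancel_left]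
  obtain ⟨y0, hy0⟩ : ∃ y : Fin n₂ → F, y ≠ 0 := ⟨Pi.single ⟨0, hn2⟩ 1, by simp⟩
  obtain ⟨w0, hw0'⟩ := C.swap.exists_dual hy0
  have hw0 : C.g y0 w0 = 1 := hw0'
  have hpq : (∃ c : F, ∀ y, τ y = c • y) ∨ (∃ c : F, ∀ a, σ a = c • a) := by
    by_cases hall : ∀ y, τ y ∈ F ∙ y
    · left
      obtain ⟨c, hc⟩ := C4.scalar_of_lines τ.toLinearMap hall
      exact ⟨c, fun y => LinearMap.congr_fun hc y⟩
    push Not at hall
    obtain ⟨y, hy⟩ := hall
    obtain ⟨z, hz, hz1'⟩ := C.swap.exists_pair hy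
    have hyz : C.g y z = 0 := hz y (Submodule.mem_span_singleton_self y)
    have hz1 : C.g (τ y) z = 1 := hz1'
    right
    have key : ∀ a, C.g (τ (τ y)) z • σ a = (2 : F) • a := fun a => σ.injective (by
      have e := congrArg (C.prB z) (hsq (C.t a y))
      rw [hT'2, map_sub, hT'2, hT'2, map_sub, map_sub, map_sub, C.prB_t, C.prB_t, C.prB_t, hyz, hz1,
        map_zero, zero_smul, one_smul] at e
      rw [map_smul, map_smul]
      linear_combination (norm := module) e)
    obtain ⟨a, ha⟩ : ∃ a : Fin n₁ → F, a ≠ 0 := ⟨Pi.single ⟨0, hn1⟩ 1, by simp⟩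
    have hκ : C.g (τ (τ y)) z ≠ 0 := fun h => by
      have := key a
      rw [h, zero_smul, eq_comm, smul_eq_zero] at this
      exact this.elim C.two ha
    exact ⟨2 / C.g (τ (τ y)) z, fun a => by
      rw [div_eq_inv_mul, mul_smul, ← key a, inv_smul_smul₀ hκ]⟩
  rcases hpq with ⟨c, hc⟩ | ⟨c, hc⟩
  · -- the conjugate is a root
    set N'' : (Fin n₁ → F) →ₗ[F] (Fin n₁ → F) := c • σ.toLinearMap - LinearMap.id
    have hTN : T' = C.Tm N'' := C.ext_pure fun a y => by
      rw [hT'2, C.tm_t, hc]; simp [N'']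
    have hs'' : C.SkewA N'' := fun a b => by
      have e := hsk (C.t a y0) (C.t b w0)
      rw [hTN, C.tm_t, C.tm_t, C.pol, C.pol] at e
      simpa [hw0] using e
    have hq'' : ∀ a, N'' (N'' a) = 0 := fun a => C.t_inj hy0 (by
      have e := hsq (C.t a y0)
      rw [hTN, C.tm_t, C.tm_t] at e
      simpa using e)
    have hl'' : finrank F (LinearMap.range N'') = l := by
      rw [hTN, C.finrank_range_tm] at hrk
      exact Nat.eq_of_mul_eq_mul_right hn2 hrk
    refine isTen_of_map H hQ hN (root_of H hs'' hq'' hl'') hg fun x => ?_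
    rw [← hTN]
    refine ⟨fun ⟨v, hv⟩ => ⟨g v, by rw [hT', cjE_apply, g.symm_apply_apply, hv]⟩, fun ⟨v, hv⟩ => ?_⟩
    exact ⟨g.symm v, g.injective hv⟩
  -- otherwise the image of the ruling is `A ⊗ ℓ`
  exfalso
  set K : (Fin n₂ → F) →ₗ[F] (Fin n₂ → F) := c • τ.toLinearMap - LinearMap.id
  have hTK : T' = C.tm LinearMap.id K := C.ext_pure fun a y => by
    rw [hT'2, C.tm_t, hc]; simp [K]
  obtain ⟨a0, ha0⟩ : ∃ a : Fin n₁ → F, a ≠ 0 := ⟨Pi.single ⟨0, hn1⟩ 1, by simp⟩
  obtain ⟨d0, hd0⟩ := C.exists_dual ha0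
  have hKs : C.swap.SkewA K := fun y z => by
    have e := hsk (C.t a0 y) (C.t d0 z)
    rw [hTK, C.tm_t, C.tm_t, C.pol, C.pol] at e
    show C.g (K y) z = -C.g y (K z)
    simpa [hd0] using e
  have hKq : ∀ y, K (K y) = 0 := fun y => C.t_inj_left ha0 (by
    have e := hsq (C.t a0 y)
    rw [hTK, C.tm_t, C.tm_t] at e
    simpa using e)
  set s := finrank F (LinearMap.range K) with hsdef
  have hsn : s * n₁ = l * n₂ := by rw [← hrk, hTK, C.finrank_range_tm_right]
  have hs0 : s ≠ 0 := fun h => by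
    rw [h, zero_mul] at hsn
    have := Nat.mul_pos hl1 hn2
    omega
  have hbig := H.big
  have hisoK : ∀ {u v}, u ∈ LinearMap.range K → v ∈ LinearMap.range K → C.g u v = 0 := fun hu hv =>
    hKs.mem_ker_iff.1 (by obtain ⟨w, rfl⟩ := hv; exact hKq w) _ hu
  have claim : ∀ (h0 : (Fin n₂ → F) ≃ₗ[F] (Fin n₂ → F)) (D : (Fin n₂ → F) →ₗ[F] (Fin n₂ → F)),
      C.te (LinearEquiv.refl F _) h0 ∈ M → (∀ y, h0 y = y + D y) → (∀ v ∈ LinearMap.range K, D v = 0) →
      ∃ n : (Fin n₁ → F) →ₗ[F] (Fin n₁ → F),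
        finrank F (LinearMap.range n) * n₂ = finrank F (LinearMap.range D) * n₁ ∧
        (C.swap.SkewA D → C.SkewA n) ∧ ((∀ y, D (D y) = 0) → ∀ a, n (n a) = 0) := by
    intro h0 D hh hD hfix
    set k := C.te (LinearEquiv.refl F (Fin n₁ → F)) h0
    set q := g⁻¹ * k * g
    have hqM : q ∈ M := mul_mem (mul_mem (inv_mem hg) hh) hg
    have hqap : ∀ x, q x = g.symm (k (g x)) := fun x => rfl
    have hk : ∀ x, k x = x + C.tm LinearMap.id D x := fun x => LinearMap.congr_fun
      (C.ext_pure (L := k.toLinearMap) (L' := LinearMap.id + C.tm LinearMap.id D) fun a y => by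
        simp [k, C.te_t, C.tm_t, hD]) x
    have hqfix : ∀ x ∈ LinearMap.range (C.Tm N), q x = x := by
      rintro _ ⟨v, rfl⟩
      rw [hqap, hk]
      have e : g (C.Tm N v) = T' (g v) := by rw [hT', cjE_apply, g.symm_apply_apply]
      have e2 : C.tm LinearMap.id D (g (C.Tm N v)) = 0 := by
        rw [e, hTK, C.tm_comp, show D.comp K = 0 from LinearMap.ext fun y => hfix _ ⟨y, rfl⟩]
        exact LinearMap.congr_fun (C.ext_pure (L := C.tm (LinearMap.id.comp LinearMap.id) 0) (L' := 0)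
          fun a b => by simp [C.tm_t]) _
      rw [e2, add_zero, g.symm_apply_apply]
    obtain ⟨σ', τ', hq⟩ := isTen_of_map H hQ hN hN hqM fun x => ⟨fun hx => by rwa [hqfix x hx], fun hx => by
      rwa [← q.injective (hqfix _ hx)]⟩
    obtain ⟨e, he, he0⟩ := Submodule.exists_mem_ne_zero_of_ne_bot (p := LinearMap.range N) fun h => by
      have := hN.finrank_range
      rw [h, finrank_bot] at this
      omega
    obtain ⟨d, hd⟩ := C.exists_dual (σ'.map_ne_zero_iff.2 he0)
    have hτ' : ∀ y, τ' y = C.f e d • y := fun y => by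
      have h := congrArg (C.prA d) ((hq e y).symm.trans (hqfix _ (by rw [C.range_tm]; exact C.t_mem_sub he y)))
      rwa [C.prA_t, C.prA_t, hd, one_smul] at h
    set n : (Fin n₁ → F) →ₗ[F] (Fin n₁ → F) := C.f e d • σ'.toLinearMap - LinearMap.id
    have hqn : C.Tm n = cjE g.symm (C.tm LinearMap.id D) := C.ext_pure fun a y => by
      rw [cjE_apply, LinearEquiv.symm_symm, C.tm_t,
        show C.tm LinearMap.id D (g (C.t a y)) = k (g (C.t a y)) - g (C.t a y) by
          rw [hk, add_sub_cancel_left], map_sub, g.symm_apply_apply, ← hqap, hq, hτ']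
      simp [n]
    refine ⟨n, ?_, fun hDs a b => ?_, fun hDq a => ?_⟩
    · rw [← C.finrank_range_tm, show C.tm n LinearMap.id = _ from hqn, cjE_rank, C.finrank_range_tm_right]
    · have hsk2 : C.Skew (cjE g.symm (C.tm LinearMap.id D)) := by
        refine Skew.cjE (fun x y => ?_) fun x y => by
          rw [(H.iso g hg).symm_left, g.apply_symm_apply]
        rw [C.adjoint_tm (N' := LinearMap.id) (K' := -D) (fun _ _ => rfl) fun u v => by
          rw [LinearMap.neg_apply, map_neg]; exact hDs u v,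
          show -D = (-1 : F) • D from (neg_one_smul F D).symm, C.tm_smul_right]
        simp
      have e := hsk2 (C.t a y0) (C.t b w0)
      rw [← hqn, C.tm_t, C.tm_t, C.pol, C.pol] at e
      simpa [hw0] using e
    · refine C.t_inj hy0 ?_
      have h : C.Tm n (C.Tm n (C.t a y0)) = 0 := by
        rw [hqn, cjE_apply, cjE_apply, LinearEquiv.symm_symm, g.apply_symm_apply, C.tm_comp,
          show D.comp D = 0 from LinearMap.ext hDq,
          show C.tm (LinearMap.id.comp LinearMap.id) (0 : (Fin n₂ → F) →ₗ[F] (Fin n₂ → F)) = 0 from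
            C.ext_pure fun a b => by simp [C.tm_t], LinearMap.zero_apply, map_zero]
      rw [C.tm_t, C.tm_t] at h
      simpa using h
  rcases H.kind with ⟨rfl, h1, h2⟩ | ⟨rfl, h1⟩
  · -- a reflection
    have hs1 : s ≠ 1 := skew_rank_ne_one (C := C.swap) h2 hKs hKq
    obtain ⟨u, hu, huu⟩ : ∃ u, K u = 0 ∧ C.g u u ≠ 0 := by
      by_contra! hall
      have hiso2 : ∀ x z, K x = 0 → K z = 0 → C.g x z = 0 := fun x z hx hz => by
        have := hall (x + z) (by rw [map_add, hx, hz, add_zero])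
        simp only [map_add, LinearMap.add_apply, hall x hx, hall z hz,
          show C.g z x = C.g x z from f_comm (C := C.swap) h2 z x] at this
        exact (mul_eq_zero.1 (show (2 : F) * C.g x z = 0 by linear_combination this)).resolve_left C.two
      have hle : LinearMap.ker K ≤ LinearMap.range K := fun z hz =>
        hKs.mem_range_iff.2 fun w hw => hiso2 z w hz hw
      have h3 := Submodule.finrank_mono hle
      have h4 := K.finrank_range_add_finrank_ker
      rw [Module.finrank_fin_fun] at h4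
      have h5 : 3 * s ≤ s * n₁ := by rw [mul_comm 3]; exact Nat.mul_le_mul_left s (by omega)
      omega
    set D : (Fin n₂ → F) →ₗ[F] (Fin n₂ → F) := (-(2 / C.g u u)) • C.swap.sm u u with hD
    have hDap : ∀ z, D z = (-(2 * C.g u z / C.g u u)) • u := fun z => by
      rw [hD, LinearMap.smul_apply, sm_apply, smul_smul]
      congr 1
      show -(2 / C.g u u) * C.g u z = _
      ring
    have hinv : ∀ z : Fin n₂ → F, ((LinearMap.id : (Fin n₂ → F) →ₗ[F] (Fin n₂ → F)) + D)
        (((LinearMap.id : (Fin n₂ → F) →ₗ[F] (Fin n₂ → F)) + D) z) = z := fun z => by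
      simp only [LinearMap.add_apply, LinearMap.id_apply, map_add, hDap, map_smul, smul_eq_mul]
      match_scalars <;> field_simp <;> ring
    let h0 : (Fin n₂ → F) ≃ₗ[F] (Fin n₂ → F) :=
      LinearEquiv.ofLinearMap (LinearMap.id + D) (LinearMap.id + D) (LinearMap.ext hinv) (LinearMap.ext hinv)
    obtain ⟨n, hn, -, -⟩ := claim h0 D (H.refl rfl h0 u huu fun z => by
        show z + D z = _
        rw [hDap, neg_smul, sub_eq_add_neg]) (fun y => rfl) fun v hv => by
      rw [hDap, show C.g u v = 0 from C.g_zero_comm (hKs.mem_ker_iff.1 hu v hv)]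
      simp
    have hu0 : u ≠ 0 := fun h => huu (by simp [h])
    have hr : LinearMap.range D = F ∙ u := by
      refine le_antisymm ?_ ((Submodule.span_singleton_le_iff_mem _ _).2 ⟨(-(2 : F)⁻¹) • u, ?_⟩)
      · rintro _ ⟨z, rfl⟩
        rw [hDap]; exact Submodule.smul_mem _ _ (Submodule.mem_span_singleton_self u)
      · have h22 := C.two
        rw [map_smul, hDap, smul_smul]
        match_scalars <;> field_simp <;> ring
    rw [hr, finrank_span_singleton hu0, one_mul] at hn
    rw [one_mul] at hsn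
    set j := finrank F (LinearMap.range n)
    have e : (s * j) * n₂ = 1 * n₂ := by rw [mul_assoc, hn, one_mul]; exact hsn
    have := Nat.eq_of_mul_eq_mul_right hn2 e
    have := Nat.eq_one_of_mul_eq_one_right this
    omega
  · rcases H.dimB with ⟨h2, hn3, -⟩ | ⟨h2, rfl⟩
    swap
    · have h5 : 5 * s ≤ s * n₁ := by rw [mul_comm 5]; exact Nat.mul_le_mul_left s (by omega)
      omega
    have hs1 : s ≠ 1 := skew_rank_ne_one (C := C.swap) h2 hKs hKq
    obtain ⟨u, hu, hu0⟩ := Submodule.exists_mem_ne_zero_of_ne_bot (p := LinearMap.range K) fun h => by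
      rw [hsdef, h, finrank_bot] at hs0; exact hs0 rfl
    obtain ⟨v, hv, hvu⟩ : ∃ v ∈ LinearMap.range K, v ∉ F ∙ u := by
      by_contra! hall
      have h := Submodule.finrank_mono (hall : LinearMap.range K ≤ F ∙ u)
      rw [finrank_span_singleton hu0, ← hsdef] at h
      omega
    have huu : C.g u u = 0 := hisoK hu hu
    have huv : C.g u v = 0 := hisoK hu hv
    have hvv : C.g v v = 0 := hisoK hv hv
    have hDD : ∀ y, C.swap.Dop u v (C.swap.Dop u v y) = 0 := fun y => by
      rw [C.swap.Dop_sq huu huv, show C.swap.f v v = 0 from hvv, mul_zero, zero_smul]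
    obtain ⟨n, hn, hnsk, hnsq⟩ := claim (C.swap.eA (a := u) (x := v) huu huv) (C.swap.Dop u v)
      (LeftE.swap_mem H.right u v huu huv)
      (fun y => (C.swap.eA_apply huu huv y).trans (by rw [hDD, smul_zero, add_zero])) fun w hw => by
        rw [Dop_apply, show C.swap.f v w = 0 from hisoK hv hw, show C.swap.f u w = 0 from hisoK hu hw]
        simp
    have hj1 := skew_rank_ne_one h1 (hnsk (C.swap.skewA_Dop u v)) (hnsq hDD)
    set j := finrank F (LinearMap.range n)
    have hli : LinearIndependent F ![u, v] := by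
      rw [LinearIndependent.pair_iff' hu0]
      exact fun a ha => hvu (Submodule.mem_span_singleton.2 ⟨a, ha⟩)
    obtain ⟨du, hdu, hdu'⟩ := exists_dual_pair (C := C.swap) hli
    obtain ⟨dv, hdv, hdv'⟩ := exists_dual_pair (C := C.swap) (LinearIndependent.pair_symm_iff.1 hli)
    have hr : finrank F (LinearMap.range (C.swap.Dop u v)) = 2 := by
      have hsp : LinearMap.range (C.swap.Dop u v) = Submodule.span F (Set.range ![u, v]) := by
        refine le_antisymm ?_ (Submodule.span_le.2 ?_)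
        · rintro _ ⟨z, rfl⟩
          rw [Dop_apply]
          exact Submodule.sub_mem _ (Submodule.smul_mem _ _ (Submodule.subset_span ⟨0, rfl⟩))
            (Submodule.smul_mem _ _ (Submodule.subset_span ⟨1, rfl⟩))
        · rintro _ ⟨i, rfl⟩
          fin_cases i
          · exact ⟨dv, by simp [Dop_apply, hdv, hdv']⟩
          · exact ⟨-du, by simp [Dop_apply, hdu, hdu', show C.swap.s₁ = 1 from h2]⟩
      rw [hsp, finrank_span_eq_card hli, Fintype.card_fin]
    rw [hr] at hn
    have e : (s * j) * (n₁ * n₂) = 4 * (n₁ * n₂) := by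
      rw [show (s * j) * (n₁ * n₂) = (s * n₁) * (j * n₂) by ring, hsn, hn]; ring
    have hsj := Nat.eq_of_mul_eq_mul_right (Nat.mul_pos hn1 hn2) e
    have hs2 : 2 ≤ s := by omega
    have hj0 : j ≠ 0 := fun h => by rw [h, mul_zero] at hsj; omega
    have : 2 * j ≤ s * j := Nat.mul_le_mul_right j hs2
    have hs' : s = 2 := by
      have : j = 2 := by omega
      rw [this] at hsj; omega
    rw [hs'] at hsn
    exact H.ne rfl (Nat.eq_of_mul_eq_mul_left two_pos hsn)

/-- The rank of an adjoint. -/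
theorem rank_adjoint {Y Y' : (ι → F) →ₗ[F] (ι → F)} (h : ∀ x y, C.p (Y x) y = C.p x (Y' y)) :
    finrank F (LinearMap.range Y') = finrank F (LinearMap.range Y) := by
  set R := LinearMap.linearEquivOfInjective C.p (LinearMap.ker_eq_bot.1 (LinearMap.ker_eq_bot'.2
    fun x hx => C.pnd x fun y => by rw [hx]; rfl)) Subspace.dual_finrank_eq.symm with hR
  have e : R.toLinearMap.comp Y' = Y.dualMap.comp R.toLinearMap := LinearMap.ext fun y => LinearMap.ext fun x => by
    show R (Y' y) x = R y (Y x)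
    show C.p (Y' y) x = C.p y (Y x)
    rw [C.hp x (Y' y), C.hp (Y x) y, h]
  rw [← rank_equiv_comp R Y', e, rank_comp_equiv, LinearMap.finrank_range_dualMap_eq_finrank_range]

/-- What a bad pair of rulings gives. -/
def Data (C : TT ι F n₁ n₂) (l : ℕ) (N : (Fin n₁ → F) →ₗ[F] (Fin n₁ → F))
    (T' : (ι → F) →ₗ[F] (ι → F)) : Prop :=
  ∃ P : Submodule F (Fin n₁ → F), LinearMap.range N ≤ P ∧ finrank F P ≤ 2 * l ∧
    (∀ d, ∃ d' ∈ P, ∀ x ∈ P, C.f x d = C.f x d') ∧ LinearMap.range T' ≤ C.sub P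

/-- The words in two square-zero operators. -/
def words {R : Type*} [Ring R] (a b : R) : Set R :=
  {x | x = 1 ∨ ∃ k : ℕ, x = (a * b) ^ (k + 1) ∨ x = (b * a) ^ (k + 1) ∨ x = (a * b) ^ k * a ∨
    x = (b * a) ^ k * b}

theorem words_mul {R : Type*} [Ring R] {a b x : R} (ha : a * a = 0) (hx : x ∈ words a b) :
    a * x = 0 ∨ a * x ∈ words a b := by
  have hsc : ∀ k, a * (b * a) ^ k = (a * b) ^ k * a := fun k => by
    induction k with
    | zero => simp
    | succ k ih => rw [pow_succ, pow_succ, ← mul_assoc, ih]; simp only [mul_assoc]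
  rcases hx with rfl | ⟨k, rfl | rfl | rfl | rfl⟩
  · exact Or.inr (Or.inr ⟨0, Or.inr (Or.inr (Or.inl (by simp)))⟩)
  · left; rw [pow_succ', ← mul_assoc, ← mul_assoc, ha, zero_mul, zero_mul]
  · exact Or.inr (Or.inr ⟨k + 1, Or.inr (Or.inr (Or.inl (hsc _)))⟩)
  · left
    cases k with
    | zero => simp [ha]
    | succ k => rw [pow_succ', ← mul_assoc, ← mul_assoc, ← mul_assoc, ha, zero_mul, zero_mul, zero_mul]
  · exact Or.inr (Or.inr ⟨k, Or.inl (by rw [← mul_assoc, hsc, mul_assoc, ← pow_succ])⟩)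

theorem words_comm {R : Type*} [Ring R] (a b : R) : words a b = words b a := by
  ext x
  constructor <;> rintro (h | ⟨k, h | h | h | h⟩)
  all_goals first
    | exact Or.inl h
    | exact Or.inr ⟨k, Or.inl h⟩
    | exact Or.inr ⟨k, Or.inr (Or.inl h)⟩
    | exact Or.inr ⟨k, Or.inr (Or.inr (Or.inl h))⟩
    | exact Or.inr ⟨k, Or.inr (Or.inr (Or.inr h))⟩

theorem span_words_mul {a b x : Module.End F (ι → F)} (ha : a * a = 0)
    (hx : x ∈ Submodule.span F (words a b)) : a * x ∈ Submodule.span F (words a b) := by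
  induction hx using Submodule.span_induction with
  | mem y hy =>
    rcases words_mul ha hy with h | h
    · rw [h]; exact Submodule.zero_mem _
    · exact Submodule.subset_span h
  | zero => rw [mul_zero]; exact Submodule.zero_mem _
  | add y z _ _ hy hz => rw [mul_add]; exact Submodule.add_mem _ hy hz
  | smul r y _ hy => rw [mul_smul_comm]; exact Submodule.smul_mem _ r hy

/-- The generic case: an involution commuting with two root operators. -/
theorem exists_invol (H : C.Hyp M l) {T T' : Module.End F (ι → F)} (hT : C.Skew T) (hT' : C.Skew T')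
    (hT2 : T * T = 0) (hT'2 : T' * T' = 0) {t t' : (ι → F) ≃ₗ[F] (ι → F)} (htM : t ∈ M) (ht'M : t' ∈ M)
    (ht : ∀ x, t x = x + T x) (ht' : ∀ x, t' x = x + T' x) (I J : Submodule F (ι → F))
    (hI : LinearMap.range (T * T') = I) (hJ : LinearMap.range (T' * T) = J) (hr : I ≠ ⊥)
    (A : J ≃ₗ[F] I) (hA : ∀ j, (A j : ι → F) = T j.1)
    (B : I ≃ₗ[F] J) (hB : ∀ i, (B i : ι → F) = T' i.1) :
    ∃ z ∈ M, z ≠ 1 ∧ (∀ x, z (z x) = x) ∧ (∀ x, T (z x) = z (T x)) ∧ (∀ x, T' (z x) = z (T' x)) ∧
      ∀ x, z x - x ∈ I ⊔ J := by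
  classical
  have hTI : ∀ i : I, T i.1 = 0 := fun i => by
    obtain ⟨v, hv⟩ : i.1 ∈ LinearMap.range (T * T') := hI.ge i.2
    rw [← hv, Module.End.mul_apply, ← Module.End.mul_apply, hT2, LinearMap.zero_apply]
  have hT'J : ∀ j : J, T' j.1 = 0 := fun j => by
    obtain ⟨v, hv⟩ : j.1 ∈ LinearMap.range (T' * T) := hJ.ge j.2
    rw [← hv, Module.End.mul_apply, ← Module.End.mul_apply, hT'2, LinearMap.zero_apply]
  let u : (I × J) ≃ₗ[F] (I × J) := LinearEquiv.ofLinearMap
    (LinearMap.id + (LinearMap.inl F I J).comp (A.toLinearMap.comp (LinearMap.snd F I J)))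
    (LinearMap.id - (LinearMap.inl F I J).comp (A.toLinearMap.comp (LinearMap.snd F I J)))
    (LinearMap.ext fun x => by simp) (LinearMap.ext fun x => by simp)
  let v : (I × J) ≃ₗ[F] (I × J) := LinearEquiv.ofLinearMap
    (LinearMap.id + (LinearMap.inr F I J).comp (B.toLinearMap.comp (LinearMap.fst F I J)))
    (LinearMap.id - (LinearMap.inr F I J).comp (B.toLinearMap.comp (LinearMap.fst F I J)))
    (LinearMap.ext fun x => by simp) (LinearMap.ext fun x => by simp)
  have hu : ∀ i j, u (i, j) = (i + A j, j) := fun i j => by simp [u]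
  have hv : ∀ i j, v (i, j) = (i, j + B i) := fun i j => by simp [v]
  haveI : Nontrivial I := Submodule.nontrivial_iff_ne_bot.2 hr
  have hev := even_of_shears C.two A B u v hu hv
  set Γ := Subgroup.closure ({(t, u), (t', v)} : Set (((ι → F) ≃ₗ[F] (ι → F)) × ((I × J) ≃ₗ[F] (I × J))))
  haveI : Finite ((ι → F) ≃ₗ[F] (ι → F)) :=
    Finite.of_injective (fun e => (e : (ι → F) → (ι → F))) DFunLike.coe_injective
  haveI : Finite ((I × J) ≃ₗ[F] (I × J)) :=
    Finite.of_injective (fun e => (e : I × J → I × J)) DFunLike.coe_injective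
  have hmap : Γ.map (MonoidHom.snd _ _) = Subgroup.closure {u, v} := by
    rw [MonoidHom.map_closure, Set.image_pair]; rfl
  have h2 : 2 ∣ Nat.card Γ := (even_iff_two_dvd.1 hev).trans (by
    rw [← hmap]; exact Subgroup.card_map_dvd Γ _)
  haveI : Fact (Nat.Prime 2) := ⟨Nat.prime_two⟩
  obtain ⟨⟨⟨z, z₀⟩, hz⟩, hord⟩ := exists_prime_orderOf_dvd_card' 2 h2
  set φ : (I × J) →ₗ[F] (ι → F) := I.subtype.coprod J.subtype
  have hφ : ∀ i j, φ (i, j) = i.1 + j.1 := fun i j => by simp [φ]
  -- the invariants of the generated group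
  have inv : ∀ γ ∈ Γ, γ.1 ∈ M ∧ (∀ w, γ.1 (φ w) = φ (γ.2 w)) ∧
      (∃ α β : F, ∀ y, (T * T') y = 0 → (T' * T) y = 0 → γ.1 y = y + α • T y + β • T' y) ∧
      (γ.1.toLinearMap : Module.End F (ι → F)) ∈ Submodule.span F (words T T') := by
    intro γ hγ
    refine Subgroup.closure_induction_left (p := fun γ _ => γ.1 ∈ M ∧ (∀ w, γ.1 (φ w) = φ (γ.2 w)) ∧
      (∃ α β : F, ∀ y, (T * T') y = 0 → (T' * T) y = 0 → γ.1 y = y + α • T y + β • T' y) ∧
      (γ.1.toLinearMap : Module.End F (ι → F)) ∈ Submodule.span F (words T T')) ?_ ?_ ?_ hγ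
    · exact ⟨one_mem M, fun w => rfl, ⟨0, 0, fun y _ _ => by simp⟩, Submodule.subset_span (Or.inl rfl)⟩
    -- left multiplication by `1 + s T`, `1 + s T'`
    all_goals
      have step : ∀ (g : (ι → F) ≃ₗ[F] (ι → F)) (g₀ : (I × J) ≃ₗ[F] (I × J)) (s : F),
          g ∈ M → (((∀ x, g x = x + s • T x) ∧ ∀ i j, g₀ (i, j) = (i + s • A j, j)) ∨
            ((∀ x, g x = x + s • T' x) ∧ ∀ i j, g₀ (i, j) = (i, j + s • B i))) →
          ∀ γ : ((ι → F) ≃ₗ[F] (ι → F)) × ((I × J) ≃ₗ[F] (I × J)), (γ.1 ∈ M ∧ (∀ w, γ.1 (φ w) = φ (γ.2 w)) ∧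
            (∃ α β : F, ∀ y, (T * T') y = 0 → (T' * T) y = 0 → γ.1 y = y + α • T y + β • T' y) ∧
            (γ.1.toLinearMap : Module.End F (ι → F)) ∈ Submodule.span F (words T T')) →
          (((g, g₀) * γ).1 ∈ M ∧ (∀ w, ((g, g₀) * γ).1 (φ w) = φ (((g, g₀) * γ).2 w)) ∧
            (∃ α β : F, ∀ y, (T * T') y = 0 → (T' * T) y = 0 →
              ((g, g₀) * γ).1 y = y + α • T y + β • T' y) ∧
            (((g, g₀) * γ).1.toLinearMap : Module.End F (ι → F)) ∈ Submodule.span F (words T T')) := by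
        rintro g g₀ s hgM hg γ ⟨h1, h2, ⟨α, β, h3⟩, h4⟩
        refine ⟨mul_mem hgM h1, fun w => ?_, ?_, ?_⟩
        · show g (γ.1 (φ w)) = φ (g₀ (γ.2 w))
          rw [h2]
          obtain ⟨i, j⟩ := γ.2 w
          rcases hg with ⟨e1, e2⟩ | ⟨e1, e2⟩
          · rw [e1, e2, hφ, hφ, map_add, hTI, zero_add, Submodule.coe_add, Submodule.coe_smul, hA]; abel
          · rw [e1, e2, hφ, hφ, map_add, hT'J, add_zero, Submodule.coe_add, Submodule.coe_smul, hB]; abel
        · have e3 : ∀ y, T (T y) = 0 := fun y => by rw [← Module.End.mul_apply, hT2, LinearMap.zero_apply]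
          have e4 : ∀ y, T' (T' y) = 0 := fun y => by
            rw [← Module.End.mul_apply, hT'2, LinearMap.zero_apply]
          rcases hg with ⟨e1, -⟩ | ⟨e1, -⟩
          · refine ⟨α + s, β, fun y hy hy' => ?_⟩
            show g (γ.1 y) = _
            rw [e1, h3 y hy hy', map_add, map_add, map_smul, map_smul, e3, smul_zero, add_zero,
              show T (T' y) = 0 from hy, smul_zero, add_zero, add_smul]
            abel
          · refine ⟨α, β + s, fun y hy hy' => ?_⟩
            show g (γ.1 y) = _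
            rw [e1, h3 y hy hy', map_add, map_add, map_smul, map_smul, e4, smul_zero, add_zero,
              show T' (T y) = 0 from hy', smul_zero, add_zero, add_smul]
            abel
        · show (g.toLinearMap.comp γ.1.toLinearMap : Module.End F (ι → F)) ∈ _
          rcases hg with ⟨e1, -⟩ | ⟨e1, -⟩
          · rw [show (g.toLinearMap.comp γ.1.toLinearMap : Module.End F (ι → F)) =
              (γ.1.toLinearMap : Module.End F (ι → F)) + s • (T * γ.1.toLinearMap) from
              LinearMap.ext fun x => by simp [e1, Module.End.mul_apply]]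
            exact Submodule.add_mem _ h4 (Submodule.smul_mem _ s (span_words_mul hT2 h4))
          · rw [show (g.toLinearMap.comp γ.1.toLinearMap : Module.End F (ι → F)) =
              (γ.1.toLinearMap : Module.End F (ι → F)) + s • (T' * γ.1.toLinearMap) from
              LinearMap.ext fun x => by simp [e1, Module.End.mul_apply]]
            refine Submodule.add_mem _ h4 (Submodule.smul_mem _ s ?_)
            rw [words_comm] at h4 ⊢
            exact span_words_mul hT'2 h4
    · rintro g hgen γ - ih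
      rcases hgen with rfl | rfl
      · exact step t u 1 htM (Or.inl ⟨fun x => by rw [ht, one_smul], fun i j => by rw [hu, one_smul]⟩) γ ih
      · exact step t' v 1 ht'M (Or.inr ⟨fun x => by rw [ht', one_smul], fun i j => by rw [hv, one_smul]⟩) γ ih
    · rintro g hgen γ - ih
      rcases hgen with rfl | rfl
      · refine step t⁻¹ u⁻¹ (-1) (inv_mem htM) (Or.inl ⟨fun x => ?_, fun i j => ?_⟩) γ ih
        · refine t.injective ?_
          show t (t.symm x) = _
          rw [t.apply_symm_apply, ht, map_add, map_smul,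
            ← Module.End.mul_apply T T, hT2, LinearMap.zero_apply]
          module
        · refine u.injective ?_
          show u (u.symm (i, j)) = _
          rw [u.apply_symm_apply, hu]
          simp
          module
      · refine step t'⁻¹ v⁻¹ (-1) (inv_mem ht'M) (Or.inr ⟨fun x => ?_, fun i j => ?_⟩) γ ih
        · refine t'.injective ?_
          show t' (t'.symm x) = _
          rw [t'.apply_symm_apply, ht', map_add, map_smul,
            ← Module.End.mul_apply T' T', hT'2, LinearMap.zero_apply]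
          module
        · refine v.injective ?_
          show v (v.symm (i, j)) = _
          rw [v.apply_symm_apply, hv]
          simp
          module
  obtain ⟨hzM, hzφ, ⟨α, β, hzY⟩, hzW⟩ := inv _ hz
  -- squares and non-triviality
  have hsq : (z, z₀) * (z, z₀) = (1 : ((ι → F) ≃ₗ[F] (ι → F)) × ((I × J) ≃ₗ[F] (I × J))) := by
    have h := pow_orderOf_eq_one (⟨(z, z₀), hz⟩ : Γ)
    rw [hord, pow_two] at h
    exact congrArg Subtype.val h
  have hzz : ∀ x, z (z x) = x := fun x => LinearEquiv.congr_fun (congrArg Prod.fst hsq) x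
  have hone : (z, z₀) ≠ (1 : ((ι → F) ≃ₗ[F] (ι → F)) × ((I × J) ≃ₗ[F] (I × J))) := fun h => by
    rw [show (⟨(z, z₀), hz⟩ : Γ) = 1 from Subtype.ext h, orderOf_one] at hord
    omega
  have hφinj : Function.Injective φ := by
    rw [injective_iff_map_eq_zero]
    rintro ⟨i, j⟩ h
    rw [hφ] at h
    have hj : j = 0 := by
      have := congrArg T h
      rw [map_add, hTI, zero_add, map_zero] at this
      refine A.map_eq_zero_iff.1 (Subtype.ext ?_)
      rw [hA, this]; rfl
    rw [hj, Submodule.coe_zero, add_zero] at h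
    rw [hj, show i = 0 from Subtype.ext h]; rfl
  have hz1 : z ≠ 1 := fun h => hone (Prod.ext h (LinearEquiv.ext fun w => hφinj (by
    rw [← hzφ, show (z, z₀).1 = z from rfl, h]; rfl)))
  -- commuting with both
  have hiz := H.iso z hzM
  have good : ∀ X ∈ Submodule.span F (words T T'), ∃ X', (∀ x y, C.p (X x) y = C.p x (X' y)) ∧
      Commute (X + X') T ∧ Commute (X + X') T' := by
    intro X hX
    induction hX using Submodule.span_induction with
    | mem y hy =>
      have adjU : ∀ (k : ℕ) x y, C.p (((T * T') ^ k) x) y = C.p x (((T' * T) ^ k) y) := fun k => by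
        induction k with
        | zero => intro x y; rfl
        | succ k ih =>
          intro x y
          rw [pow_succ' (T * T'), pow_succ (T' * T), Module.End.mul_apply, Module.End.mul_apply,
            Module.End.mul_apply, hT, hT', neg_neg, ih]
          rfl
      have adjU' : ∀ (k : ℕ) x y, C.p (((T' * T) ^ k) x) y = C.p x (((T * T') ^ k) y) := fun k => by
        induction k with
        | zero => intro x y; rfl
        | succ k ih =>
          intro x y
          rw [pow_succ' (T' * T), pow_succ (T * T'), Module.End.mul_apply, Module.End.mul_apply,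
            Module.End.mul_apply, hT', hT, neg_neg, ih]
          rfl
      have sc : ∀ k, T * (T' * T) ^ k = (T * T') ^ k * T := fun k => by
        induction k with
        | zero => simp
        | succ k ih => rw [pow_succ, pow_succ, ← mul_assoc, ih]; simp only [mul_assoc]
      have sc' : ∀ k, T' * (T * T') ^ k = (T' * T) ^ k * T' := fun k => by
        induction k with
        | zero => simp
        | succ k ih => rw [pow_succ, pow_succ, ← mul_assoc, ih]; simp only [mul_assoc]
      have hc1 : ∀ k, Commute ((T * T') ^ (k + 1) + (T' * T) ^ (k + 1)) T := fun k => by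
        show _ * _ = _ * _
        rw [add_mul, mul_add, sc, pow_succ (T' * T), mul_assoc _ (T' * T), mul_assoc T', hT2, mul_zero,
          mul_zero, add_zero, pow_succ' (T * T'), ← mul_assoc T, ← mul_assoc T T, hT2, zero_mul, zero_mul,
          zero_add]
      have hc2 : ∀ k, Commute ((T * T') ^ (k + 1) + (T' * T) ^ (k + 1)) T' := fun k => by
        show _ * _ = _ * _
        rw [add_mul, mul_add, sc', pow_succ (T * T'), mul_assoc _ (T * T'), mul_assoc T, hT'2, mul_zero,
          mul_zero, zero_add, pow_succ' (T' * T), ← mul_assoc T', ← mul_assoc T' T', hT'2, zero_mul,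
          zero_mul, add_zero]
      rcases hy with rfl | ⟨k, rfl | rfl | rfl | rfl⟩
      · exact ⟨1, fun _ _ => rfl, ((Commute.one_left T).add_left (Commute.one_left T)),
          ((Commute.one_left T').add_left (Commute.one_left T'))⟩
      · exact ⟨_, adjU (k + 1), hc1 k, hc2 k⟩
      · exact ⟨_, adjU' (k + 1), add_comm ((T * T') ^ (k + 1)) _ ▸ hc1 k,
          add_comm ((T * T') ^ (k + 1)) _ ▸ hc2 k⟩
      · refine ⟨-((T * T') ^ k * T), fun x y => ?_, by simp, by simp⟩
        rw [LinearMap.neg_apply, map_neg, ← sc, Module.End.mul_apply, hT]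
        congr 1
        rw [adjU', sc]; rfl
      · refine ⟨-((T' * T) ^ k * T'), fun x y => ?_, by simp, by simp⟩
        rw [LinearMap.neg_apply, map_neg, ← sc', Module.End.mul_apply, hT']
        congr 1
        rw [adjU, sc']; rfl
    | zero => exact ⟨0, fun x y => by simp, by simp, by simp⟩
    | add y y' _ _ hy hy' =>
      obtain ⟨X1, a1, b1, c1⟩ := hy
      obtain ⟨X2, a2, b2, c2⟩ := hy'
      exact ⟨X1 + X2, fun x w => by simp [a1, a2], by rw [add_add_add_comm]; exact b1.add_left b2,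
        by rw [add_add_add_comm]; exact c1.add_left c2⟩
    | smul r y _ hy =>
      obtain ⟨X1, a1, b1, c1⟩ := hy
      exact ⟨r • X1, fun x w => by simp [a1], by rw [← smul_add]; exact b1.smul_left r,
        by rw [← smul_add]; exact c1.smul_left r⟩
  obtain ⟨X', hX', hc, hc'⟩ := good _ hzW
  have hX'z : ∀ y, X' y = z y := fun y => sub_eq_zero.1 (C.pnd' fun x => by
    rw [map_sub, sub_eq_zero, ← hX']
    show C.p (z x) y = C.p x (z y)
    conv_lhs => rw [← hzz y]
    rw [hiz])
  have hcomm : ∀ {S : Module.End F (ι → F)}, Commute ((z.toLinearMap : Module.End F (ι → F)) + X') S →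
      ∀ x, S (z x) = z (S x) := fun {S} h x => by
    have e := LinearMap.congr_fun h.eq x
    simp only [Module.End.mul_apply, LinearMap.add_apply, LinearEquiv.coe_coe, hX'z] at e
    rw [← two_smul F, ← two_smul F, map_smul] at e
    exact (smul_right_injective _ C.two e).symm
  refine ⟨z, hzM, hz1, hzz, hcomm hc, hcomm hc', fun x => ?_⟩
  -- `z` is trivial on the complement
  have hfix0 : ∀ y, (T * T') y = 0 → (T' * T) y = 0 → z y = y := fun y hy hy' => by
    have e1 : z y = y + α • T y + β • T' y := hzY y hy hy'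
    have e3 : T (T y) = 0 := by rw [← Module.End.mul_apply, hT2, LinearMap.zero_apply]
    have e4 : T' (T' y) = 0 := by rw [← Module.End.mul_apply, hT'2, LinearMap.zero_apply]
    have hzT : z (T y) = T y := by
      rw [← hcomm hc, e1, map_add, map_add, map_smul, map_smul, e3, show T (T' y) = 0 from hy]
      simp
    have hzT' : z (T' y) = T' y := by
      rw [← hcomm hc', e1, map_add, map_add, map_smul, map_smul, e4, show T' (T y) = 0 from hy']
      simp
    have e2 := hzz y
    rw [e1, map_add, map_add, map_smul, map_smul, hzT, hzT', e1] at e2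
    have e5 : (2 : F) • (α • T y + β • T' y) = 0 := by linear_combination (norm := module) e2
    rw [e1, add_assoc, (smul_eq_zero.1 e5).resolve_left C.two, add_zero]
  obtain ⟨i, hi⟩ := (A.surjective.comp B.surjective) ⟨(T * T') x, hI ▸ ⟨x, rfl⟩⟩
  obtain ⟨j, hj⟩ := (B.surjective.comp A.surjective) ⟨(T' * T) x, hJ ▸ ⟨x, rfl⟩⟩
  have hi' : T (T' i.1) = (T * T') x := by
    have := congrArg Subtype.val hi
    simp only [Function.comp_apply, hA, hB] at this
    exact this
  have hj' : T' (T j.1) = (T' * T) x := by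
    have := congrArg Subtype.val hj
    simp only [Function.comp_apply, hA, hB] at this
    exact this
  set y := x - φ (i, j) with hy
  have hy1 : (T * T') y = 0 := by
    rw [hy, hφ, map_sub, map_add, Module.End.mul_apply T T' j.1, hT'J, map_zero, add_zero,
      Module.End.mul_apply T T' i.1, hi', sub_self]
  have hy2 : (T' * T) y = 0 := by
    rw [hy, hφ, map_sub, map_add, Module.End.mul_apply T' T i.1, hTI, map_zero, zero_add,
      Module.End.mul_apply T' T j.1, hj', sub_self]
  have e : z x - x = φ (z₀ (i, j)) - φ (i, j) := by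
    have := hfix0 y hy1 hy2
    rw [hy, map_sub, show z (φ (i, j)) = φ (z₀ (i, j)) from hzφ (i, j)] at this
    linear_combination (norm := module) this
  rw [e]
  refine Submodule.sub_mem _ ?_ ?_
  · obtain ⟨a, b⟩ := z₀ (i, j)
    rw [hφ]; exact Submodule.add_mem_sup a.2 b.2
  · rw [hφ]; exact Submodule.add_mem_sup i.2 j.2

/-- The descent. -/
theorem descent (H : C.Hyp M l) (hQ : C.QProp M l) (r : ℕ) :
    ∀ g ∈ M, ∀ N N' : (Fin n₁ → F) →ₗ[F] (Fin n₁ → F), C.Root l N → C.Root l N' →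
      finrank F (LinearMap.range ((C.Tm N).comp (cjE g (C.Tm N')))) = r →
      C.IsTen g ∨ (r = l * n₂ ∧ Data C l N (cjE g (C.Tm N'))) := by
  classical
  induction r using Nat.strong_induction_on with
  | _ r ih =>
  intro g hg N N' hN hN' hr
  obtain ⟨hn2, hn1, hl1⟩ := H.npos
  set T : Module.End F (ι → F) := C.Tm N with hTdef
  set T' : Module.End F (ι → F) := cjE g (C.Tm N') with hT'def
  have hi := H.iso g hg
  have hTs : C.Skew T := hN.skewT
  have hT's : C.Skew T' := hN'.skewT.cjE hi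
  have hT2 : T * T = 0 := LinearMap.ext hN.sqT
  have hT'sq : ∀ x, T' (T' x) = 0 := fun x => by
    simp only [hT'def, cjE_apply, LinearEquiv.symm_apply_apply, hN'.sqT, map_zero]
  have hT'2 : T' * T' = 0 := LinearMap.ext hT'sq
  have hTsq : ∀ x, T (T x) = 0 := hN.sqT
  obtain ⟨t, htM, ht1⟩ := hN.exists_elem H.left 1
  obtain ⟨t₀, ht₀M, ht₀1⟩ := hN'.exists_elem H.left 1
  have ht : ∀ x, t x = x + T x := fun x => by rw [ht1, one_smul]
  set t' := g * t₀ * g⁻¹ with ht'def
  have ht'M : t' ∈ M := mul_mem (mul_mem hg ht₀M) (inv_mem hg)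
  have ht' : ∀ x, t' x = x + T' x := fun x => by
    show g (t₀ (g.symm x)) = _
    rw [ht₀1, one_smul, map_add, g.apply_symm_apply]; rfl
  have hrT : finrank F (LinearMap.range T) = l * n₂ := by
    rw [hTdef, C.finrank_range_tm, hN.finrank_range]
  have hrT' : finrank F (LinearMap.range T') = l * n₂ := by
    rw [hT'def, cjE_rank, C.finrank_range_tm, hN'.finrank_range]
  have hrle : r ≤ l * n₂ := by
    rw [← hr, ← hrT]; exact Submodule.finrank_mono (LinearMap.range_comp_le_range _ _)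
  have hadj : ∀ x y, C.p ((T * T') x) y = C.p x ((T' * T) y) := fun x y => by
    rw [Module.End.mul_apply, hTs, hT's, neg_neg]; rfl
  -- elements conjugating root elements into the stabiliser
  have viaX' : C.IsTen t' → C.IsTen g := fun h => isTen_of_conj H hQ hN' hg ht' h
  by_cases hr0 : r = 0
  · left
    have h0 : T * T' = 0 := by
      rw [hr0] at hr
      exact LinearMap.range_eq_bot.1 (Submodule.finrank_eq_zero.1 hr)
    have h0' : ∀ x, T' (T x) = 0 := fun x => C.pnd' fun y => by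
      rw [← Module.End.mul_apply, ← hadj, h0, LinearMap.zero_apply, map_zero, LinearMap.zero_apply]
    refine viaX' (isTen_of_map H hQ hN hN ht'M fun x => ⟨fun hx => ?_, fun hx => ?_⟩)
    · obtain ⟨v, rfl⟩ := hx
      exact ⟨v, by rw [ht', ← hTdef, h0', add_zero]⟩
    · obtain ⟨v, hv⟩ := hx
      refine ⟨v, t'.injective ?_⟩
      rw [← hv, ht', ← hTdef, h0', add_zero]
  by_cases hA : finrank F (LinearMap.range (T' * T * T')) < r
  · left
    set h := g⁻¹ * t * g with hhdef
    have hhM : h ∈ M := mul_mem (mul_mem (inv_mem hg) htM) hg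
    have hhx : ∀ x, h x = x + cjE g⁻¹ T x := fun x => by
      show g.symm (t (g x)) = _
      rw [ht, map_add, g.symm_apply_apply]; rfl
    have e : (C.Tm N').comp (cjE h (C.Tm N')) = cjE g.symm ((T' * T * T').comp t.symm.toLinearMap) := by
      refine LinearMap.ext fun x => ?_
      simp only [LinearMap.comp_apply, cjE_apply, LinearEquiv.symm_symm, LinearEquiv.coe_coe,
        Module.End.mul_apply]
      have hTm : ∀ w, C.Tm N' (g.symm w) = g.symm (T' w) := fun w => by
        rw [hT'def, cjE_apply, g.symm_apply_apply]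
      rw [show h.symm x = g.symm (t.symm (g x)) from rfl, hTm]
      show C.Tm N' (g.symm (t (g (g.symm (T' (t.symm (g x))))))) = _
      rw [g.apply_symm_apply, hTm, ht, map_add, hT'sq, zero_add]
    have hr' : finrank F (LinearMap.range ((C.Tm N').comp (cjE h (C.Tm N')))) < r := by
      rw [e, cjE_rank, rank_comp_equiv]; exact hA
    rcases ih _ hr' h hhM N' N' hN' hN' rfl with hh | ⟨hh, -⟩
    · obtain ⟨σ, τ, hst⟩ := isTen_of_conj H hQ hN (inv_mem hg) hhx hh
      exact ⟨σ.symm, τ.symm, fun a y => g.symm.injective (by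
        show g.symm (g (C.t a y)) = g⁻¹ (C.t (σ.symm a) (τ.symm y))
        rw [g.symm_apply_apply, hst, σ.apply_symm_apply, τ.apply_symm_apply])⟩
    · omega
  by_cases hB : finrank F (LinearMap.range (T * T' * T)) < r
  · left
    have e : T.comp (cjE t' T) = (T * T' * T).comp t'.symm.toLinearMap :=
      LinearMap.ext fun x => by
        simp only [LinearMap.comp_apply, cjE_apply, LinearEquiv.coe_coe, Module.End.mul_apply, ht',
          map_add, hTsq, zero_add]
    have hr' : finrank F (LinearMap.range ((C.Tm N).comp (cjE t' (C.Tm N)))) < r := by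
      rw [← hTdef, e, rank_comp_equiv]; exact hB
    rcases ih _ hr' t' ht'M N N hN hN rfl with hh | ⟨hh, -⟩
    · exact viaX' hh
    · omega
  push Not at hA hB
  -- the generic case
  set I := LinearMap.range (T * T') with hI
  set J := LinearMap.range (T' * T) with hJ
  have hrI : finrank F I = r := hr
  have hrJ : finrank F J = r := by rw [hJ, rank_adjoint hadj]; exact hr
  have hTJ : ∀ j : J, T j.1 ∈ I := fun j => by
    obtain ⟨v, hv⟩ := (j.2 : j.1 ∈ LinearMap.range (T' * T))
    exact ⟨T v, by rw [← hv]; rfl⟩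
  have hT'I : ∀ i : I, T' i.1 ∈ J := fun i => by
    obtain ⟨v, hv⟩ := (i.2 : i.1 ∈ LinearMap.range (T * T'))
    exact ⟨T' v, by rw [← hv]; rfl⟩
  let A₀ : J →ₗ[F] I := (T.comp J.subtype).codRestrict I hTJ
  let B₀ : I →ₗ[F] J := (T'.comp I.subtype).codRestrict J hT'I
  have hA₀ : Function.Surjective A₀ := by
    have hle : LinearMap.range (T * T' * T) ≤ (LinearMap.range A₀).map I.subtype := by
      rintro _ ⟨v, rfl⟩
      exact ⟨A₀ ⟨(T' * T) v, ⟨v, rfl⟩⟩, ⟨_, rfl⟩, rfl⟩
    have h := Submodule.finrank_mono hle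
    rw [Submodule.finrank_map_subtype_eq] at h
    refine LinearMap.range_eq_top.1 (Submodule.eq_top_of_finrank_eq ?_)
    have := Submodule.finrank_le (LinearMap.range A₀)
    omega
  have hB₀ : Function.Surjective B₀ := by
    have hle : LinearMap.range (T' * T * T') ≤ (LinearMap.range B₀).map J.subtype := by
      rintro _ ⟨v, rfl⟩
      exact ⟨B₀ ⟨(T * T') v, ⟨v, rfl⟩⟩, ⟨_, rfl⟩, rfl⟩
    have h := Submodule.finrank_mono hle
    rw [Submodule.finrank_map_subtype_eq] at h
    refine LinearMap.range_eq_top.1 (Submodule.eq_top_of_finrank_eq ?_)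
    have := Submodule.finrank_le (LinearMap.range B₀)
    omega
  let A := LinearEquiv.ofBijective A₀
    ⟨(LinearMap.injective_iff_surjective_of_finrank_eq_finrank (hrJ.trans hrI.symm)).2 hA₀, hA₀⟩
  let B := LinearEquiv.ofBijective B₀
    ⟨(LinearMap.injective_iff_surjective_of_finrank_eq_finrank (hrI.trans hrJ.symm)).2 hB₀, hB₀⟩
  have hIne : LinearMap.range (T * T') ≠ ⊥ := fun h => hr0 (by rw [← hrI, hI, h, finrank_bot])
  obtain ⟨z, hzM, hz1, hzz, hzT, hzT', hzY⟩ :=
    exists_invol H hTs hT's hT2 hT'2 htM ht'M ht ht' I J rfl rfl hIne A (fun _ => rfl) B (fun _ => rfl)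
  -- `z` is `σ ⊗ 1`
  have hTI : ∀ i ∈ I, T i = 0 := by rintro _ ⟨v, rfl⟩; exact hTsq _
  have hIW : I ≤ LinearMap.range T := LinearMap.range_comp_le_range _ _
  have hJW : J ≤ LinearMap.range T' := LinearMap.range_comp_le_range _ _
  have hYk : ∀ x ∈ I ⊔ J, T x = 0 → x ∈ I := by
    intro x hx hTx
    obtain ⟨i, hi', j, hj, rfl⟩ := Submodule.mem_sup.1 hx
    rw [map_add, hTI i hi', zero_add] at hTx
    have hj0 : A ⟨j, hj⟩ = 0 := Subtype.ext hTx
    rw [show j = 0 from congrArg Subtype.val (A.map_eq_zero_iff.1 hj0), add_zero]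
    exact hi'
  obtain ⟨σ, τ, hst⟩ := isTen_of_map H hQ hN hN hzM fun x => ⟨fun ⟨v, hv⟩ => ⟨z v, by
      rw [← hv]; exact hzT v⟩, fun ⟨v, hv⟩ => ⟨z v, by rw [← hzz x, ← hv]; exact hzT v⟩⟩
  obtain ⟨a, ha, haL⟩ : ∃ a, N a = 0 ∧ a ∉ LinearMap.range N := by
    by_contra! hall
    have h := Submodule.finrank_mono (show LinearMap.ker N ≤ LinearMap.range N from hall)
    have h' := N.finrank_range_add_finrank_ker
    rw [Module.finrank_fin_fun, hN.finrank_range] at h'
    rw [hN.finrank_range] at h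
    have := H.big
    omega
  have hmod : ∀ y, C.t (σ a) (τ y) - C.t a y ∈ C.sub (LinearMap.range N) := fun y => by
    rw [← C.range_tm, ← hst]
    show _ ∈ LinearMap.range T
    refine hIW (hYk _ (hzY _) ?_)
    rw [map_sub, hzT, hTdef, Tm_t_mem hN ha, map_zero, sub_zero]
  obtain ⟨c, hc⟩ : ∃ c : F, ∀ y, τ y = c • y := by
    by_cases hall : ∀ y, τ y ∈ F ∙ y
    · obtain ⟨c, hc⟩ := C4.scalar_of_lines τ.toLinearMap hall
      exact ⟨c, fun y => LinearMap.congr_fun hc y⟩
    exfalso
    push Not at hall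
    obtain ⟨y, hy⟩ := hall
    obtain ⟨w, hw, hw1'⟩ := C.swap.exists_pair hy
    have hyw : C.g y w = 0 := hw y (Submodule.mem_span_singleton_self y)
    have hw1 : C.g (τ y) w = 1 := hw1'
    have h1 := C.mem_sub.1 (hmod y) w
    rw [map_sub, C.prB_t, C.prB_t, hyw, hw1, one_smul, zero_smul, sub_zero] at h1
    have hy0 : y ≠ 0 := fun h => hy (by rw [h, map_zero]; exact Submodule.zero_mem _)
    obtain ⟨w', hw''⟩ := C.swap.exists_dual hy0
    have hw' : C.g y w' = 1 := hw''
    have h2 := C.mem_sub.1 (hmod y) w'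
    rw [map_sub, C.prB_t, C.prB_t, hw', one_smul] at h2
    exact haL (by simpa using Submodule.sub_mem _ (Submodule.smul_mem _ (C.g (τ y) w') h1) h2)
  set S : (Fin n₁ → F) →ₗ[F] (Fin n₁ → F) := c • σ.toLinearMap with hSdef
  have hzS : ∀ x, z x = C.Tm S x := fun x => LinearMap.congr_fun (C.ext_pure (L := z.toLinearMap)
    (L' := C.Tm S) fun a y => by simp [hst, hc, hSdef, C.tm_t]) x
  obtain ⟨y0, hy0⟩ : ∃ y : Fin n₂ → F, y ≠ 0 := ⟨Pi.single ⟨0, hn2⟩ 1, by simp⟩
  obtain ⟨w0, hw0'⟩ := C.swap.exists_dual hy0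
  have hw0 : C.g y0 w0 = 1 := hw0'
  have hSS : ∀ a, S (S a) = a := fun a => C.t_inj hy0 (by
    have h := hzz (C.t a y0)
    rw [hzS, hzS, C.tm_t, C.tm_t] at h
    exact h)
  have hSiso : ∀ a b, C.f (S a) (S b) = C.f a b := fun a b => by
    have h := H.iso z hzM (C.t a y0) (C.t b w0)
    rw [hzS, hzS, C.tm_t, C.tm_t, C.pol, C.pol, LinearMap.id_apply, LinearMap.id_apply, hw0] at h
    simpa using h
  have hSN : ∀ a, N (S a) = S (N a) := fun a => C.t_inj hy0 (by
    have h := hzT (C.t a y0)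
    rw [hzS, hzS, hTdef, C.tm_t, C.tm_t, C.tm_t, C.tm_t] at h
    exact h)
  have hSL : ∀ a ∈ LinearMap.range N, S a ∈ LinearMap.range N := by
    rintro _ ⟨v, rfl⟩; exact ⟨S v, hSN v⟩
  set P : Submodule F (Fin n₁ → F) := LinearMap.ker (S + LinearMap.id) with hPdef
  have hP : ∀ a, a ∈ P ↔ S a = -a := fun a => by
    rw [hPdef, LinearMap.mem_ker, LinearMap.add_apply, LinearMap.id_apply, add_eq_zero_iff_eq_neg]
  have hpr : ∀ d, (2 : F)⁻¹ • (d - S d) ∈ P ∧ ∀ x ∈ P, C.f x d = C.f x ((2 : F)⁻¹ • (d - S d)) := by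
    intro d
    refine ⟨(hP _).2 (by rw [map_smul, map_sub, hSS]; module), fun x hx => ?_⟩
    have e := hSiso x d
    rw [(hP x).1 hx, map_neg, LinearMap.neg_apply] at e
    have h22 := C.two
    rw [map_smul, map_sub, smul_eq_mul, ← sub_eq_zero]
    field_simp
    linear_combination -e
  have hsubP : ∀ x ∈ C.sub P, z x = -x := fun x hx => by
    rw [hzS]
    exact C.eq_on_sub (φ := C.Tm S) (ψ := -LinearMap.id) (fun b hb y => by
      simp [C.tm_t, (hP b).1 hb]) hx
  have hnegY : ∀ x, z x = -x → x ∈ I ⊔ J := fun x hx => by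
    have h := (I ⊔ J).smul_mem (-(2 : F)⁻¹) (hzY x)
    rw [hx] at h
    have h22 := C.two
    rwa [show (-(2 : F)⁻¹) • (-x - x) = x by match_scalars; field_simp; ring] at h
  -- the line or plane of the root is in `P`
  have hLP : LinearMap.range N ≤ P := by
    by_cases h0 : LinearMap.range N ⊓ P = ⊥
    · exfalso
      have hfix : ∀ b ∈ LinearMap.range N, S b = b := fun b hb => by
        have h : b - S b ∈ LinearMap.range N ⊓ P :=
          ⟨Submodule.sub_mem _ hb (hSL b hb), (hP _).2 (by rw [map_sub, hSS]; abel)⟩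
        rw [h0, Submodule.mem_bot, sub_eq_zero] at h
        exact h.symm
      have hzW : ∀ x ∈ LinearMap.range T, z x = x := fun x hx => by
        rw [hTdef, C.range_tm] at hx
        rw [hzS]
        exact C.eq_on_sub (φ := C.Tm S) (ψ := LinearMap.id) (fun b hb y => by simp [C.tm_t, hfix b hb]) hx
      have hzJ : ∀ x ∈ J, z x = x := fun x hx => by
        obtain ⟨i, hi'⟩ := hB₀ ⟨x, hx⟩
        have : T' i.1 = x := congrArg Subtype.val hi'
        rw [← this, ← hzT', hzW _ (hIW i.2)]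
      refine hz1 (LinearEquiv.ext fun x => ?_)
      obtain ⟨i, hi', j, hj, hij⟩ := Submodule.mem_sup.1 (hzY x)
      have hfix2 : z (z x - x) = z x - x := by rw [← hij, map_add, hzW _ (hIW hi'), hzJ _ hj]
      rw [map_sub, hzz] at hfix2
      have : (2 : F) • (z x - x) = 0 := by linear_combination (norm := module) -(1 : F) • hfix2
      show z x = x
      exact sub_eq_zero.1 ((smul_eq_zero.1 this).resolve_left C.two)
    · obtain ⟨u, ⟨huN, huP⟩, hu0⟩ := Submodule.exists_mem_ne_zero_of_ne_bot h0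
      intro b hb
      by_contra hbP
      have hlt : finrank F (LinearMap.range N ⊓ P : Submodule F (Fin n₁ → F)) < l := by
        rw [← hN.finrank_range]
        exact Submodule.finrank_lt_finrank_of_lt (lt_of_le_of_ne inf_le_left fun h => hbP (by
          have : b ∈ LinearMap.range N ⊓ P := h.symm ▸ hb
          exact this.2))
      have hpos : 1 ≤ finrank F (LinearMap.range N ⊓ P : Submodule F (Fin n₁ → F)) :=
        Submodule.one_le_finrank_iff.2 h0
      rcases H.kind with ⟨rfl, -⟩ | ⟨rfl, h1⟩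
      · omega
      obtain ⟨d, hd⟩ := C.exists_dual hu0
      obtain ⟨x, hd'P, hd'⟩ : ∃ x ∈ P, ∀ y ∈ P, C.f y d = C.f y x := ⟨_, hpr d⟩
      have hux : C.f u x = 1 := by rw [← hd' u huP, hd]
      have hNx : N x ∈ LinearMap.range N ⊓ P :=
        Submodule.mem_inf.2 ⟨⟨x, rfl⟩, (hP _).2 (by rw [← hSN, (hP x).1 hd'P, map_neg])⟩
      have hle : (LinearMap.range N ⊓ P) = F ∙ u := by
        refine (Submodule.eq_of_le_of_finrank_le ((Submodule.span_singleton_le_iff_mem _ _).2 (Submodule.mem_inf.2 ⟨huN, huP⟩)) ?_).symm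
        rw [finrank_span_singleton hu0]; omega
      rw [hle] at hNx
      obtain ⟨κ, hκ⟩ := Submodule.mem_span_singleton.1 hNx
      have h0' := hN.skewA x x
      rw [f_comm h1 x (N x), ← hκ, map_smul, LinearMap.smul_apply, hux, smul_eq_mul, mul_one] at h0'
      have hκ0 : κ = 0 :=
        (mul_eq_zero.1 (show (2 : F) * κ = 0 by linear_combination h0')).resolve_left C.two
      rw [hκ0, zero_smul] at hκ
      have := hN.skewA.mem_ker_iff.1 hκ.symm u huN
      rw [hux] at this
      exact one_ne_zero this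
  have hWI : LinearMap.range T ≤ I := fun x hx => by
    refine hYk x (hnegY x (hsubP x ?_)) ?_
    · rw [hTdef, C.range_tm] at hx; exact C.sub_mono hLP hx
    · obtain ⟨v, rfl⟩ := hx; exact hTsq v
  have hrl : r = l * n₂ := le_antisymm hrle (by rw [← hrT, ← hrI]; exact Submodule.finrank_mono hWI)
  right
  refine ⟨hrl, P, hLP, ?_, fun d => ⟨_, (hpr d).1, (hpr d).2⟩, fun x hx => ?_⟩
  · have h1 : finrank F (C.sub P) ≤ finrank F (I ⊔ J : Submodule F (ι → F)) :=
      Submodule.finrank_mono fun x hx => hnegY x (hsubP x hx)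
    have h2 := Submodule.finrank_add_le_finrank_add_finrank I J
    rw [C.finrank_sub] at h1
    exact Nat.le_of_mul_le_mul_right (by rw [mul_assoc, ← hrl]; omega) hn2
  · have hJeq : J = LinearMap.range T' :=
      Submodule.eq_of_le_of_finrank_le hJW (by rw [hrT', hrJ, hrl])
    rw [← hJeq] at hx
    obtain ⟨i, hi'⟩ := hB₀ ⟨x, hx⟩
    have e : T' i.1 = x := congrArg Subtype.val hi'
    have hzi : z i.1 = -i.1 := hsubP _ (by
      have := hIW i.2
      rw [hTdef, C.range_tm] at this
      exact C.sub_mono hLP this)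
    have hzx : z x = -x := by rw [← e, ← hzT', hzi, map_neg]
    refine C.mem_sub.2 fun y => (hP _).2 ?_
    have := congrArg (C.prB y) hzx
    rwa [hzS, C.prB_tm, map_neg] at this

/-- Under `QProp` every element of the overgroup is a tensor product. -/
theorem isTen_of_mem (H : C.Hyp M l) (hQ : C.QProp M l) {g : (ι → F) ≃ₗ[F] (ι → F)} (hg : g ∈ M) :
    C.IsTen g := by
  classical
  obtain ⟨hn2, hn1, hl1⟩ := H.npos
  obtain ⟨N₀, hN₀⟩ := H.exRoot
  by_contra hne
  set T' := cjE g (C.Tm N₀) with hT'def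
  have key : ∀ N, C.Root l N → Data C l N T' := fun N hN =>
    ((descent H hQ _ g hg N N₀ hN hN₀ rfl).resolve_left hne).2
  suffices hsmall : ∃ I₀ : Submodule F (Fin n₁ → F), finrank F I₀ ≤ l ∧ LinearMap.range T' ≤ C.sub I₀ by
    obtain ⟨I₀, hI₀, hle⟩ := hsmall
    have hrT' : finrank F (LinearMap.range T') = l * n₂ := by
      rw [hT'def, cjE_rank, C.finrank_range_tm, hN₀.finrank_range]
    have hge := Submodule.finrank_mono hle
    rw [hrT', C.finrank_sub] at hge
    have hI : finrank F I₀ = l := le_antisymm hI₀ (Nat.le_of_mul_le_mul_right hge hn2)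
    have heq : LinearMap.range T' = C.sub I₀ :=
      Submodule.eq_of_le_of_finrank_le hle (by rw [hrT', C.finrank_sub, hI])
    obtain ⟨y0, hy0⟩ : ∃ y : Fin n₂ → F, y ≠ 0 := ⟨Pi.single ⟨0, hn2⟩ 1, by simp⟩
    obtain ⟨w0, hw0'⟩ := C.swap.exists_dual hy0
    have hw0 : C.g y0 w0 = 1 := hw0'
    obtain ⟨N', hN', hN'r⟩ := root_of_isotropic H hI fun u hu v hv => by
      have h := C.pol u y0 v w0
      have hu' : C.t u y0 ∈ LinearMap.range T' := heq ▸ C.t_mem_sub hu _
      have hv' : C.t v w0 ∈ LinearMap.range T' := heq ▸ C.t_mem_sub hv _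
      obtain ⟨x, hx⟩ := hu'
      obtain ⟨x', hx'⟩ := hv'
      rw [← hx, ← hx', hN₀.skewT.cjE (H.iso g hg), hT'def, cjE_apply, cjE_apply,
        g.symm_apply_apply, hN₀.sqT, map_zero, map_zero, neg_zero, hw0, mul_one] at h
      exact h.symm
    refine hne (isTen_of_map H hQ hN₀ hN' hg fun x => ?_)
    rw [C.range_tm N', hN'r, ← heq]
    exact ⟨fun ⟨v, hv⟩ => ⟨g v, by rw [hT'def, cjE_apply, g.symm_apply_apply, hv]⟩,
      fun ⟨v, hv⟩ => ⟨g.symm v, g.injective hv⟩⟩
  have hbig := H.big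
  have hinf : ∀ {P P' : Submodule F (Fin n₁ → F)}, LinearMap.range T' ≤ C.sub P →
      LinearMap.range T' ≤ C.sub P' → LinearMap.range T' ≤ C.sub (P ⊓ P') := fun h h' x hx =>
    C.mem_sub.2 fun y => ⟨C.mem_sub.1 (h hx) y, C.mem_sub.1 (h' hx) y⟩
  obtain ⟨P₀, hL₀, hd₀, hp₀, hT₀⟩ := key N₀ hN₀
  rcases H.kind with ⟨rfl, h1, -⟩ | ⟨rfl, h1⟩
  · obtain ⟨a, -, ha⟩ := SetLike.exists_of_lt (lt_top_iff_ne_top.2 (show P₀ ≠ ⊤ from fun h => by
      rw [h, finrank_top, Module.finrank_fin_fun] at hd₀; omega))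
    have ha0 : a ≠ 0 := fun h => ha (by rw [h]; exact Submodule.zero_mem _)
    have haa : C.f a a = 0 := by
      have := C.hf a a
      rw [h1] at this
      exact (mul_eq_zero.1 (show (2 : F) * C.f a a = 0 by linear_combination this)).resolve_left C.two
    obtain ⟨N₂, hN₂, hN₂r⟩ := root_of_isotropic H (W := F ∙ a) (finrank_span_singleton ha0)
      fun u hu v hv => by
        obtain ⟨s, rfl⟩ := Submodule.mem_span_singleton.1 hu
        obtain ⟨s', rfl⟩ := Submodule.mem_span_singleton.1 hv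
        simp [haa]
    obtain ⟨P₂, hL₂, hd₂, -, hT₂⟩ := key N₂ hN₂
    refine ⟨P₀ ⊓ P₂, ?_, hinf hT₀ hT₂⟩
    have : P₀ ⊓ P₂ < P₂ := lt_of_le_of_ne inf_le_right fun h => ha (by
      have : a ∈ P₀ ⊓ P₂ := h.symm ▸ hL₂ (hN₂r.symm ▸ Submodule.mem_span_singleton_self a)
      exact this.1)
    have := Submodule.finrank_lt_finrank_of_lt this
    omega
  -- planes
  have next_ : ∀ (N : (Fin n₁ → F) →ₗ[F] (Fin n₁ → F)) (P : Submodule F (Fin n₁ → F)), C.Root 2 N →
      LinearMap.range N ≤ P → finrank F P ≤ 4 → (∀ d, ∃ d' ∈ P, ∀ x ∈ P, C.f x d = C.f x d') →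
      ∀ p ∈ LinearMap.range N, p ≠ 0 → ∃ N₁ x, C.Root 2 N₁ ∧ p ∈ LinearMap.range N₁ ∧
        x ∈ LinearMap.range N₁ ∧ x ∉ P := by
    intro N P hN hL hd hproj p hp hp0
    have hpp := hN.isotropic hp hp
    obtain ⟨x₀, hx₀, hx₀p⟩ : ∃ x₀ ∈ LinearMap.range N, x₀ ∉ F ∙ p := by
      by_contra! hall
      have h := Submodule.finrank_mono (hall : LinearMap.range N ≤ F ∙ p)
      rw [finrank_span_singleton hp0, hN.finrank_range] at h
      omega
    obtain ⟨d, hd1⟩ := C.exists_dual hp0
    obtain ⟨d', hd'P, hd'⟩ := hproj d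
    have hpd : C.f p d' = 1 := by rw [← hd' p (hL hp), hd1]
    obtain ⟨v, hv, hvP⟩ : ∃ v, C.f p v = 0 ∧ v ∉ P := by
      by_contra! hall
      have htop : P = ⊤ := eq_top_iff.2 fun v _ => by
        have h := hall (v - C.f p v • d') (by simp [hpd])
        simpa using P.add_mem h (P.smul_mem (C.f p v) hd'P)
      rw [htop, finrank_top, Module.finrank_fin_fun] at hd
      omega
    obtain ⟨x, hx, hxx, hxP⟩ : ∃ x, C.f p x = 0 ∧ C.f x x = 0 ∧ x ∉ P := by
      by_cases hvv : C.f v v = 0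
      · exact ⟨v, hv, hvv, hvP⟩
      obtain ⟨u, hu, huP, hux⟩ : ∃ u, C.f p u = 0 ∧ u ∉ P ∧ C.f u x₀ ≠ 0 := by
        by_cases hvx : C.f v x₀ ≠ 0
        · exact ⟨v, hv, hvP, hvx⟩
        push Not at hvx
        have hli : LinearIndependent F ![p, x₀] := by
          rw [LinearIndependent.pair_iff' hp0]
          exact fun a ha => hx₀p (Submodule.mem_span_singleton.2 ⟨a, ha⟩)
        obtain ⟨e, he, he'⟩ := exists_dual_pair (C := C) (LinearIndependent.pair_symm_iff.1 hli)
        obtain ⟨e', he'P, hee'⟩ := hproj e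
        have h1' : C.f x₀ e' = 1 := by rw [← hee' x₀ (hL hx₀), he]
        have h2' : C.f p e' = 0 := by rw [← hee' p (hL hp), he']
        refine ⟨v + e', by simp [hv, h2'], fun h => hvP (by simpa using P.sub_mem h he'P), ?_⟩
        rw [map_add, LinearMap.add_apply, hvx, zero_add, f_comm h1 e' x₀, h1']
        exact one_ne_zero
      refine ⟨u + (-(C.f u u / (2 * C.f u x₀))) • x₀, by simp [hu, hN.isotropic hp hx₀], ?_,
        fun h => huP (by simpa using P.sub_mem h (P.smul_mem (-(C.f u u / (2 * C.f u x₀))) (hL hx₀)))⟩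
      have h22 := C.two
      simp [hN.isotropic hx₀ hx₀, f_comm h1 x₀ u]
      field_simp
      ring
    have hxp : x ∉ F ∙ p := fun h => hxP (by
      obtain ⟨s, rfl⟩ := Submodule.mem_span_singleton.1 h
      exact P.smul_mem s (hL hp))
    have hli : LinearIndependent F ![p, x] := by
      rw [LinearIndependent.pair_iff' hp0]
      exact fun a ha => hxp (Submodule.mem_span_singleton.2 ⟨a, ha⟩)
    obtain ⟨N₁, hN₁, hN₁r⟩ := root_of_isotropic H (W := Submodule.span F (Set.range ![p, x]))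
      (by rw [finrank_span_eq_card hli, Fintype.card_fin]) fun u hu w hw => by
        obtain ⟨a, rfl⟩ := (Submodule.mem_span_range_iff_exists_fun F).1 hu
        obtain ⟨b, rfl⟩ := (Submodule.mem_span_range_iff_exists_fun F).1 hw
        simp [Fin.sum_univ_two, hpp, hx, hxx, f_comm h1 x p]
    exact ⟨N₁, x, hN₁, hN₁r ▸ Submodule.subset_span ⟨0, rfl⟩, hN₁r ▸ Submodule.subset_span ⟨1, rfl⟩, hxP⟩
  obtain ⟨p₀, hp₀N, hp₀0⟩ := Submodule.exists_mem_ne_zero_of_ne_bot (p := LinearMap.range N₀) fun h => by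
    have := hN₀.finrank_range
    rw [h, finrank_bot] at this
    omega
  obtain ⟨N₁, x, hN₁, -, hxN, hxP⟩ := next_ N₀ P₀ hN₀ hL₀ hd₀ hp₀ p₀ hp₀N hp₀0
  obtain ⟨P₁, hL₁, hd₁, hp₁, hT₁⟩ := key N₁ hN₁
  obtain ⟨N₂, y, hN₂, hxN₂, hyN₂, hyP⟩ := next_ N₁ P₁ hN₁ hL₁ hd₁ hp₁ x hxN
    (fun h => hxP (by rw [h]; exact Submodule.zero_mem _))
  obtain ⟨P₂, hL₂, hd₂, -, hT₂⟩ := key N₂ hN₂
  refine ⟨P₀ ⊓ P₁ ⊓ P₂, ?_, hinf (hinf hT₀ hT₁) hT₂⟩
  have hlt : P₀ ⊓ P₁ < P₁ := lt_of_le_of_ne inf_le_right fun h => hxP (by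
    have : x ∈ P₀ ⊓ P₁ := h.symm ▸ hL₁ hxN
    exact this.1)
  have h3 := Submodule.finrank_lt_finrank_of_lt hlt
  have h4 := Submodule.finrank_mono (inf_le_left : P₀ ⊓ P₁ ⊓ P₂ ≤ P₀ ⊓ P₁)
  by_contra hgt
  push Not at hgt
  have hI : P₀ ⊓ P₁ ⊓ P₂ = P₀ ⊓ P₁ := Submodule.eq_of_le_of_finrank_le inf_le_left (by omega)
  have hI2 : P₀ ⊓ P₁ ≤ P₂ := hI ▸ inf_le_right
  set Q := (P₀ ⊓ P₁) ⊔ (F ∙ x)
  have hQ₁ : Q ≤ P₁ := sup_le inf_le_right ((Submodule.span_singleton_le_iff_mem _ _).2 (hL₁ hxN))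
  have hQlt : P₀ ⊓ P₁ < Q := lt_of_le_of_ne le_sup_left fun h => hxP (by
    have : x ∈ P₀ ⊓ P₁ := h.symm ▸ Submodule.mem_sup_right (Submodule.mem_span_singleton_self x)
    exact this.1)
  have hQ₂ : Q < P₂ := lt_of_le_of_ne (sup_le hI2 ((Submodule.span_singleton_le_iff_mem _ _).2 (hL₂ hxN₂)))
    fun h => hyP (hQ₁ (h.symm ▸ hL₂ hyN₂))
  have h5 := Submodule.finrank_lt_finrank_of_lt hQlt
  have h6 := Submodule.finrank_lt_finrank_of_lt hQ₂
  rw [hI] at hgt
  omega

end TT

end Cfsg.Agent.TenForm
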