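import Cfsg.Agent.Lib.C4.TenQ

/-!
# All symplectic transvections from one pure singular centre

* `Cen C M v` : the transvections with centre `v` are in `M`
* `all_centres`
-/

set_option autoImplicit false
set_option linter.unusedSectionVars false
set_option linter.unusedSimpArgs false

namespace Cfsg.Agent.TenForm

open Module

variable {ι : Type} [Fintype ι] [DecidableEq ι] {F : Type*} [Field F] [Fintype F] {n₁ n₂ : ℕ}

namespace TT

variable (C : TT ι F n₁ n₂) (M : Subgroup ((ι → F) ≃ₗ[F] (ι → F)))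

/-- `x ↦ p(v,x) v`. -/
def tvop (v : ι → F) : (ι → F) →ₗ[F] (ι → F) := (C.p v).smulRight v

/-- All transvections with centre `v` are in `M`. -/
def Cen (v : ι → F) : Prop := ∀ c : F, InM M (c • C.tvop v)

variable {C M}

theorem InM.conj {X : (ι → F) →ₗ[F] (ι → F)} (hX : InM M X) {m : (ι → F) ≃ₗ[F] (ι → F)} (hm : m ∈ M) :
    InM M (m.toLinearMap.comp (X.comp m.symm.toLinearMap)) := by
  obtain ⟨k, hk, e⟩ := hX
  refine ⟨m * k * m⁻¹, mul_mem (mul_mem hm hk) (inv_mem hm), fun x => ?_⟩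
  show m (k (m.symm x)) = _
  rw [e, map_add, m.apply_symm_apply]; rfl

theorem tm_sm_sm (a : Fin n₁ → F) (b : Fin n₂ → F) :
    C.tm (C.sm a a) (C.swap.sm b b) = C.tvop (C.t a b) :=
  C.ext_pure fun x y => by
    rw [C.tm_t]
    show C.t (C.f a x • a) (C.g b y • b) = C.p (C.t a b) (C.t x y) • C.t a b
    rw [map_smul, map_smul, LinearMap.smul_apply, smul_smul, C.pol, mul_comm]

theorem tvop_smul (r : F) (v : ι → F) : C.tvop (r • v) = (r * r) • C.tvop v :=
  LinearMap.ext fun x => by simp [tvop, smul_smul]; module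

theorem conj_tvop {m : (ι → F) ≃ₗ[F] (ι → F)} (hm : C.Iso m) (v : ι → F) :
    m.toLinearMap.comp ((C.tvop v).comp m.symm.toLinearMap) = C.tvop (m v) :=
  LinearMap.ext fun x => by simp [tvop, hm.symm_right]

theorem Cen.map (hiso : ∀ m ∈ M, C.Iso m) {v : ι → F} (h : C.Cen M v) {m : (ι → F) ≃ₗ[F] (ι → F)}
    (hm : m ∈ M) : C.Cen M (m v) := fun c => by
  have e := (h c).conj hm
  rwa [LinearMap.smul_comp, LinearMap.comp_smul, conj_tvop (hiso m hm)] at e

theorem Cen.smul {v : ι → F} (h : C.Cen M v) (r : F) : C.Cen M (r • v) := fun c => by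
  rw [tvop_smul, smul_smul]; exact h _

theorem cen_zero : C.Cen M 0 := fun c => by
  rw [show C.tvop 0 = 0 from LinearMap.ext fun x => by simp [tvop], smul_zero]; exact InM.zero

/-- Two non-orthogonal centres span a plane of centres through one of them. -/
theorem Cen.step (hiso : ∀ m ∈ M, C.Iso m) {u v : ι → F} (hu : C.Cen M u) (hv : C.Cen M v)
    (h : C.p u v ≠ 0) (a : F) : C.Cen M (v + a • u) := by
  obtain ⟨m, hm, e⟩ := hu (a / C.p u v)
  have hv' := hv.map hiso hm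
  rw [e] at hv'
  rwa [LinearMap.smul_apply, tvop, LinearMap.smulRight_apply, smul_smul, div_mul_cancel₀ _ h] at hv'

theorem p_self (h1 : C.s₁ = -1) (h2 : C.s₂ = 1) (v : ι → F) : C.p v v = 0 := by
  have := C.hp v v
  rw [h1, h2] at this
  exact (mul_eq_zero.1 (show (2 : F) * C.p v v = 0 by linear_combination this)).resolve_left C.two

theorem p_anti (h1 : C.s₁ = -1) (h2 : C.s₂ = 1) (u v : ι → F) : C.p v u = -C.p u v := by
  rw [C.hp u v, h1, h2]; ring

/-- Every vector in the span of two non-orthogonal centres is a centre. -/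
theorem Cen.plane (hiso : ∀ m ∈ M, C.Iso m) (h1 : C.s₁ = -1) (h2 : C.s₂ = 1) {u v : ι → F}
    (hu : C.Cen M u) (hv : C.Cen M v) (h : C.p u v ≠ 0) (a b : F) : C.Cen M (a • u + b • v) := by
  by_cases hb : b = 0
  · rw [hb, zero_smul, add_zero]; exact hu.smul a
  have := Cen.step hiso hu (hv.smul b) (by rw [map_smul, smul_eq_mul]; exact mul_ne_zero hb h) a
  rwa [add_comm] at this

/-! ### moves on the factors -/

theorem f_self (h1 : C.s₁ = -1) (v : Fin n₁ → F) : C.f v v = 0 := by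
  have := C.hf v v
  rw [h1] at this
  exact (mul_eq_zero.1 (show (2 : F) * C.f v v = 0 by linear_combination this)).resolve_left C.two

/-- A symplectic transvection of the left factor. -/
theorem exists_transvection (hl : C.LeftE M) (h1 : C.s₁ = -1) (w : Fin n₁ → F) (s : F) :
    ∃ σ : (Fin n₁ → F) ≃ₗ[F] (Fin n₁ → F), C.te σ (LinearEquiv.refl F _) ∈ M ∧
      ∀ z, σ z = z + (s * C.f w z) • w := by
  have hw := f_self h1 w
  have hx : C.f w ((s / 2) • w) = 0 := by simp [hw]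
  refine ⟨C.eA hw hx, hl w _ hw hx, fun z => ?_⟩
  have h22 := C.two
  rw [C.eA_apply, C.Dop_sq hw hx]
  simp [Dop_apply, h1, hw]
  match_scalars <;> field_simp <;> ring

theorem exists_both {u v : Fin n₁ → F} (hu : u ≠ 0) (hv : v ≠ 0) :
    ∃ z, C.f u z ≠ 0 ∧ C.f v z ≠ 0 := by
  obtain ⟨x, hx⟩ := C.exists_dual hu
  obtain ⟨y, hy⟩ := C.exists_dual hv
  by_cases h : C.f v x = 0
  · by_cases h' : C.f u y = 0
    · exact ⟨x + y, by simp [hx, h'], by simp [h, hy]⟩
    · exact ⟨y, h', by rw [hy]; exact one_ne_zero⟩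
  · exact ⟨x, by rw [hx]; exact one_ne_zero, h⟩

theorem exists_move_left (hl : C.LeftE M) (h1 : C.s₁ = -1) {u v : Fin n₁ → F} (hu : u ≠ 0)
    (hv : v ≠ 0) : ∃ σ : (Fin n₁ → F) ≃ₗ[F] (Fin n₁ → F),
      C.te σ (LinearEquiv.refl F _) ∈ M ∧ σ u = v := by
  have one : ∀ u v, C.f v u ≠ 0 → ∃ σ : (Fin n₁ → F) ≃ₗ[F] (Fin n₁ → F),
      C.te σ (LinearEquiv.refl F _) ∈ M ∧ σ u = v := fun u v h => by
    obtain ⟨σ, hσ, e⟩ := exists_transvection hl h1 (v - u) (C.f v u)⁻¹
    refine ⟨σ, hσ, ?_⟩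
    rw [e, show C.f (v - u) u = C.f v u by simp [f_self h1], inv_mul_cancel₀ h]
    module
  obtain ⟨z, hz, hz'⟩ := exists_both (C := C) hu hv
  obtain ⟨σ, hσ, e⟩ := one u z fun h => hz (C.f_zero_comm h)
  obtain ⟨σ', hσ', e'⟩ := one z v hz'
  refine ⟨σ.trans σ', ?_, by rw [LinearEquiv.trans_apply, e, e']⟩
  rw [← C.eq_te (m := C.te σ' (LinearEquiv.refl F _) * C.te σ (LinearEquiv.refl F _))
    (σ := σ.trans σ') (τ := LinearEquiv.refl F _) fun a z => by
      rw [LinearEquiv.mul_apply, C.te_t, C.te_t]; rfl]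
  exact mul_mem hσ' hσ

/-- A singular vector of the right factor is carried onto a multiple of any non-orthogonal one. -/
theorem exists_move_right (hr : C.swap.LeftE M) (h2 : C.s₂ = 1) (hn : 3 ≤ n₂) {b b' : Fin n₂ → F}
    (hb : C.g b b = 0) (hb' : C.g b' b' = 0) (h : C.g b b' ≠ 0) :
    ∃ τ : (Fin n₂ → F) ≃ₗ[F] (Fin n₂ → F), ∃ r : F, r ≠ 0 ∧
      C.te (LinearEquiv.refl F _) τ ∈ M ∧ τ b = r • b' := by
  set c := (C.g b b')⁻¹ • b' with hcdef
  have hc : C.g c c = 0 := by simp [hcdef, hb']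
  have hbc : C.g b c = 1 := by simp [hcdef, h]
  obtain ⟨β, h3', h4', h5'⟩ := exists_perp_aniso (C := C.swap) h2 hn hb hc hbc
  have h3 : C.g b β = 0 := h3'
  have h4 : C.g c β = 0 := h4'
  have h5 : C.g β β ≠ 0 := h5'
  have hx : C.g b ((2 / C.g β β) • β) = 0 := by rw [map_smul, h3, smul_zero]
  refine ⟨(C.swap.eA (a := c) (x := β) hc h4).trans (C.swap.eA (a := b) (x := (2 / C.g β β) • β) hb hx),
    -(C.g β β / 2) * (C.g b b')⁻¹, mul_ne_zero (neg_ne_zero.2 (div_ne_zero h5 C.two)) (inv_ne_zero h),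
    ?_, ?_⟩
  · rw [← C.eq_te (m := C.te (LinearEquiv.refl F _) (C.swap.eA (a := b) (x := (2 / C.g β β) • β) hb hx) *
      C.te (LinearEquiv.refl F _) (C.swap.eA (a := c) (x := β) hc h4))
      (σ := LinearEquiv.refl F _)
      (τ := (C.swap.eA (a := c) (x := β) hc h4).trans
        (C.swap.eA (a := b) (x := (2 / C.g β β) • β) hb hx)) fun a z => by
        rw [LinearEquiv.mul_apply, C.te_t, C.te_t]; rfl]
    exact mul_mem (LeftE.swap_mem hr b _ hb hx) (LeftE.swap_mem hr c β hc h4)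
  · have hgs : ∀ u v, C.g u v = C.g v u := fun u v => f_comm (C := C.swap) h2 u v
    have e1 : C.swap.eA (a := c) (x := β) hc h4 b = b - β - (C.g β β / 2) • c := by
      have e : C.swap.eA (a := c) (x := β) hc h4 b =
          b + C.swap.Dop c β b + (2 : F)⁻¹ • C.swap.Dop c β (C.swap.Dop c β b) :=
        C.swap.eA_apply hc h4 b
      rw [e, C.swap.Dop_sq hc h4, Dop_apply, show C.swap.f β b = 0 from (hgs β b).trans h3,
        show C.swap.f c b = 1 from (hgs c b).trans hbc, show C.swap.s₁ = 1 from h2,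
        show C.swap.f β β = C.g β β from rfl]
      module
    have e2 : ∀ z, C.swap.eA (a := b) (x := (2 / C.g β β) • β) hb hx z =
        z + (2 / C.g β β * C.g β z) • b - C.g b z • (2 / C.g β β) • β +
          (2 : F)⁻¹ • (-(C.g b z * (2 / C.g β β * (2 / C.g β β * C.g β β)))) • b := fun z => by
      have e : C.swap.eA (a := b) (x := (2 / C.g β β) • β) hb hx z =
          z + C.swap.Dop b ((2 / C.g β β) • β) z +
            (2 : F)⁻¹ • C.swap.Dop b ((2 / C.g β β) • β) (C.swap.Dop b ((2 / C.g β β) • β) z) :=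
        C.swap.eA_apply hb hx z
      rw [e, C.swap.Dop_sq hb hx, Dop_apply, show C.swap.s₁ = 1 from h2]
      simp only [map_smul, LinearMap.smul_apply, smul_eq_mul, one_mul]
      rw [show C.swap.f β z = C.g β z from rfl, show C.swap.f b z = C.g b z from rfl,
        show C.swap.f β β = C.g β β from rfl]
      module
    rw [LinearEquiv.trans_apply, e1, e2]
    simp only [map_sub, map_smul, smul_eq_mul, hgs β b, h3, hb, hbc, hgs β c, h4]
    rw [hcdef]
    have h22 := C.two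
    match_scalars <;> field_simp <;> ring

theorem exists_common (h2 : C.s₂ = 1) (hn : 3 ≤ n₂) {b b' : Fin n₂ → F} (hb : b ≠ 0) (hbb : C.g b b = 0)
    (hb' : b' ≠ 0) (hbb' : C.g b' b' = 0) :
    ∃ d, C.g d d = 0 ∧ C.g b d ≠ 0 ∧ C.g b' d ≠ 0 := by
  have hgs : ∀ u v, C.g u v = C.g v u := fun u v => f_comm (C := C.swap) h2 u v
  obtain ⟨c, hc', hbc'⟩ := partner (C := C.swap) h2 hb hbb
  obtain ⟨c', hc'', hbc''⟩ := partner (C := C.swap) h2 hb' hbb'
  have hc : C.g c c = 0 := hc'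
  have hbc : C.g b c = 1 := hbc'
  have hcc : C.g c' c' = 0 := hc''
  have hbcc : C.g b' c' = 1 := hbc''
  by_cases h : C.g b' c = 0
  swap
  · exact ⟨c, hc, by rw [hbc]; exact one_ne_zero, h⟩
  by_cases h' : C.g b c' = 0
  swap
  · exact ⟨c', hcc, h', by rw [hbcc]; exact one_ne_zero⟩
  by_cases h'' : C.g b b' = 0
  · refine ⟨c + c' + (-(C.g c c')) • b, ?_, ?_, ?_⟩
    · simp [hc, hcc, hbb, hgs c b, hgs c' b, hgs c' c, hbc, h']
    · simp [hbc, h', hbb]
    · simp [h, hbcc, hgs b' b, h'']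
  · have hbs : C.g b ((C.g b b')⁻¹ • b') = 1 := by simp [h'']
    obtain ⟨β, h3', h4', h5'⟩ := exists_perp_aniso (C := C.swap) h2 hn hbb
      (show C.g ((C.g b b')⁻¹ • b') ((C.g b b')⁻¹ • b') = 0 by simp [hbb']) hbs
    have h3 : C.g b β = 0 := h3'
    have h5 : C.g β β ≠ 0 := h5'
    have h4 : C.g b' β = 0 := by
      have e : C.g ((C.g b b')⁻¹ • b') β = 0 := h4'
      simpa [h''] using e
    refine ⟨b + (-(C.g β β) / (2 * C.g b b')) • b' + β, ?_, ?_, ?_⟩
    · have h22 := C.two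
      simp [hbb, hbb', hgs b' b, hgs β b, hgs β b', h3, h4]
      field_simp
      ring
    · have h22 := C.two
      simp [hbb, h3, h'', h5, h22]
    · simp [hgs b' b, hbb', h4, h'']

/-! ### growing -/

theorem move_component (hiso : ∀ m ∈ M, C.Iso m) (h1 : C.s₁ = -1) (h2 : C.s₂ = 1)
    {U : Submodule F (ι → F)} (hU : ∀ u ∈ U, u ≠ 0 → ∃ w ∈ U, C.p u w ≠ 0)
    (hUc : ∀ u ∈ U, C.Cen M u) {a a' b : ι → F} (ha : a ∈ U) (ha' : a' ∈ U) (ha0 : a ≠ 0)
    (ha0' : a' ≠ 0) (hb : ∀ u ∈ U, C.p u b = 0) (h : C.Cen M (a + b)) : C.Cen M (a' + b) := by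
  have step : ∀ a a', a ∈ U → a' ∈ U → C.p a a' ≠ 0 → C.Cen M (a + b) → C.Cen M (a' + b) := by
    intro a a' ha ha' hne h
    have hm : a' - a ∈ U := U.sub_mem ha' ha
    have e : C.p (a' - a) (a + b) ≠ 0 := by
      rw [map_add, hb _ hm, add_zero, map_sub, LinearMap.sub_apply, p_self h1 h2, sub_zero,
        p_anti h1 h2, neg_ne_zero]
      exact hne
    have := Cen.step hiso (hUc _ hm) h e 1
    rwa [one_smul, add_right_comm, add_sub_cancel] at this
  obtain ⟨x, hx, hx'⟩ := hU a ha ha0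
  obtain ⟨y, hy, hy'⟩ := hU a' ha' ha0'
  obtain ⟨z, hz, h1', h2'⟩ : ∃ z ∈ U, C.p a z ≠ 0 ∧ C.p z a' ≠ 0 := by
    by_cases e1 : C.p x a' = 0
    · by_cases e2 : C.p a y = 0
      · exact ⟨x + y, U.add_mem hx hy, by rw [map_add, e2, add_zero]; exact hx',
          by rw [map_add, LinearMap.add_apply, e1, zero_add, p_anti h1 h2, neg_ne_zero]; exact hy'⟩
      · exact ⟨y, hy, e2, by rw [p_anti h1 h2, neg_ne_zero]; exact hy'⟩
    · exact ⟨x, hx, hx', e1⟩
  exact step z a' hz ha' h2' (step a z ha hz h1' h)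

theorem exists_proj {U : Submodule F (ι → F)} (hU : ∀ u ∈ U, u ≠ 0 → ∃ w ∈ U, C.p u w ≠ 0)
    (x : ι → F) : ∃ u ∈ U, ∀ w ∈ U, C.p w (x - u) = 0 := by
  let R : U →ₗ[F] Module.Dual F U := (C.p.flip.comp U.subtype).compl₂ U.subtype
  have hinj : Function.Injective R := (injective_iff_map_eq_zero R).2 fun a ha => by
    by_contra h0
    obtain ⟨w, hw, hw'⟩ := hU a a.2 fun e => h0 (Subtype.ext e)
    refine hw' (C.p_zero_comm ?_)
    exact LinearMap.congr_fun ha ⟨w, hw⟩
  obtain ⟨u, hu⟩ := ((LinearMap.injective_iff_surjective_of_finrank_eq_finrank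
    Subspace.dual_finrank_eq.symm).1 hinj) ((C.p.flip x).comp U.subtype)
  refine ⟨u, u.2, fun w hw => ?_⟩
  have : C.p w u = C.p w x := LinearMap.congr_fun hu ⟨w, hw⟩
  rw [map_sub, this, sub_self]

/-- One pure singular centre gives all of them. -/
theorem all_centres (hiso : ∀ m ∈ M, C.Iso m) (hl : C.LeftE M) (hr : C.swap.LeftE M)
    (h1 : C.s₁ = -1) (h2 : C.s₂ = 1) (hn : 3 ≤ n₂) {a : Fin n₁ → F} {b : Fin n₂ → F} {κ : F}
    (ha : a ≠ 0) (hb : b ≠ 0) (hbb : C.g b b = 0) (hκ : κ ≠ 0)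
    (hm : InM M (κ • C.tm (C.sm a a) (C.swap.sm b b))) : ∀ v, C.Cen M v := by
  classical
  rw [tm_sm_sm] at hm
  have hsq : ∀ c : F, InM M (c • C.tvop (C.t a b)) → ∀ r : F, r ≠ 0 → InM M ((r * r * c) • C.tvop (C.t a b)) := by
    intro c hc r hr0
    obtain ⟨σ, hσ, e⟩ := exists_move_left hl h1 ha (smul_ne_zero hr0 ha)
    have h := hc.conj hσ
    rw [LinearMap.smul_comp, LinearMap.comp_smul, conj_tvop (hiso _ hσ), C.te_t, e, map_smul,
      LinearMap.smul_apply, LinearEquiv.refl_apply, tvop_smul, smul_smul] at h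
    rwa [mul_comm c] at h
  have h0 : C.Cen M (C.t a b) := by
    intro c
    have hz : ∀ x, C.tvop (C.t a b) (C.tvop (C.t a b) x) = 0 := fun x => by
      simp [tvop, p_self h1 h2]
    have sq : ∀ r, InM M ((r * r * κ) • C.tvop (C.t a b)) := fun r => by
      by_cases hr0 : r = 0
      · rw [hr0, zero_mul, zero_mul, zero_smul]; exact InM.zero
      · exact hsq κ hm r hr0
    have hneg := (sq ((c / κ - 1) / 2)).neg fun x => by simp [hz]
    have h := (sq ((c / κ + 1) / 2)).add hneg fun x => by simp [hz]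
    have h22 := C.two
    convert h using 1
    refine LinearMap.ext fun x => ?_
    simp only [LinearMap.add_apply, LinearMap.neg_apply, LinearMap.smul_apply]
    match_scalars
    field_simp
    ring
  have hA : ∀ b, (∃ a, a ≠ 0 ∧ C.Cen M (C.t a b)) → ∀ a', C.Cen M (C.t a' b) := by
    rintro b ⟨a, ha, h⟩ a'
    by_cases ha' : a' = 0
    · rw [ha', map_zero, LinearMap.zero_apply]; exact cen_zero
    obtain ⟨σ, hσ, e⟩ := exists_move_left hl h1 ha ha'
    have := h.map hiso hσ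
    rwa [C.te_t, e, LinearEquiv.refl_apply] at this
  have hB : ∀ b b', C.g b b = 0 → C.g b' b' = 0 → C.g b b' ≠ 0 → (∀ a, C.Cen M (C.t a b)) →
      ∀ a, C.Cen M (C.t a b') := fun b b' hb hb' hne h a => by
    obtain ⟨τ, r, hr0, hτ, e⟩ := exists_move_right hr h2 hn hb hb' hne
    have := ((h a).map hiso hτ).smul r⁻¹
    rwa [C.te_t, e, LinearEquiv.refl_apply, map_smul, inv_smul_smul₀ hr0] at this
  have hgs : ∀ u v, C.g u v = C.g v u := fun u v => f_comm (C := C.swap) h2 u v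
  have hpure : ∀ a' b', C.g b' b' = 0 → C.Cen M (C.t a' b') := by
    intro a' b' hb'
    by_cases hb0 : b' = 0
    · rw [hb0, map_zero]; exact cen_zero
    obtain ⟨d, hd, hd1, hd2⟩ := exists_common h2 hn hb hbb hb0 hb'
    exact hB d b' hd hb' (by rw [hgs]; exact hd2) (hB b d hbb hd hd1 (hA b ⟨a, ha, h0⟩)) a'
  set S : Set (ι → F) := {v | ∃ a b, C.g b b = 0 ∧ a ≠ 0 ∧ b ≠ 0 ∧ C.t a b = v}
  have hS : ∀ v ∈ S, C.Cen M v := by
    rintro _ ⟨a', b', hb', -, -, rfl⟩; exact hpure a' b' hb'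
  have hspan : ∀ φ : Module.Dual F (ι → F), (∀ v ∈ S, φ v = 0) → φ = 0 := by
    intro φ hφ
    refine C.ext_pure fun a' b' => ?_
    by_cases ha' : a' = 0
    · simp [ha']
    refine LinearMap.congr_fun (f := φ.comp (C.t a')) (g := 0) ?_ b'
    refine LinearMap.ext fun y => ?_
    obtain ⟨u, hu⟩ := C.swap.exists_rep (φ.comp (C.t a'))
    have hu' : ∀ z, C.g u z = φ (C.t a' z) := hu
    have hlin : (C.g u).smulRight (Pi.single ⟨0, by omega⟩ 1 : Fin n₂ → F) = 0 :=
      eq_zero_of_singular (C := C.swap) h2 hn _ fun z hz => by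
        by_cases hz0 : z = 0
        · rw [hz0, map_zero]
        · rw [LinearMap.smulRight_apply, hu', hφ _ ⟨a', z, hz, ha', hz0, rfl⟩, zero_smul]
    have := LinearMap.congr_fun hlin y
    rw [LinearMap.smulRight_apply, LinearMap.zero_apply, hu', smul_eq_zero] at this
    exact this.resolve_right (by simp)
  have hconn : ∀ v ∈ S, ∀ w ∈ S, ∃ x ∈ S, C.p v x ≠ 0 ∧ C.p w x ≠ 0 := by
    rintro _ ⟨a₁, b₁, hb₁, ha₁0, hb₁0, rfl⟩ _ ⟨a₂, b₂, hb₂, ha₂0, hb₂0, rfl⟩
    obtain ⟨z, hz1, hz2⟩ := exists_both (C := C) ha₁0 ha₂0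
    obtain ⟨d, hd, hd1, hd2⟩ := exists_common h2 hn hb₁0 hb₁ hb₂0 hb₂
    refine ⟨C.t z d, ⟨z, d, hd, fun e => hz1 (by rw [e, map_zero]), fun e => hd1 (by rw [e, map_zero]), rfl⟩,
      ?_, ?_⟩ <;> rw [C.pol]
    · exact mul_ne_zero hz1 hd1
    · exact mul_ne_zero hz2 hd2
  let G : Set (Submodule F (ι → F)) :=
    {U | (∀ u ∈ U, C.Cen M u) ∧ ∀ u ∈ U, u ≠ 0 → ∃ w ∈ U, C.p u w ≠ 0}
  obtain ⟨U, ⟨hUc, hUn⟩, hmax⟩ := Set.exists_max_image G (fun U => finrank F U) (Set.toFinite _)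
    ⟨⊥, fun u hu => by rw [(Submodule.mem_bot F).1 hu]; exact cen_zero,
      fun u hu h => absurd ((Submodule.mem_bot F).1 hu) h⟩
  suffices htop : U = ⊤ from fun v => hUc v (htop ▸ Submodule.mem_top)
  by_contra hne
  choose pr hprU hpr using exists_proj hUn
  set β : (ι → F) → (ι → F) := fun x => x - pr x
  have hdec : ∀ x, x = pr x + β x := fun x => (add_sub_cancel _ _).symm
  have hperp : ∀ x, ∀ w ∈ U, C.p w (β x) = 0 := hpr
  have hperp' : ∀ x, ∀ w ∈ U, C.p (β x) w = 0 := fun x w hw => C.p_zero_comm (hperp x w hw)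
  -- two non-orthogonal components
  have hpair : ∀ x, β x ≠ 0 → ∃ y ∈ S, C.p (β x) (β y) ≠ 0 := by
    intro x hx
    by_contra! hall
    refine hx (C.pnd _ fun y => ?_)
    have h0' : C.p (β x) = 0 := hspan _ fun v hv => by
      rw [hdec v, map_add, hperp' x _ (hprU v), hall v hv, add_zero]
    rw [h0', LinearMap.zero_apply]
  -- a component across
  obtain ⟨π, hπ, hπU, hπb⟩ : ∃ π ∈ S, (pr π ≠ 0 ∨ U = ⊥) ∧ β π ≠ 0 := by
    obtain ⟨v, hv, hvU⟩ : ∃ v ∈ S, β v ≠ 0 := by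
      by_contra! hall
      obtain ⟨x, -, hxU⟩ := SetLike.exists_of_lt (lt_top_iff_ne_top.2 hne)
      have hβ : β x ≠ 0 := fun e => hxU (by rw [hdec x, e, add_zero]; exact hprU x)
      obtain ⟨y, hy, h⟩ := hpair x hβ
      exact h (by rw [hall y hy, map_zero])
    by_cases hU0 : U = ⊥
    · exact ⟨v, hv, Or.inr hU0, hvU⟩
    by_contra! hall
    have hcase : ∀ x ∈ S, β x = 0 ∨ pr x = 0 := fun x hx => by
      by_cases h : pr x = 0
      · exact Or.inr h
      · exact Or.inl (hall x hx (Or.inl h))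
    have hw : ∃ w ∈ S, pr w ≠ 0 := by
      obtain ⟨u, hu, hu0⟩ := Submodule.exists_mem_ne_zero_of_ne_bot hU0
      by_contra! hw
      refine hu0 (C.pnd _ fun y => ?_)
      have h0' : C.p u = 0 := hspan _ fun w hw' => by
        rw [hdec w, hw w hw', zero_add, hperp w u hu]
      rw [h0', LinearMap.zero_apply]
    obtain ⟨w, hw, hwU⟩ := hw
    obtain ⟨x, hx, hvx, hwx⟩ := hconn v hv w hw
    have hv0 := (hcase v hv).resolve_left hvU
    have hw0 := (hcase w hw).resolve_right hwU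
    rw [hdec v, hdec x, hv0, zero_add] at hvx
    rw [hdec w, hdec x, hw0, add_zero] at hwx
    rcases hcase x hx with h | h
    · rw [h, add_zero] at hvx; exact hvx (hperp' v _ (hprU x))
    · rw [h, zero_add] at hwx; exact hwx (hperp x _ (hprU w))
  obtain ⟨π₂, hπ₂, hne2⟩ := hpair π hπb
  set u := pr π
  set e := β π
  set u₂ := pr π₂
  set e₂ := β π₂
  have hu : u ∈ U := hprU π
  have hc1 : C.Cen M (u + e) := by rw [← hdec]; exact hS π hπ
  have hc2 : C.Cen M (u₂ + e₂) := by rw [← hdec]; exact hS π₂ hπ₂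
  -- the plane of the two components
  have hplane : ∀ x y : F, C.Cen M (x • e + y • e₂) := by
    rcases eq_or_ne u 0 with hu0 | hu0
    · have hUb : U = ⊥ := hπU.resolve_left (not_not.2 hu0)
      rw [hu0, zero_add] at hc1
      have hu₂0 : u₂ = 0 := (Submodule.mem_bot F).1 (hUb ▸ hprU π₂)
      rw [hu₂0, zero_add] at hc2
      exact Cen.plane hiso h1 h2 hc1 hc2 hne2
    have hc1' : ∀ w ∈ U, w ≠ 0 → C.Cen M (w + e) := fun w hw hw0 =>
      move_component hiso h1 h2 hUn hUc hu hw hu0 hw0 (hperp π) hc1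
    obtain ⟨u', hu', hu''⟩ := hUn u hu hu0
    have h22 := C.two
    rcases eq_or_ne u₂ 0 with h₂ | h₂
    · rw [h₂, zero_add] at hc2
      have d1 := Cen.step hiso hc2 hc1 (by
        rw [map_add, hperp' π₂ u hu, zero_add, p_anti h1 h2]; exact neg_ne_zero.2 hne2) 1
      rw [one_smul] at d1
      have d2 := Cen.step hiso (hc1' (-u) (U.neg_mem hu) (neg_ne_zero.2 hu0)) d1 (by
        simp only [map_add, map_neg, LinearMap.add_apply, LinearMap.neg_apply, p_self h1 h2, show C.p e u = 0 from hperp' π u hu, show C.p u e = 0 from hperp π u hu, show C.p u e₂ = 0 from hperp π₂ u hu]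
        simpa using hne2) 1
      rw [one_smul, show u + e + e₂ + (-u + e) = (2 : F) • e + e₂ by module] at d2
      intro x y
      have := Cen.plane hiso h1 h2 d2 hc2 (by
        rw [map_add, LinearMap.add_apply, map_smul, LinearMap.smul_apply, p_self h1 h2, add_zero,
          smul_eq_mul]
        exact mul_ne_zero h22 hne2) (x / 2) (y - x / 2)
      convert this using 1
      match_scalars <;> field_simp <;> ring
    have hc2' : ∀ w ∈ U, w ≠ 0 → C.Cen M (w + e₂) := fun w hw hw0 =>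
      move_component hiso h1 h2 hUn hUc (hprU π₂) hw h₂ hw0 (hperp π₂) hc2
    have d1 := Cen.step hiso (hc1' u hu hu0) (hc2' u hu hu0) (by
      simp only [map_add, LinearMap.add_apply, p_self h1 h2, show C.p e u = 0 from hperp' π u hu, show C.p u e = 0 from hperp π u hu, show C.p u e₂ = 0 from hperp π₂ u hu]
      simpa using hne2) (-1)
    have d2 := Cen.step hiso (hc1' (-u) (U.neg_mem hu) (neg_ne_zero.2 hu0)) (hc2' u hu hu0) (by
      simp only [map_add, map_neg, LinearMap.add_apply, LinearMap.neg_apply, p_self h1 h2, show C.p e u = 0 from hperp' π u hu, show C.p u e = 0 from hperp π u hu, show C.p u e₂ = 0 from hperp π₂ u hu]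
      simpa using hne2) 1
    rw [one_smul, show u + e₂ + (-u + e) = e + e₂ by abel] at d2
    rw [show u + e₂ + (-1 : F) • (u + e) = e₂ - e by module] at d1
    intro x y
    have := Cen.plane hiso h1 h2 d2 d1 (by
      simp only [map_add, map_sub, LinearMap.add_apply, p_self h1 h2, p_anti h1 h2 e e₂]
      intro h; exact mul_ne_zero h22 hne2 (by linear_combination h)) ((x + y) / 2) ((y - x) / 2)
    convert this using 1
    match_scalars <;> field_simp <;> ring
  set Pl := Submodule.span F ({e, e₂} : Set (ι → F)) with hPdef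
  have hmem : ∀ {z}, z ∈ Pl ↔ ∃ x y : F, x • e + y • e₂ = z := fun {z} => by
    rw [hPdef, Submodule.mem_span_pair]
  have hPperp : ∀ z ∈ Pl, ∀ w ∈ U, C.p w z = 0 := fun z hz w hw => by
    obtain ⟨x, y, rfl⟩ := hmem.1 hz
    rw [map_add, map_smul, map_smul, hperp π w hw, hperp π₂ w hw, smul_zero, smul_zero, add_zero]
  have hPn : ∀ z ∈ Pl, z ≠ 0 → ∃ w ∈ Pl, C.p z w ≠ 0 := fun z hz hz0 => by
    obtain ⟨x, y, rfl⟩ := hmem.1 hz
    by_cases hx : x = 0
    · refine ⟨e, Submodule.subset_span (Or.inl rfl), ?_⟩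
      have hy : y ≠ 0 := fun h => hz0 (by simp [hx, h])
      rw [hx, zero_smul, zero_add, map_smul, LinearMap.smul_apply, p_anti h1 h2 e e₂, smul_eq_mul]
      exact mul_ne_zero hy (neg_ne_zero.2 hne2)
    · refine ⟨e₂, Submodule.subset_span (Or.inr rfl), ?_⟩
      rw [map_add, LinearMap.add_apply, map_smul, map_smul, LinearMap.smul_apply,
        LinearMap.smul_apply, p_self h1 h2, smul_zero, add_zero, smul_eq_mul]
      exact mul_ne_zero hx hne2
  have hPc : ∀ z ∈ Pl, C.Cen M z := fun z hz => by obtain ⟨x, y, rfl⟩ := hmem.1 hz; exact hplane x y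
  have hG : U ⊔ Pl ∈ G := by
    refine ⟨fun z hz => ?_, fun z hz hz0 => ?_⟩ <;> obtain ⟨w, hw, x, hx, rfl⟩ := Submodule.mem_sup.1 hz
    · by_cases hw0 : w = 0
      · rw [hw0, zero_add]; exact hPc x hx
      by_cases hx0 : x = 0
      · rw [hx0, add_zero]; exact hUc w hw
      have hu0 : u ≠ 0 := hπU.resolve_right fun h => hw0 ((Submodule.mem_bot F).1 (h ▸ hw))
      have h := move_component hiso h1 h2 hUn hUc hu hw hu0 hw0 (hperp π) hc1
      rw [add_comm] at h ⊢
      exact move_component hiso h1 h2 hPn hPc (Submodule.subset_span (Or.inl rfl)) hx hπb hx0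
        (fun z hz => C.p_zero_comm (hPperp z hz w hw)) h
    · by_cases hw0 : w = 0
      · rw [hw0, zero_add] at hz0 ⊢
        obtain ⟨y, hy, hy'⟩ := hPn x hx hz0
        exact ⟨y, Submodule.mem_sup_right hy, hy'⟩
      · obtain ⟨y, hy, hy'⟩ := hUn w hw hw0
        refine ⟨y, Submodule.mem_sup_left hy, ?_⟩
        rwa [map_add, LinearMap.add_apply, C.p_zero_comm (hPperp x hx y hy), add_zero]
  have hlt : U < U ⊔ Pl := lt_of_le_of_ne le_sup_left fun h => hπb (by
    have he : e ∈ U := h.symm ▸ Submodule.mem_sup_right (Submodule.subset_span (Or.inl rfl))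
    by_contra h0'
    obtain ⟨y, hy, hy'⟩ := hUn e he h0'
    exact hy' (hperp' π y hy))
  exact absurd (Submodule.finrank_lt_finrank_of_lt hlt) (not_lt.2 (hmax _ hG))

end TT

end Cfsg.Agent.TenForm
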