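import Cfsg.Agent.Lib.C4.TenQ
import Cfsg.Agent.Lib.C4.TenGenSymp
import Cfsg.Agent.Lib.C4.SympGen
import Cfsg.Agent.Lib.Orth.Geo

/-!
# `Ω` from one root element outside a tensor stabiliser of two symmetric forms

* `dop_full` : an Eichler stable set with one skew operator of rank two contains all of them
* `qV`, `toLE`, `RE`
* `omega_le_of_orthK`, `omega_le_of_orthP`
-/

set_option autoImplicit false
set_option linter.unusedSectionVars false
set_option linter.unusedSimpArgs false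

namespace Cfsg.Agent.TenForm

open Module
open QuadraticMap (polar)
open Cfsg.Agent.Orth (IsoGrp eich ap)

variable {ι : Type} [Fintype ι] [DecidableEq ι] {F : Type*} [Field F] [Fintype F] {n₁ n₂ : ℕ}

namespace TT

variable {C : TT ι F n₁ n₂}

/-! ### skew operators of rank two -/

theorem half_mem {E : Type*} [AddCommGroup E] [Module F E] (h2 : (2 : F) ≠ 0) (S : AddSubgroup E)
    {x : E} (hx : (2 : F) • x ∈ S) : x ∈ S := by
  have hp : ringChar F ≠ 2 := fun h => h2 (by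
    have e := ringChar.Nat.cast_ringChar (R := F)
    rw [h] at e
    exact_mod_cast e)
  have hodd : Odd (ringChar F) := (CharP.char_is_prime F (ringChar F)).odd_of_ne_two hp
  obtain ⟨k, hk⟩ := hodd
  have := S.nsmul_mem hx (k + 1)
  rwa [← Nat.cast_smul_eq_nsmul F, smul_smul, show ((k + 1 : ℕ) : F) * 2 = 1 by
    have e := ringChar.Nat.cast_ringChar (R := F)
    rw [hk] at e
    push_cast at e ⊢
    linear_combination e, one_smul] at this

theorem eA_val (h1 : C.s₁ = 1) {a x : Fin n₁ → F} (ha : C.f a a = 0) (hx : C.f a x = 0)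
    (z : Fin n₁ → F) : C.eA ha hx z =
      z + C.f x z • a - C.f a z • x - (C.f a z * C.f x x / 2) • a := by
  rw [C.eA_apply, C.Dop_sq ha hx, Dop_apply, h1]
  have h2 := C.two
  match_scalars <;> field_simp <;> ring

theorem eA_symm_val (h1 : C.s₁ = 1) {a x : Fin n₁ → F} (ha : C.f a a = 0) (hx : C.f a x = 0)
    (z : Fin n₁ → F) : (C.eA ha hx).symm z =
      z - C.f x z • a + C.f a z • x - (C.f a z * C.f x x / 2) • a := by
  rw [C.eA_symm, C.Dop_sq ha hx, Dop_apply, h1]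
  have h2 := C.two
  match_scalars <;> field_simp <;> ring

/-- Half the odd part of a conjugation. -/
theorem odd_part {S : AddSubgroup ((Fin n₁ → F) →ₗ[F] (Fin n₁ → F))} (hS : C.EStable S)
    {a x : Fin n₁ → F} (ha : C.f a a = 0) (hx : C.f a x = 0) {u v : Fin n₁ → F} (r : F)
    {K : (Fin n₁ → F) →ₗ[F] (Fin n₁ → F)} (hK : K + r • C.Dop u v ∈ S)
    (R : (Fin n₁ → F) →ₗ[F] (Fin n₁ → F))
    (hR : cjA (C.eA ha hx) K - cjA (C.eA ha hx).symm K + r • (C.Dop (C.eA ha hx u) (C.eA ha hx v) -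
      C.Dop ((C.eA ha hx).symm u) ((C.eA ha hx).symm v)) = (2 : F) • R) : R ∈ S := by
  refine half_mem C.two S ?_
  rw [← hR]
  have h := S.sub_mem (hS a x ha hx _ hK).1 (hS a x ha hx _ hK).2
  rw [← cjA_Dop (C.eA_iso ha hx) u v, ← cjA_Dop (iso_symm_eA ha hx) u v]
  convert h using 1
  refine LinearMap.ext fun z => ?_
  simp [cjA_apply]
  module

section Dop

variable {S : AddSubgroup ((Fin n₁ → F) →ₗ[F] (Fin n₁ → F))} {b c : Fin n₁ → F}

theorem dop_step (h1 : C.s₁ = 1) (hS : C.EStable S) (hb : C.f b b = 0) (hc : C.f c c = 0)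
    (hbc : C.f b c = 1) {γ : Fin n₁ → F} (hbγ : C.f b γ = 0) (hcγ : C.f c γ = 0)
    (hm : C.Dop b γ ∈ S) {β : Fin n₁ → F} (hbβ : C.f b β = 0) (hcβ : C.f c β = 0) :
    C.Dop β γ - C.f β γ • C.Dop b c ∈ S := by
  refine S.neg_mem_iff.1 ?_
  refine odd_part hS hc hcβ (u := b) (v := γ) 1 (K := 0) (by rw [zero_add, one_smul]; exact hm) _ ?_
  refine LinearMap.ext fun z => ?_
  simp [cjA_apply, eA_val h1, eA_symm_val h1, Dop_apply, h1, f_comm h1 c b, hbc, hcγ, f_comm h1 β b,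
    hbβ, f_comm h1 β c, hcβ, hb, hc]
  have h2 := C.two
  match_scalars <;> field_simp <;> ring

theorem dop_step₂ (h1 : C.s₁ = 1) (hS : C.EStable S) (hb : C.f b b = 0) (hc : C.f c c = 0)
    (hbc : C.f b c = 1) {γ : Fin n₁ → F} (hbγ : C.f b γ = 0) (hcγ : C.f c γ = 0)
    (hm : C.Dop b γ ∈ S) {β β' : Fin n₁ → F} (hbβ : C.f b β = 0) (hcβ : C.f c β = 0)
    (hbβ' : C.f b β' = 0) (hcβ' : C.f c β' = 0) :
    C.Dop b (C.f β' β • γ - C.f β' γ • β + C.f β γ • β') ∈ S := by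
  refine odd_part hS hb hbβ' (u := b) (v := c) (-C.f β γ) (K := C.Dop β γ)
    (by
      convert dop_step h1 hS hb hc hbc hbγ hcγ hm hbβ hcβ using 1
      refine LinearMap.ext fun z => ?_
      simp
      module) _ ?_
  rw [cjA_Dop (C.eA_iso hb hbβ'), cjA_Dop (iso_symm_eA hb hbβ')]
  refine LinearMap.ext fun z => ?_
  simp [eA_val h1, eA_symm_val h1, Dop_apply, h1, hb, hbc, hbγ, hcγ, hbβ, hcβ, hbβ', hcβ',
    f_comm h1 c b, f_comm h1 β' b, f_comm h1 β' c]
  have h2 := C.two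
  match_scalars <;> field_simp <;> ring

/-- From a hyperbolic line. -/
theorem dop_hyp (h1 : C.s₁ = 1) (hS : C.EStable S) (hb : C.f b b = 0) (hc : C.f c c = 0)
    (hbc : C.f b c = 1) (r : F) (hm : r • C.Dop b c ∈ S) {β : Fin n₁ → F} (hbβ : C.f b β = 0)
    (hcβ : C.f c β = 0) : C.Dop c (r • β) ∈ S := by
  refine odd_part hS hc hcβ (u := b) (v := c) r (K := 0) (by rwa [zero_add]) _ ?_
  refine LinearMap.ext fun z => ?_
  simp [cjA_apply, eA_val h1, eA_symm_val h1, Dop_apply, h1, f_comm h1 c b, hbc, hb, hc,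
    f_comm h1 β b, hbβ, f_comm h1 β c, hcβ]
  have h2 := C.two
  match_scalars <;> field_simp <;> ring

end Dop

/-- An Eichler stable set with one rank two skew operator contains all of them. -/
theorem dop_full (h1 : C.s₁ = 1) (h3 : 3 ≤ n₁)
    (hW : 5 ≤ n₁ ∨ ∀ u v, C.f u u = 0 → C.f v v = 0 → C.f u v = 0 → u ≠ 0 → v ∈ F ∙ u)
    {S : AddSubgroup ((Fin n₁ → F) →ₗ[F] (Fin n₁ → F))} (hS : C.EStable S) {b γ : Fin n₁ → F}
    (hb0 : b ≠ 0) (hb : C.f b b = 0) (hbγ : C.f b γ = 0) (hγ : γ ∉ F ∙ b) (hm : C.Dop b γ ∈ S)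
    (x x' : Fin n₁ → F) : C.Dop x x' ∈ S := by
  obtain ⟨c, hc, hbc⟩ := partner h1 hb0 hb
  set γ₀ := γ - C.f c γ • b with hγ₀
  have hb₀ : C.f b γ₀ = 0 := by simp [hγ₀, hbγ, hb]
  have hc₀ : C.f c γ₀ = 0 := by simp [hγ₀, f_comm h1 c b, hbc]
  have hm₀ : C.Dop b γ₀ ∈ S := by
    rwa [show C.Dop b γ₀ = C.Dop b γ from LinearMap.ext fun z => by
      simp [hγ₀, Dop_apply, h1]; module]
  -- an anisotropic member
  obtain ⟨η, hη1, hη2, hη, hmη⟩ : ∃ η, C.f b η = 0 ∧ C.f c η = 0 ∧ C.f η η ≠ 0 ∧ C.Dop b η ∈ S := by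
    by_cases hq : C.f γ₀ γ₀ ≠ 0
    · exact ⟨γ₀, hb₀, hc₀, hq, hm₀⟩
    push Not at hq
    have hγ₀0 : γ₀ ≠ 0 := fun h => hγ (Submodule.mem_span_singleton.2
      ⟨C.f c γ, (sub_eq_zero.1 h).symm⟩)
    rcases hW with h5 | hW
    swap
    · exfalso
      obtain ⟨r, hr⟩ := Submodule.mem_span_singleton.1 (hW b γ₀ hb hq hb₀ hb0)
      have := congrArg (C.f c) hr
      rw [map_smul, f_comm h1 c b, hbc, hc₀, smul_eq_mul, mul_one] at this
      exact hγ₀0 (by rw [← hr, this, zero_smul])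
    obtain ⟨z, hz, hzm⟩ := C4.SS.exists_ker_not_mem ![C.f b, C.f c, C.f γ₀] (F ∙ γ₀)
      (by rw [finrank_span_singleton hγ₀0]; omega)
    have hzb : C.f b z = 0 := hz 0
    have hzc : C.f c z = 0 := hz 1
    have hzγ : C.f γ₀ z = 0 := hz 2
    obtain ⟨w, hw, hzw⟩ := C.exists_pair (W := F ∙ γ₀) hzm
    set w' := w - C.f c w • b - C.f b w • c with hw'
    have hwb : C.f b w' = 0 := by simp [hw', hb, hbc]
    have hwc : C.f c w' = 0 := by simp [hw', hc, f_comm h1 c b, hbc]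
    have hwγ : C.f γ₀ w' = 0 := by
      simp [hw', hw γ₀ (Submodule.mem_span_singleton_self _), f_comm h1 γ₀ b, hb₀, f_comm h1 γ₀ c, hc₀]
    have hwz : C.f z w' = 1 := by simp [hw', hzw, f_comm h1 z b, hzb, f_comm h1 z c, hzc]
    obtain ⟨β, hβb, hβc, hβγ, hβ⟩ : ∃ β, C.f b β = 0 ∧ C.f c β = 0 ∧ C.f γ₀ β = 0 ∧ C.f β β ≠ 0 := by
      by_cases e1 : C.f z z ≠ 0
      · exact ⟨z, hzb, hzc, hzγ, e1⟩
      by_cases e2 : C.f w' w' ≠ 0
      · exact ⟨w', hwb, hwc, hwγ, e2⟩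
      push Not at e1 e2
      exact ⟨z + w', by simp [hzb, hwb], by simp [hzc, hwc], by simp [hzγ, hwγ], by
        simp [e1, e2, hwz, f_comm h1 w' z]; exact fun h => C.two (by linear_combination h)⟩
    obtain ⟨d, hd⟩ := C.exists_dual hγ₀0
    set d' := d - C.f c d • b - C.f b d • c with hd'
    have hdb : C.f b d' = 0 := by simp [hd', hb, hbc]
    have hdc : C.f c d' = 0 := by simp [hd', hc, f_comm h1 c b, hbc]
    have hdγ : C.f γ₀ d' = 1 := by
      simp [hd', hd, f_comm h1 γ₀ b, hb₀, f_comm h1 γ₀ c, hc₀]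
    set β' := d' - (C.f β d' / C.f β β) • β with hβ'
    have h := dop_step₂ h1 hS hb hc hbc hb₀ hc₀ hm₀ hβb hβc
      (show C.f b β' = 0 by simp [hβ', hdb, hβb]) (show C.f c β' = 0 by simp [hβ', hdc, hβc])
    rw [show C.f β' β = 0 by simp [hβ', f_comm h1 d' β, hβ],
      show C.f β' γ₀ = 1 by simp [hβ', f_comm h1 d' γ₀, hdγ, f_comm h1 β γ₀, hβγ],
      show C.f β γ₀ = 0 by rw [f_comm h1, hβγ]] at h
    refine ⟨-β, by simp [hβb], by simp [hβc], by simp [hβ], ?_⟩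
    simpa using h
  -- every vector of `⟨b, c⟩^⊥`
  have hall : ∀ y, C.f b y = 0 → C.f c y = 0 → C.Dop b y ∈ S := fun y hy1 hy2 => by
    have h := dop_step₂ h1 hS hb hc hbc hη1 hη2 hmη hη1 hη2
      (β' := (C.f η η)⁻¹ • y) (by simp [hy1]) (by simp [hy2])
    simpa [f_comm h1 η y, hη, smul_smul] using h
  have hbcS : ∀ r : F, r • C.Dop b c ∈ S := fun r => by
    have h := dop_step h1 hS hb hc hbc hη1 hη2 hmη (β := (-r / C.f η η) • η) (by simp [hη1])
      (by simp [hη2])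
    convert h using 1
    refine LinearMap.ext fun z => ?_
    simp [Dop_apply, h1]
    match_scalars <;> field_simp <;> ring
  have hcS : ∀ y, C.f b y = 0 → C.f c y = 0 → C.Dop c y ∈ S := fun y hy1 hy2 => by
    have := dop_hyp h1 hS hb hc hbc 1 (hbcS 1) hy1 hy2
    rwa [one_smul] at this
  have h00 : ∀ y y', C.f b y = 0 → C.f c y = 0 → C.f b y' = 0 → C.f c y' = 0 → C.Dop y y' ∈ S :=
    fun y y' h1' h2' h3' h4' => by
      have := S.add_mem (dop_step h1 hS hb hc hbc h3' h4' (hall y' h3' h4') h1' h2') (hbcS (C.f y y'))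
      rwa [sub_add_cancel] at this
  have hdec : ∀ y, ∃ α α' : F, ∃ y₀, C.f b y₀ = 0 ∧ C.f c y₀ = 0 ∧ y = α • b + α' • c + y₀ := fun y =>
    ⟨C.f c y, C.f b y, y - C.f c y • b - C.f b y • c, by simp [hb, hbc],
      by simp [hc, f_comm h1 c b, hbc], by module⟩
  obtain ⟨α, α', y, hy1, hy2, rfl⟩ := hdec x
  obtain ⟨δ, δ', y', hy1', hy2', rfl⟩ := hdec x'
  rw [show C.Dop (α • b + α' • c + y) (δ • b + δ' • c + y') = (α * δ' - α' * δ) • C.Dop b c +
      C.Dop b (α • y' - δ • y) + C.Dop c (α' • y' - δ' • y) + C.Dop y y' from LinearMap.ext fun z => by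
    simp [Dop_apply, h1]; module]
  exact S.add_mem (S.add_mem (S.add_mem (hbcS _) (hall _ (by simp [hy1, hy1']) (by simp [hy2, hy2'])))
    (hcS _ (by simp [hy1, hy1']) (by simp [hy2, hy2']))) (h00 _ _ hy1 hy2 hy1' hy2')

/-- Sets of operators tensor a fixed one are stable. -/
theorem estable_right {M : Subgroup ((ι → F) ≃ₗ[F] (ι → F))} (hr : C.swap.LeftE M)
    {N : (Fin n₁ → F) →ₗ[F] (Fin n₁ → F)} (hN : ∀ z, N (N z) = 0) :
    C.swap.EStable (C.kset M N hN C.skewB) := by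
  intro a x ha hx K hK
  have h0 := LeftE.swap_mem hr a x ha hx
  refine ⟨⟨skewA_cjA (C := C.swap) (C.swap.eA_iso ha hx) hK.1, ?_⟩,
    ⟨skewA_cjA (C := C.swap) (iso_symm_eA ha hx) hK.1, ?_⟩⟩
  · have := hK.2.te h0
    rwa [cj_te_tm, cjA_refl] at this
  · have := hK.2.te (σ := LinearEquiv.refl F _) (τ := (C.swap.eA ha hx).symm) (by
      rw [show C.te (LinearEquiv.refl F _) (C.swap.eA ha hx).symm =
        (C.te (LinearEquiv.refl F _) (C.swap.eA ha hx))⁻¹ from (te_symm (LinearEquiv.refl F _) _).symm]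
      exact inv_mem h0)
    rwa [cj_te_tm, cjA_refl] at this

/-! ### root elements of the orthogonal group -/

variable (C) in
/-- Half the form, as a quadratic form. -/
noncomputable def qV : QuadraticForm F (ι → F) :=
  LinearMap.BilinMap.toQuadraticMap ((2 : F)⁻¹ • C.p)

variable (C) in
/-- Isometries as linear equivalences. -/
noncomputable def toLE : IsoGrp C.qV →* ((ι → F) ≃ₗ[F] (ι → F)) :=
  Transvect.app.comp (Cfsg.isometryGroup F ⇑C.qV).subtype

theorem toLE_apply (g : IsoGrp C.qV) (x : ι → F) : C.toLE g x = ap g x := rfl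

theorem qV_apply (x : ι → F) : C.qV x = (2 : F)⁻¹ * C.p x x := rfl

theorem polar_qV (h1 : C.s₁ = 1) (h2 : C.s₂ = 1) (x y : ι → F) : polar ⇑C.qV x y = C.p x y := by
  rw [qV, LinearMap.BilinMap.polar_toQuadraticMap]
  simp only [LinearMap.smul_apply, smul_eq_mul, C.hp x y, h1, h2, one_mul]
  have := C.two
  field_simp
  ring

variable (C) in
/-- The Eichler transformation of `(u, w)` is in `M`. -/
def RE (M : Subgroup ((ι → F) ≃ₗ[F] (ι → F))) (u w : ι → F) : Prop :=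
  eich C.qV u w ∈ M.comap C.toLE

variable {M : Subgroup ((ι → F) ≃ₗ[F] (ι → F))}

theorem qV_t (a : Fin n₁ → F) (b : Fin n₂ → F) : C.qV (C.t a b) = (2 : F)⁻¹ * (C.f a a * C.g b b) := by
  rw [qV_apply, C.pol]

/-- A pair of orthogonal singular vectors. -/
theorem re_of_inM (h1 : C.s₁ = 1) (h2 : C.s₂ = 1) {u w : ι → F} (hu : C.p u u = 0) (hw : C.p w w = 0)
    (huw : C.p u w = 0) (h : InM M ((C.p u).smulRight w - (C.p w).smulRight u)) : C.RE M u w := by
  obtain ⟨m, hm, e⟩ := h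
  show C.toLE _ ∈ M
  convert hm using 1
  refine LinearEquiv.ext fun x => ?_
  rw [toLE_apply, Orth.eich_ap (by rw [qV_apply, hu, mul_zero]) (by rw [polar_qV h1 h2, huw]),
    polar_qV h1 h2, polar_qV h1 h2, qV_apply, hw, mul_zero, zero_mul, add_zero, e]
  simp
  abel

theorem exists_lift (hiso : ∀ m ∈ M, C.Iso m) {m : (ι → F) ≃ₗ[F] (ι → F)} (hm : m ∈ M) :
    ∃ g ∈ M.comap C.toLE, ∀ x, ap g x = m x := by
  let u : Matrix.GeneralLinearGroup ι F :=
    ⟨LinearMap.toMatrix' m.toLinearMap, LinearMap.toMatrix' m.symm.toLinearMap,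
      by rw [← LinearMap.toMatrix'_comp, LinearEquiv.comp_coe, LinearEquiv.symm_trans_self]; simp,
      by rw [← LinearMap.toMatrix'_comp, LinearEquiv.comp_coe, LinearEquiv.self_trans_symm]; simp⟩
  have hu : ∀ x, Matrix.mulVec (u : Matrix ι ι F) x = m x := fun x => by
    show Matrix.mulVec (LinearMap.toMatrix' m.toLinearMap) x = m x
    rw [← Matrix.toLin'_apply, Matrix.toLin'_toMatrix']; rfl
  refine ⟨⟨u, fun x _ => ?_⟩, ?_, hu⟩
  · show C.qV (Matrix.mulVec (u : Matrix ι ι F) x) = C.qV x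
    rw [hu, qV_apply, qV_apply, hiso m hm]
  · show C.toLE _ ∈ M
    convert hm using 1
    exact LinearEquiv.ext hu

theorem RE.map (hiso : ∀ m ∈ M, C.Iso m) {u w : ι → F} (h : C.RE M u w)
    {m : (ι → F) ≃ₗ[F] (ι → F)} (hm : m ∈ M) : C.RE M (m u) (m w) := by
  obtain ⟨g, hg, e⟩ := exists_lift hiso hm
  have := mul_mem (mul_mem hg h) (inv_mem hg)
  rwa [Orth.conj_eich, e, e] at this

theorem re_swap {u w : ι → F} : C.swap.RE M u w ↔ C.RE M u w := Iff.rfl

theorem RE.add (h1 : C.s₁ = 1) (h2 : C.s₂ = 1) {u w w' : ι → F} (hu : C.p u u = 0)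
    (hw : C.p u w = 0) (hw' : C.p u w' = 0) (h : C.RE M u w) (h' : C.RE M u w') :
    C.RE M u (w + w') := by
  show eich C.qV u (w + w') ∈ _
  rw [← Orth.eich_add (by rw [qV_apply, hu, mul_zero]) (by rw [polar_qV h1 h2, hw])
    (by rw [polar_qV h1 h2, hw'])]
  exact mul_mem h h'

theorem re_zero (u : ι → F) : C.RE M u 0 := by
  show eich C.qV u 0 ∈ _
  rw [Orth.eich_zero]; exact one_mem _

theorem RE.flip (h1 : C.s₁ = 1) (h2 : C.s₂ = 1) {u w : ι → F} (hu : C.p u u = 0) (hw : C.p w w = 0)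
    (huw : C.p u w = 0) (h : C.RE M u w) : C.RE M w u :=
  C4.eich_mem_flip (by rw [qV_apply, hu, mul_zero]) (by rw [qV_apply, hw, mul_zero])
    (by rw [polar_qV h1 h2, huw]) h

theorem RE.chain (h1 : C.s₁ = 1) (h2 : C.s₂ = 1) {x y z w : ι → F} (hx : C.p x x = 0)
    (hy : C.p y y = 0) (hz : C.p z z = 0) (hw : C.p w w = 0) (hxy : C.p x y = 0) (hzw : C.p z w = 0)
    (hxz : C.p x z = 0) (hxw : C.p x w = 0) (hyw : C.p y w = 0) (hyz : C.p y z = 1)
    (e1 : C.RE M x y) (e2 : C.RE M z w) : C.RE M w x :=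
  C4.eich_chain (by rw [qV_apply, hx, mul_zero]) (by rw [qV_apply, hy, mul_zero])
    (by rw [qV_apply, hz, mul_zero]) (by rw [qV_apply, hw, mul_zero]) (by rw [polar_qV h1 h2, hxy])
    (by rw [polar_qV h1 h2, hzw]) (by rw [polar_qV h1 h2, hxz]) (by rw [polar_qV h1 h2, hxw])
    (by rw [polar_qV h1 h2, hyw]) (by rw [polar_qV h1 h2, hyz]) e1 e2

theorem tm_dop (h2 : C.s₂ = 1) (a : Fin n₁ → F) (y y' : Fin n₂ → F) :
    C.tm (C.sm a a) (C.swap.Dop y y') =
      (C.p (C.t a y')).smulRight (C.t a y) - (C.p (C.t a y)).smulRight (C.t a y') :=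
  C.ext_pure fun v z => by
    rw [C.tm_t, Dop_apply, sm_apply, show C.swap.s₁ = 1 from h2, show C.swap.f = C.g from rfl]
    simp [C.pol, smul_sub, smul_smul]

theorem tm_dop' (h1 : C.s₁ = 1) (b : Fin n₂ → F) (x x' : Fin n₁ → F) :
    C.tm (C.Dop x x') (C.swap.sm b b) =
      (C.p (C.t x' b)).smulRight (C.t x b) - (C.p (C.t x b)).smulRight (C.t x' b) :=
  C.ext_pure fun v z => by
    rw [C.tm_t, Dop_apply, sm_apply, h1, show C.swap.f = C.g from rfl]
    simp [C.pol, smul_sub, smul_smul]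
    module

/-- All root elements `(a ⊗ y, a ⊗ y')` with `a` singular. -/
def RE0 (C : TT ι F n₁ n₂) (M : Subgroup ((ι → F) ≃ₗ[F] (ι → F))) : Prop :=
  ∀ a y y', C.f a a = 0 → C.RE M (C.t a y) (C.t a y')

/-- One singular vector suffices. -/
theorem re0_of_one (hiso : ∀ m ∈ M, C.Iso m) (hl : C.LeftE M) (h1 : C.s₁ = 1) (h : 3 ≤ n₁)
    {a : Fin n₁ → F} (ha : a ≠ 0) (haa : C.f a a = 0) (hm : ∀ y y', C.RE M (C.t a y) (C.t a y')) :
    RE0 C M := by
  have move : ∀ a a', C.f a a = 0 → C.f a' a' = 0 → C.f a a' ≠ 0 →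
      (∀ y y', C.RE M (C.t a y) (C.t a y')) → ∀ y y', C.RE M (C.t a' y) (C.t a' y') := by
    intro a a' ha ha' hne h0 y y'
    obtain ⟨σ, r, hr, hσ, e⟩ := exists_move_right (C := C.swap) hl h1 h ha ha' hne
    have := (h0 (r⁻¹ • y) (r⁻¹ • y')).map hiso hσ
    rw [te_swap, C.te_t, C.te_t, e, LinearEquiv.refl_apply, LinearEquiv.refl_apply] at this
    simp only [map_smul, LinearMap.smul_apply, smul_smul, inv_mul_cancel₀ hr, mul_inv_cancel₀ hr,
      one_smul] at this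
    exact this
  intro a' y y' ha'
  by_cases h0 : a' = 0
  · rw [h0, map_zero, LinearMap.zero_apply]; exact re_zero _
  obtain ⟨d, hd, hd1, hd2⟩ := exists_common (C := C.swap) h1 h ha haa h0 ha'
  exact move d a' hd ha' (by rw [f_comm h1]; exact hd2) (move a d haa hd hd1 hm) y y'

theorem exists_hyp_pair (h2 : C.s₂ = 1) (hn : 3 ≤ n₂) (b b' : Fin n₂ → F) :
    ∃ e e', C.g b e' = 0 ∧ C.g e b' = 0 ∧ C.g e e' = 1 := by
  have hgs : ∀ u v, C.g u v = C.g v u := fun u v => f_comm (C := C.swap) h2 u v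
  obtain ⟨e, he, he'⟩ := C4.SS.exists_ker_not_mem ![C.g b'] (F ∙ b)
    (by have := finrank_span_le_card (R := F) ({b} : Set (Fin n₂ → F)); simp at this; omega)
  obtain ⟨e', h0, h1⟩ := C.swap.exists_pair he'
  exact ⟨e, e', h0 b (Submodule.mem_span_singleton_self b), by rw [hgs]; exact he 0, h1⟩

/-- Two singular vectors of the left factor, any two orthogonal ones of the right. -/
theorem re_two (h1 : C.s₁ = 1) (h2 : C.s₂ = 1) (hn : 3 ≤ n₂) (h0 : RE0 C M) {a d : Fin n₁ → F}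
    (ha : C.f a a = 0) (hd : C.f d d = 0) (had : C.f a d ≠ 0) {b b' : Fin n₂ → F}
    (hb : C.g b b' = 0) : C.RE M (C.t a b) (C.t d b') := by
  obtain ⟨e, e', he1, he2, he3⟩ := exists_hyp_pair h2 hn b b'
  have hgs : ∀ u v, C.g u v = C.g v u := fun u v => f_comm (C := C.swap) h2 u v
  refine RE.flip h1 h2 (by rw [C.pol, hd, zero_mul]) (by rw [C.pol, ha, zero_mul])
    (by rw [C.pol, hgs b' b, hb, mul_zero]) ?_
  refine RE.chain h1 h2 (x := C.t a b) (y := C.t a e) (z := C.t d ((C.f a d)⁻¹ • e')) (w := C.t d b')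
    ?_ ?_ ?_ ?_ ?_ ?_ ?_ ?_ ?_ ?_ (h0 a b e ha) (h0 d _ _ hd)
  all_goals rw [C.pol]
  · rw [ha, zero_mul]
  · rw [ha, zero_mul]
  · rw [hd, zero_mul]
  · rw [hd, zero_mul]
  · rw [ha, zero_mul]
  · rw [hd, zero_mul]
  · rw [map_smul, he1, smul_zero, mul_zero]
  · rw [hb, mul_zero]
  · rw [he2, mul_zero]
  · rw [map_smul, he3, smul_eq_mul, mul_one, mul_inv_cancel₀ had]

theorem exists_singular_sum (h1 : C.s₁ = 1) (h5 : 5 ≤ n₁) {a c β : Fin n₁ → F} (ha : C.f a a = 0)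
    (hc : C.f c c = 0) (hac : C.f a c = 1) (haβ : C.f a β = 0) (hcβ : C.f c β = 0)
    (hβ : C.f β β ≠ 0) :
    ∃ u v, C.f u u = 0 ∧ C.f v v = 0 ∧ C.f a u = 0 ∧ C.f a v = 0 ∧ C.f c u = 0 ∧ C.f c v = 0 ∧
      β = u + v := by
  have hpol := fun x y => polar_qA (C := C) h1 x y
  have h22 := C.two
  set W := Orth.orthFam C.qA ![a, c, β]
  have hW : ∀ x, x ∈ W ↔ C.f a x = 0 ∧ C.f c x = 0 ∧ C.f β x = 0 := fun x => by
    rw [Orth.mem_orthFam]
    refine ⟨fun h => ⟨?_, ?_, ?_⟩, fun h i => ?_⟩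
    · have := h 0; rw [hpol] at this; exact (mul_eq_zero.1 this).resolve_left h22
    · have := h 1; rw [hpol] at this; exact (mul_eq_zero.1 this).resolve_left h22
    · have := h 2; rw [hpol] at this; exact (mul_eq_zero.1 this).resolve_left h22
    · rw [hpol]; fin_cases i <;> simp [h.1, h.2.1, h.2.2]
  have hdim : n₁ ≤ finrank F W + 3 := by
    have h := Orth.card_le_finrank_orthFam (Q := C.qA) ![a, c, β]
    rwa [Fintype.card_fin] at h
  obtain ⟨y, hy, hyq⟩ := Orth.exists_Q_eq_in (Q := C.qA) W (fun x hx hx0 => by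
    obtain ⟨hxa, hxc, hxβ⟩ := (hW x).1 hx
    obtain ⟨d, hd⟩ := C.exists_dual hx0
    refine ⟨d - C.f c d • a - C.f a d • c - (C.f β d / C.f β β) • β, (hW _).2 ⟨?_, ?_, ?_⟩, ?_⟩
    · simp [ha, hac, haβ]
    · simp [hc, f_comm h1 c a, hac, hcβ]
    · simp [f_comm h1 β a, f_comm h1 β c, haβ, hcβ, hβ]
    · rw [hpol]
      simp [hd, f_comm h1 x a, f_comm h1 x c, f_comm h1 x β, hxa, hxc, hxβ, h22])
    (show 2 ≤ finrank F W by omega) (-(C.f β β))
  obtain ⟨hya, hyc, hyβ⟩ := (hW y).1 hy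
  have hyy : C.f y y = -C.f β β := hyq
  refine ⟨(2 : F)⁻¹ • (β + y), (2 : F)⁻¹ • (β - y), ?_, ?_, ?_, ?_, ?_, ?_, ?_⟩
  · simp [hyy, hyβ, f_comm h1 y β]
  · simp [hyy, hyβ, f_comm h1 y β]
  · simp [haβ, hya]
  · simp [haβ, hya]
  · simp [hcβ, hyc]
  · simp [hcβ, hyc]
  · match_scalars <;> field_simp <;> ring

/-- The root elements with a pure first vector and a right vector orthogonal to its own. -/
theorem re_perp (h1 : C.s₁ = 1) (h2 : C.s₂ = 1) (h5 : 3 ≤ n₁) (hn : 3 ≤ n₂)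
    (h0 : RE0 C M) {a c : Fin n₁ → F} (ha : C.f a a = 0) (hc : C.f c c = 0) (hac : C.f a c = 1)
    {b : Fin n₂ → F} (x : Fin n₁ → F) {y : Fin n₂ → F} (hy : C.g b y = 0) :
    C.p (C.t a b) (C.t x y) = 0 ∧ C.RE M (C.t a b) (C.t x y) := by
  have hee : C.p (C.t a b) (C.t a b) = 0 := by rw [C.pol, ha, zero_mul]
  let X : Submodule F (Fin n₁ → F) :=
    { carrier := {x | ∀ r : F, C.p (C.t a b) (C.t x (r • y)) = 0 ∧ C.RE M (C.t a b) (C.t x (r • y))}
      zero_mem' := fun r => by rw [map_zero, LinearMap.zero_apply]; exact ⟨map_zero _, re_zero _⟩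
      add_mem' := fun {x x'} hx hx' r => by
        rw [map_add, LinearMap.add_apply]
        exact ⟨by rw [map_add, (hx r).1, (hx' r).1, add_zero],
          RE.add h1 h2 hee (hx r).1 (hx' r).1 (hx r).2 (hx' r).2⟩
      smul_mem' := fun s x hx r => by
        rw [map_smul C.t, LinearMap.smul_apply, ← map_smul (C.t x), smul_smul]; exact hx _ }
  have hgen : ∀ d, C.f d d = 0 → C.f a d ≠ 0 → d ∈ X := fun d hd had r =>
    ⟨by rw [C.pol, map_smul, hy, smul_zero, mul_zero],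
      re_two h1 h2 hn h0 ha hd had (by rw [map_smul, hy, smul_zero])⟩
  have htop : X = ⊤ := by
    by_contra hne
    obtain ⟨x0, -, hx0⟩ := SetLike.exists_of_lt (lt_top_iff_ne_top.2 hne)
    obtain ⟨φ, hφ, hφ1⟩ := Transvect.exists_dual_eq_one hx0
    have hcX : φ c = 0 := hφ c (hgen c hc (by rw [hac]; exact one_ne_zero))
    have hboth : ∀ β, C.f a β = 0 → C.f c β = 0 → C.f β β ≠ 0 → φ β = 0 ∧ φ a = 0 := by
      intro β h3 h4 h5'
      have key : ∀ s : F, s * φ β + -(s * s * C.f β β / 2) * φ a = 0 := fun s => by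
        have hmem : c + s • β + (-(s * s * C.f β β / 2)) • a ∈ X := hgen _ (by
          simp [hc, ha, h3, h4, hac, f_comm h1 c a, f_comm h1 β a, f_comm h1 β c]
          have h22 := C.two
          field_simp
          ring) (by simp [hac, ha, h3])
        have := hφ _ hmem
        rw [map_add, map_add, map_smul, map_smul, hcX, smul_eq_mul, smul_eq_mul, zero_add] at this
        exact this
      have e1 := key 1
      have e2 := key (-1)
      have h22 := C.two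
      have hb' : (2 : F) * φ β = 0 := by linear_combination e1 - e2
      have hφβ := (mul_eq_zero.1 hb').resolve_left h22
      refine ⟨hφβ, ?_⟩
      rw [hφβ] at e1
      have : C.f β β * φ a = 0 := by field_simp at e1; linear_combination -e1
      exact (mul_eq_zero.1 this).resolve_left h5'
    obtain ⟨β, h3, h4, h5'⟩ := exists_perp_aniso h1 (by omega) ha hc hac
    have haX := (hboth β h3 h4 h5').2
    have hx0' : φ (x0 - C.f c x0 • a - C.f a x0 • c) = 0 :=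
      perp_vanish h1 ha hc hac φ (fun β h3 h4 h5' => (hboth β h3 h4 h5').1)
        (by simp [ha, hac]) (by simp [hc, f_comm h1 c a, hac])
    rw [map_sub, map_sub, map_smul, map_smul, haX, hcX, hφ1] at hx0'
    simp at hx0'
  have := (htop ▸ Submodule.mem_top : x ∈ X) 1
  rwa [one_smul] at this

/-- The root elements with a fixed pure first vector. -/
theorem re_pure (hiso : ∀ m ∈ M, C.Iso m) (h1 : C.s₁ = 1) (h2 : C.s₂ = 1) (h5 : 3 ≤ n₁) (hn : 3 ≤ n₂)
    (h0 : RE0 C M) {a c : Fin n₁ → F} (ha : C.f a a = 0) (hc : C.f c c = 0) (hac : C.f a c = 1)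
    {b : Fin n₂ → F} (hb : C.g b b ≠ 0) {w : ι → F} (hw : C.p (C.t a b) w = 0) :
    C.RE M (C.t a b) w := by
  set e := C.t a b
  have hee : C.p e e = 0 := by rw [C.pol, ha, zero_mul]
  let S : AddSubgroup (ι → F) :=
    { carrier := {z | C.p e z = 0 ∧ C.RE M e z}
      zero_mem' := ⟨map_zero _, re_zero _⟩
      add_mem' := fun {z z'} hz hz' => ⟨by rw [map_add, hz.1, hz'.1, add_zero],
        RE.add h1 h2 hee hz.1 hz'.1 hz.2 hz'.2⟩
      neg_mem' := fun {z} hz => ⟨by rw [map_neg, hz.1, neg_zero], by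
        show eich C.qV e (-z) ∈ _
        rw [← Orth.eich_inv]; exact inv_mem hz.2⟩ }
  -- right vector orthogonal to `b`
  have hperp : ∀ x y, C.g b y = 0 → C.t x y ∈ S := fun x y hy => re_perp h1 h2 h5 hn h0 ha hc hac x hy
  -- the same right vector
  have hsame : ∀ x, C.f a x = 0 → C.t x b ∈ S := by
    intro x hx
    refine ⟨by rw [C.pol, hx, zero_mul], ?_⟩
    obtain ⟨y, hy, hyy⟩ : ∃ y, C.g b y = 0 ∧ C.g y y ≠ 0 := by
      obtain ⟨u, hu, hu'⟩ := C4.SS.exists_ker_not_mem ![C.g b] (⊥ : Submodule F (Fin n₂ → F))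
        (by rw [finrank_bot]; omega)
      by_contra! hall
      have hu0 : u ≠ 0 := by simpa using hu'
      obtain ⟨v, hv'⟩ := C.swap.exists_dual hu0
      have hv : C.g u v = 1 := hv'
      set v' := v - (C.g b v / C.g b b) • b
      have hgs : ∀ u v, C.g u v = C.g v u := fun u v => f_comm (C := C.swap) h2 u v
      have hbu : C.g b u = 0 := hu 0
      have hbv : C.g b v' = 0 := by simp [v', hb]
      have huv : C.g u v' = 1 := by simp [v', hv, hgs u b, hbu]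
      have h := hall (u + v') (by simp [hbu, hbv])
      simp [hall u hbu, hall v' hbv, huv, hgs v' u] at h
      exact C.two (by linear_combination h)
    have hyb : C.g y b = 0 := C.g_zero_comm hy
    -- an element fixing `e` and moving `c ⊗ y` along `x ⊗ b`
    set x' := (C.g y y)⁻¹ • x
    obtain ⟨hwu, hre⟩ := re_perp h1 h2 h5 hn h0 ha hc hac (b := y) x' hyb
    set g := eich C.qV (C.t a y) (C.t x' b)
    have hap := Orth.eich_ap (Q := C.qV) (u := C.t a y) (w := C.t x' b)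
      (by rw [qV_t, ha, zero_mul, mul_zero]) (by rw [polar_qV h1 h2, hwu])
    have hxa : C.f x a = 0 := by rw [f_comm h1, hx]
    have hge : ap g e = e := by
      rw [hap, polar_qV h1 h2, polar_qV h1 h2, C.pol, C.pol, ha]
      simp [x', hxa]
    have hgv : ap g (C.t c y) = C.t c y + C.t x b + C.t ((-(C.qV (C.t x' b) * C.g y y)) • a) y := by
      rw [hap, polar_qV h1 h2, polar_qV h1 h2, C.pol, C.pol, hac, hy]
      simp only [x', map_smul, map_neg, LinearMap.smul_apply, smul_eq_mul, one_mul, mul_zero, zero_add]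
      match_scalars <;> field_simp
    have hm' := mul_mem (mul_mem hre (hperp c y hy).2) (inv_mem hre)
    rw [Orth.conj_eich, hge, hgv] at hm'
    have hv := hperp c y hy
    have hwa : C.t ((-(C.qV (C.t x' b) * C.g y y)) • a) y ∈ S := hperp _ y hy
    have hv' : C.t c y + C.t x b + C.t ((-(C.qV (C.t x' b) * C.g y y)) • a) y ∈ S := ⟨by
      rw [map_add, map_add, hv.1, hwa.1, C.pol, hx, zero_mul, add_zero, add_zero], hm'⟩
    have := S.sub_mem (S.sub_mem hv' hwa) hv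
    rw [add_sub_cancel_right, add_sub_cancel_left] at this
    exact this.2
  set q := C.g b b
  set f := C.t c (q⁻¹ • b) with hf
  let L : (ι → F) →ₗ[F] (ι → F) := LinearMap.id - (C.p e).smulRight f
  have hL : ∀ x y, L (C.t x y) ∈ S := fun x y => by
    have e1 : L (C.t x y) = C.t x (y - (C.g b y / q) • b) +
        C.t ((C.g b y / q) • (x - C.f a x • c)) b := by
      show C.t x y - C.p e (C.t x y) • f = _
      rw [C.pol, hf, map_smul]
      simp only [map_sub, map_smul, LinearMap.smul_apply, LinearMap.sub_apply]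
      match_scalars <;> field_simp <;> ring
    rw [e1]
    exact S.add_mem (hperp _ _ (by simp [hb, q])) (hsame _ (by simp [hac]))
  have hall : ∀ (s : F) z, L (s • z) ∈ S := by
    intro s z
    have hz : z ∈ Submodule.span F {x | ∃ a b, C.t a b = x} := by rw [C.spn]; trivial
    induction hz using Submodule.span_induction generalizing s with
    | mem x hx => obtain ⟨u, v, rfl⟩ := hx; rw [← map_smul (C.t u)]; exact hL _ _
    | zero => rw [smul_zero, map_zero]; exact S.zero_mem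
    | add x y _ _ hx hy => rw [smul_add, map_add]; exact S.add_mem (hx s) (hy s)
    | smul r x _ hx => rw [smul_smul]; exact hx _
  have := (hall 1 w).2
  rwa [one_smul, show L w = w by simp [L, hw]] at this

theorem inM_of_re (h1 : C.s₁ = 1) (h2 : C.s₂ = 1) {u w : ι → F} (hu : C.p u u = 0) (hw : C.p w w = 0)
    (huw : C.p u w = 0) (h : C.RE M u w) : InM M ((C.p u).smulRight w - (C.p w).smulRight u) := by
  refine ⟨_, h, fun x => ?_⟩
  rw [toLE_apply, Orth.eich_ap (by rw [qV_apply, hu, mul_zero]) (by rw [polar_qV h1 h2, huw]),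
    polar_qV h1 h2, polar_qV h1 h2, qV_apply, hw, mul_zero, zero_mul, add_zero]
  simp
  abel

theorem exists_aniso (h1 : C.s₁ = 1) (h : 3 ≤ n₁) : ∃ β, C.f β β ≠ 0 := by
  obtain ⟨a, ha0, ha⟩ := exists_isotropic h1 h
  obtain ⟨c, hc, hac⟩ := partner h1 ha0 ha
  obtain ⟨β, -, -, hβ⟩ := exists_perp_aniso h1 h ha hc hac
  exact ⟨β, hβ⟩

/-- `Ω` from all the root elements `(a ⊗ y, a ⊗ y')`. -/
theorem omega_le_of_re0 (hiso : ∀ m ∈ M, C.Iso m) (h1 : C.s₁ = 1) (h2 : C.s₂ = 1) (h5 : 3 ≤ n₁)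
    (hn : 3 ≤ n₂) (h0 : RE0 C M) {g : IsoGrp C.qV} (hg : g ∈ Cfsg.Omega F ⇑C.qV) : C.toLE g ∈ M := by
  classical
  have h22 := C.two
  have hnd : C.qV.polarBilin.Nondegenerate := by
    refine ⟨fun x hx => C.pnd x fun y => ?_, fun y hy => C.pnd' fun x => ?_⟩
    · have := hx y
      rwa [QuadraticMap.polarBilin_apply_apply, polar_qV h1 h2] at this
    · have := hy x
      rwa [QuadraticMap.polarBilin_apply_apply, polar_qV h1 h2] at this
  have hsc : ∃ c : F, c ≠ 0 ∧ c ≠ 1 := Orth.exists_scalar_of_two_ne_zero h22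
  have hcard : 4 ≤ Fintype.card ι := by
    have h := Submodule.finrank_le (C.sub ⊤)
    rw [C.finrank_sub, finrank_top, Module.finrank_fin_fun,
      Module.finrank_fintype_fun_eq_card] at h
    have := Nat.mul_le_mul h5 hn
    omega
  obtain ⟨a, ha0, ha⟩ := exists_isotropic h1 (show 3 ≤ n₁ by omega)
  obtain ⟨c, hc, hac⟩ := partner h1 ha0 ha
  obtain ⟨b, hb'⟩ := exists_aniso (C := C.swap) h2 hn
  have hb : C.g b b ≠ 0 := hb'
  set b' := (C.g b b)⁻¹ • b with hb'd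
  have hp : Orth.HPair C.qV (C.t a b) (C.t c b') :=
    ⟨by rw [qV_t, ha, zero_mul, mul_zero], by rw [qV_t, hc, zero_mul, mul_zero], by
      rw [polar_qV h1 h2, C.pol, hac, hb'd]; simp [hb]⟩
  rw [Orth.omega_eq_eichPair (Orth.Good.of_two_ne_zero hnd h22) hcard (.inl hsc) hp] at hg
  refine (Subgroup.closure_le (M.comap C.toLE)).2 ?_ hg
  rintro _ ⟨w, hw, rfl | rfl⟩
  · exact re_pure hiso h1 h2 h5 hn h0 ha hc hac hb (by
      rw [← polar_qV h1 h2]; exact (Orth.mem_perp.1 hw).1)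
  · exact re_pure hiso h1 h2 h5 hn h0 hc ha (by rw [f_comm h1, hac]) (b := b')
      (by simp [hb'd, hb]) (by rw [← polar_qV h1 h2]; exact (Orth.mem_perp.1 hw).2)

/-- `Ω` from a root element `sm a a ⊗ Dop b γ`. -/
theorem omega_le_of_orthK (hiso : ∀ m ∈ M, C.Iso m) (hl : C.LeftE M) (hr : C.swap.LeftE M)
    (h1 : C.s₁ = 1) (h2 : C.s₂ = 1) (h5 : 5 ≤ n₁) (hn : 3 ≤ n₂)
    (hW : 5 ≤ n₂ ∨ ∀ u v, C.g u u = 0 → C.g v v = 0 → C.g u v = 0 → u ≠ 0 → v ∈ F ∙ u)
    {a : Fin n₁ → F} {b γ : Fin n₂ → F} (ha0 : a ≠ 0) (ha : C.f a a = 0) (hb0 : b ≠ 0)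
    (hb : C.g b b = 0) (hbγ : C.g b γ = 0) (hγ : γ ∉ F ∙ b)
    (hm : InM M (C.tm (C.sm a a) (C.swap.Dop b γ))) :
    ∀ g ∈ Cfsg.Omega F ⇑C.qV, C.toLE g ∈ M := by
  have hN : ∀ z, C.sm a a (C.sm a a z) = 0 := fun z => by simp [sm_apply, ha]
  have hall := dop_full (C := C.swap) h2 hn hW (estable_right hr hN) hb0 hb hbγ hγ
    ⟨C.swap.skewA_Dop b γ, hm⟩
  have hone : ∀ y y', C.RE M (C.t a y) (C.t a y') := fun y y' => by
    refine re_of_inM h1 h2 (by rw [C.pol, ha, zero_mul]) (by rw [C.pol, ha, zero_mul])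
      (by rw [C.pol, ha, zero_mul]) ?_
    rw [← tm_dop h2]
    exact (hall y' y).2
  exact fun g hg => omega_le_of_re0 hiso h1 h2 (by omega) hn (re0_of_one hiso hl h1 (by omega) ha0 ha hone) hg

/-- `Ω` from a root element `N ⊗ sm b b`. -/
theorem omega_le_of_orthP (hiso : ∀ m ∈ M, C.Iso m) (hl : C.LeftE M) (hr : C.swap.LeftE M)
    (h1 : C.s₁ = 1) (h2 : C.s₂ = 1) (h5 : 5 ≤ n₁) (hn : 3 ≤ n₂)
    (hW : 5 ≤ n₂ ∨ ∀ u v, C.g u u = 0 → C.g v v = 0 → C.g u v = 0 → u ≠ 0 → v ∈ F ∙ u)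
    {N : (Fin n₁ → F) →ₗ[F] (Fin n₁ → F)} (hN : C.Root 2 N) {b : Fin n₂ → F} {κ : F} (hb0 : b ≠ 0)
    (hb : C.g b b = 0) (hκ : κ ≠ 0) (hm : InM M (κ • C.tm N (C.swap.sm b b))) :
    ∀ g ∈ Cfsg.Omega F ⇑C.qV, C.toLE g ∈ M := by
  obtain ⟨a, a', ha, haa, ha', rfl, hl2⟩ := hN
  have hli := Root.indep h1 hl2
  have ha0 : a ≠ 0 := hli.ne_zero 0
  have ha'a : a' ∉ F ∙ a := fun h => by
    obtain ⟨r, hr⟩ := Submodule.mem_span_singleton.1 h
    exact (LinearIndependent.pair_iff' ha0).1 hli r hr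
  set K := κ • C.swap.sm b b with hKd
  have hK : ∀ z, K (K z) = 0 := fun z => by
    simp [hKd, sm_apply, show C.swap.f b b = 0 from hb]
  have hall := dop_full (C := C) h1 (by omega) (.inl h5) (estable_right (C := C.swap) hl hK) ha0 ha haa
    ha'a ⟨C.skewA_Dop a a', by rw [tm_swap, hKd, C.tm_smul_right]; exact hm⟩
  have hone : ∀ x x', C.swap.RE M (C.swap.t b x) (C.swap.t b x') := fun x x' => by
    show C.RE M (C.t x b) (C.t x' b)
    refine re_of_inM h1 h2 (by rw [C.pol, hb, mul_zero]) (by rw [C.pol, hb, mul_zero])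
      (by rw [C.pol, hb, mul_zero]) ?_
    rw [← tm_dop' h1]
    have := (hall (κ⁻¹ • x') x).2
    rwa [tm_swap, hKd, C.tm_smul_right, C.smul_Dop, C.tm_smul, smul_smul, mul_inv_cancel₀ hκ,
      one_smul] at this
  have hb0' : RE0 C.swap M := re0_of_one (C := C.swap) hiso hr h2 hn hb0 hb hone
  obtain ⟨c, hc', hbc'⟩ := partner (C := C.swap) h2 hb0 hb
  have hc : C.g c c = 0 := hc'
  have hbc : C.g b c = 1 := hbc'
  obtain ⟨β, hbβ', hcβ', hβ'⟩ := exists_perp_aniso (C := C.swap) h2 hn hb hc hbc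
  have hre : C.RE M (C.t a c) (C.t a b) :=
    re_two (C := C.swap) h2 h1 (by omega) hb0' hc hb
      (by rw [show C.swap.f c b = 1 from (f_comm (C := C.swap) h2 c b).trans hbc]; exact one_ne_zero) ha
  have hN0 : ∀ z, C.sm a a (C.sm a a z) = 0 := fun z => by simp [sm_apply, ha]
  have hX := inM_of_re h1 h2 (by rw [C.pol, ha, zero_mul]) (by rw [C.pol, ha, zero_mul])
    (by rw [C.pol, ha, zero_mul]) hre
  rw [← tm_dop h2] at hX
  have hcb := dop_hyp (C := C.swap) (b := b) (c := c) h2 (estable_right hr hN0) hb hc hbc 1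
    (by rw [one_smul]; exact ⟨C.swap.skewA_Dop b c, hX⟩) hbβ' hcβ'
  rw [one_smul] at hcb
  refine omega_le_of_orthK hiso hl hr h1 h2 h5 hn hW ha0 ha (fun h => ?_) hc hcβ' (fun h => hβ' ?_) hcb.2
  · rw [h, map_zero] at hbc; exact zero_ne_one hbc
  · obtain ⟨r, rfl⟩ := Submodule.mem_span_singleton.1 h
    simp [show C.swap.f c c = 0 from hc]

end TT

end Cfsg.Agent.TenForm
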