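import Cfsg.Agent.Lib.C4.TenDescent
import Cfsg.Agent.Lib.C4.TenGenOrth
import Cfsg.Agent.Lib.C4.SympMax
import Cfsg.Agent.Lib.Transvect.Symp
import Cfsg.Agent.Lib.Orth.Models

/-!
# Tensor stabilisers with a symmetric factor are maximal (odd characteristic)

* `maximal_core` : maximality from the standing hypotheses
* `maximal_symp`, `maximal_orth`
* `ofTP` : a tensor structure of forms as a `TT`
-/

set_option autoImplicit false
set_option linter.unusedSectionVars false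
set_option linter.unusedSimpArgs false

namespace Cfsg.Agent.TenForm

open Module
open QuadraticMap (polar)
open Cfsg.Agent.Transvect (app tp tp_apply exists_app_tp)
open Cfsg.Agent.C4 (flin₂)

variable {ι : Type} [Fintype ι] [DecidableEq ι] {F : Type*} [Field F] [Fintype F] {n₁ n₂ : ℕ}

theorem exists_gl {κ : Type} [Fintype κ] [DecidableEq κ] (m : (κ → F) ≃ₗ[F] (κ → F)) :
    ∃ g : Matrix.GeneralLinearGroup κ F, app g = m := by
  refine ⟨⟨LinearMap.toMatrix' m.toLinearMap, LinearMap.toMatrix' m.symm.toLinearMap,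
      by rw [← LinearMap.toMatrix'_comp, LinearEquiv.comp_coe, LinearEquiv.symm_trans_self]; simp,
      by rw [← LinearMap.toMatrix'_comp, LinearEquiv.comp_coe, LinearEquiv.self_trans_symm]; simp⟩,
    LinearEquiv.ext fun x => ?_⟩
  show Matrix.mulVec (LinearMap.toMatrix' m.toLinearMap) x = m x
  rw [← Matrix.toLin'_apply, Matrix.toLin'_toMatrix']; rfl

namespace TT

variable (C : TT ι F n₁ n₂)

/-- The squares of the isometries are in `K`. -/
def Squares (K : Subgroup (Matrix.GeneralLinearGroup ι F)) : Prop :=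
  ∀ m : (ι → F) ≃ₗ[F] (ι → F), C.Iso m → m * m ∈ K.map app

/-- The hypotheses on the two factors. -/
structure Dims (l : ℕ) : Prop where
  kind : (l = 1 ∧ C.s₁ = -1 ∧ C.s₂ = 1) ∨ (l = 2 ∧ C.s₁ = 1)
  big : 2 * l < n₁
  dimB : (C.s₂ = 1 ∧ 3 ≤ n₂ ∧ (4 ≤ n₂ ∨ 3 < Fintype.card F)) ∨ (C.s₂ = -1 ∧ n₂ = 2)
  ne : l = 2 → n₁ ≠ n₂

variable {C}

theorem isTen_swap {m : (ι → F) ≃ₗ[F] (ι → F)} : C.swap.IsTen m ↔ C.IsTen m :=
  ⟨fun ⟨σ, τ, h⟩ => ⟨τ, σ, fun a z => h z a⟩, fun ⟨σ, τ, h⟩ => ⟨τ, σ, fun a z => h z a⟩⟩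

theorem iso_te {σ : (Fin n₁ → F) ≃ₗ[F] (Fin n₁ → F)} {τ : (Fin n₂ → F) ≃ₗ[F] (Fin n₂ → F)}
    (hσ : ∀ u v, C.f (σ u) (σ v) = C.f u v) (hτ : ∀ u v, C.g (τ u) (τ v) = C.g u v) :
    C.Iso (C.te σ τ) := fun x y =>
  LinearMap.congr_fun (LinearMap.congr_fun (C.ext_pure₂
    (L := (C.p.comp (C.te σ τ).toLinearMap).compl₂ (C.te σ τ).toLinearMap) (L' := C.p)
    fun a b a' b' => by simp [C.te_t, C.pol, hσ, hτ]) x) y

theorem te_mul (σ σ' : (Fin n₁ → F) ≃ₗ[F] (Fin n₁ → F)) (τ τ' : (Fin n₂ → F) ≃ₗ[F] (Fin n₂ → F)) :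
    C.te σ τ * C.te σ' τ' = C.te (σ * σ') (τ * τ') :=
  C.eq_te fun a z => by rw [LinearEquiv.mul_apply, C.te_t, C.te_t]; rfl

theorem isTen_te (σ : (Fin n₁ → F) ≃ₗ[F] (Fin n₁ → F)) (τ : (Fin n₂ → F) ≃ₗ[F] (Fin n₂ → F)) :
    C.IsTen (C.te σ τ) := ⟨σ, τ, fun a z => C.te_t σ τ a z⟩

/-- An Eichler element is the square of another. -/
theorem eA_half {a x : Fin n₁ → F} (ha : C.f a a = 0) (hx : C.f a x = 0)
    (hx' : C.f a ((2 : F)⁻¹ • x) = 0) : C.eA ha hx' * C.eA ha hx' = C.eA ha hx := by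
  have hD : C.Dop a ((2 : F)⁻¹ • x) = (2 : F)⁻¹ • C.Dop a x := LinearMap.ext fun z => by
    simp [Dop_apply]; module
  have h22 := C.two
  refine LinearEquiv.ext fun z => ?_
  rw [LinearEquiv.mul_apply, C.eA_apply, C.eA_apply, C.eA_apply, hD]
  simp only [LinearMap.smul_apply, map_add, map_smul, C.Dop_cube ha hx, map_zero, smul_zero, add_zero]
  match_scalars <;> field_simp <;> ring

/-! ### roots -/

theorem exists_root_one (h1 : C.s₁ = -1) (hn : 0 < n₁) : ∃ N, C.Root 1 N := by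
  have h22 := C.two
  set a : Fin n₁ → F := Pi.single ⟨0, hn⟩ 1
  have ha : a ≠ 0 := by simp [a]
  have haa := f_self h1 a
  obtain ⟨d, hd⟩ := C.exists_dual ha
  refine ⟨C.Dop a a, a, a, haa, haa, haa, rfl, ?_⟩
  have hr : LinearMap.range (C.Dop a a) = F ∙ a := by
    refine le_antisymm ?_ ((Submodule.span_singleton_le_iff_mem _ _).2 ⟨(2 : F)⁻¹ • d, ?_⟩)
    · rintro _ ⟨z, rfl⟩
      have hm := Submodule.mem_span_singleton_self (R := F) a
      rw [Dop_apply]
      exact Submodule.sub_mem _ (Submodule.smul_mem _ _ hm) (Submodule.smul_mem _ _ hm)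
    · simp [Dop_apply, h1, hd]
      match_scalars
      field_simp
      ring
  rw [hr, finrank_span_singleton ha]

theorem exists_root_two (h1 : C.s₁ = 1) (h5 : 5 ≤ n₁) : ∃ N, C.Root 2 N := by
  obtain ⟨a, ha0, ha⟩ := exists_isotropic h1 (show 3 ≤ n₁ by omega)
  obtain ⟨c, hc, hac⟩ := partner h1 ha0 ha
  obtain ⟨β, h3, h4, hβ⟩ := exists_perp_aniso h1 (show 3 ≤ n₁ by omega) ha hc hac
  obtain ⟨u, v, hu, hv, hau, hav, hcu, hcv, e⟩ := exists_singular_sum h1 h5 ha hc hac h3 h4 hβ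
  obtain ⟨w, hw, haw, hcw, hw0⟩ : ∃ w, C.f w w = 0 ∧ C.f a w = 0 ∧ C.f c w = 0 ∧ w ≠ 0 := by
    by_cases hu0 : u = 0
    · exact ⟨v, hv, hav, hcv, fun h => hβ (by simp [e, hu0, h])⟩
    · exact ⟨u, hu, hau, hcu, hu0⟩
  have hli : LinearIndependent F ![a, w] := by
    rw [LinearIndependent.pair_iff' ha0]
    intro r hr
    rw [← hr, map_smul, f_comm h1 c a, hac, smul_eq_mul, mul_one] at hcw
    exact hw0 (by rw [← hr, hcw, zero_smul])
  obtain ⟨d, hd, hd'⟩ := exists_dual_pair (C := C) hli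
  obtain ⟨d₂, hd₂, hd₂'⟩ := exists_dual_pair (C := C) (LinearIndependent.pair_symm_iff.1 hli)
  refine ⟨C.Dop a w, a, w, ha, haw, hw, rfl, ?_⟩
  have hr : LinearMap.range (C.Dop a w) = Submodule.span F (Set.range ![a, w]) := by
    refine le_antisymm ?_ (Submodule.span_le.2 ?_)
    · rintro _ ⟨z, rfl⟩
      rw [Dop_apply]
      exact Submodule.sub_mem _ (Submodule.smul_mem _ _ (Submodule.subset_span ⟨0, rfl⟩))
        (Submodule.smul_mem _ _ (Submodule.subset_span ⟨1, rfl⟩))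
    · rintro _ ⟨i, rfl⟩
      fin_cases i
      · exact ⟨d₂, by simp [Dop_apply, hd₂, hd₂']⟩
      · exact ⟨-d, by simp [Dop_apply, hd, hd', h1]⟩
  rw [hr, finrank_span_eq_card hli, Fintype.card_fin]

/-- A two-dimensional totally singular subspace needs dimension four. -/
theorem no_plane (h1 : C.s₁ = 1) (hn : n₁ ≤ 3) (u v : Fin n₁ → F) (hu : C.f u u = 0)
    (hv : C.f v v = 0) (huv : C.f u v = 0) (hu0 : u ≠ 0) : v ∈ F ∙ u := by
  by_contra hne
  have hli : LinearIndependent F ![u, v] := by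
    rw [LinearIndependent.pair_iff' hu0]
    exact fun a ha => hne (Submodule.mem_span_singleton.2 ⟨a, ha⟩)
  obtain ⟨d, hd, hd'⟩ := exists_dual_pair (C := C) hli
  obtain ⟨d₂, hd₂, hd₂'⟩ := exists_dual_pair (C := C) (LinearIndependent.pair_symm_iff.1 hli)
  have h4 : LinearIndependent F ![u, v, d, d₂] := by
    rw [Fintype.linearIndependent_iff]
    intro w hw
    simp [Fin.sum_univ_four] at hw
    have e1 := congrArg (C.f u) hw
    have e2 := congrArg (C.f v) hw
    simp [hu, hv, huv, hd, hd', hd₂, hd₂', f_comm h1 v u] at e1 e2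
    rw [e1, e2, zero_smul, zero_smul, add_zero, add_zero] at hw
    have hp := LinearIndependent.pair_iff.1 hli (w 0) (w 1) hw
    intro i
    fin_cases i
    · exact hp.1
    · exact hp.2
    · exact e1
    · exact e2
  have := h4.fintype_card_le_finrank
  rw [Module.finrank_fin_fun, Fintype.card_fin] at this
  omega

/-! ### the semisimple set of the right factor -/

theorem exists_perp_norm (h1 : C.s₁ = 1) (h3 : 3 ≤ n₁) {u : Fin n₁ → F} (hu : C.f u u ≠ 0) :
    ∃ w, C.f u w = 0 ∧ C.f w w = C.f u u := by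
  have hpol := fun x y => polar_qA (C := C) h1 x y
  have h22 := C.two
  have hdim : n₁ ≤ finrank F (Orth.orthFam C.qA ![u]) + 1 := by
    have h := Orth.card_le_finrank_orthFam (Q := C.qA) ![u]
    rwa [Fintype.card_fin] at h
  have hW : ∀ x, x ∈ Orth.orthFam C.qA ![u] ↔ C.f u x = 0 := fun x => by
    rw [Orth.mem_orthFam, Fin.forall_fin_one]
    show polar ⇑C.qA u x = 0 ↔ _
    rw [hpol, mul_eq_zero, or_iff_right h22]
  obtain ⟨w, hw, hwq⟩ := Orth.exists_Q_eq_in (Q := C.qA) _ (fun x hx hx0 => by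
    obtain ⟨d, hd⟩ := C.exists_dual hx0
    refine ⟨d - (C.f u d / C.f u u) • u, (hW _).2 (by simp [hu]), ?_⟩
    rw [hpol]
    simp [hd, f_comm h1 x u, (hW x).1 hx, h22]) (show 2 ≤ _ by omega) (C.f u u)
  exact ⟨w, (hW w).1 hw, hwq⟩

/-- Two independent vectors of the same norm orthogonal to a given anisotropic one. -/
theorem exists_two_perp (h1 : C.s₁ = 1) (h3 : 3 ≤ n₁) (hex : 4 ≤ n₁ ∨ 3 < Fintype.card F)
    {u : Fin n₁ → F} (hu : C.f u u ≠ 0) :
    ∃ w w', C.f u w = 0 ∧ C.f w w = C.f u u ∧ C.f u w' = 0 ∧ C.f w' w' = C.f u u ∧ w' ∉ F ∙ w := by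
  classical
  obtain ⟨w, huw, hww⟩ := exists_perp_norm h1 h3 hu
  have h22 := C.two
  have hpol := fun x y => polar_qA (C := C) h1 x y
  rcases hex with h4 | hq
  · have hdim : n₁ ≤ finrank F (Orth.orthFam C.qA ![u, w]) + 2 := by
      have h := Orth.card_le_finrank_orthFam (Q := C.qA) ![u, w]
      rwa [Fintype.card_fin] at h
    have hW : ∀ x, x ∈ Orth.orthFam C.qA ![u, w] ↔ C.f u x = 0 ∧ C.f w x = 0 := fun x => by
      rw [Orth.mem_orthFam, Fin.forall_fin_two]
      show polar ⇑C.qA u x = 0 ∧ polar ⇑C.qA w x = 0 ↔ _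
      rw [hpol, hpol, mul_eq_zero, mul_eq_zero, or_iff_right h22, or_iff_right h22]
    obtain ⟨w', hw', hwq⟩ := Orth.exists_Q_eq_in (Q := C.qA) _ (fun x hx hx0 => by
      obtain ⟨d, hd⟩ := C.exists_dual hx0
      refine ⟨d - (C.f u d / C.f u u) • u - (C.f w d / C.f u u) • w, (hW _).2 ⟨?_, ?_⟩, ?_⟩
      · simp [hu, huw]
      · simp [f_comm h1 w u, huw, hww, hu]
      · rw [hpol]
        simp [hd, f_comm h1 x u, f_comm h1 x w, (hW x).1 hx, h22]) (show 2 ≤ _ by omega) (C.f u u)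
    refine ⟨w, w', huw, hww, ((hW w').1 hw').1, hwq, fun hm => hu ?_⟩
    obtain ⟨r, rfl⟩ := Submodule.mem_span_singleton.1 hm
    have h0 := ((hW _).1 hw').2
    rw [map_smul, hww, smul_eq_mul, mul_eq_zero, or_iff_left hu] at h0
    have : C.f u u = C.f (r • w) (r • w) := hwq.symm
    simpa [h0] using this
  · obtain ⟨β, hu', hw', hβ⟩ : ∃ β, C.f u β = 0 ∧ C.f w β = 0 ∧ C.f β β ≠ 0 := by
      obtain ⟨z, hz, hz'⟩ := C4.SS.exists_ker_not_mem ![C.f u, C.f w] (⊥ : Submodule F (Fin n₁ → F))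
        (by rw [finrank_bot]; omega)
      have hzu : C.f u z = 0 := hz 0
      have hzw : C.f w z = 0 := hz 1
      by_cases hzz : C.f z z ≠ 0
      · exact ⟨z, hzu, hzw, hzz⟩
      push Not at hzz
      obtain ⟨d, hd⟩ := C.exists_dual (a := z) (by simpa using hz')
      set d' := d - (C.f u d / C.f u u) • u - (C.f w d / C.f u u) • w
      have hdu : C.f u d' = 0 := by simp [d', hu, huw]
      have hdw : C.f w d' = 0 := by simp [d', f_comm h1 w u, huw, hww, hu]
      have hdz : C.f z d' = 1 := by simp [d', hd, f_comm h1 z u, f_comm h1 z w, hzu, hzw]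
      by_cases hdd : C.f d' d' ≠ 0
      · exact ⟨d', hdu, hdw, hdd⟩
      push Not at hdd
      refine ⟨z + d', by simp [hzu, hdu], by simp [hzw, hdw], ?_⟩
      simp [hzz, hdd, hdz, f_comm h1 d' z]
      exact fun h => C.two (by linear_combination h)
    obtain ⟨t, ht0, ht⟩ : ∃ t : F, t ≠ 0 ∧ C.f u u + t * t * C.f β β ≠ 0 := by
      by_contra! hall
      have hle : (Finset.univ : Finset F) ⊆ {0, 1, -1} := fun t _ => by
        by_cases ht : t = 0
        · simp [ht]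
        · have e1 := hall t ht
          have e2 := hall 1 one_ne_zero
          have : (t - 1) * (t + 1) = 0 := by
            have : C.f β β * ((t - 1) * (t + 1)) = 0 := by linear_combination e1 - e2
            exact (mul_eq_zero.1 this).resolve_left hβ
          rcases mul_eq_zero.1 this with h | h
          · simp [sub_eq_zero.1 h]
          · simp [eq_neg_of_add_eq_zero_left h]
      have := (Finset.card_le_card hle).trans Finset.card_le_three
      rw [Finset.card_univ] at this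
      omega
    set k := -(2 * C.f u u) / (C.f u u + t * t * C.f β β) with hk
    refine ⟨w, (1 + k) • w + (t * k) • β, huw, hww, by simp [huw, hu'], ?_, fun hm => ?_⟩
    · have hk' : k * (C.f u u + t * t * C.f β β) = -(2 * C.f u u) := by
        rw [hk, div_mul_cancel₀ _ ht]
      simp [hww, hw', f_comm h1 β w]
      linear_combination k * hk'
    · obtain ⟨r, hr⟩ := Submodule.mem_span_singleton.1 hm
      have e := congrArg (C.f β) hr
      simp [f_comm h1 β w, hw', hβ] at e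
      rcases e with e | e
      · exact ht0 e
      · rw [hk, div_eq_zero_iff] at e
        exact e.elim (fun e => hu ((mul_eq_zero.1 (neg_eq_zero.1 e)).resolve_left h22)) ht

/-- `r_u r_w` for orthogonal vectors of the same non-zero norm. -/
def IsPairRefl (C : TT ι F n₁ n₂) (τ : (Fin n₁ → F) ≃ₗ[F] (Fin n₁ → F)) : Prop :=
  ∃ u w, C.f u u ≠ 0 ∧ C.f w w = C.f u u ∧ C.f u w = 0 ∧
    ∀ z, τ z = z - (2 * C.f u z / C.f u u) • u - (2 * C.f w z / C.f u u) • w

theorem pairRefl_square (h1 : C.s₁ = 1) {τ : (Fin n₁ → F) ≃ₗ[F] (Fin n₁ → F)} (h : IsPairRefl C τ) :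
    (∃ J : (Fin n₁ → F) ≃ₗ[F] (Fin n₁ → F), (∀ x y, C.f (J x) (J y) = C.f x y) ∧ J * J = τ) ∧
      ∀ z, τ (τ z) = z := by
  obtain ⟨u, w, hu, hw, huw, hτ⟩ := h
  have hwu : C.f w u = 0 := by rw [f_comm h1, huw]
  have h22 := C.two
  refine ⟨?_, fun z => ?_⟩
  · let J₀ : (Fin n₁ → F) →ₗ[F] (Fin n₁ → F) := LinearMap.id
      + ((C.f u u)⁻¹ • C.f u).smulRight (w - u) - ((C.f u u)⁻¹ • C.f w).smulRight (u + w)
    let J₁ : (Fin n₁ → F) →ₗ[F] (Fin n₁ → F) := LinearMap.id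
      - ((C.f u u)⁻¹ • C.f u).smulRight (u + w) + ((C.f u u)⁻¹ • C.f w).smulRight (u - w)
    have e : ∀ z, J₀ (J₁ z) = z ∧ J₁ (J₀ z) = z := fun z => by
      constructor <;>
        simp [J₀, J₁, hw, huw, hwu, smul_sub, smul_add, smul_smul] <;>
        match_scalars <;> field_simp <;> ring
    refine ⟨LinearEquiv.ofLinearMap J₀ J₁ (LinearMap.ext fun z => (e z).1) (LinearMap.ext fun z => (e z).2),
      fun x y => ?_, LinearEquiv.ext fun z => ?_⟩
    · show C.f (J₀ x) (J₀ y) = C.f x y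
      simp [J₀, hw, huw, hwu, f_comm h1 x u, f_comm h1 x w]
      field_simp
      ring
    · show J₀ (J₀ z) = τ z
      rw [hτ]
      simp [J₀, hw, huw, hwu, smul_sub, smul_add, smul_smul]
      match_scalars <;> field_simp <;> ring
  · rw [hτ, hτ]
    simp [hw, huw, hwu, smul_smul]
    match_scalars <;> field_simp <;> ring

theorem pairRefl_conj {τ β : (Fin n₁ → F) ≃ₗ[F] (Fin n₁ → F)} (h : IsPairRefl C τ) {ν : F} (hν : ν ≠ 0)
    (hβ : ∀ y z, C.f (β y) (β z) = ν * C.f y z) : IsPairRefl C ((β.symm.trans τ).trans β) := by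
  obtain ⟨u, w, hu, hw, huw, hτ⟩ := h
  refine ⟨β u, β w, by rw [hβ]; exact mul_ne_zero hν hu, by rw [hβ, hβ, hw],
    by rw [hβ, huw, mul_zero], fun z => ?_⟩
  obtain ⟨y, rfl⟩ := β.surjective z
  simp only [LinearEquiv.trans_apply, LinearEquiv.symm_apply_apply, hτ, map_sub, map_smul, hβ]
  match_scalars <;> field_simp

theorem pairRefl_exists (h1 : C.s₁ = 1) {u w : Fin n₁ → F} (hu : C.f u u ≠ 0)
    (hw : C.f w w = C.f u u) (huw : C.f u w = 0) :
    ∃ τ : (Fin n₁ → F) ≃ₗ[F] (Fin n₁ → F),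
      ∀ z, τ z = z - (2 * C.f u z / C.f u u) • u - (2 * C.f w z / C.f u u) • w := by
  have hwu : C.f w u = 0 := by rw [f_comm h1, huw]
  let T : (Fin n₁ → F) →ₗ[F] (Fin n₁ → F) := LinearMap.id
    - ((2 / C.f u u) • C.f u).smulRight u - ((2 / C.f u u) • C.f w).smulRight w
  have hT : ∀ z, T (T z) = z := fun z => by
    simp [T, hw, huw, hwu, smul_smul]
    match_scalars <;> field_simp <;> ring
  refine ⟨LinearEquiv.ofLinearMap T T (LinearMap.ext hT) (LinearMap.ext hT), fun z => ?_⟩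
  show T z = _
  simp [T, smul_smul]
  match_scalars <;> field_simp

theorem pairRefl_commutant (h1 : C.s₁ = 1) (h3 : 3 ≤ n₁) (hex : 4 ≤ n₁ ∨ 3 < Fintype.card F)
    (K : (Fin n₁ → F) →ₗ[F] (Fin n₁ → F))
    (h : ∀ τ, IsPairRefl C τ → ∀ z, K (τ z) = τ (K z)) : ∃ r : F, K = r • LinearMap.id := by
  have h22 := C.two
  have hplane : ∀ u w, C.f u u ≠ 0 → C.f w w = C.f u u → C.f u w = 0 →
      ∃ a b : F, K u = a • u + b • w := by
    intro u w hu hw huw
    obtain ⟨τ, hτ⟩ := pairRefl_exists h1 hu hw huw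
    have e := h τ ⟨u, w, hu, hw, huw, hτ⟩ u
    rw [hτ, hτ (K u), f_comm h1 w u, huw, map_sub, map_sub, map_smul, map_smul,
      mul_div_assoc, div_self hu, mul_one, mul_zero, zero_div, zero_smul, sub_zero] at e
    refine ⟨C.f u (K u) / C.f u u, C.f w (K u) / C.f u u, ?_⟩
    apply smul_right_injective (Fin n₁ → F) h22
    have e' : (2 : F) • K u = (2 * C.f u (K u) / C.f u u) • u + (2 * C.f w (K u) / C.f u u) • w := by
      linear_combination (norm := module) -(1 : F) • e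
    show (2 : F) • K u = _
    rw [e']
    match_scalars <;> field_simp
  have haniso : ∀ u, C.f u u ≠ 0 → ∃ r : F, K u = r • u := by
    intro u hu
    obtain ⟨w, w', h1', h2', h3', h4', hne⟩ := exists_two_perp h1 h3 hex hu
    obtain ⟨a, b, e⟩ := hplane u w hu h2' h1'
    obtain ⟨a', b', e'⟩ := hplane u w' hu h4' h3'
    have h5 : b • w - b' • w' = (a' - a) • u := by
      linear_combination (norm := module) (e.symm.trans e')
    have h6 := congrArg (C.f u) h5
    simp [h1', h3'] at h6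
    have ha : a' - a = 0 := h6.resolve_right hu
    rw [ha, zero_smul, sub_eq_zero] at h5
    have hb : b' = 0 := by
      by_contra hb
      exact hne (Submodule.mem_span_singleton.2 ⟨b'⁻¹ * b, by
        rw [mul_smul, h5, inv_smul_smul₀ hb]⟩)
    exact ⟨a', by rw [e', hb, zero_smul, add_zero]⟩
  refine C4.scalar_of_lines K fun z => ?_
  by_cases hz : C.f z z ≠ 0
  · obtain ⟨r, hr⟩ := haniso z hz
    exact Submodule.mem_span_singleton.2 ⟨r, hr.symm⟩
  push Not at hz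
  by_cases hz0 : z = 0
  · rw [hz0, map_zero]; exact Submodule.zero_mem _
  obtain ⟨c, hc, hzc⟩ := partner h1 hz0 hz
  obtain ⟨β, hzβ, -, hβ⟩ := exists_perp_aniso h1 h3 hz hc hzc
  obtain ⟨r₀, hr₀⟩ := haniso β hβ
  obtain ⟨r₁, hr₁⟩ := haniso (z + β) (by simpa [hz, hzβ, f_comm h1 β z] using hβ)
  obtain ⟨r₂, hr₂⟩ := haniso (z - β) (by simpa [hz, hzβ, f_comm h1 β z] using hβ)
  rw [map_add, hr₀] at hr₁
  rw [map_sub, hr₀] at hr₂
  have e : (r₁ - r₂) • z + (r₁ + r₂ - 2 * r₀) • β = 0 := by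
    linear_combination (norm := module) hr₂ - hr₁
  have e2 := congrArg (C.f β) e
  simp [f_comm h1 β z, hzβ] at e2
  have e3 : r₁ + r₂ - 2 * r₀ = 0 := e2.resolve_right hβ
  have e4 := congrArg (C.f c) e
  rw [e3] at e4
  simp [f_comm h1 c z, hzc] at e4
  have e5 : (2 : F) * (r₁ - r₀) = 0 := by linear_combination e4 + e3
  have e6 : r₁ = r₀ := sub_eq_zero.1 ((mul_eq_zero.1 e5).resolve_left h22)
  refine Submodule.mem_span_singleton.2 ⟨r₁, ?_⟩
  rw [← e6] at hr₁
  linear_combination (norm := module) -(1 : F) • hr₁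

/-- The elements of order four of a symplectic plane. -/
def IsQuarter (C : TT ι F n₁ n₂) (τ : (Fin n₁ → F) ≃ₗ[F] (Fin n₁ → F)) : Prop :=
  (∀ x y, C.f (τ x) (τ y) = C.f x y) ∧ ∀ z, τ (τ z) = -z

theorem quarter_commutant (h1 : C.s₁ = -1) (hn : n₁ = 2) (K : (Fin n₁ → F) →ₗ[F] (Fin n₁ → F))
    (h : ∀ τ, IsQuarter C τ → ∀ z, K (τ z) = τ (K z)) : ∃ r : F, K = r • LinearMap.id := by
  subst hn
  have h22 := C.two
  set e : Fin 2 → F := Pi.single 0 1
  have he0 : e ≠ 0 := by simp [e]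
  obtain ⟨d, hd⟩ := C.exists_dual he0
  have hee := f_self h1 e
  have hdd := f_self h1 d
  have hde : C.f d e = -1 := by rw [C.hf e d, hd, h1, mul_one]
  have hdec : ∀ z, z = C.f z d • e + C.f e z • d := by
    intro z
    have hli : LinearIndependent F ![e, d] := by
      rw [LinearIndependent.pair_iff' he0]
      intro a ha
      have := congrArg (C.f e) ha
      rw [map_smul, hee, hd, smul_zero] at this
      exact zero_ne_one this
    have htop := hli.span_eq_top_of_card_eq_finrank (by simp)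
    obtain ⟨c, hc⟩ := (Submodule.mem_span_range_iff_exists_fun F).1
      (htop.symm ▸ Submodule.mem_top : z ∈ Submodule.span F (Set.range ![e, d]))
    rw [← hc]
    simp [Fin.sum_univ_two, hd, hee, hdd, hde]
  -- two such elements
  have mk : ∀ a b c : F, a * a + b * c = -1 → ∃ τ, IsQuarter C τ ∧
      τ e = a • e + c • d ∧ τ d = b • e - a • d := by
    intro a b c habc
    let T : (Fin 2 → F) →ₗ[F] (Fin 2 → F) :=
      (C.f.flip d).smulRight (a • e + c • d) + (C.f e).smulRight (b • e - a • d)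
    have hT : ∀ z, T z = C.f z d • (a • e + c • d) + C.f e z • (b • e - a • d) := fun z => rfl
    have hTT : ∀ z, T (T z) = -z := fun z => by
      conv_rhs => rw [hdec z]
      rw [hT, hT]
      simp [hd, hde, hee, hdd]
      match_scalars
      · linear_combination (C.f z) d * habc
      · linear_combination (C.f e) z * habc
    refine ⟨LinearEquiv.ofLinearMap T (-T) (LinearMap.ext fun z => by simp [hTT])
      (LinearMap.ext fun z => by simp [hTT]), ⟨fun x y => ?_, hTT⟩, ?_, ?_⟩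
    · show C.f (T x) (T y) = _
      conv_rhs => rw [hdec x, hdec y]
      rw [hT, hT]
      simp [hd, hde, hee, hdd]
      linear_combination (C.f e x * C.f y d - C.f x d * C.f e y) * habc
    · show T e = _
      rw [hT, hd, hee]; simp
    · show T d = _
      rw [hT, hdd, hd]; simp
  obtain ⟨J, hJ, hJe, hJd⟩ := mk 0 (-1) 1 (by ring)
  obtain ⟨T, hT, hTe, hTd⟩ := mk 1 (-2) 1 (by ring)
  simp at hJe hJd
  have a1 := h J hJ e
  have a2 := h T hT e
  rw [hJe] at a1
  rw [hTe, map_add, map_smul, map_smul] at a2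
  obtain ⟨k, k', hk⟩ : ∃ k k' : F, K e = k • e + k' • d := ⟨_, _, hdec (K e)⟩
  rw [a1, hk, map_add, map_smul, map_smul, map_add, map_smul, map_smul, hJe, hJd, hTe, hTd] at a2
  have a3 := congrArg (C.f e) a2
  simp [hee, hd] at a3
  have hk' : k' = 0 := by
    have : (2 : F) * k' = 0 := by linear_combination a3
    exact (mul_eq_zero.1 this).resolve_left h22
  refine ⟨k, LinearMap.ext fun z => ?_⟩
  rw [hdec z, map_add, map_smul, map_smul, hk, a1, hk, hk']
  simp [hJe]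
  module

/-! ### maximality -/

variable (C) in
/-- The right factor semisimple set. -/
theorem exists_semi {K : Subgroup (Matrix.GeneralLinearGroup ι F)} (hsq : C.Squares K)
    {M : Subgroup ((ι → F) ≃ₗ[F] (ι → F))} (hM : ∀ m ∈ K.map app, C.IsTen m → m ∈ M)
    (hfull : C.s₂ = -1 → ∀ m, C.Iso m → m ∈ K.map app)
    (hd : (C.s₂ = 1 ∧ 3 ≤ n₂ ∧ (4 ≤ n₂ ∨ 3 < Fintype.card F)) ∨ (C.s₂ = -1 ∧ n₂ = 2)) :
    ∃ S : Set ((Fin n₂ → F) ≃ₗ[F] (Fin n₂ → F)),
      (∀ τ ∈ S, C.te (LinearEquiv.refl F _) τ ∈ M ∧ ∀ z, τ (τ (τ (τ z))) = z) ∧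
      (∀ K : (Fin n₂ → F) →ₗ[F] (Fin n₂ → F), (∀ τ ∈ S, ∀ z, K (τ z) = τ (K z)) →
        ∃ r : F, K = r • LinearMap.id) ∧
      (∀ τ ∈ S, ∀ β : (Fin n₂ → F) ≃ₗ[F] (Fin n₂ → F), ∀ ν : F, ν ≠ 0 →
        (∀ y z, C.g (β y) (β z) = ν * C.g y z) → (β.symm.trans τ).trans β ∈ S) := by
  rcases hd with ⟨h2, hn, hex⟩ | ⟨h2, hn⟩
  · refine ⟨{τ | IsPairRefl C.swap τ}, fun τ hτ => ?_, pairRefl_commutant (C := C.swap) h2 hn hex,
      fun τ hτ β ν hν hβ => pairRefl_conj (C := C.swap) hτ hν hβ⟩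
    obtain ⟨⟨J, hJ, hJJ⟩, hinv⟩ := pairRefl_square (C := C.swap) h2 hτ
    refine ⟨hM _ ?_ (isTen_te _ _), fun z => by rw [hinv, hinv]⟩
    have := hsq _ (iso_te (σ := LinearEquiv.refl F _) (τ := J) (fun _ _ => rfl) hJ)
    rwa [te_mul, hJJ] at this
  · refine ⟨{τ | IsQuarter C.swap τ}, fun τ hτ => ?_, quarter_commutant (C := C.swap) h2 hn,
      fun τ hτ β ν hν hβ => ⟨fun x y => ?_, fun z => ?_⟩⟩
    · exact ⟨hM _ (hfull h2 _ (iso_te (fun _ _ => rfl) hτ.1)) (isTen_te _ _),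
        fun z => by rw [hτ.2, hτ.2]; simp⟩
    · obtain ⟨x, rfl⟩ := β.surjective x
      obtain ⟨y, rfl⟩ := β.surjective y
      simp only [LinearEquiv.trans_apply, LinearEquiv.symm_apply_apply]
      rw [show C.swap.f = C.g from rfl, hβ, hβ]
      congr 1
      exact hτ.1 x y
    · obtain ⟨z, rfl⟩ := β.surjective z
      simp [hτ.2]

theorem not_isTen {a : Fin n₁ → F} (ha : a ≠ 0) (haa : C.f a a = 0)
    {D : (Fin n₂ → F) →ₗ[F] (Fin n₂ → F)} {z0 : Fin n₂ → F} (hz0 : z0 ≠ 0) (hDz : D z0 = 0)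
    (hD : D ≠ 0) {m : (ι → F) ≃ₗ[F] (ι → F)} (hm : ∀ x, m x = x + C.tm (C.sm a a) D x) :
    ¬ C.IsTen m := by
  rintro ⟨σ, τ, h⟩
  obtain ⟨x, hx⟩ := C.exists_dual ha
  have hxa : a ∉ F ∙ x := fun hm' => by
    obtain ⟨r, hr⟩ := Submodule.mem_span_singleton.1 hm'
    have hr0 : r ≠ 0 := fun h => ha (by rw [← hr, h, zero_smul])
    rw [← hr] at haa hx
    rw [show C.f (r • x) x = r * C.f x x by simp] at hx
    rw [show C.f (r • x) (r • x) = r * (r * C.f x x) by simp, hx, mul_one] at haa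
    exact hr0 haa
  obtain ⟨d, hdx, hda⟩ := C.exists_pair hxa
  have hdx' : C.f x d = 0 := hdx x (Submodule.mem_span_singleton_self x)
  have e : ∀ z, C.t (σ x) (τ z) = C.t x z + C.t a (D z) := fun z => by
    rw [← h, hm, C.tm_t, sm_apply, hx, one_smul]
  have h0 := congrArg (C.prA d) (e z0)
  rw [hDz, map_zero, add_zero, C.prA_t, C.prA_t, hdx', zero_smul] at h0
  have hσd : C.f (σ x) d = 0 :=
    (smul_eq_zero.1 h0).resolve_right (τ.map_ne_zero_iff.2 hz0)
  refine hD (LinearMap.ext fun z => ?_)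
  have h1 := congrArg (C.prA d) (e z)
  rw [map_add, C.prA_t, C.prA_t, C.prA_t, hσd, hdx', hda, zero_smul, zero_smul, zero_add, one_smul]
    at h1
  exact h1.symm

/-- Maximality from a generation statement. -/
theorem maximal_core {K H : Subgroup (Matrix.GeneralLinearGroup ι F)} {l : ℕ} (hd : C.Dims l)
    (hiso : ∀ g ∈ K, C.Iso (app g)) (hsq : C.Squares K)
    (hfull : C.s₁ = -1 ∨ C.s₂ = -1 → ∀ m, C.Iso m → m ∈ K.map app)
    (hH : ∀ g, g ∈ H ↔ g ∈ K ∧ C.IsTen (app g))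
    (hgen : ∀ M₀ : Subgroup (Matrix.GeneralLinearGroup ι F), M₀ ≤ K → C.LeftE (M₀.map app) →
      C.swap.LeftE (M₀.map app) → C.Found (M₀.map app) → K ≤ M₀) :
    Cfsg.Geo.IsMaximalIn K H := by
  classical
  have hHK : H ≤ K := fun g hg => ((hH g).1 hg).1
  refine Transvect.isMaximalIn_of_forall hHK ?_ fun M₀ hHM hMK g hg hgH => ?_
  · -- an element of `K` outside
    obtain ⟨hn2, hn1⟩ : 2 ≤ n₂ ∧ 3 ≤ n₁ := by
      have := hd.big
      refine ⟨by rcases hd.dimB with h | h <;> omega, ?_⟩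
      rcases hd.kind with h | h <;> omega
    have hz : ∀ v : Fin n₂ → F, v ≠ 0 → C.swap.sm v v ≠ 0 := fun v hv e => by
      obtain ⟨w, hw⟩ := C.swap.exists_dual hv
      have := LinearMap.congr_fun e w
      rw [sm_apply, hw, one_smul] at this
      exact hv this
    obtain ⟨a, b, D, ha, haa, hb, hDb, hD, hsk⟩ : ∃ (a : Fin n₁ → F) (b : Fin n₂ → F)
        (D : (Fin n₂ → F) →ₗ[F] (Fin n₂ → F)), a ≠ 0 ∧ C.f a a = 0 ∧ b ≠ 0 ∧ D b = 0 ∧ D ≠ 0 ∧
          C.Skew (C.tm (C.sm a a) D) := by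
      have hadjA : ∀ a x y, C.f (C.sm a a x) y = C.f x ((C.s₁ • C.sm a a) y) := fun a x y => by
        simp [sm_apply, C.hf a x]
        linear_combination -(C.f a x * C.f a y) * C.hs₁
      rcases hd.kind with ⟨-, h1, h2⟩ | ⟨-, h1⟩
      · obtain ⟨b, hb, hbb⟩ := exists_isotropic (C := C.swap) h2 (by
          rcases hd.dimB with h | h
          · exact h.2.1
          · exact absurd (h.1.symm.trans h2) (fun e => C.two (by linear_combination -e)))
        refine ⟨Pi.single ⟨0, by omega⟩ 1, b, C.swap.sm b b, by simp, f_self h1 _, hb,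
          by simp [sm_apply, show C.swap.f b b = 0 from hbb], hz b hb, fun x y => ?_⟩
        rw [C.adjoint_tm (hadjA _) (K' := C.swap.sm b b) (fun y z => by
          show C.g (C.g b y • b) z = C.g y (C.g b z • b)
          simp [show C.g y b = C.g b y from f_comm (C := C.swap) h2 y b, mul_comm]), h1, C.tm_smul]
        simp
      · obtain ⟨a, ha, haa⟩ := exists_isotropic h1 hn1
        rcases hd.dimB with ⟨h2, hn, -⟩ | ⟨h2, -⟩
        · obtain ⟨b, hb, hbb⟩ := exists_isotropic (C := C.swap) h2 hn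
          obtain ⟨c, hc, hbc⟩ := partner (C := C.swap) h2 hb hbb
          obtain ⟨β, hbβ, hcβ, hβ⟩ := exists_perp_aniso (C := C.swap) h2 hn hbb hc hbc
          refine ⟨a, b, C.swap.Dop b β, ha, haa, hb, ?_, fun e => ?_, fun x y => ?_⟩
          · simp [Dop_apply, hbb, (f_comm (C := C.swap) h2 β b).trans hbβ]
          · have := congrArg (C.swap.f c) (LinearMap.congr_fun e β)
            simp [Dop_apply, hbβ, hcβ, (f_comm (C := C.swap) h2 c b).trans hbc] at this
            exact hβ this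
          · rw [C.adjoint_tm (hadjA _) (K' := -C.swap.Dop b β) (fun y z => by
              rw [LinearMap.neg_apply, map_neg]; exact C.swap.skewA_Dop b β y z), h1, one_smul,
              show -C.swap.Dop b β = (-1 : F) • C.swap.Dop b β from (neg_one_smul F (C.swap.Dop b β)).symm,
              C.tm_smul_right]
            simp
        · have hb : (Pi.single ⟨0, by omega⟩ 1 : Fin n₂ → F) ≠ 0 := by simp
          have hbb := f_self (C := C.swap) h2 (Pi.single ⟨0, by omega⟩ 1)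
          refine ⟨a, _, C.swap.sm (Pi.single ⟨0, by omega⟩ 1) (Pi.single ⟨0, by omega⟩ 1), ha, haa, hb,
            by simp [sm_apply, hbb], hz _ hb, fun x y => ?_⟩
          set b : Fin n₂ → F := Pi.single ⟨0, by omega⟩ 1
          rw [C.adjoint_tm (hadjA _) (K' := (-1 : F) • C.swap.sm b b) (fun y z => by
            show C.g (C.g b y • b) z = C.g y ((-1 : F) • (C.g b z • b))
            simp [show C.g y b = -C.g b y by rw [C.hg b y, h2, neg_one_mul], mul_comm]), h1, one_smul,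
            C.tm_smul_right]
          simp
    set X := C.tm (C.sm a a) D
    have hXX : ∀ x, X (X x) = 0 := fun x => by
      rw [C.tm_comp, show (C.sm a a).comp (C.sm a a) = 0 from LinearMap.ext fun y => by
        simp [sm_apply, haa], C.tm_zero, LinearMap.zero_apply]
    have h22 := C.two
    set X2 : (ι → F) →ₗ[F] (ι → F) := (2 : F)⁻¹ • X
    have hX2 : ∀ x, X2 (X2 (X2 x)) = 0 := fun x => by simp [X2, hXX]
    set m : (ι → F) ≃ₗ[F] (ι → F) := exp2 h22 X2 hX2
    have hmx : ∀ x, m x = x + (2 : F)⁻¹ • X x := fun x => by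
      show x + X2 x + (2 : F)⁻¹ • X2 (X2 x) = _
      simp [X2, hXX]
    have hmi : C.Iso m := fun x y => by
      rw [hmx, hmx]
      simp [hsk x y, hsk x (X y), hXX]
    obtain ⟨g, hgK, hgm⟩ := hsq m hmi
    refine ⟨g, hgK, fun hgH => not_isTen ha haa hb hDb hD (fun x => ?_) ((hH g).1 hgH).2⟩
    rw [hgm, LinearEquiv.mul_apply, hmx, hmx, map_add, map_smul, hXX, smul_zero, add_zero, add_assoc,
      ← two_smul F, smul_smul, mul_inv_cancel₀ h22, one_smul]
  · -- an overgroup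
    set M := M₀.map app with hMd
    have hM : ∀ m ∈ K.map app, C.IsTen m → m ∈ M := by
      rintro _ ⟨k, hk, rfl⟩ hten
      exact ⟨k, hHM ((hH k).2 ⟨hk, hten⟩), rfl⟩
    have hl : C.LeftE M := fun a x ha hx => by
      have hx' : C.f a ((2 : F)⁻¹ • x) = 0 := by rw [map_smul, hx, smul_zero]
      refine hM _ ?_ (isTen_te _ _)
      have := hsq _ (iso_te (σ := C.eA ha hx') (τ := LinearEquiv.refl F _) (C.eA_iso ha hx')
        fun _ _ => rfl)
      rw [te_mul, eA_half ha hx hx'] at this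
      exact this
    have hr : C.swap.LeftE M := fun a x ha hx => by
      have hx' : C.swap.f a ((2 : F)⁻¹ • x) = 0 := by rw [map_smul, hx, smul_zero]
      rw [te_swap]
      refine hM _ ?_ (isTen_te _ _)
      have := hsq _ (iso_te (σ := LinearEquiv.refl F _) (τ := C.swap.eA ha hx') (fun _ _ => rfl)
        (C.swap.eA_iso ha hx'))
      rw [te_mul, eA_half (C := C.swap) ha hx hx'] at this
      exact this
    have hHyp : C.Hyp M l :=
      { iso := by rintro _ ⟨k, hk, rfl⟩; exact hiso k (hMK hk)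
        left := hl
        right := hr
        kind := hd.kind
        big := hd.big
        dimB := hd.dimB
        ne := hd.ne
        exRoot := by
          rcases hd.kind with ⟨rfl, h1, -⟩ | ⟨rfl, h1⟩
          · exact exists_root_one h1 (by have := hd.big; omega)
          · exact exists_root_two h1 (by have := hd.big; omega)
        semi := exists_semi C hsq hM (fun h2 => hfull (Or.inr h2)) hd.dimB
        refl := by
          intro hl1 τ u hu hτ
          obtain ⟨h1, h2⟩ : C.s₁ = -1 ∧ C.s₂ = 1 := by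
            rcases hd.kind with h | h
            · exact h.2
            · omega
          refine hM _ (hfull (Or.inl h1) _ (iso_te (fun _ _ => rfl) fun x y => ?_)) (isTen_te _ _)
          rw [hτ, hτ]
          simp [show C.g x u = C.g u x from f_comm (C := C.swap) h2 x u]
          field_simp
          ring }
    by_cases hF : C.Found M
    · exact hgen M₀ hMK hl hr hF
    · exact absurd ((hH g).2 ⟨hMK hg,
        isTen_of_mem hHyp (qprop_of_not_found hHyp hF) ⟨g, hg, rfl⟩⟩) hgH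

/-- The symplectic case: `p` is the standard alternating form. -/
theorem maximal_symp {m : ℕ} (C : TT (Fin m ⊕ Fin m) F n₁ n₂) {l : ℕ} (hd : C.Dims l)
    (hp : ∀ x y, C.p x y = Cfsg.sympForm m F x y) (hs : C.s₁ * C.s₂ = -1)
    {H : Subgroup (Matrix.GeneralLinearGroup (Fin m ⊕ Fin m) F)}
    (hH : ∀ g, g ∈ H ↔ g ∈ Cfsg.spGL m F ∧ C.IsTen (app g)) :
    Cfsg.Geo.IsMaximalIn (Cfsg.spGL m F) H := by
  have hall : ∀ k : ((Fin m ⊕ Fin m) → F) ≃ₗ[F] ((Fin m ⊕ Fin m) → F), C.Iso k →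
      k ∈ (Cfsg.spGL m F).map app := fun k hk => by
    obtain ⟨g, rfl⟩ := exists_gl k
    exact ⟨g, Transvect.mem_spGL_iff.2 fun x y => by rw [← hp, ← hp]; exact hk x y, rfl⟩
  have hiso : ∀ g ∈ Cfsg.spGL m F, C.Iso (app g) := fun g hg x y => by
    rw [hp, hp]; exact Transvect.mem_spGL_iff.1 hg x y
  refine maximal_core hd hiso (fun k hk => hall _ fun x y => by
    rw [LinearEquiv.mul_apply, LinearEquiv.mul_apply, hk, hk]) (fun _ => hall) hH
    fun M₀ hMK hl hr hF => ?_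
  have hM : ∀ k ∈ M₀.map app, C.Iso k := by rintro _ ⟨g, hg, rfl⟩; exact hiso g (hMK hg)
  have two' : (1 : F) ≠ -1 := fun e => C.two (by linear_combination e)
  have hcen : ∀ v, C.Cen (M₀.map app) v := by
    cases hF with
    | symp a b κ ha hb hbb hκ h1 h2 hm =>
      refine all_centres hM hl hr h1 h2 ?_ ha hb hbb hκ hm
      rcases hd.dimB with h | h
      · exact h.2.1
      · exact absurd (h2.symm.trans h.1) two'
    | symp' a b κ ha hb haa hκ h1 h2 hm =>
      refine all_centres (C := C.swap) hM hr hl h2 h1 ?_ hb ha haa hκ (by rw [tm_swap]; exact hm)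
      have := hd.big
      rcases hd.kind with h | h <;> omega
    | orthK a b γ ha haa hb hbb hbγ hγ h1 h2 hm =>
      rw [h1, h2, one_mul] at hs; exact absurd hs two'
    | orthP N hN b κ hb hbb hκ h1 h2 hm =>
      rw [h1, h2, one_mul] at hs; exact absurd hs two'
  refine Transvect.spGL_le_of_centres M₀ fun v c => ?_
  obtain ⟨_, ⟨g, hg, rfl⟩, e⟩ := hcen v (-c)
  suffices h : Transvect.st (Transvect.sympForm_isSymplectic m) v c = g by rw [h]; exact hg
  refine Transvect.gl_ext fun x => ?_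
  rw [Transvect.st_apply, e]
  simp [tvop, hp, (Transvect.sympForm_isSymplectic (F := F) m).skew v x, smul_smul]

theorem good_qV (h1 : C.s₁ = 1) (h2 : C.s₂ = 1) : Orth.Good C.qV := by
  refine Orth.Good.of_two_ne_zero ⟨fun x hx => C.pnd x fun y => ?_, fun y hy => C.pnd' fun x => ?_⟩ C.two
  · have := hx y
    rwa [QuadraticMap.polarBilin_apply_apply, polar_qV h1 h2] at this
  · have := hy x
    rwa [QuadraticMap.polarBilin_apply_apply, polar_qV h1 h2] at this

theorem sq_mem_omega (hG : Orth.Good C.qV) (g : Orth.IsoGrp C.qV) : g * g ∈ Cfsg.Omega F ⇑C.qV := by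
  rw [Orth.mem_omega_iff hG, Orth.dick_mul hG, Orth.spin_mul hG]
  refine ⟨?_, ?_⟩
  · rcases Orth.dick_eq_or g with h | h <;> rw [h] <;> norm_num
  · rcases Orth.spin_eq_or hG g with h | h <;> rw [h] <;> norm_num

/-- The orthogonal case: `p` is the polar form of `Q`. -/
theorem maximal_orth {Q : QuadraticForm F (ι → F)} {l : ℕ} (hd : C.Dims l) (h1 : C.s₁ = 1) (h2 : C.s₂ = 1)
    (hp : ∀ x y, polar ⇑Q x y = C.p x y)
    (hW : 5 ≤ n₂ ∨ ∀ u v, C.g u u = 0 → C.g v v = 0 → C.g u v = 0 → u ≠ 0 → v ∈ F ∙ u)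
    {H : Subgroup (Matrix.GeneralLinearGroup ι F)}
    (hH : ∀ g, g ∈ H ↔ g ∈ Cfsg.Geo.omegaGL ⇑Q ∧ C.IsTen (app g)) :
    Cfsg.Geo.IsMaximalIn (Cfsg.Geo.omegaGL ⇑Q) H := by
  have h22 := C.two
  have hQ : C.qV = Q := QuadraticMap.ext fun x => by
    rw [qV_apply, ← hp, QuadraticMap.polar_self, nsmul_eq_mul]
    field_simp
    norm_num
  subst hQ
  have two' : (1 : F) ≠ -1 := fun e => C.two (by linear_combination e)
  have hn : 3 ≤ n₂ := by
    rcases hd.dimB with h | h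
    · exact h.2.1
    · exact absurd (h2.symm.trans h.1) two'
  have hl2 : l = 2 := by
    rcases hd.kind with h | h
    · exact absurd (h1.symm.trans h.2.1) two'
    · exact h.1
  have h5 : 5 ≤ n₁ := by have := hd.big; omega
  have hiso : ∀ g ∈ Cfsg.Geo.omegaGL ⇑C.qV, C.Iso (app g) := by
    intro g hg x y
    obtain ⟨h, -, rfl⟩ := Orth.mem_omegaGL_iff.1 hg
    show C.p (Orth.ap h x) (Orth.ap h y) = _
    rw [← polar_qV h1 h2, ← polar_qV h1 h2, Orth.polar_ap]
  refine maximal_core hd hiso (fun k hk => ?_) (fun h => ?_) hH fun M₀ hMK hl hr hF => ?_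
  · obtain ⟨g, rfl⟩ := exists_gl k
    let g' : Orth.IsoGrp C.qV := ⟨g, fun x _ => by
      show C.qV (app g x) = C.qV x
      rw [qV_apply, qV_apply, hk]⟩
    exact ⟨g * g, Orth.mem_omegaGL_iff.2 ⟨g' * g', sq_mem_omega (good_qV h1 h2) g', rfl⟩, map_mul _ _ _⟩
  · rw [h1, h2] at h
    exact absurd h (by simp [two'])
  have hM : ∀ k ∈ M₀.map app, C.Iso k := by rintro _ ⟨g, hg, rfl⟩; exact hiso g (hMK hg)
  have hΩ : ∀ g ∈ Cfsg.Omega F ⇑C.qV, C.toLE g ∈ M₀.map app := by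
    cases hF with
    | symp a b κ ha hb hbb hκ h1' h2' hm => exact absurd (h1.symm.trans h1') two'
    | symp' a b κ ha hb haa hκ h1' h2' hm => exact absurd (h2.symm.trans h2') two'
    | orthK a b γ ha haa hb hbb hbγ hγ _ _ hm =>
      exact omega_le_of_orthK hM hl hr h1 h2 h5 hn hW ha haa hb hbb hbγ hγ hm
    | orthP N hN b κ hb hbb hκ _ _ hm =>
      exact omega_le_of_orthP hM hl hr h1 h2 h5 hn hW hN hb hbb hκ hm
  intro x hx
  obtain ⟨h, hh, rfl⟩ := Orth.mem_omegaGL_iff.1 hx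
  obtain ⟨g, hg, e⟩ := hΩ h hh
  rwa [← show g = (h : Matrix.GeneralLinearGroup ι F) from
    Transvect.gl_ext fun v => LinearEquiv.congr_fun e v]

end TT

/-! ### tensor structures given by matrices -/

/-- A tensor structure of forms as a `TT`. -/
def ofTP (e : ι ≃ Fin n₁ × Fin n₂) (P : Matrix.GeneralLinearGroup ι F)
    {f₁ : (Fin n₁ → F) → (Fin n₁ → F) → F} {f₂ : (Fin n₂ → F) → (Fin n₂ → F) → F}
    (hf₁ : Geo.IsBilinearForm f₁) (hf₂ : Geo.IsBilinearForm f₂) (p : (ι → F) →ₗ[F] (ι → F) →ₗ[F] F)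
    (s₁ s₂ c : F) (hc : c ≠ 0) (two : (2 : F) ≠ 0) (hs₁ : s₁ * s₁ = 1) (hs₂ : s₂ * s₂ = 1)
    (h₁ : ∀ a a', f₁ a' a = s₁ * f₁ a a') (h₂ : ∀ b b', f₂ b' b = s₂ * f₂ b b')
    (n₁' : Geo.IsNondegenerateForm f₁) (n₂' : Geo.IsNondegenerateForm f₂)
    (hp : ∀ x, (∀ y, p x y = 0) → x = 0)
    (htp : ∀ a w a' w', p (tp e P a w) (tp e P a' w') = c * (f₁ a a' * f₂ w w')) :
    TT ι F n₁ n₂ where
  t := tp e P
  p := p
  f := c • flin₂ hf₁
  g := flin₂ hf₂
  s₁ := s₁
  s₂ := s₂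
  hf a a' := by simp [flin₂, h₁ a a']; ring
  hg b b' := h₂ b b'
  hs₁ := hs₁
  hs₂ := hs₂
  two := two
  fnd a h := by
    by_contra ha
    obtain ⟨-, y, hy⟩ := n₁' a ha
    exact hy ((mul_eq_zero.1 (by simpa [flin₂] using h y)).resolve_left hc)
  gnd b h := by
    by_contra hb
    obtain ⟨-, y, hy⟩ := n₂' b hb
    exact hy (h y)
  pnd := hp
  pol a b a' b' := by rw [htp, ← mul_assoc]; rfl
  spn := C4.span_tp e P

theorem mem_tensor_iff (C : TT ι F n₁ n₂) (e : ι ≃ Fin n₁ × Fin n₂) (P : Matrix.GeneralLinearGroup ι F)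
    (ht : C.t = tp e P) (g : Matrix.GeneralLinearGroup ι F) :
    g ∈ Geo.tensorProductSubgroup n₁ n₂ e P ↔ C.IsTen (app g) := by
  refine ⟨fun hg => ?_, ?_⟩
  · obtain ⟨A, B, h⟩ := exists_app_tp hg
    exact ⟨app A, app B, fun a y => by rw [ht]; exact h a y⟩
  rintro ⟨σ, τ, hg⟩
  obtain ⟨A, rfl⟩ := exists_gl σ
  obtain ⟨B, rfl⟩ := exists_gl τ
  let T : Matrix.GeneralLinearGroup ι F := Units.map (PrimeDim.cj P).toMonoidHom
    ⟨Aschbacher.tens e (A : Matrix (Fin n₁) (Fin n₁) F) (B : Matrix (Fin n₂) (Fin n₂) F),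
      Aschbacher.tens e ((A⁻¹ : Matrix.GeneralLinearGroup (Fin n₁) F) : Matrix (Fin n₁) (Fin n₁) F)
        ((B⁻¹ : Matrix.GeneralLinearGroup (Fin n₂) F) : Matrix (Fin n₂) (Fin n₂) F),
      by rw [Aschbacher.tens_mul, Units.mul_inv, Units.mul_inv, Aschbacher.tens_one],
      by rw [Aschbacher.tens_mul, Units.inv_mul, Units.inv_mul, Aschbacher.tens_one]⟩
  have hT' : g = T := by
    refine Transvect.gl_ext fun x => LinearMap.congr_fun (f := (app g).toLinearMap)
      (g := (app T).toLinearMap) (Orth.tp_basis_ext e P fun a b => ?_) x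
    have h1 := Orth.app_tp_of_eq (e := e) (P := P) (T := T) (A := A) (B := B) rfl
      (Pi.single a 1) (Pi.single b 1)
    rw [← ht] at h1 ⊢
    exact (hg (Pi.single a 1) (Pi.single b 1)).trans h1.symm
  rw [hT', Aschbacher.mem_tensorProductSubgroup_iff]
  exact ⟨A, B, rfl⟩

theorem two_ne_zero_of_odd (hodd : Odd (Fintype.card F)) : (2 : F) ≠ 0 := fun h => by
  obtain ⟨k, hk⟩ := hodd
  have := FiniteField.cast_card_eq_zero F
  rw [hk] at this
  push_cast at this
  rw [h, zero_mul, zero_add] at this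
  exact one_ne_zero this

/-- `3 < q` for odd `q ≠ 3`. -/
theorem three_lt_of_odd (hodd : Odd (Fintype.card F)) (h : Fintype.card F ≠ 3) : 3 < Fintype.card F := by
  have := Fintype.one_lt_card (α := F)
  obtain ⟨k, hk⟩ := hodd
  omega

/-- `Sp ⊗ O` in `Sp`. -/
theorem maximal_sp_orth (m : ℕ) (hm : 5 ≤ m) (hodd : Odd (Fintype.card F)) (hn₂ : 3 ≤ n₂)
    (hex : ¬ (Fintype.card F = 3 ∧ n₂ = 3)) (e : (Fin m ⊕ Fin m) ≃ Fin n₁ × Fin n₂)
    (P : Matrix.GeneralLinearGroup (Fin m ⊕ Fin m) F) {f₁ : (Fin n₁ → F) → (Fin n₁ → F) → F}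
    {f₂ : (Fin n₂ → F) → (Fin n₂ → F) → F} (hf₁ : Geo.IsSymplecticForm f₁)
    (hf₂ : Geo.IsSymmetricForm f₂) (hT : Geo.IsTensorFormStructure id (Cfsg.sympForm m F) f₁ f₂ e P) :
    Geo.IsMaximalIn (Cfsg.spGL m F) (Geo.tensorProductSubgroup n₁ n₂ e P ⊓ Cfsg.spGL m F) := by
  have h2 := two_ne_zero_of_odd hodd
  obtain ⟨c, hc, htp⟩ := Transvect.form_tp (σ := id) (fun _ _ => rfl)
    (Aschbacher.FrameThree.fog_eq hf₁.bilinear) (Aschbacher.FrameThree.fog_eq hf₂.bilinear) hT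
  have hsf := Transvect.sympForm_isSymplectic (F := F) m
  let C := ofTP e P hf₁.bilinear hf₂.bilinear (Transvect.flin hsf.bilinear).flip (-1) 1 c hc h2
    (by ring) (one_mul 1) (fun a a' => by rw [hf₁.skew a' a, neg_one_mul])
    (fun b b' => by rw [one_mul, hf₂.symm b' b]) hf₁.nondegenerate hf₂.nondegenerate
    (fun x hx => by
      by_contra hne
      obtain ⟨-, y, hy⟩ := hsf.nondegenerate x hne
      exact hy (hx y))
    (fun a w a' w' => htp a w a' w')
  have hn : n₁ * n₂ = m + m := by simpa using (Fintype.card_congr e).symm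
  obtain ⟨k, hk⟩ := C4.even_of_symplectic hf₁
  have hH : ∀ g, g ∈ Geo.tensorProductSubgroup n₁ n₂ e P ⊓ Cfsg.spGL m F ↔
      g ∈ Cfsg.spGL m F ∧ C.IsTen (app g) := fun g => by
    rw [Subgroup.mem_inf, mem_tensor_iff C e P rfl, and_comm]
  have hq : 4 ≤ n₂ ∨ 3 < Fintype.card F := by
    by_cases h : 4 ≤ n₂
    · exact Or.inl h
    · exact Or.inr (three_lt_of_odd hodd fun h3 => hex ⟨h3, by omega⟩)
  by_cases h4 : 4 ≤ n₁
  · exact TT.maximal_symp C (l := 1)
      ⟨Or.inl ⟨rfl, rfl, rfl⟩, by omega, Or.inl ⟨rfl, hn₂, hq⟩, fun h => absurd h (by norm_num)⟩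
      (fun x y => rfl) (mul_one _) hH
  · have h1 : n₁ = 2 := by
      rcases Nat.eq_zero_or_pos n₁ with h | h
      · rw [h, zero_mul] at hn; omega
      · omega
    subst h1
    refine TT.maximal_symp C.swap (l := 2)
      ⟨Or.inr ⟨rfl, rfl⟩, by omega, Or.inr ⟨rfl, rfl⟩, fun _ => by omega⟩
      (fun x y => rfl) (one_mul _) fun g => ?_
    rw [hH, TT.isTen_swap]

/-- `O ⊗ O` in `Ω`. -/
theorem maximal_orth_orth {Q : QuadraticForm F (ι → F)} (hG : Orth.Good Q) (hodd : Odd (Fintype.card F))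
    (hcard : 13 ≤ Fintype.card ι) (h1 : 3 ≤ n₁) (h2 : 3 ≤ n₂) (hne : n₁ ≠ n₂) (h1o : Odd n₁)
    (hex₁ : ¬ (Fintype.card F = 3 ∧ n₁ = 3)) (e : ι ≃ Fin n₁ × Fin n₂)
    (P : Matrix.GeneralLinearGroup ι F) {f₁ : (Fin n₁ → F) → (Fin n₁ → F) → F}
    {f₂ : (Fin n₂ → F) → (Fin n₂ → F) → F} (hf₁ : Geo.IsSymmetricForm f₁)
    (hf₂ : Geo.IsSymmetricForm f₂) (hT : Geo.IsTensorFormStructure id (polar ⇑Q) f₁ f₂ e P)
    (hside : n₁ < n₂ ∨ (5 ≤ n₁ ∧ (5 ≤ n₂ ∨ (n₂ = 4 ∧
      ¬ Geo.IsPlusTypeOn (fun v : Fin n₂ → F => f₂ v v) ⊤)))) :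
    Geo.IsMaximalIn (Geo.omegaGL ⇑Q) (Geo.tensorProductSubgroup n₁ n₂ e P ⊓ Geo.omegaGL ⇑Q) := by
  have h22 := two_ne_zero_of_odd hodd
  obtain ⟨c, hc, htp⟩ := Transvect.form_tp (σ := id) (fun _ _ => rfl)
    (Aschbacher.FrameThree.fog_eq hf₁.bilinear) (Aschbacher.FrameThree.fog_eq hf₂.bilinear) hT
  let C := ofTP e P hf₁.bilinear hf₂.bilinear Q.polarBilin 1 1 c hc h22 (one_mul 1) (one_mul 1)
    (fun a a' => by rw [one_mul, hf₁.symm a' a]) (fun b b' => by rw [one_mul, hf₂.symm b' b])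
    hf₁.nondegenerate hf₂.nondegenerate hG.nd.1 (fun a w a' w' => htp a w a' w')
  have hn : n₁ * n₂ = Fintype.card ι := by simpa using (Fintype.card_congr e).symm
  have hH : ∀ g, g ∈ Geo.tensorProductSubgroup n₁ n₂ e P ⊓ Geo.omegaGL ⇑Q ↔
      g ∈ Geo.omegaGL ⇑Q ∧ C.IsTen (app g) := fun g => by
    rw [Subgroup.mem_inf, mem_tensor_iff C e P rfl, and_comm]
  rcases hside with hlt | ⟨h5, hB⟩
  · -- the second factor is on the left
    have h5 : 5 ≤ n₂ := by
      by_contra hh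
      have := Nat.mul_le_mul (show n₁ ≤ 3 by omega) (show n₂ ≤ 4 by omega)
      omega
    have hq : 4 ≤ n₁ ∨ 3 < Fintype.card F := by
      by_cases h : 4 ≤ n₁
      · exact Or.inl h
      · exact Or.inr (three_lt_of_odd hodd fun h3 => hex₁ ⟨h3, by omega⟩)
    refine TT.maximal_orth (C := C.swap) (l := 2)
      ⟨Or.inr ⟨rfl, rfl⟩, by omega, Or.inl ⟨rfl, h1, hq⟩, fun _ => hne.symm⟩ rfl rfl (fun x y => rfl)
      ?_ fun g => by rw [hH, TT.isTen_swap]
    by_cases h : 5 ≤ n₁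
    · exact Or.inl h
    · refine Or.inr (TT.no_plane (C := C) rfl ?_)
      obtain ⟨k, hk⟩ := h1o; omega
  · have hq : 4 ≤ n₂ ∨ 3 < Fintype.card F := Or.inl (by omega)
    refine TT.maximal_orth (C := C) (l := 2)
      ⟨Or.inr ⟨rfl, rfl⟩, by omega, Or.inl ⟨rfl, h2, hq⟩, fun _ => hne⟩ rfl rfl (fun x y => rfl)
      ?_ hH
    rcases hB with hB | ⟨h4, hminus⟩
    · exact Or.inl hB
    refine Or.inr fun u v hu hv huv hu0 => ?_
    by_contra hne'
    have hli : LinearIndependent F ![u, v] := by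
      rw [LinearIndependent.pair_iff' hu0]
      exact fun a ha => hne' (Submodule.mem_span_singleton.2 ⟨a, ha⟩)
    refine hminus ⟨Submodule.span F (Set.range ![u, v]), le_top, fun w hw => ?_, ?_⟩
    · obtain ⟨a, rfl⟩ := (Submodule.mem_span_range_iff_exists_fun F).1 hw
      have hu' : f₂ u u = 0 := hu
      have hv' : f₂ v v = 0 := hv
      have huv' : f₂ u v = 0 := huv
      show f₂ _ _ = 0
      simp [Fin.sum_univ_two, hf₂.bilinear.add_left, hf₂.bilinear.add_right, hf₂.bilinear.smul_left,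
        hf₂.bilinear.smul_right, hu', hv', huv', hf₂.symm v u]
    · rw [finrank_span_eq_card hli, finrank_top, Module.finrank_fin_fun, Fintype.card_fin]
      omega

end Cfsg.Agent.TenForm
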