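import Cfsg.Agent.Lib.C4.TenQuad
import Cfsg.Agent.Lib.C4.SympScalar

/-!
# An overgroup meets the long root part of a ruling stabiliser in the tensor part only

* `Hyp`, `InM`, `QProp`
* `Found` : a root element outside the tensor stabiliser
* `qprop_of_not_found`
-/

set_option autoImplicit false
set_option linter.unusedSectionVars false
set_option linter.unusedSimpArgs false

namespace Cfsg.Agent.TenForm

open Module

variable {ι : Type} [Fintype ι] [DecidableEq ι] {F : Type*} [Field F] [Fintype F] {n₁ n₂ : ℕ}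

namespace TT

variable (C : TT ι F n₁ n₂) (M : Subgroup ((ι → F) ≃ₗ[F] (ι → F)))

/-- `1 + X` is in `M`. -/
def InM (X : (ι → F) →ₗ[F] (ι → F)) : Prop := ∃ m ∈ M, ∀ x, m x = x + X x

/-- The standing hypotheses. -/
structure Hyp (l : ℕ) : Prop where
  iso : ∀ m ∈ M, C.Iso m
  left : C.LeftE M
  right : C.swap.LeftE M
  kind : (l = 1 ∧ C.s₁ = -1 ∧ C.s₂ = 1) ∨ (l = 2 ∧ C.s₁ = 1)
  big : 2 * l < n₁
  dimB : (C.s₂ = 1 ∧ 3 ≤ n₂ ∧ (4 ≤ n₂ ∨ 3 < Fintype.card F)) ∨ (C.s₂ = -1 ∧ n₂ = 2)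
  ne : l = 2 → n₁ ≠ n₂
  exRoot : ∃ N, C.Root l N
  semi : ∃ S : Set ((Fin n₂ → F) ≃ₗ[F] (Fin n₂ → F)),
    (∀ τ ∈ S, C.te (LinearEquiv.refl F _) τ ∈ M ∧ ∀ z, τ (τ (τ (τ z))) = z) ∧
    (∀ K : (Fin n₂ → F) →ₗ[F] (Fin n₂ → F), (∀ τ ∈ S, ∀ z, K (τ z) = τ (K z)) →
      ∃ r : F, K = r • LinearMap.id) ∧
    (∀ τ ∈ S, ∀ β : (Fin n₂ → F) ≃ₗ[F] (Fin n₂ → F), ∀ ν : F, ν ≠ 0 →
      (∀ y z, C.g (β y) (β z) = ν * C.g y z) → (β.symm.trans τ).trans β ∈ S)
  refl : l = 1 → ∀ (τ : (Fin n₂ → F) ≃ₗ[F] (Fin n₂ → F)) (u : Fin n₂ → F), C.g u u ≠ 0 →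
    (∀ z, τ z = z - (2 * C.g u z / C.g u u) • u) → C.te (LinearEquiv.refl F _) τ ∈ M

/-- The long root part of the stabiliser of each root ruling is in the tensor part. -/
def QProp (l : ℕ) : Prop :=
  ∀ N, C.Root l N → ∀ X : (ι → F) →ₗ[F] (ι → F), C.Skew X →
    LinearMap.range X ≤ LinearMap.range (C.tm N LinearMap.id) →
    LinearMap.ker (C.tm N LinearMap.id) ≤ LinearMap.ker X → InM M X →
    ∃ r : F, X = r • C.tm N LinearMap.id

/-- A root element outside the tensor stabiliser. -/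
inductive Found : Prop
  | symp (a : Fin n₁ → F) (b : Fin n₂ → F) (κ : F) (ha : a ≠ 0) (hb : b ≠ 0) (hbb : C.g b b = 0)
      (hκ : κ ≠ 0) (h1 : C.s₁ = -1) (h2 : C.s₂ = 1)
      (hm : InM M (κ • C.tm (C.sm a a) (C.swap.sm b b)))
  | symp' (a : Fin n₁ → F) (b : Fin n₂ → F) (κ : F) (ha : a ≠ 0) (hb : b ≠ 0) (haa : C.f a a = 0)
      (hκ : κ ≠ 0) (h1 : C.s₁ = 1) (h2 : C.s₂ = -1)
      (hm : InM M (κ • C.tm (C.sm a a) (C.swap.sm b b)))
  | orthK (a : Fin n₁ → F) (b γ : Fin n₂ → F) (ha : a ≠ 0) (haa : C.f a a = 0) (hb : b ≠ 0)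
      (hbb : C.g b b = 0) (hbγ : C.g b γ = 0) (hγ : γ ∉ F ∙ b) (h1 : C.s₁ = 1) (h2 : C.s₂ = 1)
      (hm : InM M (C.tm (C.sm a a) (C.swap.Dop b γ)))
  | orthP (N : (Fin n₁ → F) →ₗ[F] (Fin n₁ → F)) (hN : C.Root 2 N) (b : Fin n₂ → F) (κ : F)
      (hb : b ≠ 0) (hbb : C.g b b = 0) (hκ : κ ≠ 0) (h1 : C.s₁ = 1) (h2 : C.s₂ = 1)
      (hm : InM M (κ • C.tm N (C.swap.sm b b)))

variable {C M}

theorem InM.add {X Y : (ι → F) →ₗ[F] (ι → F)} (hX : InM M X) (hY : InM M Y) (h : ∀ x, X (Y x) = 0) :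
    InM M (X + Y) := by
  obtain ⟨m, hm, e⟩ := hX; obtain ⟨m', hm', e'⟩ := hY
  exact ⟨m * m', mul_mem hm hm', fun x => by
    rw [LinearEquiv.mul_apply, e', e, map_add, h, LinearMap.add_apply]; abel⟩

theorem InM.neg {X : (ι → F) →ₗ[F] (ι → F)} (hX : InM M X) (h : ∀ x, X (X x) = 0) : InM M (-X) := by
  obtain ⟨m, hm, e⟩ := hX
  refine ⟨m⁻¹, inv_mem hm, fun x => m.injective ?_⟩
  rw [← LinearEquiv.mul_apply, mul_inv_cancel, LinearEquiv.coe_one, id_eq, e, LinearMap.neg_apply,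
    map_add, map_neg, h]
  abel

theorem InM.zero : InM M (0 : (ι → F) →ₗ[F] (ι → F)) := ⟨1, one_mem M, fun x => by simp⟩

variable (C M) in
/-- The operators `N ⊗ K` in `M`, for a fixed square-zero `N` and `K` with a given property. -/
def kset (N : (Fin n₁ → F) →ₗ[F] (Fin n₁ → F)) (hN : ∀ z, N (N z) = 0)
    (P : AddSubgroup ((Fin n₂ → F) →ₗ[F] (Fin n₂ → F))) :
    AddSubgroup ((Fin n₂ → F) →ₗ[F] (Fin n₂ → F)) where
  carrier := {K | K ∈ P ∧ InM M (C.tm N K)}
  zero_mem' := ⟨P.zero_mem, by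
    rw [show C.tm N 0 = 0 from C.ext_pure fun a b => by simp [C.tm_t]]; exact InM.zero⟩
  add_mem' := fun {K K'} hK hK' => ⟨P.add_mem hK.1 hK'.1, by
    rw [C.tm_add_right]
    exact hK.2.add hK'.2 fun x => by
      rw [C.tm_comp, show N.comp N = 0 from LinearMap.ext hN, C.tm_zero, LinearMap.zero_apply]⟩
  neg_mem' := fun {K} hK => ⟨P.neg_mem hK.1, by
    rw [show C.tm N (-K) = -C.tm N K from C.ext_pure fun a b => by simp [C.tm_t]]
    exact hK.2.neg fun x => by
      rw [C.tm_comp, show N.comp N = 0 from LinearMap.ext hN, C.tm_zero, LinearMap.zero_apply]⟩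

variable (C) in
/-- Skew operators of the right factor. -/
def skewB : AddSubgroup ((Fin n₂ → F) →ₗ[F] (Fin n₂ → F)) where
  carrier := {K | C.swap.SkewA K}
  zero_mem' := fun x y => by simp
  add_mem' := fun {K K'} h h' x y => by simp [h x y, h' x y]; abel
  neg_mem' := fun {K} h x y => by simp [h x y]

variable (C) in
/-- Self-adjoint operators of the right factor. -/
def selfB : AddSubgroup ((Fin n₂ → F) →ₗ[F] (Fin n₂ → F)) where
  carrier := {K | C.swap.SelfA K}
  zero_mem' := fun x y => by simp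
  add_mem' := fun {K K'} h h' x y => by simp [h x y, h' x y]
  neg_mem' := fun {K} h x y => by simp [h x y]

theorem skewA_cjA {σ : (Fin n₁ → F) ≃ₗ[F] (Fin n₁ → F)} (hσ : ∀ u v, C.f (σ u) (σ v) = C.f u v)
    {K : (Fin n₁ → F) →ₗ[F] (Fin n₁ → F)} (h : C.SkewA K) : C.SkewA (cjA σ K) := fun x y => by
  obtain ⟨x, rfl⟩ := σ.surjective x; obtain ⟨y, rfl⟩ := σ.surjective y
  simp [cjA_apply, hσ, h x y]

theorem selfA_cjA {σ : (Fin n₁ → F) ≃ₗ[F] (Fin n₁ → F)} (hσ : ∀ u v, C.f (σ u) (σ v) = C.f u v)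
    {K : (Fin n₁ → F) →ₗ[F] (Fin n₁ → F)} (h : C.SelfA K) : C.SelfA (cjA σ K) := fun x y => by
  obtain ⟨x, rfl⟩ := σ.surjective x; obtain ⟨y, rfl⟩ := σ.surjective y
  simp [cjA_apply, hσ, h x y]

theorem iso_symm_eA {a x : Fin n₁ → F} (ha : C.f a a = 0) (hx : C.f a x = 0) (u v : Fin n₁ → F) :
    C.f ((C.eA ha hx).symm u) ((C.eA ha hx).symm v) = C.f u v := by
  rw [← C.eA_iso ha hx, LinearEquiv.apply_symm_apply, LinearEquiv.apply_symm_apply]

theorem te_symm (σ : (Fin n₁ → F) ≃ₗ[F] (Fin n₁ → F)) (τ : (Fin n₂ → F) ≃ₗ[F] (Fin n₂ → F)) :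
    (C.te σ τ).symm = C.te σ.symm τ.symm :=
  C.eq_te fun a z => (C.te σ τ).injective (by simp [C.te_t])

theorem InM.te {σ : (Fin n₁ → F) ≃ₗ[F] (Fin n₁ → F)} {τ : (Fin n₂ → F) ≃ₗ[F] (Fin n₂ → F)}
    (hte : C.te σ τ ∈ M) {X : (ι → F) →ₗ[F] (ι → F)} (hX : InM M X) :
    InM M ((C.te σ τ).toLinearMap.comp (X.comp (C.te σ τ).symm.toLinearMap)) := by
  obtain ⟨m, hm, e⟩ := hX
  refine ⟨C.te σ τ * m * (C.te σ τ)⁻¹, mul_mem (mul_mem hte hm) (inv_mem hte), fun x => ?_⟩
  show C.te σ τ (m ((C.te σ τ).symm x)) = _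
  rw [e, map_add, LinearEquiv.apply_symm_apply]; rfl

theorem cj_te_tm (σ : (Fin n₁ → F) ≃ₗ[F] (Fin n₁ → F)) (τ : (Fin n₂ → F) ≃ₗ[F] (Fin n₂ → F))
    (N : (Fin n₁ → F) →ₗ[F] (Fin n₁ → F)) (K : (Fin n₂ → F) →ₗ[F] (Fin n₂ → F)) :
    (C.te σ τ).toLinearMap.comp ((C.tm N K).comp (C.te σ τ).symm.toLinearMap) =
      C.tm (cjA σ N) (cjA τ K) :=
  C.ext_pure fun a z => by simp [te_symm, C.te_t, C.tm_t, cjA_apply]

theorem cjA_refl (K : (Fin n₁ → F) →ₗ[F] (Fin n₁ → F)) : cjA (LinearEquiv.refl F _) K = K := rfl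

theorem LeftE.swap_mem (h : C.swap.LeftE M) (a x : Fin n₂ → F) (ha : C.g a a = 0) (hx : C.g a x = 0) :
    C.te (LinearEquiv.refl F _) (C.swap.eA ha hx) ∈ M := by
  rw [← C.te_swap]; exact h a x ha hx

theorem estable_kset {l : ℕ} (H : C.Hyp M l) {N : (Fin n₁ → F) →ₗ[F] (Fin n₁ → F)}
    (hN : ∀ z, N (N z) = 0) (P : AddSubgroup ((Fin n₂ → F) →ₗ[F] (Fin n₂ → F)))
    (hP : ∀ τ : (Fin n₂ → F) ≃ₗ[F] (Fin n₂ → F), (∀ u v, C.g (τ u) (τ v) = C.g u v) →
      ∀ K ∈ P, cjA τ K ∈ P) : C.swap.EStable (C.kset M N hN P) := by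
  intro a x ha hx K hK
  have h0 := LeftE.swap_mem H.right a x ha hx
  refine ⟨⟨hP _ (C.swap.eA_iso ha hx) K hK.1, ?_⟩, ⟨hP _ (iso_symm_eA ha hx) K hK.1, ?_⟩⟩
  · have := hK.2.te h0
    rwa [cj_te_tm, cjA_refl] at this
  · have := hK.2.te (σ := LinearEquiv.refl F _) (τ := (C.swap.eA ha hx).symm) (by
      rw [show C.te (LinearEquiv.refl F _) (C.swap.eA ha hx).symm =
        (C.te (LinearEquiv.refl F _) (C.swap.eA ha hx))⁻¹ from (te_symm (LinearEquiv.refl F _) _).symm]
      exact inv_mem h0)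
    rwa [cj_te_tm, cjA_refl] at this

theorem scalar_of_self_alt (h2 : C.s₁ = -1) (hn : n₁ = 2) {K : (Fin n₁ → F) →ₗ[F] (Fin n₁ → F)}
    (h : C.SelfA K) : ∃ r : F, K = r • LinearMap.id := by
  refine C4.scalar_of_lines K fun u => ?_
  have h0 : C.f u (K u) = 0 := by
    have e1 := h u u
    rw [C.hf u (K u), h2] at e1
    exact (mul_eq_zero.1 (show (2 : F) * C.f u (K u) = 0 by linear_combination -e1)).resolve_left C.two
  by_contra hne
  have hu0 : u ≠ 0 := fun e => hne (by rw [e, map_zero]; exact Submodule.zero_mem _)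
  have hli : LinearIndependent F ![u, K u] := by
    rw [LinearIndependent.pair_iff' hu0]
    exact fun a ha => hne (Submodule.mem_span_singleton.2 ⟨a, ha⟩)
  have htop : Submodule.span F (Set.range ![u, K u]) = ⊤ :=
    hli.span_eq_top_of_card_eq_finrank (by simp [hn])
  refine hu0 (C.fnd u fun z => ?_)
  have : C.f u = 0 := LinearMap.ext_on_range htop fun i => by
    fin_cases i
    · have := C.hf u u
      rw [h2] at this
      simpa using (mul_eq_zero.1 (show (2 : F) * C.f u u = 0 by linear_combination this)).resolve_left C.two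
    · simpa using h0
  rw [this, LinearMap.zero_apply]

/-- The four-block operators on `⟨a, b⟩ ⊗ B`. -/
noncomputable def blk (C : TT ι F n₁ n₂) (a b : Fin n₁ → F) (P Q R S : (Fin n₂ → F) →ₗ[F] (Fin n₂ → F)) :
    (ι → F) →ₗ[F] (ι → F) :=
  C.tm (C.sm a a) P + C.tm (C.sm a b) Q + C.tm (C.sm b a) R + C.tm (C.sm b b) S

theorem blk_sq {a b : Fin n₁ → F} (haa : C.f a a = 0) (hab : C.f a b = 0) (hbb : C.f b b = 0)
    (P Q R S P' Q' R' S' : (Fin n₂ → F) →ₗ[F] (Fin n₂ → F)) (x : ι → F) :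
    C.blk a b P Q R S (C.blk a b P' Q' R' S' x) = 0 := by
  have hz : ∀ u v w z : Fin n₁ → F, C.f v w = 0 → ∀ K K', C.tm (C.sm u v) K (C.tm (C.sm w z) K' x) = 0 :=
    fun u v w z h K K' => by
      rw [C.tm_comp, show (C.sm u v).comp (C.sm w z) = 0 from LinearMap.ext fun y => by
        simp [sm_apply, h], C.tm_zero, LinearMap.zero_apply]
  simp [blk, map_add, hz _ _ _ _ haa, hz _ _ _ _ hab, hz _ _ _ _ hbb, hz _ _ _ _ (C.f_zero_comm hab)]

theorem cjA_symm_sm {σ : (Fin n₁ → F) ≃ₗ[F] (Fin n₁ → F)} (hσ : ∀ u v, C.f (σ u) (σ v) = C.f u v)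
    (b a : Fin n₁ → F) : cjA σ.symm (C.sm b a) = C.sm (σ.symm b) (σ.symm a) :=
  cjA_sm (fun u v => by rw [← hσ, σ.apply_symm_apply, σ.apply_symm_apply]) b a

theorem Root.symm_pair {a b : Fin n₁ → F} (h1 : C.s₁ = 1) : C.Dop b a = -C.Dop a b :=
  LinearMap.ext fun z => by simp [Dop_apply, h1]

theorem Root.indep {a b : Fin n₁ → F} (h1 : C.s₁ = 1) (h : finrank F (LinearMap.range (C.Dop a b)) = 2) :
    LinearIndependent F ![a, b] := by
  rw [linearIndependent_iff_card_eq_finrank_span]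
  refine le_antisymm ?_ (finrank_range_le_card ![a, b])
  have hle : LinearMap.range (C.Dop a b) ≤ Submodule.span F (Set.range ![a, b]) := by
    rintro _ ⟨z, rfl⟩
    rw [Dop_apply]
    exact Submodule.sub_mem _ (Submodule.smul_mem _ _ (Submodule.subset_span ⟨0, rfl⟩))
      (Submodule.smul_mem _ _ (Submodule.subset_span ⟨1, rfl⟩))
  have := Submodule.finrank_mono hle
  rw [h] at this
  rw [Fintype.card_fin]
  exact this

theorem exists_dual_pair {a b : Fin n₁ → F} (h : LinearIndependent F ![a, b]) :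
    ∃ c, C.f a c = 1 ∧ C.f b c = 0 := by
  obtain ⟨c, hc, hc1⟩ := C.exists_pair (W := F ∙ b) (a := a) fun hm => by
    obtain ⟨r, hr⟩ := Submodule.mem_span_singleton.1 hm
    have := LinearIndependent.pair_iff.1 h 1 (-r) (by rw [one_smul, neg_smul, hr, add_neg_cancel])
    exact one_ne_zero this.1
  exact ⟨c, hc1, hc b (Submodule.mem_span_singleton_self b)⟩

theorem Root.exists_one (h1 : C.s₁ = -1) {N : (Fin n₁ → F) →ₗ[F] (Fin n₁ → F)} (h : C.Root 1 N) :
    ∃ a, ∃ r : F, r ≠ 0 ∧ a ≠ 0 ∧ C.f a a = 0 ∧ N = r • C.sm a a := by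
  obtain ⟨a, b, ha, hab, hb, rfl, hl⟩ := h
  by_cases hli : LinearIndependent F ![a, b]
  · exfalso
    obtain ⟨c, hc, hc'⟩ := exists_dual_pair (C := C) hli
    obtain ⟨d, hd, hd'⟩ := exists_dual_pair (C := C) (LinearIndependent.pair_symm_iff.1 hli)
    have hle : Submodule.span F (Set.range ![a, b]) ≤ LinearMap.range (C.Dop a b) := by
      rw [Submodule.span_le]
      rintro _ ⟨i, rfl⟩
      fin_cases i
      · exact ⟨d, by simp [Dop_apply, hd, hd']⟩
      · exact ⟨c, by simp [Dop_apply, hc, hc', h1]⟩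
    have := Submodule.finrank_mono hle
    rw [finrank_span_eq_card hli, Fintype.card_fin, hl] at this
    omega
  have hne : C.Dop a b ≠ 0 := fun e => by rw [e, LinearMap.range_zero, finrank_bot] at hl; omega
  by_cases ha0 : a = 0
  · exact absurd (LinearMap.ext fun z => by simp [Dop_apply, ha0]) hne
  obtain ⟨r, rfl⟩ : ∃ r : F, r • a = b := by
    rw [LinearIndependent.pair_iff' ha0] at hli
    push Not at hli
    exact hli
  refine ⟨a, 2 * r, ?_, ha0, ha, LinearMap.ext fun z => by simp [Dop_apply, sm_apply, h1]; module⟩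
  intro h0
  have hr := (mul_eq_zero.1 h0).resolve_left C.two
  exact hne (LinearMap.ext fun z => by simp [Dop_apply, hr])

theorem eq_tm_of_kill {X : (ι → F) →ₗ[F] (ι → F)} {N : (Fin n₁ → F) →ₗ[F] (Fin n₁ → F)}
    (hk : LinearMap.ker (C.tm N LinearMap.id) ≤ LinearMap.ker X) {c c' : Fin n₁ → F} (h : N c = N c')
    (y : Fin n₂ → F) : X (C.t c y) = X (C.t c' y) := by
  refine sub_eq_zero.1 ?_
  rw [← map_sub]
  exact hk (by rw [LinearMap.mem_ker, map_sub, C.tm_t, C.tm_t, h, sub_self])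

/-- No root element outside the tensor part means `QProp`. -/
theorem qprop_of_not_found {l : ℕ} (H : C.Hyp M l) (hF : ¬ C.Found M) : C.QProp M l := by
  intro N hN X hsk hr hk hX
  have hNsq := hN.sq
  rcases H.kind with ⟨rfl, h1, h2⟩ | ⟨rfl, h1⟩
  · -- a line
    obtain ⟨a, r, hr0, ha0, ha, rfl⟩ := hN.exists_one h1
    obtain ⟨c, hc⟩ := C.exists_dual ha0
    set K : (Fin n₂ → F) →ₗ[F] (Fin n₂ → F) := (C.prA c).comp (X.comp (C.t c)) with hKdef
    have hXt : ∀ z y, X (C.t z y) = C.t (C.f a z • a) (K y) := by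
      intro z y
      rw [eq_tm_of_kill hk (c' := C.f a z • c) (by simp [sm_apply, hc, smul_comm r]), map_smul, LinearMap.smul_apply,
        map_smul, map_smul, LinearMap.smul_apply]
      congr 1
      obtain ⟨w, hw⟩ := hr ⟨C.t c y, rfl⟩
      have : ∀ w, C.tm (r • C.sm a a) LinearMap.id w =
          C.t a (C.prA c (C.tm (r • C.sm a a) LinearMap.id w)) := fun w =>
        LinearMap.congr_fun (C.ext_pure (L := C.tm (r • C.sm a a) LinearMap.id)
          (L' := (C.t a).comp ((C.prA c).comp (C.tm (r • C.sm a a) LinearMap.id))) fun x v => by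
            simp [C.tm_t, sm_apply, C.prA_t, hc]) w
      conv_lhs => rw [← hw, this, hw]
      rfl
    have hXK : X = C.tm (C.sm a a) K := C.ext_pure fun z y => by rw [hXt, C.tm_t, sm_apply]
    have hN0 : ∀ z, C.sm a a (C.sm a a z) = 0 := fun z => by simp [sm_apply, ha]
    have hself : K ∈ C.selfB := fun y z => by
      have e1 := hsk (C.t c y) (C.t c z)
      rw [hXt, hXt, C.pol, C.pol] at e1
      simp [hc, C.hf a c, h1] at e1
      exact e1
    by_contra hne
    push Not at hne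
    have hKne : ∀ s : F, K ≠ s • LinearMap.id := fun s hs => hne (s / r) (by
      rw [hXK, hs, C.tm_smul_right, C.tm_smul, smul_smul, div_mul_cancel₀ _ hr0])
    obtain ⟨b, κ, hb, hbb, hκ, hm⟩ := exists_sm_of_self (C := C.swap) h2
      (by rcases H.dimB with h | h; · exact h.2.1
          exact absurd (h.1.symm.trans h2) (fun e => C.two (by linear_combination -e)))
      (by rcases H.dimB with h | h; · exact h.2.2
          exact absurd (h.1.symm.trans h2) (fun e => C.two (by linear_combination -e)))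
      (estable_kset H hN0 C.selfB fun τ hτ K hK => selfA_cjA (C := C.swap) hτ hK)
      (fun K hK => hK.1) (fun s => ⟨fun x y => by simp, by
        obtain ⟨m, hm, e⟩ := hN.exists_elem H.left (s / r)
        exact ⟨m, hm, fun x => by
          rw [e, C.tm_smul, C.tm_smul_right, LinearMap.smul_apply, LinearMap.smul_apply, smul_smul,
            div_mul_cancel₀ _ hr0]⟩⟩)
      (K₀ := K) ⟨hself, hXK ▸ hX⟩ hKne
    exact hF (.symp a b κ ha0 hb hbb hκ h1 h2 (by rw [← C.tm_smul_right]; exact hm.2))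
  · -- a plane
    obtain ⟨a, b, ha, hab, hb, rfl, hl⟩ := hN
    have hli := Root.indep h1 hl
    -- skew diagonal blocks give a root element
    have claimA : ∀ a b : Fin n₁ → F, C.f a a = 0 → a ≠ 0 → ∀ P, C.swap.SkewA P →
        InM M (C.tm (C.sm a a) P) → P = 0 := by
      intro a b ha ha0 P hP hPm
      by_contra hP0
      have hN0 : ∀ z, C.sm a a (C.sm a a z) = 0 := fun z => by simp [sm_apply, ha]
      have hst := estable_kset H hN0 C.skewB fun τ hτ K hK => skewA_cjA (C := C.swap) hτ hK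
      rcases H.dimB with ⟨h2, hn, -⟩ | ⟨h2, -⟩
      · obtain ⟨u, γ, hu, huγ, hu0, hγ, hm⟩ :=
          exists_dop_of_skew (C := C.swap) h2 hn hst (K := P) ⟨hP, hPm⟩ hP hP0
        exact hF (.orthK a u γ ha0 ha hu0 hu huγ hγ h1 h2 hm.2)
      · obtain ⟨u, κ, hu, hκ, hm⟩ := exists_sm_of_skew (C := C.swap) h2 hst (K := P) ⟨hP, hPm⟩ hP hP0
        exact hF (.symp' a u κ ha0 hu ha hκ h1 h2 (by rw [← C.tm_smul_right]; exact hm.2))
    have ha0 : a ≠ 0 := hli.ne_zero 0
    have hb0 : b ≠ 0 := hli.ne_zero 1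
    obtain ⟨c, hc, hc'⟩ := exists_dual_pair (C := C) hli
    obtain ⟨d, hd, hd'⟩ := exists_dual_pair (C := C) (LinearIndependent.pair_symm_iff.1 hli)
    set K : (Fin n₁ → F) → (Fin n₁ → F) → (Fin n₂ → F) →ₗ[F] (Fin n₂ → F) :=
      fun u v => (C.prA u).comp (X.comp (C.t v)) with hKdef
    have hXt : ∀ v y, X (C.t v y) = C.t a (K c v y) + C.t b (K d v y) := by
      intro v y
      obtain ⟨w, hw⟩ := hr ⟨C.t v y, rfl⟩
      have e : C.tm (C.Dop a b) LinearMap.id = (C.t a).comp ((C.prA c).comp (C.tm (C.Dop a b) LinearMap.id))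
          + (C.t b).comp ((C.prA d).comp (C.tm (C.Dop a b) LinearMap.id)) := C.ext_pure fun x u => by
        simp [C.tm_t, Dop_apply, C.prA_t, hc, hc', hd, hd', sub_eq_add_neg]
      show X (C.t v y) = C.t a (C.prA c (X (C.t v y))) + C.t b (C.prA d (X (C.t v y)))
      rw [← hw]
      exact LinearMap.congr_fun e w
    have hXK : X = C.blk a b (K c c) (K c d) (K d c) (K d d) := C.ext_pure fun z y => by
      have hz := eq_tm_of_kill hk (c := z) (c' := C.f a z • c + C.f b z • d) (by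
        simp [Dop_apply, h1, hc, hc', hd, hd']) y
      rw [hz, map_add, LinearMap.add_apply, map_add, map_smul, map_smul, LinearMap.smul_apply,
        LinearMap.smul_apply, map_smul, map_smul, hXt, hXt]
      simp [blk, C.tm_t, sm_apply]
      module
    have hadj : ∀ u v y z, C.f a u • C.g (K c v y) z + C.f b u • C.g (K d v y) z =
        -(C.f a v • C.g y (K c u z) + C.f b v • C.g y (K d u z)) := by
      intro u v y z
      have e1 := hsk (C.t v y) (C.t u z)
      rw [hXt, hXt, map_add, LinearMap.add_apply, map_add, C.pol, C.pol, C.pol, C.pol,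
        f_comm h1 v a, f_comm h1 v b] at e1
      simpa using e1
    have hPs : C.swap.SkewA (K c c) := fun y z => by
      show C.g (K c c y) z = -C.g y (K c c z)
      simpa [hc, hc'] using hadj c c y z
    have hSs : C.swap.SkewA (K d d) := fun y z => by
      show C.g (K d d y) z = -C.g y (K d d z)
      simpa [hd, hd'] using hadj d d y z
    have hQR : ∀ y z, C.g (K c d y) z = -C.g y (K d c z) := fun y z => by
      simpa [hc, hc', hd, hd'] using hadj c d y z
    -- move the plane by `a ↦ a ± b` and back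
    have gen : ∀ (a b c : Fin n₁ → F) (P Q R S : (Fin n₂ → F) →ₗ[F] (Fin n₂ → F)),
        C.f a a = 0 → C.f a b = 0 → C.f b b = 0 → C.f a c = 1 → C.f b c = 0 →
        InM M (C.blk a b P Q R S) → InM M (C.tm (C.sm b b) ((2 : F) • P)) ∧
          (P = 0 → InM M (C.tm (C.sm b b) ((2 : F) • (Q + R)))) := by
      intro a b c P Q R S ha hab hb hc hc' hin
      have hx : C.f b c = 0 := hc'
      set σ := C.eA hb hx
      have hσ : ∀ u v, C.f (σ u) (σ v) = C.f u v := C.eA_iso hb hx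
      have hσa : σ a = a + b := by
        rw [C.eA_apply hb hx, C.Dop_sq hb hx]
        simp [Dop_apply, f_comm h1 c a, hc, C.f_zero_comm hab]
      have hσb : σ b = b := by
        rw [C.eA_apply hb hx, C.Dop_sq hb hx]
        simp [Dop_apply, f_comm h1 c b, hx, hb]
      have hσa' : σ.symm a = a - b := σ.injective (by
        rw [LinearEquiv.apply_symm_apply, map_sub, hσa, hσb, add_sub_cancel_right])
      have hσb' : σ.symm b = b := σ.injective (by rw [LinearEquiv.apply_symm_apply, hσb])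
      have hmem : C.te σ (LinearEquiv.refl F _) ∈ M := H.left b c hb hx
      have hp := hin.te hmem
      have hn := hin.te (σ := σ.symm) (τ := LinearEquiv.refl F _) (by
        rw [show C.te σ.symm (LinearEquiv.refl F _) = (C.te σ (LinearEquiv.refl F _))⁻¹ from
          (te_symm σ (LinearEquiv.refl F _)).symm]
        exact inv_mem hmem)
      simp only [blk, LinearMap.add_comp, LinearMap.comp_add, cj_te_tm, cjA_refl, cjA_sm hσ,
        cjA_symm_sm hσ, hσa, hσb, hσa', hσb'] at hp hn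
      have ep : ∀ P Q R S, C.tm (C.sm (a + b) (a + b)) P + C.tm (C.sm (a + b) b) Q +
          C.tm (C.sm b (a + b)) R + C.tm (C.sm b b) S =
          C.blk a b P (P + Q) (P + R) (P + Q + R + S) := fun P Q R S => C.ext_pure fun z y => by
        simp [blk, C.tm_t, sm_apply]; module
      have en : ∀ P Q R S, C.tm (C.sm (a - b) (a - b)) P + C.tm (C.sm (a - b) b) Q +
          C.tm (C.sm b (a - b)) R + C.tm (C.sm b b) S =
          C.blk a b P (Q - P) (R - P) (P - Q - R + S) := fun P Q R S => C.ext_pure fun z y => by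
        simp [blk, C.tm_t, sm_apply]; module
      rw [ep] at hp
      rw [en] at hn
      have hsq := blk_sq (C := C) ha hab hb
      have hneg : ∀ P Q R S, InM M (C.blk a b P Q R S) → InM M (C.blk a b (-P) (-Q) (-R) (-S)) := by
        intro P Q R S h
        rw [show C.blk a b (-P) (-Q) (-R) (-S) = -C.blk a b P Q R S from C.ext_pure fun z y => by
          simp [blk, C.tm_t]; abel]
        exact h.neg (hsq _ _ _ _ _ _ _ _)
      have hadd : ∀ P Q R S P' Q' R' S', InM M (C.blk a b P Q R S) → InM M (C.blk a b P' Q' R' S') →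
          InM M (C.blk a b (P + P') (Q + Q') (R + R') (S + S')) := by
        intro P Q R S P' Q' R' S' h h'
        rw [show C.blk a b (P + P') (Q + Q') (R + R') (S + S') =
          C.blk a b P Q R S + C.blk a b P' Q' R' S' from C.ext_pure fun z y => by
            simp [blk, C.tm_t]; abel]
        exact h.add h' (hsq _ _ _ _ _ _ _ _)
      refine ⟨?_, fun hP => ?_⟩
      · have h3 := hadd _ _ _ _ _ _ _ _ (hadd _ _ _ _ _ _ _ _ hp hn) (hneg _ _ _ _ (hadd _ _ _ _ _ _ _ _ hin hin))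
        convert h3 using 1
        exact C.ext_pure fun z y => by simp [blk, C.tm_t, sm_apply]; module
      · have h3 := hadd _ _ _ _ _ _ _ _ hp (hneg _ _ _ _ hn)
        convert h3 using 1
        exact C.ext_pure fun z y => by simp [blk, C.tm_t, sm_apply, hP]; module
    have half : ∀ P : (Fin n₂ → F) →ₗ[F] (Fin n₂ → F), (2 : F) • P = 0 → P = 0 := fun P h =>
      (smul_eq_zero.1 h).resolve_left C.two
    have sk2 : ∀ P, C.swap.SkewA P → C.swap.SkewA ((2 : F) • P) := fun P h y z => by simp [h y z]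
    have g1 := gen a b c _ _ _ _ ha hab hb hc hc' (hXK ▸ hX)
    have hP0 : K c c = 0 := half _ (claimA b a hb hb0 _ (sk2 _ hPs) g1.1)
    have hX' : InM M (C.blk b a (K d d) (K d c) (K c d) (K c c)) := by
      rw [show C.blk b a (K d d) (K d c) (K c d) (K c c) = X by rw [hXK]; simp only [blk]; abel]
      exact hX
    have hS0 : K d d = 0 := half _ (claimA a b ha ha0 _ (sk2 _ hSs)
      (gen b a d _ _ _ _ hb (C.f_zero_comm hab) ha hd hd' hX').1)
    have hQRs : C.swap.SkewA (K c d + K d c) := fun y z => by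
      show C.g ((K c d + K d c) y) z = -C.g y ((K c d + K d c) z)
      have e2 : C.g (K d c y) z = -C.g y (K c d z) := by
        simpa [hc, hc', hd, hd'] using hadj d c y z
      simp [hQR y z, e2]
    have hR : K d c = -K c d :=
      eq_neg_of_add_eq_zero_right (half _ (claimA b a hb hb0 _ (sk2 _ hQRs) (g1.2 hP0)))
    have hQ : C.swap.SelfA (K c d) := fun y z => by
      show C.g (K c d y) z = C.g y (K c d z)
      rw [hQR, hR]; simp
    have hXN : X = C.tm (C.Dop a b) (K c d) := by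
      rw [hXK, hP0, hS0, hR]
      exact C.ext_pure fun z y => by simp [blk, C.tm_t, sm_apply, Dop_apply, h1]; module
    by_contra hne
    push Not at hne
    have hKne : ∀ s : F, K c d ≠ s • LinearMap.id := fun s hs =>
      hne s (by rw [hXN, hs, C.tm_smul_right])
    rcases H.dimB with ⟨h2, hn, hex⟩ | ⟨h2, hn⟩
    · have hNr : C.Root 2 (C.Dop a b) := ⟨a, b, ha, hab, hb, rfl, hl⟩
      obtain ⟨u, κ, hu, huu, hκ, hm⟩ := exists_sm_of_self (C := C.swap) h2 hn hex
        (estable_kset H hNr.sq C.selfB fun τ hτ K hK => selfA_cjA (C := C.swap) hτ hK)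
        (fun K hK => hK.1) (fun s => ⟨fun x y => by simp, by
          obtain ⟨m, hm, e⟩ := hNr.exists_elem H.left s
          exact ⟨m, hm, fun x => by rw [e, C.tm_smul_right, LinearMap.smul_apply]⟩⟩)
        (K₀ := K c d) ⟨hQ, hXN ▸ hX⟩ hKne
      exact hF (.orthP _ hNr u κ hu huu hκ h1 h2 (by rw [← C.tm_smul_right]; exact hm.2))
    · obtain ⟨s, hs⟩ := scalar_of_self_alt (C := C.swap) h2 hn hQ
      exact hKne s hs

end TT

end Cfsg.Agent.TenForm
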