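import Cfsg.Agent.Lib.C4.TenBase

/-!
# Sets of operators invariant under the Eichler elements of one factor

* `partner`, `exists_perp_aniso` : hyperbolic decomposition of the left factor
* `exists_dop_of_skew` : a non-zero skew operator yields `Dop a γ` (orthogonal factor)
* `exists_sm_of_skew` : a non-zero skew operator yields `κ · sm a a` (alternating factor)
* `eq_sm_of_fixed` : self-adjoint operators with scalar differences at a singular vector
* `exists_sm_of_self` : a non-scalar self-adjoint operator yields `κ · sm a a` (orthogonal factor)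
-/

set_option autoImplicit false
set_option linter.unusedSectionVars false
set_option linter.unusedSimpArgs false

namespace Cfsg.Agent.TenForm

open Module
open QuadraticMap (polar)

variable {ι : Type} [Fintype ι] [DecidableEq ι] {F : Type*} [Field F] {n₁ n₂ : ℕ}

namespace TT

variable (C : TT ι F n₁ n₂)

/-- The form of the left factor as a quadratic form. -/
noncomputable def qA : QuadraticForm F (Fin n₁ → F) := LinearMap.BilinMap.toQuadraticMap C.f

variable {C}

theorem polar_qA (h1 : C.s₁ = 1) (x y : Fin n₁ → F) : polar ⇑C.qA x y = 2 * C.f x y := by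
  rw [qA, LinearMap.BilinMap.polar_toQuadraticMap, C.hf x y, h1]; ring

theorem qA_nondeg (h1 : C.s₁ = 1) : C.qA.polarBilin.Nondegenerate := by
  refine ⟨fun x hx => C.fnd x fun y => ?_, fun y hy => C.fnd y fun x => ?_⟩
  · have := hx y
    rw [QuadraticMap.polarBilin_apply_apply, polar_qA h1] at this
    exact (mul_eq_zero.1 this).resolve_left C.two
  · have := hy x
    rw [QuadraticMap.polarBilin_apply_apply, polar_qA h1] at this
    exact C.f_zero_comm ((mul_eq_zero.1 this).resolve_left C.two)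

theorem exists_isotropic [Fintype F] (h1 : C.s₁ = 1) (h : 3 ≤ n₁) :
    ∃ a : Fin n₁ → F, a ≠ 0 ∧ C.f a a = 0 := by
  obtain ⟨e, e', he⟩ := Orth.exists_hpair (qA_nondeg h1) (by simpa using h)
  exact ⟨e, he.ne_zero, he.qe⟩

theorem f_comm (h1 : C.s₁ = 1) (x y : Fin n₁ → F) : C.f x y = C.f y x := by rw [C.hf y x, h1, one_mul]

theorem partner (h1 : C.s₁ = 1) {a : Fin n₁ → F} (ha : a ≠ 0) (haa : C.f a a = 0) :
    ∃ c, C.f c c = 0 ∧ C.f a c = 1 := by
  obtain ⟨x, hx⟩ := C.exists_dual ha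
  have h2 := C.two
  refine ⟨x - (C.f x x / 2) • a, ?_, ?_⟩
  · simp [haa, f_comm h1 x a, hx]; field_simp; ring
  · simp [haa, hx]

/-- An anisotropic vector orthogonal to a hyperbolic pair and to an orthogonal anisotropic or zero vector. -/
theorem exists_perp_aniso₂ (h1 : C.s₁ = 1) {a c γ : Fin n₁ → F} (ha : C.f a a = 0) (hc : C.f c c = 0)
    (hac : C.f a c = 1) (haγ : C.f a γ = 0) (hcγ : C.f c γ = 0) (hγ : γ = 0 ∨ C.f γ γ ≠ 0)
    {z : Fin n₁ → F} (hz : z ≠ 0) (haz : C.f a z = 0) (hcz : C.f c z = 0) (hγz : C.f γ z = 0) :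
    ∃ β, C.f a β = 0 ∧ C.f c β = 0 ∧ C.f γ β = 0 ∧ C.f β β ≠ 0 := by
  by_cases hzz : C.f z z ≠ 0
  · exact ⟨z, haz, hcz, hγz, hzz⟩
  push Not at hzz
  obtain ⟨y, hy⟩ := C.exists_dual hz
  obtain ⟨r, hr⟩ : ∃ r, r * C.f γ γ = C.f γ y := by
    rcases hγ with rfl | h
    · exact ⟨0, by simp⟩
    · exact ⟨_, div_mul_cancel₀ _ h⟩
  set w := y - C.f c y • a - C.f a y • c - r • γ with hw
  have hwa : C.f a w = 0 := by simp [hw, ha, hac, haγ]
  have hwc : C.f c w = 0 := by simp [hw, hc, f_comm h1 c a, hac, hcγ]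
  have hwγ : C.f γ w = 0 := by
    simp [hw, f_comm h1 γ a, haγ, f_comm h1 γ c, hcγ, hr]
  have hwz : C.f z w = 1 := by
    simp [hw, hy, f_comm h1 z a, haz, f_comm h1 z c, hcz, f_comm h1 z γ, hγz]
  by_cases hww : C.f w w ≠ 0
  · exact ⟨w, hwa, hwc, hwγ, hww⟩
  push Not at hww
  exact ⟨z + w, by simp [haz, hwa], by simp [hcz, hwc], by simp [hγz, hwγ], by
    simp [hzz, hww, hwz, f_comm h1 w z]; exact fun h => C.two (by linear_combination h)⟩

/-- An anisotropic vector orthogonal to a hyperbolic pair. -/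
theorem exists_perp_aniso (h1 : C.s₁ = 1) (h : 3 ≤ n₁) {a c : Fin n₁ → F} (ha : C.f a a = 0)
    (hc : C.f c c = 0) (hac : C.f a c = 1) :
    ∃ β, C.f a β = 0 ∧ C.f c β = 0 ∧ C.f β β ≠ 0 := by
  obtain ⟨z, hz, hzW⟩ := C4.SS.exists_ker_not_mem ![C.f a, C.f c] (⊥ : Submodule F (Fin n₁ → F))
    (by rw [finrank_bot]; omega)
  obtain ⟨β, h2, h3, -, h4⟩ := exists_perp_aniso₂ h1 (γ := 0) ha hc hac (by simp) (by simp) (.inl rfl)
    (by simpa using hzW) (hz 0) (hz 1) (by simp)
  exact ⟨β, h2, h3, h4⟩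

/-- An anisotropic vector orthogonal to a hyperbolic pair and a third anisotropic vector. -/
theorem exists_perp_aniso₃ (h1 : C.s₁ = 1) (h : 4 ≤ n₁) {a c γ : Fin n₁ → F} (ha : C.f a a = 0)
    (hc : C.f c c = 0) (hac : C.f a c = 1) (haγ : C.f a γ = 0) (hcγ : C.f c γ = 0)
    (hγ : C.f γ γ ≠ 0) : ∃ β, C.f a β = 0 ∧ C.f c β = 0 ∧ C.f γ β = 0 ∧ C.f β β ≠ 0 := by
  obtain ⟨z, hz, hzW⟩ := C4.SS.exists_ker_not_mem ![C.f a, C.f c, C.f γ]
    (⊥ : Submodule F (Fin n₁ → F)) (by rw [finrank_bot]; omega)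
  exact exists_perp_aniso₂ h1 ha hc hac haγ hcγ (.inr hγ) (by simpa using hzW) (hz 0) (hz 1) (hz 2)

/-- A functional killing the anisotropic vectors orthogonal to a hyperbolic pair kills them all. -/
theorem perp_vanish (h1 : C.s₁ = 1) {a c : Fin n₁ → F} (ha : C.f a a = 0) (hc : C.f c c = 0)
    (hac : C.f a c = 1) (φ : Module.Dual F (Fin n₁ → F))
    (h : ∀ β, C.f a β = 0 → C.f c β = 0 → C.f β β ≠ 0 → φ β = 0) {z : Fin n₁ → F}
    (haz : C.f a z = 0) (hcz : C.f c z = 0) : φ z = 0 := by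
  by_cases hzz : C.f z z ≠ 0
  · exact h z haz hcz hzz
  push Not at hzz
  by_cases hz : z = 0
  · rw [hz, map_zero]
  obtain ⟨β, h2, h3, -, h4⟩ := exists_perp_aniso₂ h1 (γ := 0) ha hc hac (by simp) (by simp) (.inl rfl)
    hz haz hcz (by simp)
  by_cases h5 : C.f (z + β) (z + β) ≠ 0
  · have := h _ (by simp [haz, h2]) (by simp [hcz, h3]) h5
    rwa [map_add, h β h2 h3 h4, add_zero] at this
  push Not at h5
  have h6 : C.f (z - β) (z - β) ≠ 0 := fun h7 => h4 (by
    simp [hzz, f_comm h1 β z] at h5 h7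
    have : (2 : F) * C.f β β = 0 := by linear_combination h5 + h7
    exact (mul_eq_zero.1 this).resolve_left C.two)
  have := h _ (by simp [haz, h2]) (by simp [hcz, h3]) h6
  rwa [map_sub, h β h2 h3 h4, sub_zero] at this

theorem eq_comb (h1 : C.s₁ = 1) {a c w : Fin n₁ → F} (ha : C.f a a = 0) (hc : C.f c c = 0)
    (hac : C.f a c = 1) (h : ∀ β, C.f a β = 0 → C.f c β = 0 → C.f β β ≠ 0 → C.f β w = 0) :
    w = C.f c w • a + C.f a w • c := by
  have h' : ∀ z, C.f a z = 0 → C.f c z = 0 → C.f z w = 0 := fun z h2 h3 =>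
    perp_vanish h1 ha hc hac (C.f.flip w) h h2 h3
  refine C.f_ext fun z => ?_
  have := h' (z - C.f c z • a - C.f a z • c) (by simp [ha, hac]) (by simp [hc, f_comm h1 c a, hac])
  simp only [map_sub, map_smul, LinearMap.sub_apply, LinearMap.smul_apply, smul_eq_mul] at this
  simp only [map_add, map_smul, LinearMap.add_apply, LinearMap.smul_apply, smul_eq_mul, f_comm h1 w z]
  linear_combination this

/-! ### conjugation -/

/-- Conjugation of an operator of the left factor. -/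
def cjA (σ : (Fin n₁ → F) ≃ₗ[F] (Fin n₁ → F)) (K : (Fin n₁ → F) →ₗ[F] (Fin n₁ → F)) :
    (Fin n₁ → F) →ₗ[F] (Fin n₁ → F) := σ.toLinearMap.comp (K.comp σ.symm.toLinearMap)

theorem cjA_apply (σ : (Fin n₁ → F) ≃ₗ[F] (Fin n₁ → F)) (K : (Fin n₁ → F) →ₗ[F] (Fin n₁ → F))
    (z : Fin n₁ → F) : cjA σ K z = σ (K (σ.symm z)) := rfl

theorem cjA_id (σ : (Fin n₁ → F) ≃ₗ[F] (Fin n₁ → F)) : cjA σ LinearMap.id = LinearMap.id :=
  LinearMap.ext fun z => σ.apply_symm_apply z

theorem cjA_sm {σ : (Fin n₁ → F) ≃ₗ[F] (Fin n₁ → F)} (hσ : ∀ u v, C.f (σ u) (σ v) = C.f u v)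
    (b a : Fin n₁ → F) : cjA σ (C.sm b a) = C.sm (σ b) (σ a) :=
  LinearMap.ext fun z => by
    obtain ⟨w, rfl⟩ := σ.surjective z
    simp [cjA_apply, sm_apply, hσ]

theorem cjA_Dop {σ : (Fin n₁ → F) ≃ₗ[F] (Fin n₁ → F)} (hσ : ∀ u v, C.f (σ u) (σ v) = C.f u v)
    (a x : Fin n₁ → F) : cjA σ (C.Dop a x) = C.Dop (σ a) (σ x) :=
  LinearMap.ext fun z => by
    obtain ⟨w, rfl⟩ := σ.surjective z
    simp [cjA_apply, Dop_apply, hσ]

/-- A set closed under the Eichler elements. -/
def EStable (C : TT ι F n₁ n₂) (S : AddSubgroup ((Fin n₁ → F) →ₗ[F] (Fin n₁ → F))) : Prop :=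
  ∀ (a x : Fin n₁ → F) (ha : C.f a a = 0) (hx : C.f a x = 0), ∀ K ∈ S,
    cjA (C.eA ha hx) K ∈ S ∧ cjA (C.eA ha hx).symm K ∈ S

/-- The symmetric second difference of a conjugation. -/
theorem second_diff {a x : Fin n₁ → F} (ha : C.f a a = 0) (hx : C.f a x = 0)
    (K : (Fin n₁ → F) →ₗ[F] (Fin n₁ → F)) (z : Fin n₁ → F) :
    (cjA (C.eA ha hx) K + cjA (C.eA ha hx).symm K - (2 : F) • K) z =
      C.Dop a x (C.Dop a x (K z)) + K (C.Dop a x (C.Dop a x z)) -
        (2 : F) • C.Dop a x (K (C.Dop a x z)) +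
        (2 : F)⁻¹ • C.Dop a x (C.Dop a x (K (C.Dop a x (C.Dop a x z)))) := by
  simp only [LinearMap.add_apply, LinearMap.sub_apply, LinearMap.smul_apply, cjA_apply,
    LinearEquiv.symm_symm, C.eA_apply, C.eA_symm, map_add, map_sub, map_smul]
  have h2 := C.two
  match_scalars <;> field_simp <;> ring

theorem exists_two_partners (h1 : C.s₁ = 1) (h : 3 ≤ n₁) {a : Fin n₁ → F} (ha : a ≠ 0)
    (haa : C.f a a = 0) : ∃ c d, C.f c c = 0 ∧ C.f d d = 0 ∧ C.f a c ≠ 0 ∧ C.f a d ≠ 0 ∧ C.f c d ≠ 0 := by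
  obtain ⟨c, hc, hac⟩ := partner h1 ha haa
  obtain ⟨β, hab, hcb, hbb⟩ := exists_perp_aniso h1 h haa hc hac
  have h2 := C.two
  refine ⟨c, a - (C.f β β / 2) • c + β, hc, ?_, by rw [hac]; exact one_ne_zero, ?_, ?_⟩
  · simp [haa, hc, hac, hab, hcb, f_comm h1 c a, f_comm h1 β a, f_comm h1 β c]; field_simp; ring
  · simp [haa, hac, hab, hbb, h2]
  · simp [hc, hcb, f_comm h1 c a, hac]

theorem eq_zero_of_singular (h1 : C.s₁ = 1) [Fintype F] (h : 3 ≤ n₁)
    (φ : (Fin n₁ → F) →ₗ[F] (Fin n₁ → F)) (hφ : ∀ a, C.f a a = 0 → φ a = 0) : φ = 0 := by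
  obtain ⟨a, ha, haa⟩ := exists_isotropic h1 h
  obtain ⟨c, hc, hac⟩ := partner h1 ha haa
  refine LinearMap.ext fun z => ?_
  have h2 := C.two
  set y := z - C.f c z • a - C.f a z • c
  have hy : φ (a + y - (C.f y y / 2) • c) = 0 := hφ _ (by
    have h3 : C.f a y = 0 := by simp [y, haa, hac]
    have h4 : C.f c y = 0 := by simp [y, hc, f_comm h1 c a, hac]
    clear_value y
    simp [haa, hc, hac, h3, h4, f_comm h1 c a, f_comm h1 y a, f_comm h1 y c]; field_simp; ring)
  simpa [y, hφ a haa, hφ c hc] using hy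

theorem exists_dop_of_skew [Fintype F] (h1 : C.s₁ = 1) (h : 3 ≤ n₁)
    {S : AddSubgroup ((Fin n₁ → F) →ₗ[F] (Fin n₁ → F))} (hS : C.EStable S)
    {K : (Fin n₁ → F) →ₗ[F] (Fin n₁ → F)} (hK : K ∈ S) (hsk : C.SkewA K) (hK0 : K ≠ 0) :
    ∃ a γ, C.f a a = 0 ∧ C.f a γ = 0 ∧ a ≠ 0 ∧ γ ∉ F ∙ a ∧ C.Dop a γ ∈ S := by
  obtain ⟨a, ha, hne⟩ : ∃ a, C.f a a = 0 ∧ K a ∉ F ∙ a := by
    by_contra! hall
    refine hK0 (eq_zero_of_singular h1 h K fun a ha => ?_)
    by_cases ha0 : a = 0
    · rw [ha0, map_zero]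
    obtain ⟨c, d, hc, hd, hac, had, hcd⟩ := exists_two_partners h1 h ha0 ha
    obtain ⟨r, hr⟩ := Submodule.mem_span_singleton.1 (hall a ha)
    obtain ⟨s, hs⟩ := Submodule.mem_span_singleton.1 (hall c hc)
    obtain ⟨u, hu⟩ := Submodule.mem_span_singleton.1 (hall d hd)
    have e1 := hsk a c
    have e2 := hsk a d
    have e3 := hsk c d
    rw [← hr, ← hs] at e1
    rw [← hr, ← hu] at e2
    rw [← hs, ← hu] at e3
    simp only [map_smul, LinearMap.smul_apply, smul_eq_mul] at e1 e2 e3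
    have f1 : (r + s) * C.f a c = 0 := by linear_combination e1
    have f2 : (r + u) * C.f a d = 0 := by linear_combination e2
    have f3 : (s + u) * C.f c d = 0 := by linear_combination e3
    have g1 := (mul_eq_zero.1 f1).resolve_right hac
    have g2 := (mul_eq_zero.1 f2).resolve_right had
    have g3 := (mul_eq_zero.1 f3).resolve_right hcd
    have : (2 : F) * r = 0 := by linear_combination g1 + g2 - g3
    rw [← hr, (mul_eq_zero.1 this).resolve_left C.two, zero_smul]
  have ha0 : a ≠ 0 := fun h0 => hne (by rw [h0, map_zero]; exact Submodule.zero_mem _)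
  obtain ⟨c, hc, hac⟩ := partner h1 ha0 ha
  obtain ⟨β, hab, hcb, hbb⟩ := exists_perp_aniso h1 h ha hc hac
  have haKa : C.f a (K a) = 0 := by
    have h0 := hsk a a
    rw [f_comm h1 (K a) a] at h0
    exact (mul_eq_zero.1 (show (2 : F) * C.f a (K a) = 0 by linear_combination h0)).resolve_left C.two
  set γ := C.f β β • K a - (2 * C.f β (K a)) • β with hγ
  refine ⟨a, γ, ha, by simp [hγ, haKa, hab], ha0, fun hm => ?_, ?_⟩
  · obtain ⟨r, hr⟩ := Submodule.mem_span_singleton.1 hm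
    have h5 := congrArg (C.f β) hr
    simp only [hγ, map_smul, map_sub, smul_eq_mul, f_comm h1 β a, hab, mul_zero] at h5
    have h6 : C.f β (K a) = 0 := by
      have : C.f β β * C.f β (K a) = 0 := by linear_combination h5
      exact (mul_eq_zero.1 this).resolve_left hbb
    rw [hγ, h6, mul_zero, zero_smul, sub_zero] at hm
    exact hne (by simpa [smul_smul, hbb] using (F ∙ a).smul_mem (C.f β β)⁻¹ hm)
  · have hm := S.sub_mem (S.add_mem (hS a β ha hab K hK).1 (hS a β ha hab K hK).2) (S.add_mem hK hK)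
    have hbKb : C.f β (K β) = 0 := by
      have h0 := hsk β β
      rw [f_comm h1 (K β) β] at h0
      exact (mul_eq_zero.1 (show (2 : F) * C.f β (K β) = 0 by linear_combination h0)).resolve_left C.two
    convert hm using 1
    rw [show K + K = (2 : F) • K from (two_smul F K).symm]
    refine (LinearMap.ext fun z => ?_)
    rw [second_diff ha hab, C.Dop_sq ha hab, C.Dop_sq ha hab, C.Dop_sq ha hab]
    simp only [Dop_apply, h1, map_sub, map_smul, one_mul, neg_mul, smul_eq_mul, hγ, LinearMap.sub_apply,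
      LinearMap.smul_apply, haKa, f_comm h1 a β, f_comm h1 β a, hab, mul_zero, zero_smul, neg_zero,
      smul_zero, add_zero, hbKb]
    rw [show C.f (K a) z = -C.f a (K z) from hsk a z, show C.f a (K β) = -C.f β (K a) by
      rw [f_comm h1 β (K a), hsk a β, neg_neg]]
    have h2 := C.two
    match_scalars <;> field_simp <;> ring

theorem exists_sm_of_skew (h1 : C.s₁ = -1) {S : AddSubgroup ((Fin n₁ → F) →ₗ[F] (Fin n₁ → F))}
    (hS : C.EStable S) {K : (Fin n₁ → F) →ₗ[F] (Fin n₁ → F)} (hK : K ∈ S) (hsk : C.SkewA K)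
    (hK0 : K ≠ 0) : ∃ a, ∃ r : F, a ≠ 0 ∧ r ≠ 0 ∧ r • C.sm a a ∈ S := by
  have hanti : ∀ u v, C.f u v = -C.f v u := fun u v => by rw [C.hf v u, h1, neg_one_mul]
  obtain ⟨a, ha⟩ : ∃ a, C.f a (K a) ≠ 0 := by
    by_contra! hall
    refine hK0 (LinearMap.ext fun u => C.fnd _ fun v => ?_)
    have h3 := hall (u + v)
    simp only [map_add, LinearMap.add_apply, hall, zero_add, add_zero] at h3
    have h4 := hsk u v
    rw [hanti v (K u), h4] at h3
    have : (2 : F) * C.f u (K v) = 0 := by linear_combination h3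
    rw [h4, (mul_eq_zero.1 this).resolve_left C.two, neg_zero]
  have haa : C.f a a = 0 := by
    have := hanti a a
    exact (mul_eq_zero.1 (show (2 : F) * C.f a a = 0 by linear_combination this)).resolve_left C.two
  refine ⟨a, -(8 * C.f a (K a)), fun h0 => ha (by simp [h0]),
    neg_ne_zero.2 (mul_ne_zero ?_ ha), ?_⟩
  · rw [show (8 : F) = 2 * 2 * 2 by norm_num]; exact mul_ne_zero (mul_ne_zero C.two C.two) C.two
  have hm := S.sub_mem (S.add_mem (hS a a haa haa K hK).1 (hS a a haa haa K hK).2) (S.add_mem hK hK)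
  convert hm using 1
  rw [show K + K = (2 : F) • K from (two_smul F K).symm]
  refine (LinearMap.ext fun z => ?_)
  rw [second_diff haa haa, C.Dop_sq haa haa, C.Dop_sq haa haa, C.Dop_sq haa haa]
  simp only [Dop_apply, sm_apply, haa, h1, LinearMap.smul_apply, map_sub, map_smul, mul_zero, zero_smul,
    smul_zero, add_zero, zero_add, zero_sub, smul_eq_mul, map_zero]
  module

/-! ### the symmetric case -/

/-- `K ↦ σ K σ⁻¹ - K`. -/
def delta (σ : (Fin n₁ → F) ≃ₗ[F] (Fin n₁ → F)) :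
    Module.End F ((Fin n₁ → F) →ₗ[F] (Fin n₁ → F)) where
  toFun K := cjA σ K - K
  map_add' K K' := LinearMap.ext fun z => by simp [cjA_apply]; abel
  map_smul' r K := LinearMap.ext fun z => by simp [cjA_apply, smul_sub]

theorem isNilpotent_delta {a x : Fin n₁ → F} (ha : C.f a a = 0) (hx : C.f a x = 0) :
    IsNilpotent (delta (C.eA ha hx)) := by
  set D : Module.End F (Fin n₁ → F) := C.Dop a x with hDdef
  have hD : D ^ 3 = 0 := LinearMap.ext fun z => C.Dop_cube ha hx z
  have hn : ∀ u : Module.End F (Fin n₁ → F), Commute D u → IsNilpotent (D * u) := fun u hu =>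
    Commute.isNilpotent_mul_right hu ⟨3, hD⟩
  set e : Module.End F (Fin n₁ → F) := (C.eA ha hx).symm.toLinearMap
  set P : Module.End F (Fin n₁ → F) := D * (1 + (2 : F)⁻¹ • D)
  set P' : Module.End F (Fin n₁ → F) := D * (-1 + (2 : F)⁻¹ • D)
  have hP : IsNilpotent P := hn _ ((Commute.one_right D).add_right ((Commute.refl D).smul_right _))
  have hP' : IsNilpotent P' :=
    hn _ ((Commute.one_right D).neg_right.add_right ((Commute.refl D).smul_right _))
  have he : e = 1 + P' := LinearMap.ext fun z => by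
    simp [e, P', C.eA_symm, Module.End.mul_apply, hDdef, mul_add, sub_eq_add_neg, add_assoc]
  have heq : delta (C.eA ha hx) = LinearMap.mulLeft F P * LinearMap.mulRight F e +
      LinearMap.mulRight F P' := LinearMap.ext fun K => LinearMap.ext fun z => by
    show C.eA ha hx (K ((C.eA ha hx).symm z)) - K z = P (K (e z)) + K (P' z)
    have h3 : K z = K (e z) - K (P' z) := by rw [he, ← map_sub]; simp
    rw [h3, show e z = (C.eA ha hx).symm z from rfl, C.eA_apply ha hx]
    simp [P, Module.End.mul_apply, hDdef]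
    abel
  rw [heq]
  have h1 : IsNilpotent (LinearMap.mulLeft F P) := by
    obtain ⟨k, hk⟩ := hP
    exact ⟨k, by rw [LinearMap.pow_mulLeft, hk]; ext; simp⟩
  have h2 : IsNilpotent (LinearMap.mulRight F P') := by
    obtain ⟨k, hk⟩ := hP'
    exact ⟨k, by rw [LinearMap.pow_mulRight, hk]; ext; simp⟩
  have hc1 : Commute (LinearMap.mulLeft F P) (LinearMap.mulRight F e) := LinearMap.commute_mulLeft_right (R := F) P e
  have hc2 : Commute (LinearMap.mulRight F e) (LinearMap.mulRight F P') := by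
    ext K : 1
    simp only [Module.End.mul_apply, LinearMap.mulRight_apply, mul_assoc]
    rw [he, add_mul, mul_add, one_mul, mul_one]
  exact ((LinearMap.commute_mulLeft_right (R := F) P P').mul_left hc2).isNilpotent_add
    (Commute.isNilpotent_mul_right hc1 h1) h2

theorem delta_comm (h1 : C.s₁ = 1) {a x y : Fin n₁ → F} (ha : C.f a a = 0) (hx : C.f a x = 0)
    (hy : C.f a y = 0) :
    Commute (delta (C.eA ha hx)) (delta (C.eA ha hy)) := by
  set D : Module.End F (Fin n₁ → F) := C.Dop a x with hDx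
  set D' : Module.End F (Fin n₁ → F) := C.Dop a y with hDy
  have hd : Commute D D' := LinearMap.ext fun z => by
    simp [D, D', Module.End.mul_apply, Dop_apply, h1, ha, hx, hy, C.f_zero_comm hx, C.f_zero_comm hy,
      f_comm h1 x y]
  have h4 : Commute (1 + D + (2 : F)⁻¹ • (D * D)) (1 + D' + (2 : F)⁻¹ • (D' * D')) :=
    (((Commute.one_left _)).add_left (((Commute.one_right D).add_right hd).add_right
      ((hd.mul_right hd).smul_right _))).add_left
      ((((Commute.one_right _).add_right (hd.mul_left hd)).add_right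
        (((hd.mul_right hd).mul_left (hd.mul_right hd)).smul_right _)).smul_left _)
  have key : ∀ z, C.eA ha hx (C.eA ha hy z) = C.eA ha hy (C.eA ha hx z) := fun z =>
    LinearMap.congr_fun (h4 : _ = _) z
  have key' : ∀ z, (C.eA ha hy).symm ((C.eA ha hx).symm z) = (C.eA ha hx).symm ((C.eA ha hy).symm z) :=
    fun z => by
      apply (C.eA ha hy).injective
      apply (C.eA ha hx).injective
      simp only [LinearEquiv.apply_symm_apply]
      rw [key, LinearEquiv.apply_symm_apply, LinearEquiv.apply_symm_apply]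
  refine LinearMap.ext fun K => LinearMap.ext fun z => ?_
  simp [delta, cjA_apply, Module.End.mul_apply, key, key']
  abel

theorem delta_scalar (σ : (Fin n₁ → F) ≃ₗ[F] (Fin n₁ → F)) (r : F) : delta σ (r • LinearMap.id) = 0 := by
  rw [map_smul]; simp [delta, cjA_id]

/-- A non-scalar member whose images under all the differences at `a` are scalars. -/
theorem exists_fixed [Fintype F] (h1 : C.s₁ = 1) {S : AddSubgroup ((Fin n₁ → F) →ₗ[F] (Fin n₁ → F))}
    (hS : C.EStable S) {a : Fin n₁ → F} (ha : C.f a a = 0)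
    {K : (Fin n₁ → F) →ₗ[F] (Fin n₁ → F)} (hK : K ∈ S) (hne : ∀ r : F, K ≠ r • LinearMap.id) :
    ∃ K' ∈ S, (∀ r : F, K' ≠ r • LinearMap.id) ∧
      ∀ x (hx : C.f a x = 0), ∃ r : F, delta (C.eA ha hx) K' = r • LinearMap.id := by
  classical
  suffices h : ∀ T : Finset (Fin n₁ → F), ∃ K' ∈ S, (∀ r : F, K' ≠ r • LinearMap.id) ∧
      ∀ x ∈ T, ∀ (hx : C.f a x = 0), ∃ r : F, delta (C.eA ha hx) K' = r • LinearMap.id by
    obtain ⟨K', h2, h3, h4⟩ := h Finset.univ
    exact ⟨K', h2, h3, fun x hx => h4 x (Finset.mem_univ x) hx⟩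
  intro T
  induction T using Finset.induction_on with
  | empty => exact ⟨K, hK, hne, fun x hx => absurd hx (Finset.notMem_empty x)⟩
  | @insert b T _ ih =>
    obtain ⟨K0, h2, h3, h4⟩ := ih
    by_cases hb : C.f a b = 0
    swap
    · exact ⟨K0, h2, h3, fun x hx hxa => h4 x ((Finset.mem_insert.1 hx).resolve_left fun e => hb (e ▸ hxa)) hxa⟩
    set δ := delta (C.eA ha hb)
    have hmem : ∀ j : ℕ, (δ ^ j) K0 ∈ S := fun j => by
      induction j with
      | zero => exact h2
      | succ j ihj =>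
        rw [pow_succ', Module.End.mul_apply]
        exact S.sub_mem (hS a b ha hb _ ihj).1 ihj
    obtain ⟨k, hk⟩ := isNilpotent_delta ha hb
    have hex : ∃ j, ∃ r : F, (δ ^ j) K0 = r • LinearMap.id := ⟨k, 0, by
      rw [show δ ^ k = 0 from hk]; simp⟩
    obtain ⟨j, hj⟩ : ∃ j, Nat.find hex = j + 1 := Nat.exists_eq_succ_of_ne_zero fun e => by
      obtain ⟨r, hr⟩ := Nat.find_spec hex
      rw [e] at hr
      exact h3 r hr
    refine ⟨_, hmem j, fun r hr => Nat.find_min hex (m := j) (by omega) ⟨r, hr⟩, fun x hx hxa => ?_⟩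
    rcases Finset.mem_insert.1 hx with rfl | hxT
    · obtain ⟨r, hr⟩ := Nat.find_spec hex
      rw [hj, pow_succ', Module.End.mul_apply] at hr
      exact ⟨r, hr⟩
    · obtain ⟨r, hr⟩ := h4 x hxT hxa
      have hcomm : Commute (delta (C.eA ha hxa)) (δ ^ j) := (delta_comm h1 ha hxa hb).pow_right j
      have e := LinearMap.congr_fun (hcomm : _ = _) K0
      rw [Module.End.mul_apply, Module.End.mul_apply, hr] at e
      cases j with
      | zero => exact ⟨r, by simpa using e⟩
      | succ j => exact ⟨0, by rw [e, pow_succ, Module.End.mul_apply, delta_scalar]; simp⟩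

/-- A self-adjoint operator whose differences at a singular `a` are scalars. -/
theorem eq_sm_of_fixed [Fintype F] (h1 : C.s₁ = 1) (h : 3 ≤ n₁)
    (hex : 4 ≤ n₁ ∨ 3 < Fintype.card F) {a : Fin n₁ → F} (ha0 : a ≠ 0) (ha : C.f a a = 0)
    {K : (Fin n₁ → F) →ₗ[F] (Fin n₁ → F)} (hsa : C.SelfA K)
    (hfix : ∀ x (hx : C.f a x = 0), ∃ r : F, delta (C.eA ha hx) K = r • LinearMap.id) :
    ∃ lam κ : F, K = lam • LinearMap.id + κ • C.sm a a := by
  obtain ⟨c, hc, hac⟩ := partner h1 ha0 ha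
  -- the eigen equation
  have eqn : ∀ β (hb : C.f a β = 0), ∃ r : F, ∀ z,
      C.eA ha hb (K z) = K (C.eA ha hb z) + r • C.eA ha hb z := fun β hb => by
    obtain ⟨r, hr⟩ := hfix β hb
    refine ⟨r, fun z => ?_⟩
    have := LinearMap.congr_fun hr (C.eA ha hb z)
    simp [delta, cjA_apply] at this
    rw [← this]; abel
  have hca : C.f c a = 1 := by rw [f_comm h1, hac]
  have ev : ∀ β (hb : C.f a β = 0), C.f c β = 0 → C.f β β ≠ 0 → ∃ r : F,
      C.f a (K a) = 0 ∧ r = C.f β (K a) ∧ (2 * C.f β (K c) = -(C.f β β / 2) * r) ∧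
      ∀ y, C.f a y = 0 → C.f c y = 0 →
        C.f β (K y) - C.f β β / 2 * C.f y (K a) = C.f (K y) c * 0 + C.f β y * C.f a (K c) +
          r * C.f β y ∧
        ∀ y', C.f a y' = 0 → C.f c y' = 0 →
          - C.f y (K a) * C.f β y' = C.f β y * C.f y' (K a) + r * C.f y y' := by
    intro β hb hcb hbb
    obtain ⟨r, hr⟩ := eqn β hb
    have hbc : C.f β c = 0 := by rw [f_comm h1, hcb]
    have hba : C.f β a = 0 := by rw [f_comm h1, hb]
    have h2 := C.two
    have h3 := hr a
    have e1 := congrArg (C.f β) h3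
    simp only [C.eA_apply, C.Dop_sq ha hb] at e1
    simp [Dop_apply, h1, ha, hb, hba, hbb] at e1
    refine ⟨r, e1, ?_, ?_, fun y hay hcy => ⟨?_, fun y' hay' hcy' => ?_⟩⟩
    · have e2 := congrArg (C.f c) h3
      simp only [C.eA_apply, C.Dop_sq ha hb] at e2
      simp [Dop_apply, h1, ha, hb, hba, hca, hcb, e1] at e2
      linear_combination -e2
    · have e3 := congrArg (C.f c) (hr c)
      simp only [C.eA_apply, C.Dop_sq ha hb] at e3
      simp [Dop_apply, h1, ha, hb, hba, hca, hcb, hbc, hac, hc] at e3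
      rw [show C.f c (K β) = C.f β (K c) by rw [← hsa, f_comm h1],
        show C.f c (K a) = C.f a (K c) by rw [← hsa, f_comm h1]] at e3
      linear_combination e3
    · have e4 := congrArg (C.f c) (hr y)
      simp only [C.eA_apply, C.Dop_sq ha hb] at e4
      simp [Dop_apply, h1, ha, hb, hca, hcb, hay, hcy] at e4
      rw [show C.f a (K y) = C.f y (K a) by rw [← hsa, f_comm h1],
        show C.f c (K a) = C.f a (K c) by rw [← hsa, f_comm h1]] at e4
      linear_combination e4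
    · have e5 := congrArg (C.f y') (hr y)
      simp only [C.eA_apply, C.Dop_sq ha hb] at e5
      simp [Dop_apply, h1, f_comm h1 y' a, hay', hay, f_comm h1 y' β] at e5
      rw [show C.f a (K y) = C.f y (K a) by rw [← hsa, f_comm h1]] at e5
      rw [f_comm h1 y y']
      linear_combination e5
  have hw : ∀ β, C.f a β = 0 → C.f c β = 0 → C.f β β ≠ 0 → C.f β (K a) = 0 := by
    intro β hb hcb hbb
    rcases hex with h4 | hq
    · obtain ⟨γ, haγ, hcγ, hbγ, hγγ⟩ := exists_perp_aniso₃ h1 h4 ha hc hac hb hcb hbb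
      obtain ⟨r, -, rfl, -, e⟩ := ev γ haγ hcγ hγγ
      have := (e γ haγ hcγ).2 β hb hcb
      rw [f_comm h1 γ β, hbγ] at this
      simp at this
      exact this.resolve_left hγγ
    · classical
      obtain ⟨s, hs0, hs1⟩ : ∃ s : F, s ≠ 0 ∧ s * s ≠ 1 := by
        by_contra! hall
        have : Fintype.card F ≤ 3 := by
          rw [← Finset.card_univ]
          refine (Finset.card_le_card (t := {0, 1, -1}) fun x _ => ?_).trans Finset.card_le_three
          by_cases hx : x = 0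
          · simp [hx]
          · rcases mul_self_eq_one_iff.1 (hall x hx) with h5 | h5 <;> simp [h5]
        omega
      obtain ⟨r, -, rfl, e, -⟩ := ev β hb hcb hbb
      obtain ⟨r', -, rfl, e', -⟩ := ev (s • β) (by simp [hb]) (by simp [hcb]) (by simp [hs0, hbb])
      simp only [map_smul, LinearMap.smul_apply, smul_eq_mul] at e'
      have h2 := C.two
      have : s * (s * s - 1) * (C.f β β / 2) * C.f β (K a) = 0 := by linear_combination e' - s * e
      simpa [hs0, sub_eq_zero, hs1, hbb, h2] using this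
  obtain ⟨β₀, hb₀, hcb₀, hbb₀⟩ := exists_perp_aniso h1 h ha hc hac
  have hKa : K a = C.f a (K c) • a := by
    rw [eq_comb h1 ha hc hac hw, (ev β₀ hb₀ hcb₀ hbb₀).choose_spec.1, zero_smul, add_zero,
      ← hsa, f_comm h1]
  have hKc : K c = C.f c (K c) • a + C.f a (K c) • c := eq_comb h1 ha hc hac fun β hb hcb hbb => by
    obtain ⟨r, -, rfl, e, -⟩ := ev β hb hcb hbb
    rw [hw β hb hcb hbb, mul_zero] at e
    exact (mul_eq_zero.1 e).resolve_left C.two
  set lam := C.f a (K c)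
  set κ := C.f c (K c)
  have hKy : ∀ y, C.f a y = 0 → C.f c y = 0 → K y = lam • y := by
    intro y hay hcy
    refine sub_eq_zero.1 ?_
    have h0 := eq_comb h1 ha hc hac (w := K y - lam • y) fun β hb hcb hbb => by
      obtain ⟨r, -, rfl, -, e⟩ := ev β hb hcb hbb
      have h5 := (e y hay hcy).1
      rw [hw β hb hcb hbb, hKa] at h5
      simp [f_comm h1 y a, hay] at h5
      simp [h5, mul_comm]
    rw [h0, map_sub, map_sub, map_smul, map_smul, ← hsa, ← hsa, hKa, hKc]
    simp [hay, hcy]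
  have hdec : K = lam • LinearMap.id + κ • C.sm a a := LinearMap.ext fun z => by
    have h5 := hKy (z - C.f c z • a - C.f a z • c) (by simp [ha, hac]) (by simp [hc, hca])
    rw [map_sub, map_sub, map_smul, map_smul, hKa, hKc, sub_eq_iff_eq_add, sub_eq_iff_eq_add] at h5
    rw [h5]
    simp [sm_apply]
    module
  exact ⟨lam, κ, hdec⟩

theorem exists_sm_of_self [Fintype F] (h1 : C.s₁ = 1) (h : 3 ≤ n₁)
    (hex : 4 ≤ n₁ ∨ 3 < Fintype.card F)
    {S : AddSubgroup ((Fin n₁ → F) →ₗ[F] (Fin n₁ → F))} (hS : C.EStable S)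
    (hself : ∀ K ∈ S, C.SelfA K) (hsc : ∀ r : F, r • LinearMap.id ∈ S)
    {K₀ : (Fin n₁ → F) →ₗ[F] (Fin n₁ → F)} (hK₀ : K₀ ∈ S) (hne₀ : ∀ r : F, K₀ ≠ r • LinearMap.id) :
    ∃ a, ∃ κ : F, a ≠ 0 ∧ C.f a a = 0 ∧ κ ≠ 0 ∧ κ • C.sm a a ∈ S := by
  obtain ⟨a, ha0, ha⟩ := exists_isotropic h1 h
  obtain ⟨K, hK, hne, hfix⟩ := exists_fixed h1 hS ha hK₀ hne₀
  obtain ⟨lam, κ, hdec⟩ := eq_sm_of_fixed h1 h hex ha0 ha (hself K hK) hfix
  refine ⟨a, κ, ha0, ha, fun hκ => hne lam (by rw [hdec, hκ, zero_smul, add_zero]), ?_⟩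
  have := S.sub_mem hK (hsc lam)
  rwa [hdec, add_sub_cancel_left] at this

end TT

end Cfsg.Agent.TenForm
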