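import Cfsg.Agent.Lib.C4.TenQ

/-!
# The radical of a ruling stabiliser inside an overgroup

* `Rad N m` : `m` is trivial on `W = L ⊗ B` and on `W^⊥ / W`
* `rad_scalar` : such an element moves `x ⊗ y` (`x ∈ ker N`) by `u ⊗ y`
-/

set_option autoImplicit false
set_option linter.unusedSectionVars false
set_option linter.unusedSimpArgs false

namespace Cfsg.Agent.TenForm

open Module

variable {ι : Type} [Fintype ι] [DecidableEq ι] {F : Type*} [Field F] [Fintype F] {n₁ n₂ : ℕ}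

namespace TT

variable (C : TT ι F n₁ n₂)

/-- `T = N ⊗ 1`. -/
noncomputable abbrev Tm (N : (Fin n₁ → F) →ₗ[F] (Fin n₁ → F)) : (ι → F) →ₗ[F] (ι → F) :=
  C.tm N LinearMap.id

/-- Trivial on `W` and on `W^⊥ / W`. -/
def Rad (N : (Fin n₁ → F) →ₗ[F] (Fin n₁ → F)) (m : (ι → F) ≃ₗ[F] (ι → F)) : Prop :=
  (∀ x ∈ LinearMap.range (C.Tm N), m x = x) ∧
    ∀ x, C.Tm N x = 0 → m x - x ∈ LinearMap.range (C.Tm N)

variable {C}

theorem Skew.eq_zero {X : (ι → F) →ₗ[F] (ι → F)} (h : C.Skew X) {z : ι → F}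
    (hz : ∀ w ∈ LinearMap.range X, C.p z w = 0) : X z = 0 :=
  C.pnd _ fun v => by rw [h z v, hz _ ⟨v, rfl⟩, neg_zero]

theorem Skew.perp {X : (ι → F) →ₗ[F] (ι → F)} (h : C.Skew X) {z w : ι → F} (hz : X z = 0)
    (hw : w ∈ LinearMap.range X) : C.p z w = 0 := by
  obtain ⟨v, rfl⟩ := hw
  rw [← neg_eq_zero, ← h z v, hz, map_zero, LinearMap.zero_apply]

variable {l : ℕ} {M : Subgroup ((ι → F) ≃ₗ[F] (ι → F))} {N : (Fin n₁ → F) →ₗ[F] (Fin n₁ → F)}

theorem Root.skewT (hN : C.Root l N) : C.Skew (C.Tm N) := C.skew_tm hN.skewA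

theorem Root.sqT (hN : C.Root l N) (x : ι → F) : C.Tm N (C.Tm N x) = 0 := by
  rw [C.tm_comp, show N.comp N = 0 from LinearMap.ext hN.sq, C.tm_zero, LinearMap.zero_apply]

theorem Root.isotropicT (hN : C.Root l N) {x y : ι → F} (hx : x ∈ LinearMap.range (C.Tm N))
    (hy : y ∈ LinearMap.range (C.Tm N)) : C.p x y = 0 := by
  obtain ⟨u, rfl⟩ := hx
  exact hN.skewT.perp (hN.sqT u) hy

theorem Tm_t_mem (hN : C.Root l N) {a : Fin n₁ → F} (ha : N a = 0) (y : Fin n₂ → F) :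
    C.Tm N (C.t a y) = 0 := by rw [C.tm_t, ha, map_zero, LinearMap.zero_apply]

theorem Rad.symm_fix {m : (ι → F) ≃ₗ[F] (ι → F)} (hm : C.Rad N m) {x : ι → F}
    (hx : x ∈ LinearMap.range (C.Tm N)) : m.symm x = x :=
  m.injective (by rw [m.apply_symm_apply, hm.1 x hx])

theorem Rad.symm_sub {m : (ι → F) ≃ₗ[F] (ι → F)} (hm : C.Rad N m) {x : ι → F} (hx : C.Tm N x = 0) :
    m.symm x - x = -(m x - x) := by
  have := hm.symm_fix (hm.2 x hx)
  rw [map_sub, m.symm_apply_apply] at this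
  rw [← this]; abel

theorem Rad.sub_mem_ker (hN : C.Root l N) {m : (ι → F) ≃ₗ[F] (ι → F)} (hi : C.Iso m)
    (hm : C.Rad N m) (z : ι → F) : C.Tm N (m z - z) = 0 :=
  hN.skewT.eq_zero fun w hw => by
    rw [map_sub, LinearMap.sub_apply]
    nth_rewrite 1 [← hm.1 w hw]
    rw [hi, sub_self]

theorem Rad.symm_sub_mem_ker (hN : C.Root l N) {m : (ι → F) ≃ₗ[F] (ι → F)} (hi : C.Iso m)
    (hm : C.Rad N m) (z : ι → F) : C.Tm N (m.symm z - z) = 0 :=
  hN.skewT.eq_zero fun w hw => by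
    rw [map_sub, LinearMap.sub_apply, hi.symm_left, hm.1 w hw, sub_self]

/-- The commutator identity. -/
theorem rad_identity (H : C.Hyp M l) (hQ : C.QProp M l) (hN : C.Root l N)
    {m : (ι → F) ≃ₗ[F] (ι → F)} (hm : m ∈ M) (hrad : C.Rad N m)
    {a : Fin n₁ → F} (ha : a ∈ LinearMap.range N) {x : Fin n₁ → F} (hx : N x = 0) :
    ∃ κ : F, ∀ c c' y y', C.f a c' * C.g y (C.prA c (m (C.t x y') - C.t x y')) -
      C.s₁ * C.f a c * C.g (C.prA c' (m (C.t x y) - C.t x y)) y' = κ * C.f (N c) c' * C.g y y' := by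
  have haa : C.f a a = 0 := hN.isotropic ha ha
  have hax : C.f a x = 0 := hN.skewA.mem_ker_iff.1 hx a ha
  have hNa : N a = 0 := hN.range_le_ker ha
  set D := C.Dop a x with hD
  set D' := C.tm D LinearMap.id with hD'
  have hi := H.iso m hm
  have hT := hN.skewT
  have hD'sk : C.Skew D' := C.skew_tm (C.skewA_Dop a x)
  have hDk : ∀ z, C.Tm N (D' z) = 0 := fun z => by
    rw [C.tm_comp, show N.comp D = 0 from LinearMap.ext fun w => by
      simp [hD, Dop_apply, hx, hNa], C.tm_zero, LinearMap.zero_apply]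
  have hDW : ∀ z, C.Tm N z = 0 → D' z ∈ LinearMap.range (C.Tm N) := by
    intro z hz
    rw [C.range_tm, C.mem_sub]
    intro y
    rw [C.prB_tm]
    have h1 : N (C.prB y z) = 0 := by rw [← C.prB_tm, hz, map_zero]
    rw [hD, Dop_apply, hN.skewA.mem_ker_iff.1 h1 a ha, mul_zero, zero_smul, sub_zero]
    exact Submodule.smul_mem _ _ ha
  have hD0 : ∀ z ∈ LinearMap.range (C.Tm N), D' z = 0 := fun z hz =>
    hD'sk.eq_zero fun w hw => by
      obtain ⟨v, rfl⟩ := hw
      exact C.p_zero_comm (hT.perp (hDk v) hz)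
  have hD2 : ∀ z, D' (D' z) = C.tm (D.comp D) LinearMap.id z := fun z => by
    rw [hD', C.tm_comp]; rfl
  have hD2W : ∀ z, D' (D' z) ∈ LinearMap.range (C.Tm N) := fun z => hDW _ (hDk z)
  have hD2k : ∀ z, C.Tm N z = 0 → D' (D' z) = 0 := fun z hz => hD0 _ (hDW z hz)
  set X : (ι → F) →ₗ[F] (ι → F) := m.toLinearMap.comp (D'.comp m.symm.toLinearMap) - D' with hXd
  have hX : ∀ z, X z = m (D' (m.symm z)) - D' z := fun z => rfl
  have hXW : ∀ z, X z ∈ LinearMap.range (C.Tm N) := fun z => by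
    rw [hX, show m (D' (m.symm z)) = m (D' z) + m (D' (m.symm z - z)) by
      rw [← map_add, ← map_add, add_sub_cancel], add_sub_right_comm]
    refine Submodule.add_mem _ (hrad.2 _ (hDk z)) ?_
    have h1 := hDW _ (hrad.symm_sub_mem_ker hN hi z)
    rw [hrad.1 _ h1]; exact h1
  have hXk : ∀ z, C.Tm N z = 0 → X z = 0 := fun z hz => by
    have h1 : D' (m.symm z - z) = 0 := hD0 _ (by
      rw [hrad.symm_sub hz]; exact Submodule.neg_mem _ (hrad.2 z hz))
    rw [map_sub, sub_eq_zero] at h1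
    rw [hX, h1, hrad.1 _ (hDW z hz), sub_self]
  have hXs : C.Skew X := fun u v => by
    rw [hX, hX, map_sub, LinearMap.sub_apply, map_sub, hD'sk u v, ← hi.symm_right, hD'sk,
      hi.symm_left]
    ring
  have hr : C.te (C.eA haa hax) (LinearEquiv.refl F _) ∈ M := H.left a x haa hax
  set r := C.te (C.eA haa hax) (LinearEquiv.refl F _) with hrd
  have hrz : ∀ z, r z = z + D' z + (2 : F)⁻¹ • D' (D' z) := fun z => by
    have := LinearMap.congr_fun (C.ext_pure (L := r.toLinearMap)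
      (L' := LinearMap.id + D' + (2 : F)⁻¹ • D'.comp D') fun b y => by
        simp [hrd, C.te_t, C.eA_apply, hD', C.tm_t, hD]) z
    exact this
  have hin : InM M X := by
    refine ⟨m * r * m⁻¹ * r⁻¹, mul_mem (mul_mem (mul_mem hm hr) (inv_mem hm)) (inv_mem hr), fun z => ?_⟩
    obtain ⟨w, rfl⟩ := r.surjective z
    show m (r (m.symm (r.symm (r w)))) = r w + X (r w)
    have h1 : X (r w) = X w := by
      rw [← sub_eq_zero, ← map_sub]
      refine hXk _ ?_
      rw [hrz, add_assoc, add_sub_cancel_left, map_add, map_smul, hDk, hDk, smul_zero, add_zero]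
    have h2 : D' (D' (m.symm w)) = D' (D' w) := by
      rw [← sub_eq_zero, ← map_sub, ← map_sub]
      exact hD2k _ (hrad.symm_sub_mem_ker hN hi w)
    rw [r.symm_apply_apply, h1, hrz, map_add, map_add, map_smul, m.apply_symm_apply, h2,
      hrad.1 _ (hD2W w), hX, hrz]
    abel
  obtain ⟨κ, hκ⟩ := hQ N hN X hXs (by rintro _ ⟨z, rfl⟩; exact hXW z) (fun z hz => hXk z hz) hin
  refine ⟨κ, fun c c' y y' => ?_⟩
  set z := C.t c y
  set z' := C.t c' y'
  set w := m.symm z - z with hw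
  set w' := m.symm z' - z' with hw'
  have hlhs : C.p (X z) z' = C.p (D' z) w' + C.p (D' w) z' := by
    have h3 : C.p (D' w) w' = 0 := C.p_zero_comm
      (hT.perp (hrad.symm_sub_mem_ker hN hi z') (hDW _ (hrad.symm_sub_mem_ker hN hi z)))
    rw [hX, map_sub, LinearMap.sub_apply, ← hi.symm_right, show m.symm z = z + w by rw [hw]; abel,
      show m.symm z' = z' + w' by rw [hw']; abel]
    simp only [map_add, LinearMap.add_apply, h3]
    ring
  have hpr : ∀ (c : Fin n₁ → F) (y v : Fin n₂ → F),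
      C.p (m.symm (C.t c y) - C.t c y) (C.t x v) = C.s₁ * C.g y (C.prA c (m (C.t x v) - C.t x v)) := by
    intro c y v
    rw [C.hg (C.prA c (m (C.t x v) - C.t x v)) y, C.g_prA, C.hp (C.t c y) (m (C.t x v) - C.t x v),
      map_sub, map_sub, LinearMap.sub_apply, hi.symm_left]
    linear_combination (-(C.p (C.t c y) (m (C.t x v)) - C.p (C.t c y) (C.t x v))) *
      (C.hs₁ + C.s₁ * C.s₁ * C.hs₂)
  have hpa : ∀ (u : ι → F) (v : Fin n₂ → F), C.p (m.symm u - u) (C.t a v) = 0 := fun u v => by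
    refine hT.perp (hrad.symm_sub_mem_ker hN hi u) ?_
    rw [C.range_tm]; exact C.t_mem_sub ha v
  have hpd : ∀ (c c' : Fin n₁ → F) (y y' : Fin n₂ → F),
      C.p (m.symm (C.t c y) - C.t c y) (C.t (D c') y') =
        -(C.f a c' * C.g y (C.prA c (m (C.t x y') - C.t x y'))) := by
    intro c c' y y'
    have h1 := hpr c y y'
    have h2 := hpa (C.t c y) y'
    generalize m.symm (C.t c y) - C.t c y = u at h1 h2 ⊢
    rw [hD, Dop_apply, map_sub, LinearMap.sub_apply, map_smul, map_smul, LinearMap.smul_apply,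
      LinearMap.smul_apply, map_sub, map_smul, map_smul, h1, h2, smul_eq_mul, smul_eq_mul]
    linear_combination -(C.f a c' * C.g y (C.prA c (m (C.t x y') - C.t x y'))) * C.hs₁
  have e1 : C.p (D' w) z' = C.f a c' * C.g y (C.prA c (m (C.t x y') - C.t x y')) := by
    rw [hD'sk, hD', C.tm_t, LinearMap.id_apply, hw, hpd, neg_neg]
  have e2 : C.p (D' z) w' = -(C.s₁ * C.f a c * C.g (C.prA c' (m (C.t x y) - C.t x y)) y') := by
    rw [hD', C.tm_t, LinearMap.id_apply, C.hp w', hw', hpd,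
      C.hg (C.prA c' (m (C.t x y) - C.t x y)) y']
    linear_combination -(C.s₁ * C.f a c * C.g (C.prA c' (m (C.t x y) - C.t x y)) y') * C.hs₂
  rw [hκ, LinearMap.smul_apply, map_smul, LinearMap.smul_apply, C.tm_t, C.pol, LinearMap.id_apply,
    e1, e2] at hlhs
  rw [smul_eq_mul] at hlhs
  linear_combination -hlhs

theorem Root.exists_perp_two (hN : C.Root 2 N) (c : Fin n₁ → F) :
    ∃ a ∈ LinearMap.range N, a ≠ 0 ∧ C.f a c = 0 := by
  obtain ⟨a, a', -, -, -, rfl, hl⟩ := hN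
  let φ : LinearMap.range (C.Dop a a') →ₗ[F] F := (C.f.flip c).comp (Submodule.subtype _)
  have h1 := φ.finrank_range_add_finrank_ker
  have h2 := Submodule.finrank_le (LinearMap.range φ)
  rw [Module.finrank_self] at h2
  rw [hl] at h1
  obtain ⟨v, hv, hv0⟩ := Submodule.exists_mem_ne_zero_of_ne_bot (p := LinearMap.ker φ) fun e => by
    rw [e, finrank_bot] at h1; omega
  exact ⟨v, v.2, fun e => hv0 (Subtype.ext e), hv⟩

theorem Rad.mul {m m' : (ι → F) ≃ₗ[F] (ι → F)} (h : C.Rad N m) (h' : C.Rad N m') : C.Rad N (m * m') :=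
  ⟨fun x hx => by rw [LinearEquiv.mul_apply, h'.1 x hx, h.1 x hx], fun x hx => by
    rw [LinearEquiv.mul_apply, show m (m' x) - x = (m x - x) + m (m' x - x) by rw [map_sub]; abel,
      h.1 _ (h'.2 x hx)]
    exact Submodule.add_mem _ (h.2 x hx) (h'.2 x hx)⟩

theorem Rad.inv {m : (ι → F) ≃ₗ[F] (ι → F)} (h : C.Rad N m) : C.Rad N m⁻¹ :=
  ⟨fun x hx => h.symm_fix hx, fun x hx => by
    show m.symm x - x ∈ _
    rw [h.symm_sub hx]; exact Submodule.neg_mem _ (h.2 x hx)⟩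

theorem Rad.conj {m : (ι → F) ≃ₗ[F] (ι → F)} (h : C.Rad N m)
    {σ : (Fin n₁ → F) ≃ₗ[F] (Fin n₁ → F)} (τ : (Fin n₂ → F) ≃ₗ[F] (Fin n₂ → F))
    (hσ : ∀ z, σ (N z) = N (σ z)) : C.Rad N (C.te σ τ * m * (C.te σ τ)⁻¹) := by
  have hc : ∀ x, C.te σ τ (C.Tm N x) = C.Tm N (C.te σ τ x) := fun x =>
    LinearMap.congr_fun (C.ext_pure (L := (C.te σ τ).toLinearMap.comp (C.Tm N))
      (L' := (C.Tm N).comp (C.te σ τ).toLinearMap) fun a z => by simp [C.te_t, C.tm_t, hσ]) x
  refine ⟨?_, fun x hx => ?_⟩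
  · rintro _ ⟨v, rfl⟩
    obtain ⟨u, rfl⟩ := (C.te σ τ).surjective v
    show C.te σ τ (m ((C.te σ τ).symm (C.Tm N (C.te σ τ u)))) = _
    rw [← hc, LinearEquiv.symm_apply_apply, h.1 _ ⟨u, rfl⟩]
  · obtain ⟨u, rfl⟩ := (C.te σ τ).surjective x
    rw [← hc, LinearEquiv.map_eq_zero_iff] at hx
    obtain ⟨v, hv⟩ := h.2 u hx
    show C.te σ τ (m ((C.te σ τ).symm (C.te σ τ u))) - C.te σ τ u ∈ _
    rw [LinearEquiv.symm_apply_apply, ← map_sub, ← hv, hc]
    exact ⟨_, rfl⟩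

/-- An element moving `x ⊗ y` by `f(x₁,x) · a ⊗ S y`. -/
def Pure (C : TT ι F n₁ n₂) (N : (Fin n₁ → F) →ₗ[F] (Fin n₁ → F)) (a x₁ : Fin n₁ → F)
    (S : (Fin n₂ → F) →ₗ[F] (Fin n₂ → F)) (m : (ι → F) ≃ₗ[F] (ι → F)) : Prop :=
  C.Rad N m ∧ ∀ x, N x = 0 → ∀ y, m (C.t x y) = C.t x y + C.t (C.f x₁ x • a) (S y)

theorem Pure.on_ker {a x₁ : Fin n₁ → F} {S : (Fin n₂ → F) →ₗ[F] (Fin n₂ → F)}
    {m : (ι → F) ≃ₗ[F] (ι → F)} (h : Pure C N a x₁ S m) {z : ι → F} (hz : C.Tm N z = 0) :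
    m z = z + C.tm (C.sm a x₁) S z := by
  have hz' : z ∈ C.sub (LinearMap.ker N) := by rw [← C.ker_tm]; exact LinearMap.mem_ker.2 hz
  exact C.eq_on_sub (φ := m.toLinearMap) (ψ := LinearMap.id + C.tm (C.sm a x₁) S)
    (fun x hx y => by simp [h.2 x hx y, C.tm_t, sm_apply]) hz'

/-- Commutators of two pure elements. -/
theorem pure_comm (H : C.Hyp M l) (hQ : C.QProp M l) (hN : C.Root l N) (h1 : C.s₁ = -1)
    {a c x₁ x₂ : Fin n₁ → F} (hac : C.f a c = 1) (hx₁ : N x₁ = 0) (hx₂ : N x₂ = 0)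
    (h12 : C.f x₁ x₂ = 1) {S : (Fin n₂ → F) →ₗ[F] (Fin n₂ → F)} (hS : C.swap.SkewA S)
    {m₂ m₃ : (ι → F) ≃ₗ[F] (ι → F)} (hm₂ : m₂ ∈ M) (hm₃ : m₃ ∈ M)
    (p₂ : Pure C N a x₁ S m₂) (p₃ : Pure C N a x₂ S m₃) :
    ∃ κ : F, ∀ y y', C.g y (S (S y')) = κ * C.g y y' := by
  have hT := hN.skewT
  set P₂ := C.tm (C.sm a x₁) S
  set P₃ := C.tm (C.sm a x₂) S
  set X : (ι → F) →ₗ[F] (ι → F) := m₂.toLinearMap.comp m₃.toLinearMap - m₃.toLinearMap.comp m₂.toLinearMap
  have hw₂ := p₂.1.sub_mem_ker hN (H.iso _ hm₂)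
  have hw₃ := p₃.1.sub_mem_ker hN (H.iso _ hm₃)
  have hX : ∀ z, X z = P₂ (m₃ z - z) - P₃ (m₂ z - z) := fun z => by
    have e2 := p₂.on_ker (hw₃ z)
    have e3 := p₃.on_ker (hw₂ z)
    rw [map_sub] at e2 e3
    show m₂ (m₃ z) - m₃ (m₂ z) = _
    rw [sub_eq_iff_eq_add.1 e2, sub_eq_iff_eq_add.1 e3]
    abel
  have hP : ∀ {x₀ : Fin n₁ → F} {m : (ι → F) ≃ₗ[F] (ι → F)}, Pure C N a x₀ S m → ∀ z, C.Tm N z = 0 →
      C.tm (C.sm a x₀) S z ∈ LinearMap.range (C.Tm N) := fun {x₀ m} p z hz => by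
    have := p.1.2 z hz
    rwa [p.on_ker hz, add_sub_cancel_left] at this
  have hP0 : ∀ {x₀ : Fin n₁ → F} {m : (ι → F) ≃ₗ[F] (ι → F)}, Pure C N a x₀ S m →
      ∀ z ∈ LinearMap.range (C.Tm N), C.tm (C.sm a x₀) S z = 0 := fun {x₀ m} p z hz => by
    have hzk : C.Tm N z = 0 := by obtain ⟨v, rfl⟩ := hz; exact hN.sqT v
    have := p.on_ker hzk
    rw [p.1.1 z hz] at this
    exact (add_eq_left.1 this.symm)
  have hXW : ∀ z, X z ∈ LinearMap.range (C.Tm N) := fun z => by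
    rw [hX]; exact Submodule.sub_mem _ (hP p₂ _ (hw₃ z)) (hP p₃ _ (hw₂ z))
  have hXk : ∀ z, C.Tm N z = 0 → X z = 0 := fun z hz => by
    rw [hX, hP0 p₂ _ (p₃.1.2 z hz), hP0 p₃ _ (p₂.1.2 z hz), sub_self]
  set u := (m₂ * m₃) * (m₃ * m₂)⁻¹ with hu
  have huM : u ∈ M := mul_mem (mul_mem hm₂ hm₃) (inv_mem (mul_mem hm₃ hm₂))
  have hua : ∀ z, u z = z + X z := fun z => by
    obtain ⟨w, rfl⟩ := (m₃ * m₂).surjective z
    have h3 : X ((m₃ * m₂) w) = X w := by
      rw [← sub_eq_zero, ← map_sub]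
      refine hXk _ ?_
      rw [LinearEquiv.mul_apply, show m₃ (m₂ w) - w = (m₃ (m₂ w) - m₂ w) + (m₂ w - w) by abel, map_add,
        hw₃, hw₂, add_zero]
    rw [h3, hu, LinearEquiv.mul_apply]
    show (m₂ * m₃) ((m₃ * m₂).symm ((m₃ * m₂) w)) = _
    rw [LinearEquiv.symm_apply_apply, LinearEquiv.mul_apply, LinearEquiv.mul_apply]
    show _ = _ + (m₂ (m₃ w) - m₃ (m₂ w))
    abel
  have hXs : C.Skew X := fun z v => by
    have e := H.iso u huM z v
    rw [hua, hua, map_add, map_add, LinearMap.add_apply, LinearMap.add_apply,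
      hN.isotropicT (hXW z) (hXW v), add_zero] at e
    linear_combination e
  obtain ⟨κ, hκ⟩ := hQ N hN X hXs (by rintro _ ⟨z, rfl⟩; exact hXW z) (fun z hz => hXk z hz)
    ⟨u, huM, hua⟩
  have hca : C.f c a = -1 := by rw [C.hf a c, hac, h1, mul_one]
  have key : ∀ {x₀ x₀' : Fin n₁ → F} {m : (ι → F) ≃ₗ[F] (ι → F)}, C.Iso m →
      Pure C N a x₀' S m → N x₀ = 0 → ∀ y y', C.p (C.tm (C.sm a x₀) S (m (C.t c y) - C.t c y)) (C.t c y') =
        C.f x₀' x₀ * C.g y (S (S y')) := by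
    intro x₀ x₀' m hi p hx₀ y y'
    rw [C.adjoint_tm (N' := -C.sm x₀ a) (K' := -S)
      (fun b b' => by
        simp [sm_apply]; rw [C.hf x₀ b, h1]; ring) (fun b b' => hS b b' ▸ by simp [TT.swap])]
    rw [C.tm_t]
    simp only [LinearMap.neg_apply, map_neg, neg_neg, sm_apply, hac, one_smul]
    rw [map_sub, LinearMap.sub_apply]
    nth_rewrite 1 [show C.t x₀ (S y') = m (m.symm (C.t x₀ (S y'))) from (m.apply_symm_apply _).symm]
    rw [hi, show m.symm (C.t x₀ (S y')) = C.t x₀ (S y') - C.t (C.f x₀' x₀ • a) (S (S y')) by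
      rw [← sub_add_cancel (m.symm (C.t x₀ (S y'))) (C.t x₀ (S y')),
        p.1.symm_sub (Tm_t_mem hN hx₀ _), p.2 x₀ hx₀]
      abel]
    simp [C.pol, hca]
  refine ⟨κ * C.f (N c) c * (-(1 / 2)), fun y y' => ?_⟩
  have e := congrArg (fun Y : (ι → F) →ₗ[F] (ι → F) => C.p (Y (C.t c y)) (C.t c y')) hκ
  have h21 : C.f x₂ x₁ = -1 := by rw [C.hf x₁ x₂, h12, h1, mul_one]
  simp only [hX, LinearMap.smul_apply, C.tm_t, map_smul, map_sub, LinearMap.sub_apply, C.pol,
    LinearMap.id_apply, smul_eq_mul] at e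
  have k2 := key (H.iso _ hm₃) p₃ hx₁ y y'
  have k3 := key (H.iso _ hm₂) p₂ hx₂ y y'
  simp only [map_sub, LinearMap.sub_apply] at k2 k3
  have h2 := C.two
  rw [h21] at k2
  rw [h12] at k3
  field_simp
  linear_combination (k2 - k3) - e

/-- Elements of the radical act by scalars. -/
theorem rad_scalar (H : C.Hyp M l) (hQ : C.QProp M l) (hN : C.Root l N)
    {m : (ι → F) ≃ₗ[F] (ι → F)} (hm : m ∈ M) (hrad : C.Rad N m) {x : Fin n₁ → F} (hx : N x = 0) :
    ∃ u ∈ LinearMap.range N, ∀ y, m (C.t x y) = C.t x y + C.t u y := by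
  have hδ : ∀ z y, N z = 0 → C.prA z (m (C.t x y) - C.t x y) = 0 := fun z y hz => C.gnd _ fun v => by
    rw [C.g_prA]
    exact C.p_zero_comm (hN.skewT.perp (Tm_t_mem hN hz v) (hrad.2 _ (Tm_t_mem hN hx y)))
  suffices hsc : ∀ c, ∃ r : F, ∀ y, C.prA c (m (C.t x y) - C.t x y) = r • y by
    have hn : 0 < n₂ := by rcases H.dimB with h | h <;> omega
    have hy0 : (Pi.single ⟨0, hn⟩ 1 : Fin n₂ → F) ≠ 0 := by simp
    obtain ⟨v0, hv0⟩ := C.swap.exists_dual hy0
    set y0 : Fin n₂ → F := Pi.single ⟨0, hn⟩ 1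
    have hv0' : C.g y0 v0 = 1 := hv0
    set u := C.prB v0 (m (C.t x y0) - C.t x y0)
    refine ⟨u, hN.skewA.mem_range_iff.2 fun z hz => ?_, fun y => sub_eq_iff_eq_add'.1 (C.p_ext fun c v => ?_)⟩
    · rw [C.f_prB, ← C.g_prA, hδ z y0 hz, map_zero, LinearMap.zero_apply]
    · obtain ⟨r, hr⟩ := hsc c
      rw [← C.g_prA, C.pol, C.f_prB, ← C.g_prA, hr, hr, map_smul, map_smul, LinearMap.smul_apply,
        LinearMap.smul_apply, hv0']
      simp
  rcases H.kind with ⟨rfl, h1, h2⟩ | ⟨rfl, h1⟩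
  swap
  · intro c
    obtain ⟨a, ha, ha0, hac⟩ := hN.exists_perp_two c
    obtain ⟨c', hc'⟩ := C.exists_dual ha0
    obtain ⟨κ, hκ⟩ := rad_identity H hQ hN hm hrad ha hx
    refine ⟨κ * C.f (N c) c', fun y' => ?_⟩
    refine C.swap.f_ext fun y => ?_
    show C.g _ y = C.g _ y
    have e := hκ c c' y y'
    rw [hc', hac] at e
    rw [map_smul, LinearMap.smul_apply, smul_eq_mul, C.hg y, C.hg y]
    linear_combination C.s₂ * e
  -- a line
  obtain ⟨a, r₀, hr₀, ha0, haa, hNa⟩ := hN.exists_one h1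
  have haR : a ∈ LinearMap.range N := by
    obtain ⟨c, hc⟩ := C.exists_dual ha0
    exact ⟨r₀⁻¹ • c, by simp [hNa, sm_apply, hc, hr₀]⟩
  obtain ⟨c, hac⟩ := C.exists_dual ha0
  have hker : ∀ z, N z = 0 ↔ C.f a z = 0 := fun z => by simp [hNa, sm_apply, hr₀, ha0]
  suffices hK : ∃ r : F, ∀ y, C.prA c (m (C.t x y) - C.t x y) = r • y by
    intro z
    obtain ⟨r, hr⟩ := hK
    refine ⟨C.f a z * r, fun y => ?_⟩
    have h0 := hδ (z - C.f a z • c) y ((hker _).2 (by simp [hac]))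
    rw [map_sub C.prA, map_smul C.prA, LinearMap.sub_apply, LinearMap.smul_apply, hr, sub_eq_zero,
      smul_smul] at h0
    exact h0
  let KK : ((ι → F) ≃ₗ[F] (ι → F)) → (Fin n₁ → F) → (Fin n₂ → F) →ₗ[F] (Fin n₂ → F) := fun m x =>
    (C.prA c).comp ((m.toLinearMap - LinearMap.id).comp (C.t x))
  have hKK : ∀ m x y, KK m x y = C.prA c (m (C.t x y) - C.t x y) := fun m x y => rfl
  have hmove : ∀ {m : (ι → F) ≃ₗ[F] (ι → F)}, C.Rad N m → ∀ {x}, N x = 0 → ∀ y,
      m (C.t x y) = C.t x y + C.t a (KK m x y) := by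
    intro m hm x hx y
    refine sub_eq_iff_eq_add'.1 ?_
    rw [hKK]
    have h0 := hm.2 _ (Tm_t_mem hN hx y)
    rw [C.range_tm] at h0
    refine C.eq_on_sub (L := LinearMap.range N) (φ := LinearMap.id) (ψ := (C.t a).comp (C.prA c)) ?_ h0
    rintro _ ⟨b, rfl⟩ v
    simp [hNa, sm_apply, C.prA_t, hac, smul_smul, mul_comm]
  have hsum : ∀ {m : (ι → F) ≃ₗ[F] (ι → F)}, m ∈ M → C.Rad N m → ∀ {x}, N x = 0 →
      ∃ r : F, ∀ y y', C.g y (KK m x y') + C.g (KK m x y) y' = r * C.g y y' := by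
    intro m hm hr x hx
    obtain ⟨κ, hκ⟩ := rad_identity H hQ hN hm hr haR hx
    refine ⟨κ * C.f (N c) c, fun y y' => ?_⟩
    have := hκ c c y y'
    rw [hac, h1] at this
    rw [hKK, hKK]
    linear_combination this
  obtain ⟨κ, hκ⟩ := hsum hm hrad hx
  refine ⟨κ / 2, ?_⟩
  set S : (Fin n₂ → F) →ₗ[F] (Fin n₂ → F) := KK m x - (κ / 2) • LinearMap.id with hSd
  suffices hS0 : S = 0 by
    intro y
    have := LinearMap.congr_fun hS0 y
    rwa [hSd, LinearMap.sub_apply, LinearMap.zero_apply, sub_eq_zero, hKK, LinearMap.smul_apply,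
      LinearMap.id_apply] at this
  have hg : ∀ y z, C.g y z = C.g z y := fun y z => f_comm (C := C.swap) h2 y z
  have h22 := C.two
  have hS : ∀ y y', C.g (S y) y' = -C.g y (S y') := fun y y' => by
    have := hκ y y'
    rw [hSd]
    simp only [LinearMap.sub_apply, LinearMap.smul_apply, LinearMap.id_apply, map_sub, map_smul,
      smul_eq_mul]
    field_simp
    linear_combination (2 : F) * this
  have hn3 : 3 ≤ n₂ := by
    rcases H.dimB with h | h
    · exact h.2.1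
    · exact absurd (h.1.symm.trans h2) (fun e => C.two (by linear_combination -e))
  by_contra hne
  obtain ⟨u, hu, hSu⟩ : ∃ u, C.g u u ≠ 0 ∧ S u ≠ 0 := by
    by_contra! hall
    refine hne (eq_zero_of_singular (C := C.swap) h2 hn3 S fun z (hz : C.g z z = 0) => ?_)
    by_cases hz0 : z = 0
    · rw [hz0, map_zero]
    obtain ⟨w, hw, hzw⟩ := partner (C := C.swap) h2 hz0 hz
    have hzw' : C.g z w = 1 := hzw
    have hw' : C.g w w = 0 := hw
    have e1 := hall (z + w) (by simp [hz, hw', hzw', hg w z]; exact fun h => h22 (by linear_combination h))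
    have e2 := hall (z - w) (by simp [hz, hw', hzw', hg w z]; exact fun h => h22 (by linear_combination -h))
    rw [map_add] at e1
    rw [map_sub] at e2
    exact (smul_eq_zero.1 (show (2 : F) • S z = 0 by
      rw [two_smul]; linear_combination (norm := module) e1 + e2)).resolve_left h22
  set q := C.g u u
  set ρ : (Fin n₂ → F) →ₗ[F] (Fin n₂ → F) := LinearMap.id - (2 / q) • C.swap.sm u u with hρ
  have hρap : ∀ z, ρ z = z - (2 * C.g u z / q) • u := fun z => by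
    rw [hρ, LinearMap.sub_apply, LinearMap.smul_apply, LinearMap.id_apply, sm_apply, smul_smul]
    congr 2; show 2 / q * C.g u z = _; ring
  have hρρ : ∀ z, ρ (ρ z) = z := fun z => by
    rw [hρap, hρap, map_sub, map_smul, smul_eq_mul, show C.g u u = q from rfl]
    match_scalars <;> field_simp <;> ring
  let τ : (Fin n₂ → F) ≃ₗ[F] (Fin n₂ → F) :=
    LinearEquiv.ofLinearMap ρ ρ (LinearMap.ext hρρ) (LinearMap.ext hρρ)
  have hτap : ∀ z, τ z = z - (2 * C.g u z / q) • u := hρap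
  have hτs : ∀ z, τ.symm z = τ z := fun z => rfl
  have hr := H.refl rfl τ u hu hτap
  set r := C.te (LinearEquiv.refl F (Fin n₁ → F)) τ with hrd
  have hrad' : C.Rad N (r * m * r⁻¹) := hrad.conj τ fun z => rfl
  set m' := r * m * r⁻¹ * m⁻¹ with hm'd
  have hm' : m' ∈ M := mul_mem (mul_mem (mul_mem hr hm) (inv_mem hr)) (inv_mem hm)
  have hR' : C.Rad N m' := hrad'.mul hrad.inv
  -- the displacement of `m'` at `x`
  set S0 : (Fin n₂ → F) →ₗ[F] (Fin n₂ → F) :=
    τ.toLinearMap.comp (S.comp τ.toLinearMap) - S with hS0d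
  have hK' : ∀ y, m' (C.t x y) = C.t x y + C.t a (S0 y) := fun y => by
    have e1 : m⁻¹ (C.t x y) = C.t x y - C.t a (KK m x y) := by
      refine m.injective ?_
      show m (m.symm (C.t x y)) = _
      rw [m.apply_symm_apply, map_sub, hmove hrad hx, hrad.1 (C.t a _)
        (by rw [C.range_tm]; exact C.t_mem_sub haR _)]
      abel
    rw [hm'd, LinearEquiv.mul_apply, e1, map_sub]
    have e2 : ∀ w, (r * m * r⁻¹) (C.t a w) = C.t a w := fun w =>
      hrad'.1 _ (by rw [C.range_tm]; exact C.t_mem_sub haR _)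
    rw [e2]
    show r (m (r.symm (C.t x y))) - _ = _
    rw [show r.symm (C.t x y) = C.t x (τ y) by
      rw [hrd, te_symm, C.te_t, hτs]; rfl, hmove hrad hx, map_add, hrd, C.te_t, C.te_t]
    have hSK : ∀ v, KK m x v = S v + (κ / 2) • v := fun v => by simp [hSd]
    rw [hSK, hSK, map_add, map_smul, show τ (τ y) = y from hρρ y]
    simp [hS0d, map_add, map_smul, map_sub]
    module
  have hS0sk : C.swap.SkewA S0 := fun y z => by
    show C.g (S0 y) z = -C.g y (S0 z)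
    have hτi : ∀ y z, C.g (τ y) (τ z) = C.g y z := fun y z => by
      rw [hτap, hτap]
      simp only [map_sub, map_smul, LinearMap.sub_apply, LinearMap.smul_apply, smul_eq_mul, hg y u,
        show C.g u u = q from rfl]
      field_simp
      ring
    have hτa : ∀ y z, C.g (τ y) z = C.g y (τ z) := fun y z => by
      rw [← hτi y (τ z), show τ (τ z) = z from hρρ z]
    simp only [hS0d, LinearMap.sub_apply, LinearMap.comp_apply, LinearEquiv.coe_coe, map_sub, hτa, hS]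
    ring
  have hSu0 : C.g u (S u) = 0 := by
    have := hS u u
    rw [hg (S u) u] at this
    exact (mul_eq_zero.1 (show (2 : F) * C.g u (S u) = 0 by linear_combination this)).resolve_left h22
  have hS0u : S0 u = (-2 : F) • S u := by
    have e1 : τ u = -u := by
      rw [hτap, show C.g u u = q from rfl, mul_div_assoc, div_self hu, mul_one]; module
    have e2 : τ (S u) = S u := by rw [hτap, hSu0, mul_zero, zero_div, zero_smul, sub_zero]
    simp only [hS0d, LinearMap.sub_apply, LinearMap.comp_apply, LinearEquiv.coe_coe]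
    rw [e1, map_neg, map_neg, e2]
    module
  have hS0z : ∀ z, C.g u z = 0 → S0 z = (2 * C.g (S u) z / q) • u := fun z hz => by
    simp only [hS0d, LinearMap.sub_apply, LinearMap.comp_apply, LinearEquiv.coe_coe, hτap, hz,
      mul_zero, zero_div, zero_smul, sub_zero, hS]
    module
  -- a second vector of the radical
  have hxa : x ∉ F ∙ a := by
    intro hxa
    obtain ⟨s, rfl⟩ := Submodule.mem_span_singleton.1 hxa
    have e := hK' u
    rw [hR'.1 _ (by rw [C.range_tm]; exact C.t_mem_sub (Submodule.smul_mem _ _ haR) _), eq_comm,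
      add_eq_left] at e
    have := C.t_inj_left ha0 (b' := 0) (by rw [e, map_zero])
    rw [hS0u] at this
    exact hSu ((smul_eq_zero.1 this).resolve_left (neg_ne_zero.2 h22))
  obtain ⟨x₂, hx₂a, hx₂⟩ := C.exists_pair hxa
  have hx₂N : N x₂ = 0 := (hker _).2 (hx₂a a (Submodule.mem_span_singleton_self a))
  have hfx : C.f a x = 0 := (hker _).1 hx
  have haltf : ∀ v, C.f v v = 0 := fun v => by
    have := C.hf v v
    rw [h1] at this
    exact (mul_eq_zero.1 (show (2 : F) * C.f v v = 0 by linear_combination this)).resolve_left h22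
  -- the pure element at `x`
  have hkk : ∀ {v : Fin n₁ → F}, N v = 0 → ∀ z, (C.eA (haltf v) (haltf v)) (N z) =
      N (C.eA (haltf v) (haltf v) z) := by
    intro v hv z
    rw [C.eA_apply, C.eA_apply, C.Dop_sq (haltf v) (haltf v), C.Dop_sq (haltf v) (haltf v), haltf]
    have hva : C.f v a = 0 := C.f_zero_comm ((hker v).1 hv)
    simp [Dop_apply, hNa, sm_apply, hva, (hker v).1 hv]
  set σ := C.eA (haltf x) (haltf x)
  have hσ : ∀ z, σ z = z + (2 * C.f x z) • x := fun z => by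
    rw [C.eA_apply, C.Dop_sq (haltf x) (haltf x), haltf]
    simp [Dop_apply, h1]; module
  set k := C.te σ (LinearEquiv.refl F (Fin n₂ → F)) with hkd
  have hkM : k ∈ M := H.left x x (haltf x) (haltf x)
  have hRk : C.Rad N (k * m' * k⁻¹) := hR'.conj _ (hkk hx)
  set m₂ := k * m' * k⁻¹ * m'⁻¹ with hm₂d
  have hm₂ : m₂ ∈ M := mul_mem (mul_mem (mul_mem hkM hm') (inv_mem hkM)) (inv_mem hm')
  set S' : (Fin n₂ → F) →ₗ[F] (Fin n₂ → F) := (-2 : F) • S0
  have hp₂ : Pure C N a x S' m₂ := by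
    refine ⟨hRk.mul hR'.inv, fun z hz y => ?_⟩
    have e1 : m'⁻¹ (C.t z y) = C.t z y - C.t a (KK m' z y) := by
      refine m'.injective ?_
      show m' (m'.symm (C.t z y)) = _
      rw [m'.apply_symm_apply, map_sub, hmove hR' hz, hR'.1 (C.t a _)
        (by rw [C.range_tm]; exact C.t_mem_sub haR _)]
      abel
    rw [hm₂d, LinearEquiv.mul_apply, e1, map_sub,
      hRk.1 (C.t a _) (by rw [C.range_tm]; exact C.t_mem_sub haR _)]
    show k (m' (k.symm (C.t z y))) - _ = _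
    have hsym : σ.symm z = z - (2 * C.f x z) • x := σ.injective (by
      rw [σ.apply_symm_apply, hσ, map_sub, map_smul, haltf]; simp)
    have hkx : N (σ.symm z) = 0 := by rw [hsym, map_sub, map_smul, hz, hx, smul_zero, sub_zero]
    have hσa : σ a = a := by rw [hσ, C.f_zero_comm hfx, mul_zero, zero_smul, add_zero]
    rw [show k.symm (C.t z y) = C.t (σ.symm z) y by rw [hkd, te_symm, C.te_t]; rfl, hmove hR' hkx, map_add,
      hkd, C.te_t, C.te_t, σ.apply_symm_apply, hσa, LinearEquiv.refl_apply, LinearEquiv.refl_apply, hsym]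
    have hxy : KK m' x y = S0 y := by
      rw [hKK, hK', add_sub_cancel_left, C.prA_t, hac, one_smul]
    simp only [hKK] at hxy ⊢
    simp only [map_sub] at hxy
    simp [map_sub, map_smul, eq_add_of_sub_eq hxy, S', smul_smul]
    module
  -- the pure element at `x₂`
  set v := x₂ - x
  have hv : N v = 0 := by rw [map_sub, hx₂N, hx, sub_zero]
  have hh : (-(1 / 2) : F) ≠ 0 := neg_ne_zero.2 (one_div_ne_zero h22)
  have hvv : C.f v ((-(1 / 2) : F) • v) = 0 := by rw [map_smul, haltf, smul_zero]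
  set σ' := C.eA (haltf v) hvv
  have hσ' : ∀ z, σ' z = z - C.f v z • v := fun z => by
    rw [C.eA_apply, C.Dop_sq (haltf v) hvv]
    simp [Dop_apply, h1, haltf]
    match_scalars <;> field_simp <;> ring
  have hσx : σ' x = x₂ := by
    rw [hσ', show C.f v x = -1 by simp [v, haltf, C.hf x x₂, h1, hx₂]]
    simp [v]
  have hσN : ∀ z, σ' (N z) = N (σ' z) := fun z => by
    rw [hσ', hσ', map_sub N, map_smul N, hv, smul_zero, sub_zero,
      hN.skewA.mem_range_iff.1 ⟨z, rfl⟩ v hv |> C.f_zero_comm, zero_smul, sub_zero]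
  set k' := C.te σ' (LinearEquiv.refl F (Fin n₂ → F)) with hk'd
  have hk'M : k' ∈ M := H.left v _ (haltf v) hvv
  set m₃ := k' * m₂ * k'⁻¹ with hm₃d
  have hp₃ : Pure C N a x₂ S' m₃ := by
    refine ⟨hp₂.1.conj _ hσN, fun z hz y => ?_⟩
    show k' (m₂ (k'.symm (C.t z y))) = _
    have hsym : N (σ'.symm z) = 0 := by
      rw [← σ'.map_eq_zero_iff, hσN, σ'.apply_symm_apply, hz]
    have hfz : C.f x (σ'.symm z) = C.f x₂ z := by
      conv_rhs => rw [← hσx, ← σ'.apply_symm_apply z]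
      exact (C.eA_iso _ _ _ _).symm
    have hσa : σ' a = a := by
      rw [hσ', C.f_zero_comm ((hker v).1 hv), zero_smul, sub_zero]
    rw [show k'.symm (C.t z y) = C.t (σ'.symm z) y by rw [hk'd, te_symm, C.te_t]; rfl,
      hp₂.2 _ hsym, map_add, hk'd, C.te_t, C.te_t, σ'.apply_symm_apply, map_smul, hσa, hfz]
    rfl
  have hS'sk : C.swap.SkewA S' := fun y z => by
    have := hS0sk y z
    simp only [S', LinearMap.smul_apply, map_smul, LinearMap.smul_apply, smul_eq_mul, this]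
    ring
  obtain ⟨κ', hκ'⟩ := pure_comm H hQ hN h1 hac hx hx₂N hx₂ hS'sk hm₂
    (mul_mem (mul_mem hk'M hm₂) (inv_mem hk'M)) hp₂ hp₃
  have hSS : ∀ z, S' (S' z) = κ' • z := fun z => C.swap.f_ext fun y => by
    show C.g _ y = C.g _ y
    rw [hg, hκ', map_smul, LinearMap.smul_apply, smul_eq_mul, hg y z]
  obtain ⟨kv, hkv, hkv0⟩ := C4.SS.exists_ker_not_mem ![C.g u, C.g (S u)] (⊥ : Submodule F (Fin n₂ → F))
    (by rw [finrank_bot]; omega)
  have hkv' : C.g u kv = 0 ∧ C.g (S u) kv = 0 := ⟨hkv 0, hkv 1⟩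
  have hκ0 : κ' = 0 := by
    have h := hSS kv
    simp only [S', LinearMap.smul_apply, hS0z kv hkv'.1, hkv'.2, mul_zero, zero_div, zero_smul,
      smul_zero, map_zero] at h
    exact (smul_eq_zero.1 h.symm).resolve_right (by simpa using hkv0)
  have hni : S u ∉ F ∙ u := by
    intro hm
    obtain ⟨s, hs⟩ := Submodule.mem_span_singleton.1 hm
    rw [← hs, map_smul, smul_eq_mul] at hSu0
    exact hSu (by rw [← hs, (mul_eq_zero.1 hSu0).resolve_right hu, zero_smul])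
  obtain ⟨z0, hz0u, hz0⟩ := C.swap.exists_pair hni
  have hz0u' : C.g u z0 = 0 := hz0u u (Submodule.mem_span_singleton_self u)
  have hz0' : C.g (S u) z0 = 1 := hz0
  have h := hSS z0
  simp only [S', LinearMap.smul_apply, hS0z z0 hz0u', hz0', map_smul, hS0u, hκ0, zero_smul, smul_smul] at h
  exact hSu ((smul_eq_zero.1 h).resolve_left (by simp [h22, hu]))

end TT

end Cfsg.Agent.TenForm
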