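import Cfsg.Agent.Lib.C4.TenRad

/-!
# An element of the overgroup carrying a root ruling to a root ruling is a tensor product

* `isTen_of_map`
-/

set_option autoImplicit false
set_option linter.unusedSectionVars false
set_option linter.unusedSimpArgs false

namespace Cfsg.Agent.TenForm

open Module

variable {ι : Type} [Fintype ι] [DecidableEq ι] {F : Type*} [Field F] [Fintype F] {n₁ n₂ : ℕ}

namespace TT

variable {C : TT ι F n₁ n₂}
variable {l : ℕ} {M : Subgroup ((ι → F) ≃ₗ[F] (ι → F))} {N : (Fin n₁ → F) →ₗ[F] (Fin n₁ → F)}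

/-- `W = (ker T)^⊥`. -/
theorem Root.mem_rangeT (hN : C.Root l N) {w : ι → F} :
    w ∈ LinearMap.range (C.Tm N) ↔ ∀ z, C.Tm N z = 0 → C.p w z = 0 := by
  refine ⟨fun hw z hz => C.p_zero_comm (hN.skewT.perp hz hw), fun h => ?_⟩
  rw [C.range_tm, C.mem_sub]
  exact fun y => hN.skewA.mem_range_iff.2 fun z hz => by
    rw [C.f_prB]; exact h _ (Tm_t_mem hN hz y)

theorem Root.mem_rangeT_of_prA (hN : C.Root l N) {w : ι → F}
    (h : ∀ z, N z = 0 → C.prA z w = 0) : w ∈ LinearMap.range (C.Tm N) := by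
  rw [C.range_tm, C.mem_sub]
  exact fun y => hN.skewA.mem_range_iff.2 fun z hz => by
    rw [C.f_prB, ← C.g_prA, h z hz, map_zero, LinearMap.zero_apply]

theorem prA_mem_rangeT (hN : C.Root l N) {w : ι → F} (hw : w ∈ LinearMap.range (C.Tm N))
    {z : Fin n₁ → F} (hz : N z = 0) : C.prA z w = 0 :=
  C.gnd _ fun v => by rw [C.g_prA]; exact hN.mem_rangeT.1 hw _ (Tm_t_mem hN hz v)

theorem prA_tm_right (τ : (Fin n₂ → F) →ₗ[F] (Fin n₂ → F)) (c : Fin n₁ → F) (x : ι → F) :
    C.prA c (C.tm LinearMap.id τ x) = τ (C.prA c x) :=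
  LinearMap.congr_fun (C.ext_pure (L := (C.prA c).comp (C.tm LinearMap.id τ))
    (L' := τ.comp (C.prA c)) fun a b => by simp [C.tm_t, C.prA_t]) x

/-- An Eichler element along the ruling. -/
theorem eA_on_ker (hN : C.Root l N) {a x z : Fin n₁ → F} (ha : a ∈ LinearMap.range N)
    (haa : C.f a a = 0) (hax : C.f a x = 0) (hz : N z = 0) :
    C.eA haa hax z = z + C.f x z • a := by
  have h : C.f a z = 0 := hN.skewA.mem_ker_iff.1 hz a ha
  rw [C.eA_apply, C.Dop_sq haa hax, h]
  simp [Dop_apply, h]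

theorem eA_on_range (hN : C.Root l N) {a x z : Fin n₁ → F} (ha : a ∈ LinearMap.range N)
    (haa : C.f a a = 0) (hax : C.f a x = 0) (hx : N x = 0) (hz : z ∈ LinearMap.range N) :
    C.eA haa hax z = z := by
  rw [eA_on_ker hN ha haa hax (hN.range_le_ker hz),
    C.f_zero_comm (hN.skewA.mem_ker_iff.1 hx z hz), zero_smul, add_zero]

theorem rad_te_eA (hN : C.Root l N) {a x : Fin n₁ → F} (ha : a ∈ LinearMap.range N)
    (haa : C.f a a = 0) (hax : C.f a x = 0) (hx : N x = 0) :
    C.Rad N (C.te (C.eA haa hax) (LinearEquiv.refl F _)) := by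
  refine ⟨fun w hw => ?_, fun w hw => ?_⟩
  · rw [C.range_tm] at hw
    exact C.eq_on_sub (φ := (C.te (C.eA haa hax) (LinearEquiv.refl F _)).toLinearMap)
      (ψ := LinearMap.id) (fun b hb y => by simp [C.te_t, eA_on_range hN ha haa hax hx hb]) hw
  · have hw' : w ∈ C.sub (LinearMap.ker N) := by rw [← C.ker_tm]; exact hw
    rw [← Submodule.Quotient.eq]
    exact C.eq_on_sub (φ := (LinearMap.range (C.Tm N)).mkQ.comp
        (C.te (C.eA haa hax) (LinearEquiv.refl F _)).toLinearMap)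
      (ψ := (LinearMap.range (C.Tm N)).mkQ) (fun z hz y => by
        show Submodule.Quotient.mk (C.te _ _ (C.t z y)) = Submodule.Quotient.mk (C.t z y)
        rw [Submodule.Quotient.eq, C.te_t, eA_on_ker hN ha haa hax hz, LinearEquiv.refl_apply,
          map_add, LinearMap.add_apply, add_sub_cancel_left, C.range_tm]
        exact C.t_mem_sub (Submodule.smul_mem _ _ ha) y) hw'

/-- A map `ker N → L`, trivial on `L`, comes from Eichler elements. -/
theorem exists_realise (H : C.Hyp M l) (hN : C.Root l N)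
    (U : (Fin n₁ → F) →ₗ[F] LinearMap.range N) (hU : ∀ a ∈ LinearMap.range N, U a = 0) :
    ∃ σ : (Fin n₁ → F) ≃ₗ[F] (Fin n₁ → F), C.te σ (LinearEquiv.refl F _) ∈ M ∧
      (∀ a ∈ LinearMap.range N, σ a = a) ∧ ∀ z, N z = 0 → σ z = z + (U z : Fin n₁ → F) := by
  classical
  suffices h : ∀ s : Finset (Fin (finrank F (LinearMap.range N))),
      ∃ σ : (Fin n₁ → F) ≃ₗ[F] (Fin n₁ → F), C.te σ (LinearEquiv.refl F _) ∈ M ∧
        (∀ a ∈ LinearMap.range N, σ a = a) ∧
        ∀ z, N z = 0 → σ z = z + ∑ i ∈ s,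
          (finBasis F (LinearMap.range N)).repr (U z) i •
            ((finBasis F (LinearMap.range N) i : LinearMap.range N) : Fin n₁ → F) by
    obtain ⟨σ, h1, h2, h3⟩ := h Finset.univ
    refine ⟨σ, h1, h2, fun z hz => ?_⟩
    rw [h3 z hz]
    exact congrArg (z + ·) ((Submodule.coe_sum _ _ _).symm.trans
      (congrArg Subtype.val ((finBasis F (LinearMap.range N)).sum_repr (U z))))
  intro s
  induction s using Finset.induction_on with
  | empty =>
    refine ⟨LinearEquiv.refl F _, ?_, fun a _ => rfl, fun z _ => by simp⟩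
    rw [← C.eq_te (m := 1) (σ := LinearEquiv.refl F _) (τ := LinearEquiv.refl F _) fun a z => rfl]
    exact one_mem M
  | @insert i s his ih =>
    obtain ⟨σ, h1, h2, h3⟩ := ih
    set b := finBasis F (LinearMap.range N)
    obtain ⟨ξ, hξ⟩ := C.exists_rep ((b.coord i).comp U)
    set e : Fin n₁ → F := (b i).1
    have he : e ∈ LinearMap.range N := (b i).2
    have hξN : N ξ = 0 := hN.skewA.mem_ker_iff.2 fun u hu => C.f_zero_comm (by
      rw [hξ, LinearMap.comp_apply, hU u hu, map_zero])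
    have hee : C.f e e = 0 := hN.isotropic he he
    have hex : C.f e ξ = 0 := hN.skewA.mem_ker_iff.1 hξN e he
    refine ⟨σ.trans (C.eA hee hex), ?_, fun a ha => ?_, fun z hz => ?_⟩
    · rw [← C.eq_te (m := C.te (C.eA hee hex) (LinearEquiv.refl F _) * C.te σ (LinearEquiv.refl F _))
        (σ := σ.trans (C.eA hee hex)) (τ := LinearEquiv.refl F _) fun a z => by
          rw [LinearEquiv.mul_apply, C.te_t, C.te_t]; rfl]
      exact mul_mem (H.left e ξ hee hex) h1
    · rw [LinearEquiv.trans_apply, h2 a ha, eA_on_range hN he hee hex hξN ha]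
    · rw [LinearEquiv.trans_apply, h3 z hz, map_add, eA_on_ker hN he hee hex hz, hξ, map_sum,
        Finset.sum_insert his, ← add_assoc]
      congr 1
      refine Finset.sum_congr rfl fun j _ => ?_
      rw [map_smul, eA_on_range hN he hee hex hξN (b j).2]

/-- The elements of the radical of the stabiliser are `K ⊗ 1`. -/
theorem rad_left (H : C.Hyp M l) (hQ : C.QProp M l) (hN : C.Root l N)
    {m : (ι → F) ≃ₗ[F] (ι → F)} (hm : m ∈ M) (hrad : C.Rad N m) :
    ∃ K : (Fin n₁ → F) →ₗ[F] (Fin n₁ → F), ∀ x, m x = C.tm K LinearMap.id x := by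
  have hn : 0 < n₂ := by rcases H.dimB with h | h <;> omega
  set y0 : Fin n₂ → F := Pi.single ⟨0, hn⟩ 1
  have hy0 : y0 ≠ 0 := by simp [y0]
  obtain ⟨v0, hv0'⟩ := C.swap.exists_dual hy0
  have hv0 : C.g y0 v0 = 1 := hv0'
  set U0 : (Fin n₁ → F) →ₗ[F] (Fin n₁ → F) :=
    (C.prB v0).comp ((m.toLinearMap - LinearMap.id).comp (C.t.flip y0)) with hU0
  have hU0' : ∀ z, N z = 0 → ∀ y, U0 z ∈ LinearMap.range N ∧ m (C.t z y) = C.t z y + C.t (U0 z) y := by
    intro z hz y
    obtain ⟨u, hu, he⟩ := rad_scalar H hQ hN hm hrad hz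
    have h1 : U0 z = u := by
      show C.prB v0 (m (C.t z y0) - C.t z y0) = u
      rw [he, add_sub_cancel_left, C.prB_t, hv0, one_smul]
    exact ⟨h1 ▸ hu, by rw [h1, he]⟩
  obtain ⟨U, hU⟩ := LinearMap.exists_extend
    ((U0.comp (LinearMap.ker N).subtype).codRestrict (LinearMap.range N) fun z => (hU0' z z.2 y0).1)
  have hUz : ∀ z, N z = 0 → (U z : Fin n₁ → F) = U0 z := fun z hz =>
    congrArg Subtype.val (LinearMap.congr_fun hU ⟨z, hz⟩)
  obtain ⟨σ, hσM, hσL, hσK⟩ := exists_realise H hN U fun a ha => Subtype.ext (by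
    rw [hUz a (hN.range_le_ker ha), Submodule.coe_zero]
    show C.prB v0 (m (C.t a y0) - C.t a y0) = 0
    rw [hrad.1 _ (by rw [C.range_tm]; exact C.t_mem_sub ha _), sub_self, map_zero])
  set r := C.te σ (LinearEquiv.refl F (Fin n₂ → F))
  set m' := r⁻¹ * m with hm'
  have hm'M : m' ∈ M := mul_mem (inv_mem hσM) hm
  have hfix : ∀ z, C.Tm N z = 0 → m' z = z := fun z hz => by
    have hz' : z ∈ C.sub (LinearMap.ker N) := by rw [← C.ker_tm]; exact hz
    refine r.injective ?_
    rw [hm', LinearEquiv.mul_apply]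
    show r (r.symm (m z)) = r z
    rw [r.apply_symm_apply]
    exact C.eq_on_sub (φ := m.toLinearMap) (ψ := r.toLinearMap) (fun x hx y => by
      simp [r, C.te_t, hσK x hx, hUz x hx, (hU0' x hx y).2]) hz'
  have hi := H.iso m' hm'M
  set X : (ι → F) →ₗ[F] (ι → F) := m'.toLinearMap - LinearMap.id
  have hXW : ∀ z, X z ∈ LinearMap.range (C.Tm N) := fun z => hN.mem_rangeT.2 fun w hw => by
    show C.p (m' z - z) w = 0
    rw [map_sub, LinearMap.sub_apply]
    nth_rewrite 1 [← hfix w hw]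
    rw [hi, sub_self]
  have hXs : C.Skew X := fun z v => by
    have e := hi z v
    have h0 : C.p (X z) (X v) = 0 := hN.isotropicT (hXW z) (hXW v)
    rw [show m' z = z + X z by simp [X], show m' v = v + X v by simp [X], map_add, map_add,
      LinearMap.add_apply, LinearMap.add_apply, h0, add_zero] at e
    linear_combination e
  obtain ⟨ρ, hρ⟩ := hQ N hN X hXs (by rintro _ ⟨z, rfl⟩; exact hXW z)
    (fun z hz => by show m' z - z = 0; rw [hfix z hz, sub_self]) ⟨m', hm'M, fun z => by simp [X]⟩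
  refine ⟨σ.toLinearMap.comp (LinearMap.id + ρ • N), fun x => ?_⟩
  have h1 : m x = r (x + X x) := by
    show m x = r (x + (m' x - x))
    rw [add_sub_cancel, hm', LinearEquiv.mul_apply]
    exact (r.apply_symm_apply _).symm
  rw [h1, hρ]
  exact LinearMap.congr_fun (C.ext_pure (L := r.toLinearMap.comp (LinearMap.id + ρ • C.Tm N))
    (L' := C.tm (σ.toLinearMap.comp (LinearMap.id + ρ • N)) LinearMap.id) fun a y => by
      simp [r, C.te_t, C.tm_t]) x

/-- A map of a root ruling onto a root ruling inside `M` is a tensor product. -/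
theorem isTen_of_map (H : C.Hyp M l) (hQ : C.QProp M l)
    {N' N'' : (Fin n₁ → F) →ₗ[F] (Fin n₁ → F)} (hN' : C.Root l N') (hN'' : C.Root l N'')
    {g : (ι → F) ≃ₗ[F] (ι → F)} (hg : g ∈ M)
    (hmap : ∀ x, x ∈ LinearMap.range (C.Tm N') ↔ g x ∈ LinearMap.range (C.Tm N'')) : C.IsTen g := by
  have hi := H.iso g hg
  have hgi : g⁻¹ ∈ M := inv_mem hg
  -- the orthogonal complements
  have hker : ∀ z, C.Tm N' z = 0 ↔ C.Tm N'' (g z) = 0 := fun z => by
    refine ⟨fun hz => hN''.skewT.eq_zero fun w hw => ?_, fun hz => hN'.skewT.eq_zero fun w hw => ?_⟩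
    · rw [← g.apply_symm_apply w, hi]
      exact hN'.skewT.perp hz ((hmap _).2 (by rwa [g.apply_symm_apply]))
    · rw [← hi]
      exact hN''.skewT.perp hz ((hmap w).1 hw)
  -- conjugates of radical elements
  have hconj : ∀ r : (ι → F) ≃ₗ[F] (ι → F), C.Rad N' r → C.Rad N'' (g * r * g⁻¹) := fun r hr => by
    refine ⟨fun w hw => ?_, fun w hw => ?_⟩
    · show g (r (g.symm w)) = w
      rw [hr.1 _ ((hmap _).2 (by rwa [g.apply_symm_apply])), g.apply_symm_apply]
    · show g (r (g.symm w)) - w ∈ _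
      nth_rewrite 2 [← g.apply_symm_apply w]
      rw [← map_sub, ← hmap]
      exact hr.2 _ ((hker _).2 (by rwa [g.apply_symm_apply]))
  have hconj' : ∀ r : (ι → F) ≃ₗ[F] (ι → F), C.Rad N'' r → C.Rad N' (g⁻¹ * r * g) := fun r hr => by
    refine ⟨fun w hw => ?_, fun w hw => ?_⟩
    · show g.symm (r (g w)) = w
      rw [hr.1 _ ((hmap _).1 hw), g.symm_apply_apply]
    · show g.symm (r (g w)) - w ∈ _
      rw [hmap, map_sub, g.apply_symm_apply]
      exact hr.2 _ ((hker _).1 hw)
  have hn : 0 < n₂ := by rcases H.dimB with h | h <;> omega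
  set y0 : Fin n₂ → F := Pi.single ⟨0, hn⟩ 1
  have hy0 : y0 ≠ 0 := by simp [y0]
  -- two non-orthogonal vectors of `ker N'`
  obtain ⟨x₁, x₂, hx₁, hx₂, hx12⟩ : ∃ x₁ x₂, N' x₁ = 0 ∧ N' x₂ = 0 ∧ C.f x₁ x₂ = 1 := by
    obtain ⟨x₁, x₂, h1, h2, h12⟩ : ∃ x₁ x₂, N' x₁ = 0 ∧ N' x₂ = 0 ∧ C.f x₁ x₂ ≠ 0 := by
      by_contra! hall
      have hle : LinearMap.ker N' ≤ LinearMap.range N' := fun z hz =>
        hN'.skewA.mem_range_iff.2 fun w hw => hall z w hz hw
      have := Submodule.finrank_mono hle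
      have := N'.finrank_range_add_finrank_ker
      rw [Module.finrank_fin_fun, hN'.finrank_range] at this
      rw [hN'.finrank_range] at *
      have := H.big
      omega
    exact ⟨x₁, (C.f x₁ x₂)⁻¹ • x₂, h1, by rw [map_smul, h2, smul_zero], by simp [h12]⟩
  -- `g` carries `a ⊗ B` to some `e ⊗ B`
  have step1 : ∀ a ∈ LinearMap.range N', a ≠ 0 → ∃ e ∈ LinearMap.range N'', e ≠ 0 ∧
      ∃ β : (Fin n₂ → F) →ₗ[F] (Fin n₂ → F), ∀ y, g (C.t a y) = C.t e (β y) := by
    intro a ha ha0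
    have haa := hN'.isotropic ha ha
    have hax : C.f a x₁ = 0 := hN'.skewA.mem_ker_iff.1 hx₁ a ha
    set r := C.te (C.eA haa hax) (LinearEquiv.refl F (Fin n₂ → F))
    have hrM : r ∈ M := H.left a x₁ haa hax
    obtain ⟨K, hK⟩ := rad_left H hQ hN'' (mul_mem (mul_mem hg hrM) hgi)
      (hconj r (rad_te_eA hN' ha haa hax hx₁))
    set U : Submodule F (Fin n₁ → F) := (LinearMap.ker N'').map (K - LinearMap.id)
    have hUmem : ∀ z, C.Tm N'' z = 0 → C.tm K LinearMap.id z - z ∈ C.sub U := fun z hz =>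
      C.mem_sub.2 fun y => ⟨C.prB y z, by
        rw [SetLike.mem_coe, LinearMap.mem_ker, ← C.prB_tm, hz, map_zero], by
        rw [LinearMap.sub_apply, LinearMap.id_apply, map_sub, C.prB_tm]⟩
    set A : Submodule F (ι → F) := (C.sub (F ∙ a)).map g.toLinearMap
    have hgz : ∀ z y, N' z = 0 → g (C.t (C.f x₁ z • a) y) =
        C.tm K LinearMap.id (g (C.t z y)) - g (C.t z y) := fun z y hz => by
      rw [← hK]
      show _ = g (r (g.symm (g (C.t z y)))) - _
      rw [g.symm_apply_apply, ← map_sub, C.te_t, eA_on_ker hN' ha haa hax hz, map_add,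
        LinearMap.add_apply, LinearEquiv.refl_apply, add_sub_cancel_left]
    have hAU : C.sub U = A := by
      refine le_antisymm ?_ ?_
      · intro w hw
        rw [C.eq_sum w]
        refine Submodule.sum_mem _ fun i _ => ?_
        obtain ⟨z, hz, hzu⟩ := C.mem_sub.1 hw (C.dB i)
        rw [← hzu, LinearMap.sub_apply, LinearMap.id_apply, map_sub, LinearMap.sub_apply]
        set y := (Pi.single i 1 : Fin n₂ → F)
        have hzy : C.Tm N'' (C.t z y) = 0 := Tm_t_mem hN'' hz y
        obtain ⟨z', hz'⟩ := g.surjective (C.t z y)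
        rw [← hz', ← hker] at hzy
        have hz2 : z' ∈ C.sub (LinearMap.ker N') := by rw [← C.ker_tm]; exact hzy
        have key : C.tm K LinearMap.id (g z') - g z' = g (C.tm (C.sm a x₁) LinearMap.id z') :=
          C.eq_on_sub (φ := (C.tm K LinearMap.id).comp g.toLinearMap - g.toLinearMap)
            (ψ := g.toLinearMap.comp (C.tm (C.sm a x₁) LinearMap.id)) (fun x hx v => by
              simp [C.tm_t, sm_apply, ← hgz x v hx]) hz2
        rw [hz', C.tm_t, LinearMap.id_apply] at key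
        rw [key]
        refine ⟨_, C.mem_sub.2 fun u => ?_, rfl⟩
        rw [C.prB_tm, sm_apply]
        exact Submodule.smul_mem _ _ (Submodule.mem_span_singleton_self a)
      · rintro _ ⟨w, hw, rfl⟩
        rw [C.eq_sum w, map_sum]
        refine Submodule.sum_mem _ fun i _ => ?_
        obtain ⟨c, hc⟩ := Submodule.mem_span_singleton.1 (C.mem_sub.1 hw (C.dB i))
        rw [← hc]
        have := hgz (c • x₂) (Pi.single i 1) (by rw [map_smul, hx₂, smul_zero])
        rw [show C.f x₁ (c • x₂) • a = c • a by simp [hx12]] at this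
        show g _ ∈ _
        rw [this]
        exact hUmem _ ((hker _).1 (Tm_t_mem hN' (by rw [map_smul, hx₂, smul_zero]) _))
    have hdim : finrank F U = 1 := by
      have h := congrArg (fun S : Submodule F (ι → F) => finrank F S) hAU
      simp only [C.finrank_sub, A, LinearEquiv.finrank_map_eq, finrank_span_singleton ha0] at h
      exact Nat.eq_of_mul_eq_mul_right hn h
    obtain ⟨⟨e, heU⟩, he0, hspan⟩ := finrank_eq_one_iff'.1 hdim
    have he0' : e ≠ 0 := fun h => he0 (Subtype.ext h)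
    have hgA : ∀ y, g (C.t a y) ∈ C.sub U := fun y => hAU ▸
      ⟨_, C.t_mem_sub (Submodule.mem_span_singleton_self a) y, rfl⟩
    obtain ⟨c, hc⟩ := C.exists_dual he0'
    have hβ : ∀ y, g (C.t a y) = C.t e (C.prA c (g (C.t a y))) := fun y =>
      C.eq_on_sub (φ := LinearMap.id) (ψ := (C.t e).comp (C.prA c)) (fun u hu v => by
        obtain ⟨s, hs⟩ := hspan ⟨u, hu⟩
        have hs' : s • e = u := congrArg Subtype.val hs
        simp [← hs', C.prA_t, hc]) (hgA y)
    have heL : e ∈ LinearMap.range N'' := by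
      have h := (hmap (C.t a y0)).1 (by rw [C.range_tm]; exact C.t_mem_sub ha _)
      rw [hβ, C.range_tm] at h
      set v := C.prA c (g (C.t a y0))
      have hv : v ≠ 0 := fun h0 => hy0 (C.t_inj_left ha0 (g.injective (by
        rw [hβ, show C.prA c (g (C.t a y0)) = v from rfl, h0, map_zero, map_zero, map_zero])))
      obtain ⟨w, hw'⟩ := C.swap.exists_dual hv
      have hw : C.g v w = 1 := hw'
      have := C.mem_sub.1 h w
      rwa [C.prB_t, hw, one_smul] at this
    exact ⟨e, heL, he0', (C.prA c).comp (g.toLinearMap.comp (C.t a)), hβ⟩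
  -- the second contraction
  have step2 : ∀ a ∈ LinearMap.range N', a ≠ 0 → ∀ e ∈ LinearMap.range N'', e ≠ 0 →
      ∀ β : (Fin n₂ → F) →ₗ[F] (Fin n₂ → F), (∀ y, g (C.t a y) = C.t e (β y)) →
      ∀ x', N' x' = 0 → ∀ x'', N'' x'' = 0 →
        ∃ r : F, ∀ y, C.prA x'' (g (C.t x' y)) = r • β y := by
    intro a ha ha0 e he he0 β hβ x' hx' x'' hx''
    have hee := hN''.isotropic he he
    have hex : C.f e x'' = 0 := hN''.skewA.mem_ker_iff.1 hx'' e he
    set r := C.te (C.eA hee hex) (LinearEquiv.refl F (Fin n₂ → F))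
    have hrM : r ∈ M := H.left e x'' hee hex
    obtain ⟨u, -, hu⟩ := rad_scalar H hQ hN' (mul_mem (mul_mem hgi hrM) hg)
      (hconj' r (rad_te_eA hN'' he hee hex hx'')) hx'
    have e1 : ∀ y, C.t e (C.s₁ • C.prA x'' (g (C.t x' y))) = g (C.t u y) := fun y => by
      have h1 : r (g (C.t x' y)) - g (C.t x' y) = g (C.t u y) := by
        have h2 : g.symm (r (g (C.t x' y))) = C.t x' y + C.t u y := hu y
        rw [← g.apply_symm_apply (r (g (C.t x' y))), h2, map_add, add_sub_cancel_left]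
      rw [← h1]
      have h3 : g (C.t x' y) ∈ C.sub (LinearMap.ker N'') := by
        rw [← C.ker_tm]; exact (hker _).1 (Tm_t_mem hN' hx' y)
      exact (C.eq_on_sub (φ := r.toLinearMap - LinearMap.id)
        (ψ := (C.t e).comp (C.s₁ • C.prA x'')) (fun z hz v => by
          simp [r, C.te_t, eA_on_ker hN'' he hee hex hz, C.prA_t, C.hf x'' z, smul_smul, ← mul_assoc,
            C.hs₁]) h3).symm
    obtain ⟨c, hac⟩ := C.exists_dual ha0
    obtain ⟨v0, hv0'⟩ := C.swap.exists_dual hy0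
    have hv0 : C.g y0 v0 = 1 := hv0'
    have hu' : ∀ y, C.t u y = C.t a (C.prA c (C.t u y)) := fun y => by
      refine C.eq_on_sub (L := F ∙ a) (φ := LinearMap.id) (ψ := (C.t a).comp (C.prA c))
        (fun z hz v => by
          obtain ⟨s, rfl⟩ := Submodule.mem_span_singleton.1 hz
          simp [C.prA_t, hac]) ?_
      have hb : C.t u y = g.symm (C.t e (C.s₁ • C.prA x'' (g (C.t x' y)))) := by
        rw [e1, g.symm_apply_apply]
      show C.t u y ∈ C.sub (F ∙ a)
      rw [hb]
      -- `g⁻¹ (e ⊗ B) ⊆ a ⊗ B`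
      have hsurj : Function.Surjective β := by
        refine (LinearMap.injective_iff_surjective).1 ((injective_iff_map_eq_zero β).2 fun z hz => ?_)
        exact C.t_inj_left ha0 (g.injective (by rw [hβ, hz, map_zero, map_zero, map_zero]))
      obtain ⟨v, hv⟩ := hsurj (C.s₁ • C.prA x'' (g (C.t x' y)))
      rw [← hv, ← hβ, g.symm_apply_apply]
      exact C.t_mem_sub (Submodule.mem_span_singleton_self a) v
    refine ⟨C.s₁ * C.f u c, fun y => ?_⟩
    have e2 := e1 y
    rw [hu' y, C.prA_t, map_smul (C.t a), map_smul g, hβ, ← map_smul (C.t e)] at e2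
    have e3 := congrArg (fun v => C.s₁ • v) (C.t_inj_left he0 e2)
    simp only [smul_smul, C.hs₁, one_smul] at e3
    exact e3
  -- `g` is a similitude of `B` along `ker N'`
  obtain ⟨a₀, ha₀, ha₀0⟩ := Submodule.exists_mem_ne_zero_of_ne_bot (p := LinearMap.range N') fun h => by
    have := hN'.finrank_range
    rw [h, finrank_bot] at this
    rcases H.kind with ⟨rfl, -⟩ | ⟨rfl, -⟩ <;> omega
  obtain ⟨e₀, he₀, he₀0, β₀, hβ₀⟩ := step1 a₀ ha₀ ha₀0
  have hβinj : Function.Injective β₀ := (injective_iff_map_eq_zero β₀).2 fun z hz =>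
    C.t_inj_left ha₀0 (g.injective (by rw [hβ₀, hz, map_zero, map_zero, map_zero]))
  set β : (Fin n₂ → F) ≃ₗ[F] (Fin n₂ → F) := LinearEquiv.ofInjectiveEndo β₀ hβinj
  have hβe : ∀ y, β y = β₀ y := fun y => rfl
  obtain ⟨v0, hv0'⟩ := C.swap.exists_dual (fun h => hy0 (hβinj (h.trans (map_zero β₀).symm)))
  have hv0 : C.g (β₀ y0) v0 = 1 := hv0'
  -- images of `ker N'`
  have step3 : ∀ x', N' x' = 0 → ∃ γ, N'' γ = 0 ∧
      ∀ y, g (C.t x' y) - C.t γ (β y) ∈ LinearMap.range (C.Tm N'') := by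
    intro x' hx'
    have hw := (hker _).1 (Tm_t_mem hN' hx' y0)
    refine ⟨C.prB v0 (g (C.t x' y0)), by rw [← C.prB_tm, hw, map_zero],
      fun y => hN''.mem_rangeT_of_prA fun z hz => ?_⟩
    obtain ⟨s, hs⟩ := step2 a₀ ha₀ ha₀0 e₀ he₀ he₀0 β₀ hβ₀ x' hx' z hz
    rw [map_sub, C.prA_t, hs, C.f_prB, ← C.g_prA, hs, map_smul, LinearMap.smul_apply, hv0,
      smul_eq_mul, mul_one, hβe, sub_self]
  -- on `L'`
  obtain ⟨z₁, hz₁, hz₁0⟩ : ∃ z, N'' z = 0 ∧ C.prA z (g (C.t x₁ y0)) ≠ 0 := by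
    by_contra! hall
    have h := (hmap _).2 (hN''.mem_rangeT_of_prA hall)
    rw [C.range_tm] at h
    obtain ⟨w, hw'⟩ := C.swap.exists_dual hy0
    have hw : C.g y0 w = 1 := hw'
    have h2 := C.mem_sub.1 h w
    rw [C.prB_t, hw, one_smul] at h2
    have := hN'.skewA.mem_ker_iff.1 hx₂ x₁ h2
    rw [hx12] at this
    exact one_ne_zero this
  obtain ⟨s₀, hs₀⟩ := step2 a₀ ha₀ ha₀0 e₀ he₀ he₀0 β₀ hβ₀ x₁ hx₁ z₁ hz₁
  have hs₀0 : s₀ ≠ 0 := fun h => hz₁0 (by rw [hs₀, h, zero_smul])
  have step4 : ∀ a ∈ LinearMap.range N', ∃ e ∈ LinearMap.range N'', ∀ y, g (C.t a y) = C.t e (β y) := by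
    intro a ha
    by_cases ha0 : a = 0
    · exact ⟨0, Submodule.zero_mem _, fun y => by simp [ha0]⟩
    obtain ⟨e, he, he0, β', hβ'⟩ := step1 a ha ha0
    obtain ⟨s, hs⟩ := step2 a ha ha0 e he he0 β' hβ' x₁ hx₁ z₁ hz₁
    have hs0 : s ≠ 0 := fun h => hz₁0 (by rw [hs, h, zero_smul])
    refine ⟨(s₀ / s) • e, Submodule.smul_mem _ _ he, fun y => ?_⟩
    have e1 : β' y = (s₀ / s) • β y := by
      have e2 := (hs y).symm.trans (hs₀ y)
      rw [hβe, div_eq_inv_mul, mul_smul, ← e2, inv_smul_smul₀ hs0]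
    rw [hβ', e1, map_smul, map_smul, LinearMap.smul_apply]
  -- the similitude
  obtain ⟨ν, hν, hsim⟩ : ∃ ν : F, ν ≠ 0 ∧ ∀ y z, C.g (β y) (β z) = ν * C.g y z := by
    obtain ⟨γ₁, hγ₁, h1⟩ := step3 x₁ hx₁
    obtain ⟨γ₂, hγ₂, h2⟩ := step3 x₂ hx₂
    have key : ∀ y z, C.g y z = C.f γ₁ γ₂ * C.g (β y) (β z) := fun y z => by
      have e := hi (C.t x₁ y) (C.t x₂ z)
      rw [C.pol, hx12, one_mul, ← sub_add_cancel (g (C.t x₁ y)) (C.t γ₁ (β y)),
        ← sub_add_cancel (g (C.t x₂ z)) (C.t γ₂ (β z))] at e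
      simp only [map_add, LinearMap.add_apply,
        hN''.isotropicT (h1 y) (h2 z), hN''.mem_rangeT.1 (h1 y) _ (Tm_t_mem hN'' hγ₂ _),
        hN''.skewT.perp (Tm_t_mem hN'' hγ₁ _) (h2 z), C.pol] at e
      linear_combination -e
    obtain ⟨w, hw'⟩ := C.swap.exists_dual hy0
    have hw : C.g y0 w = 1 := hw'
    have hne : C.f γ₁ γ₂ ≠ 0 := fun h => by
      have := key y0 w
      rw [hw, h, zero_mul] at this
      exact one_ne_zero this
    exact ⟨(C.f γ₁ γ₂)⁻¹, inv_ne_zero hne, fun y z => by rw [key y z, inv_mul_cancel_left₀ hne]⟩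
  -- commuting with the semisimple set
  obtain ⟨S, hS1, hS2, hS3⟩ := H.semi
  set h := g.trans (C.te (LinearEquiv.refl F (Fin n₁ → F)) β.symm)
  have hcomm : ∀ τ ∈ S, ∀ x, h (C.tm LinearMap.id τ.toLinearMap x) =
      C.tm LinearMap.id τ.toLinearMap (h x) := by
    intro τ hτ
    set τ' := (β.symm.trans τ).trans β with hτ'd
    have hτ' := hS3 τ hτ β ν hν hsim
    obtain ⟨hτM, hτ4⟩ := hS1 τ hτ
    set Tτ := C.te (LinearEquiv.refl F (Fin n₁ → F)) τ
    set Tτ' := C.te (LinearEquiv.refl F (Fin n₁ → F)) τ'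
    set m := Tτ'⁻¹ * g * Tτ * g⁻¹ with hmd
    have hmM : m ∈ M := mul_mem (mul_mem (mul_mem (inv_mem (hS1 τ' hτ').1) hg) hτM) hgi
    have hmg : ∀ x, m (g x) = Tτ'.symm (g (Tτ x)) := fun x => by
      show Tτ'.symm (g (Tτ (g.symm (g x)))) = _
      rw [g.symm_apply_apply]
    have hτ's : ∀ y, τ'.symm (β (τ y)) = β y := fun y => τ'.injective (by
      rw [τ'.apply_symm_apply, hτ'd]; simp)
    have hrad : C.Rad N'' m := by
      refine ⟨fun w hw => ?_, fun w hw => ?_⟩
      · obtain ⟨x, rfl⟩ := g.surjective w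
        rw [hmg]
        have hx := (hmap x).2 hw
        rw [C.range_tm] at hx
        exact C.eq_on_sub (φ := Tτ'.symm.toLinearMap.comp (g.toLinearMap.comp Tτ.toLinearMap))
          (ψ := g.toLinearMap) (fun a ha y => by
            obtain ⟨e, -, he⟩ := step4 a ha
            simp [Tτ, Tτ', te_symm, C.te_t, he, hτ's]) hx
      · obtain ⟨x, rfl⟩ := g.surjective w
        rw [hmg, ← Submodule.Quotient.eq]
        have hx := (hker x).2 hw
        have hx' : x ∈ C.sub (LinearMap.ker N') := by rw [← C.ker_tm]; exact hx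
        exact C.eq_on_sub (φ := (LinearMap.range (C.Tm N'')).mkQ.comp
            (Tτ'.symm.toLinearMap.comp (g.toLinearMap.comp Tτ.toLinearMap)))
          (ψ := (LinearMap.range (C.Tm N'')).mkQ.comp g.toLinearMap) (fun z hz y => by
            obtain ⟨γ, hγ, hgγ⟩ := step3 z hz
            show Submodule.Quotient.mk (Tτ'.symm (g (Tτ (C.t z y)))) = Submodule.Quotient.mk (g (C.t z y))
            rw [Submodule.Quotient.eq, show Tτ (C.t z y) = C.t z (τ y) from C.te_t _ _ _ _,
              ← sub_add_cancel (g (C.t z (τ y))) (C.t γ (β (τ y))), map_add,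
              show Tτ'.symm (C.t γ (β (τ y))) = C.t γ (β y) by simp [Tτ', te_symm, C.te_t, hτ's],
              add_sub_assoc]
            refine Submodule.add_mem _ ?_ ?_
            · obtain ⟨v, hv⟩ := hgγ (τ y)
              exact ⟨Tτ'.symm v, by
                rw [← hv]
                exact LinearMap.congr_fun (C.ext_pure (L := (C.Tm N'').comp Tτ'.symm.toLinearMap)
                  (L' := Tτ'.symm.toLinearMap.comp (C.Tm N'')) fun b u => by
                    simp [Tτ', te_symm, C.te_t, C.tm_t]) v⟩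
            · rw [← neg_sub]; exact Submodule.neg_mem _ (hgγ y)) hx'
    obtain ⟨K, hK⟩ := rad_left H hQ hN'' hmM hrad
    have hh : ∀ x, h (C.tm LinearMap.id τ.toLinearMap x) = C.tm K τ.toLinearMap (h x) := fun x => by
      have e : g (Tτ x) = Tτ' (C.tm K LinearMap.id (g x)) := by
        rw [← hK, hmg, Tτ'.apply_symm_apply]
      show C.te _ β.symm (g (Tτ x)) = C.tm K τ.toLinearMap (C.te _ β.symm (g x))
      rw [e]
      exact LinearMap.congr_fun (C.ext_pure
        (L := (C.te (LinearEquiv.refl F (Fin n₁ → F)) β.symm).toLinearMap.comp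
          (Tτ'.toLinearMap.comp (C.tm K LinearMap.id)))
        (L' := (C.tm K τ.toLinearMap).comp (C.te (LinearEquiv.refl F (Fin n₁ → F)) β.symm).toLinearMap)
        fun b u => by simp [Tτ', hτ'd, C.te_t, C.tm_t]) (g x)
    -- `K = 1`
    have hK4 : ∀ b, K (K (K (K b))) = b := fun b => by
      refine C.t_inj hy0 ?_
      obtain ⟨x, hx⟩ := h.surjective (C.t b y0)
      have e : ∀ i x, h (C.tm LinearMap.id (τ.toLinearMap ^ i) x) =
          C.tm (K ^ i) (τ.toLinearMap ^ i) (h x) := fun i => by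
        induction i with
        | zero => intro x; simp [Module.End.one_eq_id, C.tm_one]
        | succ i ihi =>
          intro x
          rw [pow_succ, pow_succ, Module.End.mul_eq_comp, Module.End.mul_eq_comp,
            ← LinearMap.id_comp LinearMap.id, ← C.tm_comp, ihi, hh, C.tm_comp]
      have hτ4' : τ.toLinearMap ^ 4 = LinearMap.id := LinearMap.ext fun z => by
        simp [Module.End.pow_apply, hτ4]
      have e4 := e 4 x
      rw [hτ4', C.tm_one, LinearMap.id_apply, hx, C.tm_t, LinearMap.id_apply] at e4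
      rw [show K (K (K (K b))) = (K ^ 4) b by simp [Module.End.pow_apply]]
      exact e4.symm
    set n : Module.End F (Fin n₁ → F) := K - 1 with hnd
    have hn3 : ∀ b, n (n (n b)) = 0 := fun b => by
      refine C.t_inj hy0 ?_
      rw [map_zero, LinearMap.zero_apply]
      have hd : ∀ x, C.tm n LinearMap.id x = m x - x := fun x => by
        rw [hK, hnd, eq_sub_iff_add_eq]
        exact (LinearMap.congr_fun (C.ext_pure (L := C.tm (K - 1) LinearMap.id + LinearMap.id)
          (L' := C.tm K LinearMap.id) fun b u => by simp [C.tm_t]) x)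
      have h1 := hrad.sub_mem_ker hN'' (H.iso m hmM) (C.t b y0)
      rw [← hd, C.tm_t] at h1
      have h2 := hrad.2 _ h1
      rw [← hd, C.tm_t] at h2
      have h3 := hrad.1 _ h2
      rw [← sub_eq_zero, ← hd, C.tm_t] at h3
      exact h3
    have hn0 : ∀ b, n b = 0 := fun b => by
      have e : ∀ b, K b = b + n b := fun b => by simp [hnd]
      have h4 : ∀ b, (4 : F) • n b + (6 : F) • n (n b) = 0 := fun b => by
        have := hK4 b
        simp only [e, map_add, hn3, map_zero, add_zero] at this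
        linear_combination (norm := module) this
      have h22 := C.two
      have h40 : (4 : F) ≠ 0 := by rw [show (4 : F) = 2 * 2 by norm_num]; exact mul_ne_zero h22 h22
      have hnn : n (n b) = 0 := (smul_eq_zero.1 (by
        simpa [hn3] using h4 (n b))).resolve_left h40
      exact (smul_eq_zero.1 (by simpa [hnn] using h4 b)).resolve_left h40
    intro x
    rw [hh, show K = LinearMap.id from LinearMap.ext fun b => sub_eq_zero.1 (hn0 b)]
  -- `h` is `σ ⊗ 1`
  obtain ⟨w0, hw0'⟩ := C.swap.exists_dual hy0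
  have hw0 : C.g y0 w0 = 1 := hw0'
  set σ : (Fin n₁ → F) →ₗ[F] (Fin n₁ → F) := (C.prB w0).comp (h.toLinearMap.comp (C.t.flip y0))
  have hσ : ∀ a y, h (C.t a y) = C.t (σ a) y := fun a y => C.p_ext fun c v => by
    obtain ⟨r, hr⟩ := hS2 ((C.prA c).comp (h.toLinearMap.comp (C.t a))) fun τ hτ z => by
      have e := hcomm τ hτ (C.t a z)
      rw [C.tm_t] at e
      show C.prA c (h (C.t a (τ z))) = τ (C.prA c (h (C.t a z)))
      simp only [LinearMap.id_apply, LinearEquiv.coe_coe] at e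
      rw [e, prA_tm_right]
      rfl
    have hr' : ∀ z, C.prA c (h (C.t a z)) = r • z := fun z => LinearMap.congr_fun hr z
    rw [← C.g_prA, hr', C.pol, map_smul, LinearMap.smul_apply,
      show C.f (σ a) c = C.p (h (C.t a y0)) (C.t c w0) from C.f_prB _ _ _, ← C.g_prA, hr', map_smul,
      LinearMap.smul_apply, hw0, smul_eq_mul, smul_eq_mul, mul_one]
  have hσi : Function.Injective σ := (injective_iff_map_eq_zero σ).2 fun a ha =>
    C.t_inj hy0 (h.injective (by simp [hσ, ha]))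
  refine ⟨LinearEquiv.ofInjectiveEndo σ hσi, β, fun a y => ?_⟩
  have e := hσ a y
  refine (C.te (LinearEquiv.refl F (Fin n₁ → F)) β.symm).injective ?_
  rw [C.te_t, β.symm_apply_apply]
  exact e

end TT

end Cfsg.Agent.TenForm
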