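import Cfsg.Agent.Lib.C4.ThreeFour.Avg
import Cfsg.Agent.Lib.Orth.Geo

/-!
# `O₃ ⊗ O₄⁻` is maximal in `Ω₁₂⁻`

* `three_four_maximal`
-/

set_option autoImplicit false
set_option linter.unusedSectionVars false
set_option linter.unusedSimpArgs false

namespace Cfsg.Agent.TenForm.ThreeFour

open Module
open QuadraticMap (polar)
open Cfsg.Agent.TenForm TT
open Cfsg.Agent.Transvect (app tp)
open Cfsg.Agent.C4 (flin₂)

variable {F : Type*} [Field F] [Fintype F]

theorem maximal_of_tt {ι : Type} [Fintype ι] [DecidableEq ι] {Q : QuadraticForm F (ι → F)}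
    (C : TT ι F 3 4) (h1 : C.s₁ = 1) (h2 : C.s₂ = 1) (hq : 5 ≤ Fintype.card F)
    (hp : ∀ x y, polar ⇑Q x y = C.p x y)
    (hW : ∀ u v, C.g u u = 0 → C.g v v = 0 → C.g u v = 0 → u ≠ 0 → v ∈ F ∙ u)
    {H : Subgroup (Matrix.GeneralLinearGroup ι F)}
    (hH : ∀ g, g ∈ H ↔ g ∈ Cfsg.Geo.omegaGL ⇑Q ∧ C.IsTen (app g)) :
    Cfsg.Geo.IsMaximalIn (Cfsg.Geo.omegaGL ⇑Q) H := by
  classical
  have h22 := C.two
  have hQ : C.qV = Q := QuadraticMap.ext fun x => by
    rw [qV_apply, ← hp, QuadraticMap.polar_self, nsmul_eq_mul]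
    field_simp
    norm_num
  subst hQ
  set K₀ := Cfsg.Geo.omegaGL ⇑C.qV
  have hiso : ∀ g ∈ K₀, C.Iso (app g) := by
    intro g hg x y
    obtain ⟨h, -, rfl⟩ := Orth.mem_omegaGL_iff.1 hg
    show C.p (Orth.ap h x) (Orth.ap h y) = _
    rw [← polar_qV h1 h2, ← polar_qV h1 h2, Orth.polar_ap]
  have hsq : ∀ m, C.Iso m → m * m ∈ K₀.map app := fun m hm => by
    obtain ⟨g, rfl⟩ := exists_gl m
    let g' : Orth.IsoGrp C.qV := ⟨g, fun x _ => by
      show C.qV (app g x) = C.qV x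
      rw [qV_apply, qV_apply, hm]⟩
    exact ⟨g * g, Orth.mem_omegaGL_iff.2 ⟨g' * g', sq_mem_omega (good_qV h1 h2) g', rfl⟩, map_mul _ _ _⟩
  refine Transvect.isMaximalIn_of_forall (fun g hg => ((hH g).1 hg).1) ?_ fun M₀ hHM hMK g hg hgH => ?_
  · -- an element of `Ω` outside
    obtain ⟨b, hb0, hb'⟩ := exists_isotropic (C := C.swap) h2 (by norm_num)
    have hb : C.g b b = 0 := hb'
    obtain ⟨a, ha0, ha⟩ := exists_isotropic h1 le_rfl
    obtain ⟨c, hc, hac⟩ := partner h1 ha0 ha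
    obtain ⟨β, haβ, hcβ, hβ⟩ := exists_perp_aniso h1 le_rfl ha hc hac
    set D := C.Dop a β
    set S := C.swap.sm b b
    set X := C.tm D S
    have hXX : ∀ x, X (X x) = 0 := fun x => by
      rw [C.tm_comp, show S.comp S = 0 from LinearMap.ext fun y => by
        simp [S, sm_apply, show C.swap.f b b = 0 from hb], ← C.tm_swap, C.swap.tm_zero,
        LinearMap.zero_apply]
    have hsk : ∀ x y, C.p (X x) y = -C.p x (X y) := fun x y => by
      have hS : ∀ y z, C.g (S y) z = C.g y (S z) := fun y z => by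
        simp [S, sm_apply, show C.swap.f = C.g from rfl, gcomm h2 y b, mul_comm]
      rw [C.adjoint_tm (N' := (-1 : F) • D) (K' := S) (fun u v => by
        simpa using C.skewA_Dop a β u v) hS, C.tm_smul]
      simp [X]
    set X2 : (ι → F) →ₗ[F] (ι → F) := (2 : F)⁻¹ • X
    set m : (ι → F) ≃ₗ[F] (ι → F) := exp2 h22 X2 (fun x => by simp [X2, hXX])
    have hmx : ∀ x, m x = x + (2 : F)⁻¹ • X x := fun x => by
      show x + X2 x + (2 : F)⁻¹ • X2 (X2 x) = _
      simp [X2, hXX]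
    have hmi : C.Iso m := fun x y => by
      rw [hmx, hmx]
      simp [hsk x y, hsk x (X y), hXX]
    obtain ⟨g, hgK, hgm⟩ := hsq m hmi
    refine ⟨g, hgK, fun hgH => not_isTen (C := C.swap) hb0 hb (D := D) (z0 := a) ha0 ?_ ?_
      (m := app g) (fun x => ?_) (isTen_swap.2 ((hH g).1 hgH).2)⟩
    · simp [D, Dop_apply, ha, f_comm h1 β a, haβ]
    · intro e
      have := LinearMap.congr_fun e β
      simp [D, Dop_apply, haβ, hβ] at this
      exact ha0 this
    · rw [hgm, LinearEquiv.mul_apply, hmx, hmx, map_add, map_smul, hXX, smul_zero, add_zero, add_assoc,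
        ← two_smul F, smul_smul, mul_inv_cancel₀ h22, one_smul, tm_swap]
  · -- an overgroup
    by_cases hall : ∀ h ∈ Cfsg.Omega F ⇑C.qV, C.toLE h ∈ M₀.map app
    · intro x hx
      obtain ⟨h, hh, rfl⟩ := Orth.mem_omegaGL_iff.1 hx
      obtain ⟨g₁, hg₁, e⟩ := hall h hh
      rwa [← show g₁ = (h : Matrix.GeneralLinearGroup ι F) from
        Transvect.gl_ext fun v => LinearEquiv.congr_fun e v]
    · have hO : Ovg C (K₀.map app) (M₀.map app) :=
        { h1 := h1
          h2 := h2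
          card := hq
          noplane := hW
          iso := by rintro _ ⟨k, hk, rfl⟩; exact hiso k hk
          le := Subgroup.map_mono hMK
          sq := hsq
          ten := by rintro _ ⟨k, hk, rfl⟩ ht; exact ⟨k, hHM ((hH k).2 ⟨hk, ht⟩), rfl⟩
          proper := hall }
      exact absurd ((hH g).2 ⟨hMK hg, isTen_of_mem_ovg hO ⟨g, hg, rfl⟩⟩) hgH

/-- `O₃ ⊗ O₄⁻` in `Ω₁₂⁻`. -/
theorem three_four_maximal (Q : (Fin 12 → F) → F) (hQ : Cfsg.Geo.IsNondegenerateQuadraticForm Q)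
    (hq : Odd (Fintype.card F) ∧ 5 ≤ Fintype.card F) (e : Fin 12 ≃ Fin 3 × Fin 4)
    (P : Matrix.GeneralLinearGroup (Fin 12) F) (f₁ : (Fin 3 → F) → (Fin 3 → F) → F)
    (f₂ : (Fin 4 → F) → (Fin 4 → F) → F) (hf₁ : Cfsg.Geo.IsSymmetricForm f₁)
    (hf₂ : Cfsg.Geo.IsSymmetricForm f₂)
    (hminus : ¬ Cfsg.Geo.IsPlusTypeOn (fun v : Fin 4 → F => f₂ v v) ⊤)
    (hT : Cfsg.Geo.IsTensorFormStructure id (QuadraticMap.polar Q) f₁ f₂ e P) :
    Cfsg.Geo.IsMaximalIn (Cfsg.Geo.omegaGL Q)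
      (Cfsg.Geo.tensorProductSubgroup 3 4 e P ⊓ Cfsg.Geo.omegaGL Q) := by
  have hG := Orth.good_ofND hQ (by simp)
  have h22 := two_ne_zero_of_odd hq.1
  obtain ⟨c, hc, htp⟩ := Transvect.form_tp (σ := id) (fun _ _ => rfl)
    (Aschbacher.FrameThree.fog_eq hf₁.bilinear) (Aschbacher.FrameThree.fog_eq hf₂.bilinear) hT
  let C := ofTP e P hf₁.bilinear hf₂.bilinear (Orth.ofND hQ).polarBilin 1 1 c hc h22 (one_mul 1)
    (one_mul 1) (fun a a' => by rw [one_mul, hf₁.symm a' a]) (fun b b' => by rw [one_mul, hf₂.symm b' b])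
    hf₁.nondegenerate hf₂.nondegenerate hG.nd.1 (fun a w a' w' => htp a w a' w')
  refine maximal_of_tt (Q := Orth.ofND hQ) C rfl rfl hq.2 (fun x y => rfl) (fun u v hu hv huv hu0 => ?_)
    fun g => by rw [Subgroup.mem_inf, mem_tensor_iff C e P rfl, and_comm]; rfl
  by_contra hne
  have hli : LinearIndependent F ![u, v] := by
    rw [LinearIndependent.pair_iff' hu0]
    exact fun a ha => hne (Submodule.mem_span_singleton.2 ⟨a, ha⟩)
  refine hminus ⟨Submodule.span F (Set.range ![u, v]), le_top, fun w hw => ?_, ?_⟩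
  · obtain ⟨a, rfl⟩ := (Submodule.mem_span_range_iff_exists_fun F).1 hw
    have hu' : f₂ u u = 0 := hu
    have hv' : f₂ v v = 0 := hv
    have huv' : f₂ u v = 0 := huv
    show f₂ _ _ = 0
    simp [Fin.sum_univ_two, hf₂.bilinear.add_left, hf₂.bilinear.add_right, hf₂.bilinear.smul_left,
      hf₂.bilinear.smul_right, hu', hv', huv', hf₂.symm v u]
  · rw [finrank_span_eq_card hli, finrank_top, Module.finrank_fin_fun, Fintype.card_fin]

end Cfsg.Agent.TenForm.ThreeFour
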