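import Cfsg.Agent.Lib.C4.ThreeThree.Star
import Cfsg.Agent.Lib.C7F.Transport
import Cfsg.Agent.Lib.Orth.Geo
import Cfsg.Agent.Lib.Forms.Standard

/-!
# `O₃ ≀ S₂` is maximal in `Ω₉`

* `exists_swap_omega` : an element of `Ω` exchanging the factors
* `mem_wreath_iff` : the tensor-wreath subgroup is the wreath part
* `three_three_maximal`, `omega_nine_tensor_wreath`
-/

set_option autoImplicit false
set_option linter.unusedSectionVars false
set_option linter.unusedSimpArgs false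

namespace Cfsg.Agent.TenForm.ThreeThree

open Module Matrix
open QuadraticMap (polar)
open Cfsg.Agent.TenForm TT
open Cfsg.Agent.Transvect (app tp)
open Cfsg.Agent.C4 (flin₂)

variable {F : Type*} [Field F] [Fintype F]

theorem one_add_pow {E : Type*} [AddCommGroup E] [Module F E] {m : E ≃ₗ[F] E} {X : E →ₗ[F] E}
    (hX : ∀ x, X (X x) = 0) (hm : ∀ x, m x = x + X x) (n : ℕ) (x : E) :
    (m ^ n) x = x + (n : F) • X x := by
  induction n generalizing x with
  | zero => simp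
  | succ n ih =>
    rw [pow_succ, LinearEquiv.mul_apply, hm, ih, map_add, hX, add_zero]
    push_cast
    module

theorem exists_char_ne {ε : ℤ} [DecidableEq F] (h22 : (2 : F) ≠ 0) (hε : ε = 1 ∨ ε = -1) {G : F}
    (hG : G ≠ 0) : ∃ r : F, r ≠ 0 ∧ quadraticChar F (r * G) = ε := by
  have hp : ringChar F ≠ 2 := fun h => h22 (by
    have e := ringChar.Nat.cast_ringChar (R := F)
    rw [h] at e
    exact_mod_cast e)
  obtain ⟨c, hc⟩ := quadraticChar_exists_neg_one' (F := F) hp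
  rcases hε with rfl | rfl
  · exact ⟨G⁻¹, inv_ne_zero hG, by rw [inv_mul_cancel₀ hG, map_one]⟩
  · exact ⟨(c : F) * G⁻¹, mul_ne_zero c.ne_zero (inv_ne_zero hG),
      by rw [mul_assoc, inv_mul_cancel₀ hG, mul_one, hc]⟩

variable {ι : Type} [Fintype ι] [DecidableEq ι]

/-- A product of three reflections in the left factor with given spinor sign. -/
theorem exists_refl_three (C : TT ι F 3 3) (h1 : C.s₁ = 1) (h2 : C.s₂ = 1) {ε : ℤ} (hε : ε = 1 ∨ ε = -1) :
    ∃ R : Orth.IsoGrp C.qV, C.IsTen (app (R : Matrix.GeneralLinearGroup ι F)) ∧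
      Orth.dick R = -1 ∧ Orth.spin R = ε := by
  classical
  have h22 := C.two
  obtain ⟨b, hb0, hb⟩ := exists_isotropic (C := C.swap) h2 le_rfl
  obtain ⟨c, w, Fb⟩ := exists_frame h2 hb0 hb
  have hq := Fb.qw
  obtain ⟨r, hr0, hr⟩ := exists_char_ne h22 hε (G := C.g w w * -1 * (2 : F)⁻¹)
    (mul_ne_zero (mul_ne_zero hq (neg_ne_zero.2 one_ne_zero)) (inv_ne_zero h22))
  obtain ⟨u, hu'⟩ := Orth.exists_Q_eq (qA_nondeg (C := C) h1) (by simp) r
  have hu : C.f u u = r := hu'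
  have hQv : ∀ y, C.qV (C.t u y) = (2 : F)⁻¹ * (r * C.g y y) := fun y => by rw [qV_apply, C.pol, hu]
  set v₁ := C.t u (b + c)
  set v₂ := C.t u (b - c)
  set v₃ := C.t u w
  have g1 : C.g (b + c) (b + c) = 2 := by simp [Fb.bb, Fb.cc, Fb.bc, Fb.cb]; norm_num
  have g2 : C.g (b - c) (b - c) = -2 := by simp [Fb.bb, Fb.cc, Fb.bc, Fb.cb]; norm_num
  have q1 : C.qV v₁ = r := by rw [hQv, g1]; field_simp
  have q2 : C.qV v₂ = -r := by rw [hQv, g2]; field_simp
  have q3 : C.qV v₃ = (2 : F)⁻¹ * (r * C.g w w) := hQv w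
  have n1 : C.qV v₁ ≠ 0 := by rw [q1]; exact hr0
  have n2 : C.qV v₂ ≠ 0 := by rw [q2]; exact neg_ne_zero.2 hr0
  have n3 : C.qV v₃ ≠ 0 := by rw [q3]; exact mul_ne_zero (inv_ne_zero h22) (mul_ne_zero hr0 hq)
  have hG := good_qV (C := C) h1 h2
  refine ⟨Orth.refl C.qV v₁ * (Orth.refl C.qV v₂ * Orth.refl C.qV v₃), ?_, ?_, ?_⟩
  · set φ : (Fin 3 → F) →ₗ[F] (Fin 3 → F) := LinearMap.id - (2 * r⁻¹) • C.sm u u with hφ
    have hinv : φ.comp φ = LinearMap.id := LinearMap.ext fun z => by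
      simp [hφ, sm_apply, hu]
      match_scalars <;> field_simp <;> ring
    refine ⟨LinearEquiv.ofLinearMap φ φ hinv hinv, LinearEquiv.refl F _, fun z y => ?_⟩
    show Orth.ap _ (C.t z y) = C.t (φ z) y
    rw [Orth.ap_mul, Orth.ap_mul, Orth.refl_ap, Orth.refl_ap, Orth.refl_ap, polar_qV h1 h2, polar_qV h1 h2,
      polar_qV h1 h2, q1, q2, q3]
    conv_rhs => rw [Fb.dec_B y]
    conv_lhs => rw [Fb.dec_B y]
    simp only [v₁, v₂, v₃, hφ]
    simp [C.pol, hu, f_comm h1 z u, Fb.bb, Fb.cc, Fb.bc, Fb.cb, Fb.bw, Fb.cw, Fb.wb, Fb.wc, sm_apply]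
    match_scalars <;> field_simp <;> ring
  · rw [Orth.dick_refl_mul hG.nd _ n1, Orth.dick_refl_mul hG.nd _ n2, Orth.dick_refl hG.nd n3]
    norm_num
  · rw [Orth.spin_refl_mul hG.nd _ n1, Orth.spin_refl_mul hG.nd _ n2, Orth.spin_refl hG.nd n3, q1, q2, q3,
      ← map_mul, ← map_mul, show r * (-r * ((2 : F)⁻¹ * (r * C.g w w))) =
        (r * (C.g w w * -1 * (2 : F)⁻¹)) * r ^ 2 by ring, map_mul, hr, quadraticChar_sq_one' hr0, mul_one]

/-- An element of `Ω` exchanging the factors. -/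
theorem exists_swap_omega (C : TT ι F 3 3) (h1 : C.s₁ = 1) (h2 : C.s₂ = 1)
    (hfg : ∀ a a' z z', C.f z z' * C.g a a' = C.f a a' * C.g z z') :
    ∃ g ∈ Cfsg.Geo.omegaGL ⇑C.qV, IsTenS C (app g) := by
  obtain ⟨g₀, hg₀⟩ := exists_gl (swp C)
  let W : Orth.IsoGrp C.qV := ⟨g₀, fun x _ => by
    show C.qV (app g₀ x) = C.qV x
    rw [qV_apply, qV_apply, hg₀, swp_iso hfg]⟩
  have hG := good_qV (C := C) h1 h2
  have hW : IsTenS C (app (W : Matrix.GeneralLinearGroup ι F)) := by rw [hg₀]; exact isTenS_swp C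
  have hmul : ∀ (S R : Orth.IsoGrp C.qV), IsTenS C (app (S : Matrix.GeneralLinearGroup ι F)) →
      C.IsTen (app (R : Matrix.GeneralLinearGroup ι F)) →
      IsTenS C (app ((S * R : Orth.IsoGrp C.qV) : Matrix.GeneralLinearGroup ι F)) := by
    rintro S R ⟨σ, τ, h⟩ ⟨σ', τ', h'⟩
    exact ⟨σ * σ', τ * τ', fun u z => by rw [Subgroup.coe_mul, map_mul, LinearEquiv.mul_apply, h', h]; rfl⟩
  have hfin : ∀ S : Orth.IsoGrp C.qV, IsTenS C (app (S : Matrix.GeneralLinearGroup ι F)) → Orth.dick S = -1 →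
      ∃ g ∈ Cfsg.Geo.omegaGL ⇑C.qV, IsTenS C (app g) := fun S hS hd => by
    obtain ⟨R, hR, hdR, hsR⟩ := exists_refl_three C h1 h2 (Orth.spin_eq_or hG S)
    refine ⟨_, Orth.mem_omegaGL_iff.2 ⟨S * R, (Orth.mem_omega_iff hG _).2 ⟨?_, ?_⟩, rfl⟩, hmul S R hS hR⟩
    · rw [Orth.dick_mul hG, hd, hdR]; norm_num
    · rw [Orth.spin_mul hG, hsR]
      rcases Orth.spin_eq_or hG S with h | h <;> rw [h] <;> norm_num
  rcases Orth.dick_eq_or W with hd | hd
  · obtain ⟨R, hR, hdR, -⟩ := exists_refl_three C h1 h2 (ε := 1) (.inl rfl)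
    exact hfin (W * R) (hmul W R hW hR) (by rw [Orth.dick_mul hG, hd, hdR]; norm_num)
  · exact hfin W hW hd

theorem maximal_of_tt {Q : QuadraticForm F (ι → F)}
    (C : TT ι F 3 3) (h1 : C.s₁ = 1) (h2 : C.s₂ = 1) (hq : 5 ≤ Fintype.card F)
    (hfg : ∀ a a' z z', C.f z z' * C.g a a' = C.f a a' * C.g z z')
    (hp : ∀ x y, polar ⇑Q x y = C.p x y)
    {H : Subgroup (Matrix.GeneralLinearGroup ι F)}
    (hH : ∀ g, g ∈ H ↔ g ∈ Cfsg.Geo.omegaGL ⇑Q ∧ IsWr C (app g)) :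
    Cfsg.Geo.IsMaximalIn (Cfsg.Geo.omegaGL ⇑Q) H := by
  classical
  have h22 := C.two
  have hQ : C.qV = Q := QuadraticMap.ext fun x => by
    rw [qV_apply, ← hp, QuadraticMap.polar_self, nsmul_eq_mul]
    field_simp
    norm_num
  subst hQ
  set K₀ := Cfsg.Geo.omegaGL ⇑C.qV
  have hiso : ∀ g ∈ K₀, C.Iso (app g) := by
    intro g hg x y
    obtain ⟨h, -, rfl⟩ := Orth.mem_omegaGL_iff.1 hg
    show C.p (Orth.ap h x) (Orth.ap h y) = _
    rw [← polar_qV h1 h2, ← polar_qV h1 h2, Orth.polar_ap]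
  have hsq : ∀ m, C.Iso m → m * m ∈ K₀.map app := fun m hm => by
    obtain ⟨g, rfl⟩ := exists_gl m
    let g' : Orth.IsoGrp C.qV := ⟨g, fun x _ => by
      show C.qV (app g x) = C.qV x
      rw [qV_apply, qV_apply, hm]⟩
    exact ⟨g * g, Orth.mem_omegaGL_iff.2 ⟨g' * g', sq_mem_omega (good_qV h1 h2) g', rfl⟩, map_mul _ _ _⟩
  refine Transvect.isMaximalIn_of_forall (fun g hg => ((hH g).1 hg).1) ?_ fun M₀ hHM hMK g hg hgH => ?_
  · -- an element of `Ω` outside
    obtain ⟨b, hb0, hb'⟩ := exists_isotropic (C := C.swap) h2 (by norm_num)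
    have hb : C.g b b = 0 := hb'
    obtain ⟨a, ha0, ha⟩ := exists_isotropic h1 le_rfl
    obtain ⟨c, hc, hac⟩ := partner h1 ha0 ha
    obtain ⟨β, haβ, hcβ, hβ⟩ := exists_perp_aniso h1 le_rfl ha hc hac
    set D := C.Dop a β
    set S := C.swap.sm b b
    set X := C.tm D S
    have hXX : ∀ x, X (X x) = 0 := fun x => by
      rw [C.tm_comp, show S.comp S = 0 from LinearMap.ext fun y => by
        simp [S, sm_apply, show C.swap.f b b = 0 from hb], ← C.tm_swap, C.swap.tm_zero,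
        LinearMap.zero_apply]
    have hsk : ∀ x y, C.p (X x) y = -C.p x (X y) := fun x y => by
      have hS : ∀ y z, C.g (S y) z = C.g y (S z) := fun y z => by
        simp [S, sm_apply, show C.swap.f = C.g from rfl, gcomm h2 y b, mul_comm]
      rw [C.adjoint_tm (N' := (-1 : F) • D) (K' := S) (fun u v => by
        simpa using C.skewA_Dop a β u v) hS, C.tm_smul]
      simp [X]
    set X2 : (ι → F) →ₗ[F] (ι → F) := (2 : F)⁻¹ • X
    set m : (ι → F) ≃ₗ[F] (ι → F) := exp2 h22 X2 (fun x => by simp [X2, hXX])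
    have hmx : ∀ x, m x = x + (2 : F)⁻¹ • X x := fun x => by
      show x + X2 x + (2 : F)⁻¹ • X2 (X2 x) = _
      simp [X2, hXX]
    have hmi : C.Iso m := fun x y => by
      rw [hmx, hmx]
      simp [hsk x y, hsk x (X y), hXX]
    obtain ⟨g, hgK, hgm⟩ := hsq m hmi
    have hgx : ∀ x, app g x = x + X x := fun x => by
      rw [hgm, LinearEquiv.mul_apply, hmx, hmx, map_add, map_smul, hXX, smul_zero, add_zero, add_assoc,
        ← two_smul F, smul_smul, mul_inv_cancel₀ h22, one_smul]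
    have hodd : Odd (ringChar F) := (CharP.char_is_prime F (ringChar F)).odd_of_ne_two fun e => h22 (by
      have e' := ringChar.Nat.cast_ringChar (R := F)
      rw [e] at e'
      exact_mod_cast e')
    refine ⟨g, hgK, fun hgH => not_isTen (C := C.swap) hb0 hb (D := D) (z0 := a) ha0 ?_ ?_
      (m := app g) (fun x => ?_) (isTen_swap.2 (eq_ten_of_odd ((hH g).1 hgH).2 hodd
        (LinearEquiv.ext fun x => ?_)))⟩
    · simp [D, Dop_apply, ha, f_comm h1 β a, haβ]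
    · intro e
      have := LinearMap.congr_fun e β
      simp [D, Dop_apply, haβ, hβ] at this
      exact ha0 this
    · rw [hgx, tm_swap]
    · rw [one_add_pow hXX hgx, ringChar.Nat.cast_ringChar, zero_smul, add_zero]
      rfl
  · -- an overgroup
    by_cases hall : ∀ h ∈ Cfsg.Omega F ⇑C.qV, C.toLE h ∈ M₀.map app
    · intro x hx
      obtain ⟨h, hh, rfl⟩ := Orth.mem_omegaGL_iff.1 hx
      obtain ⟨g₁, hg₁, e⟩ := hall h hh
      rwa [← show g₁ = (h : Matrix.GeneralLinearGroup ι F) from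
        Transvect.gl_ext fun v => LinearEquiv.congr_fun e v]
    · obtain ⟨s, hs, hsS⟩ := exists_swap_omega C h1 h2 hfg
      have hO : Ovg C (K₀.map app) (M₀.map app) :=
        { h1 := h1
          h2 := h2
          fg := hfg
          card := hq
          iso := by rintro _ ⟨k, hk, rfl⟩; exact hiso k hk
          le := Subgroup.map_mono hMK
          sq := hsq
          wr := by rintro _ ⟨k, hk, rfl⟩ ht; exact ⟨k, hHM ((hH k).2 ⟨hk, ht⟩), rfl⟩
          swK := ⟨_, ⟨s, hHM ((hH s).2 ⟨hs, .inr hsS⟩), rfl⟩, hsS⟩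
          proper := hall }
      exact absurd ((hH g).2 ⟨hMK hg, isWr_of_mem_ovg hO ⟨g, hg, rfl⟩⟩) hgH

/-- The tensor-wreath subgroup is the wreath part. -/
theorem mem_wreath_iff (C : TT ι F 3 3) (e : ι ≃ (Fin 2 → Fin 3)) (P : Matrix.GeneralLinearGroup ι F)
    (ht : C.t = tp (e.trans (finTwoArrowEquiv (Fin 3))) P) (g : Matrix.GeneralLinearGroup ι F) :
    g ∈ Cfsg.Geo.tensorWreathSubgroup 3 2 e P ↔ IsWr C (app g) := by
  have htv : ∀ u z, C.t u z = (P : Matrix ι ι F) *ᵥ ((fun x : C7.J 3 2 => u (x 0) * z (x 1)) ∘ e) :=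
    fun u z => by rw [ht]; rfl
  have hsplit : ∀ h : C7.J 3 2 → F, ∑ x, h x = ∑ i : Fin 3, ∑ j : Fin 3, h ![i, j] := fun h => by
    rw [← Fintype.sum_prod_type']
    exact Fintype.sum_equiv (finTwoArrowEquiv (Fin 3)) _ _ fun x => by
      congr 1; funext i; fin_cases i <;> rfl
  rw [← C7F.map_carry]
  constructor
  · rintro ⟨h, hh, rfl⟩
    show IsWr C (app (C7F.carry e P h))
    induction hh using Subgroup.closure_induction with
    | mem h hh =>
      rcases hh with ⟨gs, hgs⟩ | ⟨σ, hσ⟩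
      · refine .inl ⟨app (gs 0), app (gs 1), fun u z => ?_⟩
        rw [htv, htv, C7F.app_carry]
        congr 1
        funext i
        simp only [Function.comp_apply, Transvect.app_apply, Matrix.mulVec, dotProduct, hgs,
          Fin.prod_univ_two]
        rw [hsplit, Finset.sum_mul_sum]
        refine Finset.sum_congr rfl fun k _ => Finset.sum_congr rfl fun l _ => ?_
        simp only [Matrix.cons_val_zero, Matrix.cons_val_one]
        ring
      · have hcases : (σ 0 = 0 ∧ σ 1 = 1) ∨ (σ 0 = 1 ∧ σ 1 = 0) := by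
          have := σ.injective.ne (show (0 : Fin 2) ≠ 1 by decide)
          omega
        rcases hcases with ⟨h0, h1⟩ | ⟨h0, h1⟩
        · refine .inl ⟨1, 1, fun u z => ?_⟩
          rw [htv, htv, C7F.app_carry, C7.app_perm hσ]
          congr 1
          funext i
          simp [h0, h1]
        · refine .inr ⟨1, 1, fun u z => ?_⟩
          rw [htv, htv, C7F.app_carry, C7.app_perm hσ]
          congr 1
          funext i
          simp [h0, h1, mul_comm]
    | one => rw [map_one, map_one]; exact isWr_one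
    | mul x y _ _ hx hy => rw [map_mul, map_mul]; exact hx.mul hy
    | inv x _ hx => rw [map_inv, map_inv]; exact hx.inv
  intro hg
  suffices key : ∀ g, C.IsTen (app g) → g ∈ (C7.Wr F 3 2).map (C7F.carry e P).toMonoidHom by
    rcases hg with hg | ⟨σ, τ, hg⟩
    · exact key g hg
    obtain ⟨p, hp, hpT⟩ := C7.exists_perm (F := F) (m := 3) (t := 1) 0 1
    have hp' : C7F.carry e P p ∈ (C7.Wr F 3 2).map (C7F.carry e P).toMonoidHom :=
      Subgroup.mem_map_of_mem _ hp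
    have hsw : ∀ u z, app (C7F.carry e P p) (C.t u z) = C.t z u := fun u z => by
      rw [htv, htv, C7F.app_carry]
      congr 1
      have e0 := hpT (fun x : C7.J 3 1 => z (x 0)) u
      have h0 : C7.T (0 : Fin 2) (fun x : C7.J 3 1 => z (x 0)) u = fun x : C7.J 3 2 => u (x 0) * z (x 1) :=
        funext fun x => by simp [C7.T]; ring
      have h1 : C7.T (1 : Fin 2) (fun x : C7.J 3 1 => z (x 0)) u = fun x : C7.J 3 2 => z (x 0) * u (x 1) :=
        funext fun x => by simp [C7.T]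
      rw [h0, h1] at e0
      rw [e0]
    have := mul_mem (key (g * C7F.carry e P p) ⟨τ, σ, fun u z => by
      rw [map_mul, LinearEquiv.mul_apply, hsw, hg]⟩) (inv_mem hp')
    rwa [mul_inv_cancel_right] at this
  intro g hg
  have hT := (mem_tensor_iff C (e.trans (finTwoArrowEquiv (Fin 3))) P ht g).2 hg
  obtain ⟨_, ⟨k, ⟨A, B, hk⟩, rfl⟩, rfl⟩ := hT
  refine ⟨Cfsg.Geo.glReindex (finTwoArrowEquiv (Fin 3)).symm k, Subgroup.subset_closure (.inl ⟨![A, B],
    fun x y => ?_⟩), ?_⟩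
  · show (k : Matrix (Fin 3 × Fin 3) (Fin 3 × Fin 3) F) (x 0, x 1) (y 0, y 1) = _
    rw [hk, Fin.prod_univ_two]
    rfl
  · exact congrArg (MulAut.conj P) (Units.ext (Matrix.ext fun i j => rfl))

/-- `O₃ ≀ S₂` in `Ω₉`. -/
theorem three_three_maximal (Q : QuadraticForm F (ι → F)) (hnd : Q.polarBilin.Nondegenerate)
    (h22 : (2 : F) ≠ 0) (hq : 5 ≤ Fintype.card F) (e : ι ≃ (Fin 2 → Fin 3))
    (P : Matrix.GeneralLinearGroup ι F) (f₁ : (Fin 3 → F) → (Fin 3 → F) → F)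
    (hf₁ : Cfsg.Geo.IsSymmetricForm f₁)
    (hT : Cfsg.Geo.IsTensorPowerFormStructure id (QuadraticMap.polar ⇑Q) f₁ e P) :
    Cfsg.Geo.IsMaximalIn (Cfsg.Geo.omegaGL ⇑Q)
      (Cfsg.Geo.tensorWreathSubgroup 3 2 e P ⊓ Cfsg.Geo.omegaGL ⇑Q) := by
  set e' := e.trans (finTwoArrowEquiv (Fin 3))
  have hT' : Cfsg.Geo.IsTensorFormStructure id (QuadraticMap.polar ⇑Q) f₁ f₁ e' P := by
    obtain ⟨c, hc, h⟩ := hT
    refine ⟨c, hc, fun x y => ?_⟩
    rw [show x ∘ e' = (x ∘ finTwoArrowEquiv (Fin 3)) ∘ e from rfl,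
      show y ∘ e' = (y ∘ finTwoArrowEquiv (Fin 3)) ∘ e from rfl, h, Cfsg.Geo.formOfGram]
    congr 1
    refine Fintype.sum_equiv (finTwoArrowEquiv (Fin 3)) _ _ fun i =>
      Fintype.sum_equiv (finTwoArrowEquiv (Fin 3)) _ _ fun j => ?_
    simp [Fin.prod_univ_two, Matrix.kroneckerMap_apply]
  obtain ⟨c, hc, htp⟩ := Transvect.form_tp (σ := id) (fun _ _ => rfl)
    (Aschbacher.FrameThree.fog_eq hf₁.bilinear) (Aschbacher.FrameThree.fog_eq hf₁.bilinear) hT'
  let C := ofTP e' P hf₁.bilinear hf₁.bilinear Q.polarBilin 1 1 c hc h22 (one_mul 1)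
    (one_mul 1) (fun a a' => by rw [one_mul, hf₁.symm a' a]) (fun b b' => by rw [one_mul, hf₁.symm b' b])
    hf₁.nondegenerate hf₁.nondegenerate hnd.1 (fun a w a' w' => htp a w a' w')
  refine maximal_of_tt (Q := Q) C rfl rfl hq (fun a a' z z' => ?_) (fun x y => rfl)
    fun g => by rw [Subgroup.mem_inf, mem_wreath_iff C e P rfl, and_comm]
  show (c • flin₂ hf₁.bilinear) z z' * flin₂ hf₁.bilinear a a' =
    (c • flin₂ hf₁.bilinear) a a' * flin₂ hf₁.bilinear z z'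
  simp only [LinearMap.smul_apply, smul_eq_mul]
  ring

/-- The tensor square clause for `Ω₉`. -/
theorem omega_nine_tensor_wreath (hodd : Odd (Fintype.card F)) :
    5 ≤ Fintype.card F → ∀ (e : (Unit ⊕ (Fin 4 ⊕ Fin 4)) ≃ (Fin 2 → Fin 3))
      (P : Matrix.GeneralLinearGroup (Unit ⊕ (Fin 4 ⊕ Fin 4)) F) (f₁ : (Fin 3 → F) → (Fin 3 → F) → F),
      Cfsg.Geo.IsSymmetricForm f₁ →
      Cfsg.Geo.IsTensorPowerFormStructure id (QuadraticMap.polar (Cfsg.quadFormOdd 4 F)) f₁ e P →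
      Cfsg.Geo.IsMaximalIn (Cfsg.Geo.omegaGL (Cfsg.quadFormOdd 4 F))
        (Cfsg.Geo.tensorWreathSubgroup 3 2 e P ⊓ Cfsg.Geo.omegaGL (Cfsg.quadFormOdd 4 F)) := by
  intro hq e P f₁ hf₁ hT
  rw [← Forms.qfOdd_eq] at hT ⊢
  have h22 := two_ne_zero_of_odd hodd
  exact three_three_maximal _ (Forms.qfOdd_nondegenerate h22 4) h22 hq e P f₁ hf₁ hT

end Cfsg.Agent.TenForm.ThreeThree
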