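import Cfsg.Agent.Lib.C4.TenTwoFourSylow

/-!
# Two times four tensor decompositions of minus type inside an eight-dimensional symplectic group

An overgroup `M` of the tensor stabiliser with the root group property consists of tensor products:
a conjugate `k` of a reflection fixes a plane of every ruling, and then fixes the ruling.

* `fixes_of_invol`
* `isTen_of_qp`
* `maximal_sp_two_orth_minus`
-/

set_option autoImplicit false
set_option linter.unusedSectionVars false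
set_option linter.unusedSimpArgs false

namespace Cfsg.Agent.TenForm.TwoFour

open Module
open Cfsg.Agent.Transvect (app)

variable {ι : Type} [Fintype ι] [DecidableEq ι] {F : Type*} [Field F] [Fintype F]
variable {C : TT ι F 2 4}

/-! ### operators on the sum of `A ⊗ i`, `A ⊗ c` and the rest -/

/-- The projection away from a hyperbolic pair. -/
noncomputable def prP (C : TT ι F 2 4) (i c : Fin 4 → F) : (Fin 4 → F) →ₗ[F] (Fin 4 → F) :=
  LinearMap.id - C.swap.sm i c - C.swap.sm c i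

/-- `P ⊗ diag(1,-1)` plus an antidiagonal part on `A ⊗ ⟨i, c⟩`, the identity on the rest. -/
noncomputable def kop (C : TT ι F 2 4) (i c : Fin 4 → F) (P : (Fin 2 → F) →ₗ[F] (Fin 2 → F)) (β γ : F) :
    (ι → F) →ₗ[F] (ι → F) :=
  C.tm LinearMap.id (prP C i c) + C.tm P (C.swap.sm i c - C.swap.sm c i)
    + C.tm LinearMap.id (β • C.swap.sm i i + γ • C.swap.sm c c)

section Pair

variable (h2 : C.s₂ = 1) {i c : Fin 4 → F} (hi : C.g i i = 0) (hc : C.g c c = 0) (hic : C.g i c = 1)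
include h2 hi hc hic

theorem kop_i (P : (Fin 2 → F) →ₗ[F] (Fin 2 → F)) (β γ : F) (b : Fin 2 → F) :
    kop C i c P β γ (C.t b i) = C.t (P b) i + γ • C.t b c := by
  simp [kop, prP, C.tm_t, TT.sm_apply, show C.swap.f = C.g from rfl, hi, gcomm h2 c i, hic]

theorem kop_c (P : (Fin 2 → F) →ₗ[F] (Fin 2 → F)) (β γ : F) (b : Fin 2 → F) :
    kop C i c P β γ (C.t b c) = β • C.t b i - C.t (P b) c := by
  simp [kop, prP, C.tm_t, TT.sm_apply, show C.swap.f = C.g from rfl, hc, gcomm h2 c i, hic]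
  abel

theorem kop_perp (P : (Fin 2 → F) →ₗ[F] (Fin 2 → F)) (β γ : F) (b : Fin 2 → F) {z : Fin 4 → F}
    (hiz : C.g i z = 0) (hcz : C.g c z = 0) : kop C i c P β γ (C.t b z) = C.t b z := by
  simp [kop, prP, C.tm_t, TT.sm_apply, show C.swap.f = C.g from rfl, hiz, hcz]

/-- Maps agreeing on the three pieces are equal. -/
theorem ext3 {W : Type*} [AddCommGroup W] [Module F W] {L L' : (ι → F) →ₗ[F] W}
    (e1 : ∀ b, L (C.t b i) = L' (C.t b i)) (e2 : ∀ b, L (C.t b c) = L' (C.t b c))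
    (e3 : ∀ b z, C.g i z = 0 → C.g c z = 0 → L (C.t b z) = L' (C.t b z)) : L = L' :=
  C.ext_pure fun b v => by
    have hv : v = (v - C.g c v • i - C.g i v • c) + C.g c v • i + C.g i v • c := by abel
    rw [hv]
    simp only [map_add, map_smul, e1, e2]
    rw [e3 b _ (by simp [hi, hic]) (by simp [hc, gcomm h2 c i, hic])]

theorem prP_apply (v : Fin 4 → F) : prP C i c v = v - C.g c v • i - C.g i v • c := by
  simp [prP, TT.sm_apply, show C.swap.f = C.g from rfl]

theorem prP_perp (v : Fin 4 → F) : C.g i (prP C i c v) = 0 ∧ C.g c (prP C i c v) = 0 := by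
  rw [prP_apply h2 hi hc hic]
  simp [hi, hc, hic, gcomm h2 c i]

/-- An isometry of the right factor given on a hyperbolic pair and trivial on its perp. -/
theorem exists_pair_map {i' c' : Fin 4 → F} (hii : C.g i' i' = 0) (hcc : C.g c' c' = 0)
    (hic' : C.g i' c' = 1) (hperp : ∀ z, C.g i z = 0 → C.g c z = 0 → C.g i' z = 0 ∧ C.g c' z = 0) :
    ∃ ρ : (Fin 4 → F) ≃ₗ[F] (Fin 4 → F), ρ i = i' ∧ ρ c = c' ∧
      (∀ z, C.g i z = 0 → C.g c z = 0 → ρ z = z) ∧ ∀ u v, C.g (ρ u) (ρ v) = C.g u v := by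
  let R : (Fin 4 → F) →ₗ[F] (Fin 4 → F) :=
    prP C i c + (C.g c).smulRight i' + (C.g i).smulRight c'
  have hR : ∀ v, R v = prP C i c v + C.g c v • i' + C.g i v • c' := fun v => rfl
  have hdec : ∀ v, v = prP C i c v + C.g c v • i + C.g i v • c := fun v => by
    rw [prP_apply h2 hi hc hic]; abel
  have hisoR : ∀ u v, C.g (R u) (R v) = C.g u v := fun u v => by
    obtain ⟨u1, u2⟩ := prP_perp h2 hi hc hic u
    obtain ⟨v1, v2⟩ := prP_perp h2 hi hc hic v
    obtain ⟨a1, a2⟩ := hperp _ u1 u2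
    obtain ⟨b1, b2⟩ := hperp _ v1 v2
    conv_rhs => rw [hdec u, hdec v]
    rw [hR, hR]
    simp only [map_add, map_smul, LinearMap.add_apply, LinearMap.smul_apply, smul_eq_mul, hii, hcc, hic',
      gcomm h2 c' i', gcomm h2 (prP C i c u) i', gcomm h2 (prP C i c u) c', a1, a2, b1, b2, hi, hc, hic,
      gcomm h2 c i, gcomm h2 (prP C i c u) i, gcomm h2 (prP C i c u) c, u1, u2, v1, v2]
  have hinj : Function.Injective R := (injective_iff_map_eq_zero R).2 fun v hv =>
    C.gnd v fun v' => by rw [← hisoR, hv, map_zero, LinearMap.zero_apply]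
  refine ⟨LinearEquiv.ofInjectiveEndo R hinj, ?_, ?_, fun z h h' => ?_, hisoR⟩
  · show R i = i'
    simp [hR, prP_apply h2 hi hc hic, hi, gcomm h2 c i, hic]
  · show R c = c'
    simp [hR, prP_apply h2 hi hc hic, hc, hic, gcomm h2 c i]
  · show R z = z
    simp [hR, prP_apply h2 hi hc hic, h, h']

/-- The antidiagonal tensor element. -/
theorem exists_flip (β γ : F) (hbg : β * γ = 1) : ∃ ρ : (Fin 4 → F) ≃ₗ[F] (Fin 4 → F),
    ρ i = γ • c ∧ ρ c = β • i ∧ (∀ z, C.g i z = 0 → C.g c z = 0 → ρ z = z) ∧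
    (∀ u v, C.g (ρ u) (ρ v) = C.g u v) ∧ ∀ x, C.te 1 ρ x = kop C i c 0 β γ x := by
  obtain ⟨ρ, ri, rc, rz, hρ⟩ := exists_pair_map h2 hi hc hic (i' := γ • c) (c' := β • i)
    (by simp [hc]) (by simp [hi]) (by simp [gcomm h2 c i, hic]; linear_combination hbg)
    fun z h h' => by simp [h, h']
  refine ⟨ρ, ri, rc, rz, hρ, fun x => LinearMap.congr_fun (ext3 h2 hi hc hic
    (L := (C.te (1 : (Fin 2 → F) ≃ₗ[F] (Fin 2 → F)) ρ).toLinearMap) (L' := kop C i c 0 β γ)
    (fun b => ?_) (fun b => ?_) fun b z h h' => ?_) x⟩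
  · simp [C.te_t, ri, kop_i h2 hi hc hic]
  · simp [C.te_t, rc, kop_c h2 hi hc hic]
  · simp [C.te_t, rz z h h', kop_perp h2 hi hc hic (0 : (Fin 2 → F) →ₗ[F] (Fin 2 → F)) β γ b h h']

end Pair

attribute [local irreducible] kop prP

section Main

variable {M : Subgroup ((ι → F) ≃ₗ[F] (ι → F))} {p : ℕ} [Fact p.Prime] [CharP F p]
variable (h1 : C.s₁ = -1) (h2 : C.s₂ = 1) (hmin : Minus C) (h3 : 3 ≤ p)
variable (hiso : ∀ m ∈ M, C.Iso m) (hTen : ∀ m, C.Iso m → C.IsTen m → m ∈ M) (hQ : QP C M)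
include h1 h2 hmin h3 hiso hTen hQ

/-- No quadratic element of `M` lives on `A ⊗ ⟨i, c⟩`. -/
theorem not_small_quad {a : Fin 2 → F} (ha : a ≠ 0) {i c : Fin 4 → F} (hi : C.g i i = 0)
    (hc : C.g c c = 0) (hic : C.g i c = 1) {x : (ι → F) ≃ₗ[F] (ι → F)} (hx : x ∈ M) (hq : Quad x)
    (hfix : ∀ b z, C.g i z = 0 → C.g c z = 0 → x (C.t b z) = C.t b z)
    (hzero : ∀ y, C.tm LinearMap.id (prP C i c) (x y - y) = 0) : x = 1 := by
  by_contra hx1
  obtain ⟨g, hg, e, he, hge⟩ := exists_conj_quad h1 h2 hmin h3 hiso hTen hQ ha hi hc hic le_rfl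
    (fun s hs => (syl_le h1 h2 hTen a i hs).1) hx hq hx1
  obtain ⟨z, hz, hz0⟩ := Submodule.exists_mem_ne_zero_of_ne_bot
    (p := LinearMap.ker ((C.g i).prod (C.g c))) fun h => by
      have := ((C.g i).prod (C.g c)).finrank_range_add_finrank_ker
      have h' := Submodule.finrank_le (LinearMap.range ((C.g i).prod (C.g c)))
      rw [Module.finrank_prod, Module.finrank_self] at h'
      rw [h, finrank_bot, Module.finrank_fin_fun] at this
      omega
  obtain ⟨hiz, hcz⟩ : C.g i z = 0 ∧ C.g c z = 0 := Prod.ext_iff.1 (LinearMap.mem_ker.1 hz)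
  set w := g.symm (C.t a z)
  have hw : rt C a w = 0 := by
    have h := hge w
    rw [g.apply_symm_apply, hfix a z hiz hcz, left_eq_add, smul_eq_zero, or_iff_right he] at h
    exact g.map_eq_zero_iff.1 h
  rw [rt_apply h1, ← map_zero (C.t a)] at hw
  obtain ⟨v, hv⟩ := (mem_ruling h1 ha).2 (neg_eq_zero.1 (C.t_inj_left ha hw))
  obtain ⟨d, had⟩ := C.exists_dual ha
  have hv' : rt C a (C.t d v) = C.t a v := by
    rw [rt_apply h1, C.prA_t, fsymm h1 d a, had, neg_smul, one_smul, neg_neg]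
  have h := hzero (g (C.t d v))
  rw [hge, add_sub_cancel_left, hv', hv, g.apply_symm_apply, map_smul, smul_eq_zero, or_iff_right he,
    C.tm_t, LinearMap.id_apply, prP_apply h2 hi hc hic, hcz, hiz, zero_smul, zero_smul, sub_zero,
    sub_zero] at h
  exact hz0 (C.t_inj_left ha (h.trans (map_zero _).symm))

/-- The nilpotent case. -/
theorem not_kop_nil {a : Fin 2 → F} (ha : a ≠ 0) {i c : Fin 4 → F} (hi : C.g i i = 0) (hc : C.g c c = 0)
    (hic : C.g i c = 1) {k : (ι → F) ≃ₗ[F] (ι → F)} (hk : k ∈ M)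
    {P : (Fin 2 → F) →ₗ[F] (Fin 2 → F)} {β γ : F} (hγ : γ ≠ 0) (hbg : β * γ = 1)
    (hPz : ∀ b, P (P b) = 0) (hkop : ∀ x, k x = kop C i c P β γ x) (b₀ : Fin 2 → F) : P b₀ = 0 := by
  have ki := kop_i h2 hi hc hic
  have kc := kop_c h2 hi hc hic
  have kz := kop_perp h2 hi hc hic
  obtain ⟨ρ, -, -, -, hρ, hhk⟩ := exists_flip h2 hi hc hic β γ hbg
  set h := C.te (1 : (Fin 2 → F) ≃ₗ[F] (Fin 2 → F)) ρ
  have hh : h ∈ M := hTen _ (TT.iso_te (fun _ _ => rfl) hρ) (TT.isTen_te _ _)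
  set x := k * h
  have hX : ∀ y, x y = kop C i c P β γ (kop C i c 0 β γ y) := fun y => by
    rw [LinearEquiv.mul_apply, hkop, hhk]
  have xi : ∀ b, x (C.t b i) = C.t b i - γ • C.t (P b) c := fun b => by
    rw [hX, ki, LinearMap.zero_apply, map_zero, LinearMap.zero_apply, zero_add, map_smul, kc,
      smul_sub, smul_smul, mul_comm γ β, hbg, one_smul]
  have xc : ∀ b, x (C.t b c) = C.t b c + β • C.t (P b) i := fun b => by
    rw [hX, kc, LinearMap.zero_apply, map_zero, LinearMap.zero_apply, sub_zero, map_smul, ki,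
      smul_add, smul_smul, hbg, one_smul, add_comm]
  have xz : ∀ b z, C.g i z = 0 → C.g c z = 0 → x (C.t b z) = C.t b z := fun b z h1' h2' => by
    rw [hX, kz _ _ _ _ h1' h2', kz _ _ _ _ h1' h2']
  have hq : Quad x := fun y => by
    have e : x.toLinearMap.comp x.toLinearMap - (x.toLinearMap + x.toLinearMap) + LinearMap.id = 0 :=
      ext3 h2 hi hc hic
        (fun b => by simp [xi, xc, map_sub, hPz, smul_smul]; abel)
        (fun b => by simp [xi, xc, map_add, hPz, smul_smul])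
        fun b z h1' h2' => by simp [xz b z h1' h2']
    simpa using LinearMap.congr_fun e y
  have hzero : ∀ y, C.tm LinearMap.id (prP C i c) (x y - y) = 0 := fun y => by
    have e : (C.tm LinearMap.id (prP C i c)).comp (x.toLinearMap - LinearMap.id) = 0 :=
      ext3 h2 hi hc hic
        (fun b => by simp [xi, C.tm_t, prP_apply h2 hi hc hic, hc, gcomm h2 c i, hic])
        (fun b => by simp [xc, C.tm_t, prP_apply h2 hi hc hic, hi, gcomm h2 c i, hic])
        fun b z h1' h2' => by simp [xz b z h1' h2']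
    simpa using LinearMap.congr_fun e y
  have hx1 := not_small_quad h1 h2 hmin h3 hiso hTen hQ ha hi hc hic (M.mul_mem hk hh) hq xz hzero
  have h := congrArg (C.prB i) (LinearEquiv.congr_fun hx1 (C.t b₀ i))
  rw [xi, LinearEquiv.coe_one, id_eq, map_sub, map_smul, C.prB_t, C.prB_t, hi, gcomm h2 c i, hic,
    zero_smul, one_smul, zero_sub, neg_eq_zero, smul_eq_zero, or_iff_right hγ] at h
  exact h

/-- A conjugate by a tensor isometry. -/
theorem exists_conj_kop {i c : Fin 4 → F} (hi : C.g i i = 0) (hc : C.g c c = 0) (hic : C.g i c = 1)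
    {k : (ι → F) ≃ₗ[F] (ι → F)} (hk : k ∈ M) (hkk : ∀ x, k (k x) = x)
    {P : (Fin 2 → F) →ₗ[F] (Fin 2 → F)} {β γ : F} (hkop : ∀ x, k x = kop C i c P β γ x)
    (σ : (Fin 2 → F) ≃ₗ[F] (Fin 2 → F)) (hσ : ∀ u v, C.f (σ u) (σ v) = C.f u v)
    (ρ : (Fin 4 → F) ≃ₗ[F] (Fin 4 → F)) (hρ : ∀ u v, C.g (ρ u) (ρ v) = C.g u v)
    (P' : (Fin 2 → F) →ₗ[F] (Fin 2 → F)) (β' γ' : F)
    (ei : ∀ b, C.te σ ρ (kop C i c P β γ (C.t b i)) = kop C i c P' β' γ' (C.t (σ b) (ρ i)))
    (ec : ∀ b, C.te σ ρ (kop C i c P β γ (C.t b c)) = kop C i c P' β' γ' (C.t (σ b) (ρ c)))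
    (rz : ∀ z, C.g i z = 0 → C.g c z = 0 → ρ z = z) :
    ∃ k' : (ι → F) ≃ₗ[F] (ι → F), k' ∈ M ∧ (∀ x, k' (k' x) = x) ∧
      ∀ x, k' x = kop C i c P' β' γ' x := by
  set h := C.te σ ρ
  have hh : h ∈ M := hTen _ (TT.iso_te hσ hρ) (TT.isTen_te _ _)
  refine ⟨h * k * h⁻¹, M.mul_mem (M.mul_mem hh hk) (M.inv_mem hh), fun x => ?_, fun x => ?_⟩
  · show h (k (h.symm (h (k (h.symm x))))) = x
    rw [h.symm_apply_apply, hkk, h.apply_symm_apply]
  · show h (k (h.symm x)) = _
    rw [hkop]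
    have e := LinearMap.congr_fun (ext3 h2 hi hc hic (L := h.toLinearMap.comp (kop C i c P β γ))
      (L' := (kop C i c P' β' γ').comp h.toLinearMap)
      (fun b => by
        show h _ = kop C i c P' β' γ' (h (C.t b i))
        rw [ei b, C.te_t])
      (fun b => by
        show h _ = kop C i c P' β' γ' (h (C.t b c))
        rw [ec b, C.te_t])
      fun b z h1' h2' => by
        show h _ = kop C i c P' β' γ' (h (C.t b z))
        rw [kop_perp h2 hi hc hic P β γ b h1' h2', C.te_t, rz z h1' h2',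
          kop_perp h2 hi hc hic P' β' γ' _ h1' h2']) (h.symm x)
    simp only [LinearMap.comp_apply, LinearEquiv.coe_coe, LinearEquiv.apply_symm_apply] at e
    exact e

/-- Conjugates of `kop` by tensor isometries moving the pair. -/
theorem not_kop {a : Fin 2 → F} (ha : a ≠ 0) {i c : Fin 4 → F} (hi : C.g i i = 0) (hc : C.g c c = 0)
    (hic : C.g i c = 1) {k : (ι → F) ≃ₗ[F] (ι → F)} (hk : k ∈ M) (hkk : ∀ x, k (k x) = x)
    {P : (Fin 2 → F) →ₗ[F] (Fin 2 → F)} (hP : C.SkewA P) {β γ : F} (hβ : β ≠ 0) (hγ : γ ≠ 0)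
    (hPP : ∀ b, P (P b) = (1 - β * γ) • b) (hkop : ∀ x, k x = kop C i c P β γ x) : C.IsTen k := by
  classical
  have ki := kop_i h2 hi hc hic
  have kc := kop_c h2 hi hc hic
  have kz := kop_perp h2 hi hc hic
  by_cases hd : 1 - β * γ = 0
  · -- `P` is nilpotent, hence zero
    have hbg : β * γ = 1 := (sub_eq_zero.1 hd).symm
    have h0 : P = 0 := LinearMap.ext fun b => not_kop_nil h1 h2 hmin h3 hiso hTen hQ ha hi hc hic hk hγ hbg
      (fun b => by rw [hPP, hd, zero_smul]) hkop b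
    obtain ⟨ρ, -, -, -, -, hhk⟩ := exists_flip h2 hi hc hic β γ hbg
    refine ⟨1, ρ, fun b v => ?_⟩
    rw [hkop, h0, ← hhk, C.te_t]
  exfalso
  -- a conjugate with other coefficients
  obtain ⟨β', γ', hne, hmk⟩ : ∃ β' γ' : F, β' ≠ β ∧ ∀ B : F, ∃ P' : (Fin 2 → F) →ₗ[F] (Fin 2 → F),
      ∃ k' : (ι → F) ≃ₗ[F] (ι → F), k' ∈ M ∧ (∀ x, k' (k' x) = x) ∧
        (∀ b, P (P' b) + P' (P b) = (2 * B) • b) ∧ ∀ x, k' x = kop C i c P' β' γ' x := by
    by_cases hbc : γ = β
    · -- the torus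
      obtain ⟨l, hl0, hl⟩ : ∃ l : F, l ≠ 0 ∧ l * l ≠ 1 := by
        by_contra! hall
        exact hd (by rw [hbc, hall β hβ, sub_self])
      obtain ⟨ρ, ri, rc, rz, hρ⟩ := exists_pair_map h2 hi hc hic (i' := l • i) (c' := l⁻¹ • c)
        (by simp [hi]) (by simp [hc]) (by simp [hic, hl0]) fun z h h' => by simp [h, h']
      refine ⟨l * l * β, (l * l)⁻¹ * γ, fun h => hl ?_, fun B => ?_⟩
      · exact mul_right_cancel₀ hβ (h.trans (one_mul β).symm)
      obtain ⟨P', σ, -, -, hσ, hσP, hanti⟩ := exists_conj_pair h1 hP hPP hd B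
      obtain ⟨k', hk', hkk', hkop'⟩ := exists_conj_kop h1 h2 hmin h3 hiso hTen hQ hi hc hic hk hkk hkop
        σ hσ ρ hρ P' (l * l * β) ((l * l)⁻¹ * γ)
        (fun b => by
          rw [ki, ri, map_add, map_smul, C.te_t, C.te_t, ri, rc, hσP]
          simp only [map_smul, LinearMap.smul_apply, ki]
          match_scalars <;> field_simp)
        (fun b => by
          rw [kc, rc, map_sub, map_smul, C.te_t, C.te_t, ri, rc, hσP]
          simp only [map_smul, LinearMap.smul_apply, kc]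
          match_scalars <;> field_simp)
        rz
      exact ⟨P', k', hk', hkk', hanti, hkop'⟩
    · -- the exchange
      obtain ⟨ρ, ri, rc, rz, hρ, -⟩ := exists_flip h2 hi hc hic 1 1 (mul_one 1)
      rw [one_smul] at ri rc
      refine ⟨γ, β, hbc, fun B => ?_⟩
      obtain ⟨P', σ, -, -, hσ, hσP, hanti⟩ := exists_conj_pair h1 (P := -P)
        (fun u v => by simp [hP u v]) (fun v => by simp [hPP]) hd (-B)
      have hσP' : ∀ s, P' (σ s) = -σ (P s) := fun s => by rw [← hσP]; simp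
      obtain ⟨k', hk', hkk', hkop'⟩ := exists_conj_kop h1 h2 hmin h3 hiso hTen hQ hi hc hic hk hkk hkop
        σ hσ ρ hρ P' γ β
        (fun b => by
          rw [ki, ri, map_add, map_smul, C.te_t, C.te_t, ri, rc, kc, hσP', map_neg, LinearMap.neg_apply]
          abel)
        (fun b => by
          rw [kc, rc, map_sub, map_smul, C.te_t, C.te_t, ri, rc, ki, hσP', map_neg, LinearMap.neg_apply]
          abel)
        rz
      refine ⟨P', k', hk', hkk', fun s => ?_, hkop'⟩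
      have h := hanti s
      simp only [LinearMap.neg_apply, map_neg] at h
      linear_combination (norm := module) -(1 : F) • h
  obtain ⟨P', k', hk', hkk', hanti, hkop'⟩ := hmk (1 - (γ' * β + γ * β') / 2)
  set x := k * k'
  have hanti' : ∀ b, P (P' b) + P' (P b) = (2 - (γ' * β + γ * β')) • b := fun b => by
    rw [hanti]
    have h22 := C.two
    congr 1
    field_simp
  have kk : ∀ y, k (k' y) + k' (k y) = y + y := fun y => by
    rw [hkop, hkop', hkop', hkop]
    have e := LinearMap.congr_fun (ext3 h2 hi hc hic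
      (L := (kop C i c P β γ).comp (kop C i c P' β' γ') + (kop C i c P' β' γ').comp (kop C i c P β γ))
      (L' := LinearMap.id + LinearMap.id)
      (fun b => by
        have e : C.t (P (P' b)) i + C.t (P' (P b)) i = (2 - (γ' * β + γ * β')) • C.t b i := by
          rw [← LinearMap.add_apply, ← map_add, hanti', map_smul, LinearMap.smul_apply]
        simp only [LinearMap.add_apply, LinearMap.comp_apply, ki, kc, map_add, map_smul,
          LinearMap.id_apply]
        linear_combination (norm := module) e)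
      (fun b => by
        have e : C.t (P (P' b)) c + C.t (P' (P b)) c = (2 - (γ' * β + γ * β')) • C.t b c := by
          rw [← LinearMap.add_apply, ← map_add, hanti', map_smul, LinearMap.smul_apply]
        simp only [LinearMap.add_apply, LinearMap.comp_apply, ki, kc, map_sub, map_smul,
          LinearMap.id_apply]
        linear_combination (norm := module) e)
      fun b z h1' h2' => by simp [kz _ _ _ _ h1' h2']) y
    simpa only [LinearMap.add_apply, LinearMap.comp_apply, LinearMap.id_apply] using e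
  have hq : Quad x := fun y => by
    obtain ⟨w, hw⟩ : ∃ w, y = k' (k w) := ⟨k (k' y), by rw [hkk, hkk']⟩
    subst hw
    have e : x (k' (k w)) = w := by rw [LinearEquiv.mul_apply, hkk', hkk]
    rw [e]
    show k (k' w) - (w + w) + k' (k w) = 0
    linear_combination (norm := module) kk w
  have xz : ∀ b z, C.g i z = 0 → C.g c z = 0 → x (C.t b z) = C.t b z := fun b z h1' h2' => by
    rw [LinearEquiv.mul_apply, hkop', kz _ _ _ _ h1' h2', hkop, kz _ _ _ _ h1' h2']
  have hzero : ∀ y, C.tm LinearMap.id (prP C i c) (x y - y) = 0 := fun y => by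
    have hx : x y = kop C i c P β γ (kop C i c P' β' γ' y) := by
      rw [LinearEquiv.mul_apply, hkop', hkop]
    rw [hx]
    have e : (C.tm LinearMap.id (prP C i c)).comp
        ((kop C i c P β γ).comp (kop C i c P' β' γ') - LinearMap.id) = 0 :=
      ext3 h2 hi hc hic
        (fun b => by simp [ki, kc, C.tm_t, prP_apply h2 hi hc hic, hi, hc, gcomm h2 c i, hic])
        (fun b => by simp [ki, kc, C.tm_t, prP_apply h2 hi hc hic, hi, hc, gcomm h2 c i, hic])
        fun b z h1' h2' => by simp [kz _ _ _ _ h1' h2']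
    simpa using LinearMap.congr_fun e y
  have hx1 := not_small_quad h1 h2 hmin h3 hiso hTen hQ ha hi hc hic (M.mul_mem hk hk') hq xz hzero
  have h : k' (C.t a c) = k (C.t a c) := by
    have e : k (k' (C.t a c)) = C.t a c := LinearEquiv.congr_fun hx1 _
    calc k' (C.t a c) = k (k (k' (C.t a c))) := (hkk _).symm
      _ = k (C.t a c) := by rw [e]
  rw [hkop, hkop', kc, kc] at h
  have h' := congrArg (C.prB c) h
  simp [C.prB_t, hc, hic] at h'
  exact hne (smul_left_injective F ha h')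

/-- The vectors of a ruling fixed by `k`. -/
noncomputable def fixK (C : TT ι F 2 4) (a : Fin 2 → F) (k : (ι → F) ≃ₗ[F] (ι → F)) : Submodule F (Fin 4 → F) :=
  LinearMap.ker ((k.toLinearMap - LinearMap.id).comp (C.t a))

omit h1 h2 hmin h3 hiso hTen hQ in
theorem mem_fixK {a : Fin 2 → F} {k : (ι → F) ≃ₗ[F] (ι → F)} {y : Fin 4 → F} :
    y ∈ fixK C a k ↔ k (C.t a y) = C.t a y := by simp [fixK, sub_eq_zero]

omit h2 hmin h3 hTen hQ hiso in
/-- `1 ⊗ τ` on a vector whose second coordinate it fixes. -/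
theorem te_right_shift {a d : Fin 2 → F} (had : C.f a d = 1) (τ : (Fin 4 → F) ≃ₗ[F] (Fin 4 → F))
    {x : ι → F} (hx : τ (-C.prA a x) = -C.prA a x) :
    C.te 1 τ x = x + C.t a (τ (C.prA d x) - C.prA d x) := by
  obtain ⟨y, z, hy, hz, e⟩ : ∃ y z, y = C.prA d x ∧ z = -C.prA a x ∧ x = C.t a y + C.t d z :=
    ⟨_, _, rfl, rfl, dec_V h1 had x⟩
  rw [← hy]
  rw [← hz] at hx
  rw [e, map_add, C.te_t, C.te_t, hx, LinearEquiv.coe_one, id_eq, id_eq, map_sub]
  abel

omit h2 hmin h3 hTen hQ in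
/-- The image of a ruling is orthogonal to the fixed vectors. -/
theorem prA_perp_fixK {a : Fin 2 → F} {k : (ι → F) ≃ₗ[F] (ι → F)} (hk : k ∈ M) (v : Fin 4 → F)
    {y : Fin 4 → F} (hy : y ∈ fixK C a k) : C.g (C.prA a (k (C.t a v))) y = 0 := by
  rw [C.g_prA, ← mem_fixK.1 hy, hiso k hk, C.pol, faa h1, zero_mul]

omit hmin h3 in
/-- Conjugates of elements of the fixer of the plane. -/
theorem conj_fixer {a : Fin 2 → F} (ha : a ≠ 0) {k : (ι → F) ≃ₗ[F] (ι → F)} (hk : k ∈ M)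
    (hkk : ∀ x, k (k x) = x) (τ : (Fin 4 → F) ≃ₗ[F] (Fin 4 → F))
    (hτ : ∀ u v, C.g (τ u) (τ v) = C.g u v) (hτY : ∀ v, τ v - v ∈ fixK C a k)
    (hτZ : ∀ z, (∀ y ∈ fixK C a k, C.g z y = 0) → τ z = z) (hne : ∃ y ∈ fixK C a k, C.g y y ≠ 0)
    (u : (ι → F) ≃ₗ[F] (ι → F)) (hu : u = k * C.te 1 τ * k⁻¹) :
    (∀ x, u (rt C a x) = rt C a (u x)) ∧ ∃ β : (Fin 4 → F) →ₗ[F] (Fin 4 → F),
      (∀ v, u (C.t a v) = C.t a (β v)) ∧ (∀ v w, C.g (β v) (β w) = C.g v w) ∧
      (∀ y ∈ fixK C a k, β y = τ y) ∧ ∀ v, β v - v ∈ fixK C a k := by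
  obtain ⟨y₁, hy₁, hy₁0⟩ := hne
  obtain ⟨d, had⟩ := C.exists_dual ha
  have hY : ∀ y, y ∈ fixK C a k ↔ k (C.t a y) = C.t a y := fun y => mem_fixK
  have hh : C.te (1 : (Fin 2 → F) ≃ₗ[F] (Fin 2 → F)) τ ∈ M :=
    hTen _ (TT.iso_te (fun _ _ => rfl) hτ) (TT.isTen_te _ _)
  have huM : u ∈ M := hu ▸ M.mul_mem (M.mul_mem hk hh) (M.inv_mem hk)
  have hkinv : ∀ x, k⁻¹ x = k x := fun x => k.injective (by
    rw [hkk]; exact k.apply_symm_apply x)
  let β : (Fin 4 → F) →ₗ[F] (Fin 4 → F) :=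
    LinearMap.id + (τ.toLinearMap - LinearMap.id).comp ((C.prA d).comp (k.toLinearMap.comp (C.t a)))
  have hua : ∀ v, u (C.t a v) = C.t a (β v) := by
    intro v
    rw [hu, LinearEquiv.mul_apply, LinearEquiv.mul_apply, hkinv,
      te_right_shift h1 had τ (hτZ _ fun y hy => by
        rw [map_neg, LinearMap.neg_apply, prA_perp_fixK h1 hiso hk v hy, neg_zero]),
      map_add, hkk, (hY _).1 (hτY _), ← map_add]
    rfl
  obtain ⟨r, hr0, hr⟩ := scale_root h1 hiso hTen hQ ha ha huM fun y => ⟨_, (hua y).symm⟩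
  have hβY : ∀ y ∈ fixK C a k, β y = τ y := fun y hy => by
    show y + (τ (C.prA d (k (C.t a y))) - C.prA d (k (C.t a y))) = _
    rw [(hY y).1 hy, C.prA_t, had, one_smul, add_sub_cancel]
  have hsim : ∀ v w, C.g (β v) (β w) = r * C.g v w := fun v w => by
    have e := hr (C.t d v)
    rw [rt_apply h1, C.prA_t, fsymm h1 d a, had, neg_smul, one_smul, neg_neg, hua, rt_apply h1,
      ← map_smul] at e
    have e' := C.t_inj_left ha e
    have e2 : C.g (C.prA a (u (C.t d v))) (β w) = -C.g v w := by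
      rw [C.g_prA, ← hua, hiso u huM, C.pol, fsymm h1 d a, had, neg_one_mul]
    rw [e', map_smul, LinearMap.smul_apply, map_neg, LinearMap.neg_apply, e2, neg_neg, smul_eq_mul]
  have hr1 : r = 1 := by
    have := hsim y₁ y₁
    rw [hβY y₁ hy₁, hτ] at this
    exact mul_right_cancel₀ hy₁0 (by rw [one_mul]; exact this.symm)
  subst hr1
  exact ⟨fun x => by rw [hr, one_smul], β, hua, fun v w => by rw [hsim, one_mul], hβY, fun v => by
    show v + (τ (C.prA d (k (C.t a v))) - C.prA d (k (C.t a v))) - v ∈ _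
    rw [add_sub_cancel_left]
    exact hτY _⟩

/-- A degenerate fixed plane. -/
theorem fixes_of_degenerate {a : Fin 2 → F} (ha : a ≠ 0) {k : (ι → F) ≃ₗ[F] (ι → F)} (hk : k ∈ M)
    (hkk : ∀ x, k (k x) = x) (hdim : 2 ≤ finrank F (fixK C a k))
    (hdeg : ∃ i ∈ fixK C a k, i ≠ 0 ∧ ∀ y ∈ fixK C a k, C.g i y = 0) (v : Fin 4 → F) :
    k (C.t a v) ∈ LinearMap.range (C.t a) := by
  revert v
  set Y := fixK C a k
  have hY : ∀ y, y ∈ Y ↔ k (C.t a y) = C.t a y := fun y => mem_fixK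
  obtain ⟨d, had⟩ := C.exists_dual ha
  obtain ⟨y₀, hy₀, hy₀0⟩ := Submodule.exists_mem_ne_zero_of_ne_bot (p := Y) fun h => by
    rw [h, finrank_bot] at hdim; omega
  set tt := C.te (tv h1 a 1) (1 : (Fin 4 → F) ≃ₗ[F] (Fin 4 → F))
  have htt : ∀ x, tt x = x + rt C a x := fun x => by rw [te_tv_apply h1, one_smul]
  obtain ⟨i, hiY, hi0, hiperp⟩ := hdeg
  have hi : C.g i i = 0 := hiperp i hiY
  obtain ⟨z, hzY, hzi⟩ : ∃ z ∈ Y, z ∉ F ∙ i := by
    by_contra! hall
    have := Submodule.finrank_mono (hall : Y ≤ F ∙ i)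
    rw [finrank_span_singleton hi0] at this
    omega
  have hiz := hiperp z hzY
  have hzz := aniso_of h2 hmin hi0 hi hiz hzi
  obtain ⟨c, hc, hic⟩ : ∃ c, C.g c c = 0 ∧ C.g i c = 1 := TT.partner (C := C.swap) h2 hi0 hi
  obtain ⟨E, hEu, hE⟩ := eichler h2 hi hiz
  obtain ⟨hcomm, -⟩ := conj_fixer h1 h2 hiso hTen hQ ha hk hkk E hEu.iso
    (fun v => by
      rw [hE, show v + C.g z v • i - C.g i v • z - (C.g z z / 2 * C.g i v) • i - v =
        (C.g z v - C.g z z / 2 * C.g i v) • i - C.g i v • z by module]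
      exact Y.sub_mem (Y.smul_mem _ hiY) (Y.smul_mem _ hzY))
    (fun w hw => by rw [hE, gcomm h2 z w, hw z hzY, gcomm h2 i w, hw i hiY]; simp)
    ⟨z, hzY, hzz⟩ _ rfl
  set h := C.te (1 : (Fin 2 → F) ≃ₗ[F] (Fin 2 → F)) E
  set t' := k * tt * k⁻¹ with ht'
  have ht'k : ∀ x, t' (k x) = k x + k (rt C a x) := fun x => by
    rw [ht', LinearEquiv.mul_apply, LinearEquiv.mul_apply, show k⁻¹ (k x) = x from k.symm_apply_apply x,
      htt, map_add]
  have hkinv : k⁻¹ = k := inv_eq_of_mul_eq_one_right (LinearEquiv.ext hkk)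
  have hcomm' : ∀ x, t' (h x) = h (t' x) := fun x => by
    obtain ⟨y, rfl⟩ := k.surjective x
    have e1 : h (k y) = k ((k * h * k⁻¹) y) := by
      rw [hkinv, LinearEquiv.mul_apply, LinearEquiv.mul_apply, hkk]
    rw [e1, ht'k, ht'k, map_add, e1]
    congr 1
    have e2 : k ((k * h * k⁻¹) (rt C a y)) = h (k (rt C a y)) := by
      rw [hkinv, LinearEquiv.mul_apply, LinearEquiv.mul_apply, hkk]
    rw [← e2, hcomm]
  have htM : tt ∈ M := hTen _ (TT.iso_te (tv_iso h1 a 1) fun _ _ => rfl) (TT.isTen_te _ _)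
  have ht'M : t' ∈ M := M.mul_mem (M.mul_mem hk htM) (M.inv_mem hk)
  have hfixi : ∀ b, ∃ b', t' (C.t b i) = C.t b' i := fun b => by
    refine ⟨C.prB i (t' (C.t b c)), ?_⟩
    have e := congrArg t' (te_eichler_sq h2 hi hiz hE (C.t b c))
    rw [map_add, map_sub, map_add, hcomm', hcomm', te_eichler_sq h2 hi hiz hE, map_smul, C.prB_t,
      gcomm h2 c i, hic, one_smul] at e
    exact (smul_right_injective _ (neg_ne_zero.2 hzz) e).symm
  have ht'T : t' ∈ tenSub C M :=
    ⟨ht'M, isTen_of_fix_point h1 h2 hmin h3 hiso hTen hQ hi0 hi ht'M hfixi⟩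
  have ht'1 : t' ≠ 1 := fun h1' => by
    have e := ht'k (C.t d z)
    rw [h1', LinearEquiv.coe_one, id_eq, left_eq_add, LinearEquiv.map_eq_zero_iff, rt_apply h1,
      C.prA_t, fsymm h1 d a, had, neg_smul, one_smul, neg_neg] at e
    exact hzi (C.t_inj_left ha (e.trans (map_zero _).symm) ▸ Submodule.zero_mem _)
  obtain ⟨g, ⟨-, σ, τ, hg⟩, e, he, hge⟩ := exists_conj_quad h1 h2 hmin h3 hiso hTen hQ ha hi hc hic
    (G' := tenSub C M) (fun x hx => hx.1) (syl_le h1 h2 hTen a i) ht'T ((quad_tv h1 a 1).conj k) ht'1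
  have himg : ∀ y, ∃ w, k (C.t a y) = C.t (σ a) w := fun y => by
    obtain ⟨x, hx⟩ := g.surjective (k (C.t d y))
    have e1 := ht'k (C.t d y)
    rw [← hx, hge, add_right_inj, rt_apply h1 x, hg, rt_apply h1, C.prA_t, fsymm h1 d a, had,
      neg_smul, one_smul, neg_neg, ← map_smul] at e1
    exact ⟨_, e1.symm⟩
  have hσa : C.f (σ a) a = 0 := by
    obtain ⟨w, hw⟩ := himg y₀
    rw [(hY y₀).1 hy₀] at hw
    have h := congrArg (C.prA a) hw
    rw [C.prA_t, C.prA_t, faa h1, zero_smul, eq_comm, smul_eq_zero] at h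
    refine h.resolve_right fun hw0 => hy₀0 (C.t_inj_left ha ?_)
    rw [hw, hw0, map_zero, map_zero]
  intro v
  obtain ⟨w, hw⟩ := himg v
  rw [mem_ruling h1 ha, hw, C.prA_t, hσa, zero_smul]

/-- A non-degenerate fixed plane gives a projection. -/
theorem exists_proj_fixK {a : Fin 2 → F} (ha : a ≠ 0) {k : (ι → F) ≃ₗ[F] (ι → F)} (hk : k ∈ M)
    (hkk : ∀ x, k (k x) = x) (hdim : 2 ≤ finrank F (fixK C a k))
    (hdeg : ∀ i ∈ fixK C a k, i ≠ 0 → ∃ y ∈ fixK C a k, C.g i y ≠ 0) :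
    ∃ π : (Fin 4 → F) →ₗ[F] (Fin 4 → F), (∀ v, π v ∈ fixK C a k) ∧ (∀ y ∈ fixK C a k, π y = y) ∧
      (∀ v, ∀ y ∈ fixK C a k, C.g y (v - π v) = 0) ∧
      (∀ z, (∀ y ∈ fixK C a k, C.g z y = 0) → π z = 0) ∧
      ∀ w ∈ fixK C a k, (∀ y ∈ fixK C a k, C.g y w = 0) → w = 0 := by
  set Y := fixK C a k
  have hex : ∀ v, ∃ w : Fin 4 → F, w ∈ Y ∧ ∀ y ∈ Y, C.g y (v - w) = 0 := fun v => by
    let R : Y →ₗ[F] Module.Dual F Y := (C.g.flip.comp Y.subtype).compl₂ Y.subtype
    have hinj : Function.Injective R := (injective_iff_map_eq_zero R).2 fun y hy => by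
      by_contra h0
      obtain ⟨w, hw, hw'⟩ := hdeg y.1 y.2 fun e => h0 (Subtype.ext e)
      exact hw' (by rw [gcomm h2]; exact LinearMap.congr_fun hy ⟨w, hw⟩)
    obtain ⟨w, hw⟩ := ((LinearMap.injective_iff_surjective_of_finrank_eq_finrank
      Subspace.dual_finrank_eq.symm).1 hinj) ((C.g.flip v).comp Y.subtype)
    refine ⟨w, w.2, fun y hy => ?_⟩
    have e : C.g y w = C.g y v := LinearMap.congr_fun hw ⟨y, hy⟩
    rw [map_sub, e, sub_self]
  choose π₀ hπY hπ using hex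
  have uniq : ∀ w ∈ Y, (∀ y ∈ Y, C.g y w = 0) → w = 0 := fun w hw h => by
    by_contra h0
    obtain ⟨y, hy, hne⟩ := hdeg w hw h0
    exact hne (by rw [gcomm h2, h y hy])
  let π : (Fin 4 → F) →ₗ[F] (Fin 4 → F) :=
    { toFun := π₀
      map_add' := fun u v => sub_eq_zero.1 (uniq _ (Y.sub_mem (hπY _) (Y.add_mem (hπY _) (hπY _)))
        fun y hy => by
          have e1 := hπ (u + v) y hy
          have e2 := hπ u y hy
          have e3 := hπ v y hy
          simp only [map_sub, map_add] at e1 e2 e3 ⊢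
          linear_combination e2 + e3 - e1)
      map_smul' := fun r v => sub_eq_zero.1 (uniq _ (Y.sub_mem (hπY _) (Y.smul_mem _ (hπY _)))
        fun y hy => by
          have e1 := hπ (r • v) y hy
          have e2 := hπ v y hy
          simp only [map_sub, map_smul, smul_eq_mul, RingHom.id_apply] at e1 e2 ⊢
          linear_combination r * e2 - e1) }
  have hπid : ∀ y ∈ Y, π y = y := fun y hy =>
    (sub_eq_zero.1 (uniq _ (Y.sub_mem hy (hπY y)) fun w hw => hπ y w hw)).symm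
  have hπ0 : ∀ z, (∀ y ∈ Y, C.g z y = 0) → π z = 0 := fun z hz => uniq _ (hπY z) fun y hy => by
    have e := hπ z y hy
    rw [map_sub, gcomm h2 y z, hz y hy, zero_sub, neg_eq_zero] at e
    exact e
  exact ⟨π, hπY, hπid, hπ, hπ0, uniq⟩

set_option maxHeartbeats 800000 in
/-- An involution fixing a non-degenerate plane of a ruling is trivial on `A ⊗ Y`. -/
theorem trivial_on_fixK {a : Fin 2 → F} (ha : a ≠ 0) {k : (ι → F) ≃ₗ[F] (ι → F)} (hk : k ∈ M)
    (hkk : ∀ x, k (k x) = x) (hdim : 2 ≤ finrank F (fixK C a k))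
    (hdeg : ∀ i ∈ fixK C a k, i ≠ 0 → ∃ y ∈ fixK C a k, C.g i y ≠ 0) (b : Fin 2 → F) {y : Fin 4 → F}
    (hy : y ∈ fixK C a k) : k (C.t b y) = C.t b y := by
  revert y b
  set Y := fixK C a k
  have hY : ∀ y, y ∈ Y ↔ k (C.t a y) = C.t a y := fun y => mem_fixK
  obtain ⟨d, had⟩ := C.exists_dual ha
  obtain ⟨y₀, hy₀, hy₀0⟩ := Submodule.exists_mem_ne_zero_of_ne_bot (p := Y) fun h => by
    rw [h, finrank_bot] at hdim; omega
  obtain ⟨π, hπY, hπid, hπ, hπ0, uniq⟩ := exists_proj_fixK h1 h2 hmin h3 hiso hTen hQ ha hk hkk hdim hdeg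
  let T : (Fin 4 → F) →ₗ[F] (Fin 4 → F) := LinearMap.id - (2 : F) • π
  have hTT : ∀ v, T (T v) = v := fun v => by
    show (v - (2 : F) • π v) - (2 : F) • π (v - (2 : F) • π v) = v
    rw [map_sub, map_smul, hπid _ (hπY v)]
    module
  have hTiso : ∀ u v, C.g (T u) (T v) = C.g u v := fun u v => by
    have e1 := hπ v (π u) (hπY u)
    have e2 := hπ u (π v) (hπY v)
    rw [map_sub] at e1 e2
    show C.g (u - (2 : F) • π u) (v - (2 : F) • π v) = C.g u v
    simp [gcomm h2 u (π v)]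
    rw [gcomm h2 (π v) (π u)] at e2
    linear_combination -2 * e1 - 2 * e2
  let τ₀ : (Fin 4 → F) ≃ₗ[F] (Fin 4 → F) :=
    LinearEquiv.ofLinearMap T T (LinearMap.ext hTT) (LinearMap.ext hTT)
  have hτ₀ : ∀ v, τ₀ v = v - (2 : F) • π v := fun v => rfl
  obtain ⟨y₁, hy₁, hy₁n⟩ : ∃ y ∈ Y, C.g y y ≠ 0 := by
    by_contra! hall
    obtain ⟨w, hw, hne⟩ := hdeg y₀ hy₀ hy₀0
    refine hne ?_
    have e := hall (y₀ + w) (Y.add_mem hy₀ hw)
    simp [hall y₀ hy₀, hall w hw, gcomm h2 w y₀] at e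
    exact (mul_eq_zero.1 (show (2 : F) * C.g y₀ w = 0 by linear_combination e)).resolve_left C.two
  set h := C.te (1 : (Fin 2 → F) ≃ₗ[F] (Fin 2 → F)) τ₀
  obtain ⟨hcomm, β, hβ, hβiso, hβY, hβmem⟩ := conj_fixer h1 h2 hiso hTen hQ ha hk hkk τ₀ hTiso
    (fun v => by rw [hτ₀, sub_sub_cancel_left]; exact Y.neg_mem (Y.smul_mem _ (hπY v)))
    (fun z hz => by rw [hτ₀, hπ0 z hz, smul_zero, sub_zero]) ⟨y₁, hy₁, hy₁n⟩ _ rfl
  set u := k * h * k⁻¹
  have hkinv : k⁻¹ = k := inv_eq_of_mul_eq_one_right (LinearEquiv.ext hkk)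
  -- `u` and `h` agree on the ruling
  have hβT : ∀ v, β v = τ₀ v := fun v => by
    have hYv : β (π v) = τ₀ (π v) := hβY _ (hπY v)
    set z := v - π v
    have hzY : ∀ y ∈ Y, C.g z y = 0 := fun y hy => by rw [gcomm h2]; exact hπ v y hy
    have hkz : β z = z := by
      have hmem : β z - z ∈ Y := hβmem z
      refine sub_eq_zero.1 (uniq _ hmem fun y hy => ?_)
      have e := hβiso y z
      rw [hβY y hy, hτ₀, hπid y hy, show y - (2 : F) • y = -y by module, map_neg, LinearMap.neg_apply,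
        gcomm h2 y z, hzY y hy, neg_eq_zero] at e
      rw [map_sub, e, gcomm h2 y z, hzY y hy, sub_zero]
    have : v = π v + z := by rw [add_sub_cancel]
    rw [this, map_add, map_add, hYv, hkz, hτ₀ z, hπ0 z hzY, smul_zero, sub_zero]
  have hhM : h ∈ M := hTen _ (TT.iso_te (fun _ _ => rfl) hTiso) (TT.isTen_te _ _)
  have huM : u ∈ M := M.mul_mem (M.mul_mem hk hhM) (M.inv_mem hk)
  have hh2 : h * h = 1 := by
    rw [TT.te_mul, one_mul, show τ₀ * τ₀ = 1 from LinearEquiv.ext hTT, te_one]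
  -- the correction is trivial
  set w := u * h with hwdef
  have hwM : w ∈ M := M.mul_mem huM hhM
  have hwa : ∀ y, w (C.t a y) = C.t a y := fun y => by
    rw [LinearEquiv.mul_apply, C.te_t, LinearEquiv.coe_one, id_eq, hβ, hβT]
    exact congrArg (C.t a) (hTT y)
  have hwr : ∀ x, C.prA a (w x - x) = 0 := fun x => C.gnd _ fun y => by
    rw [C.g_prA, map_sub, LinearMap.sub_apply]
    conv_lhs => arg 1; rw [← hwa y, hiso w hwM]
    rw [sub_self]
  obtain ⟨s, hs⟩ := hQ a ha (w.toLinearMap - LinearMap.id)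
    (fun x y => by
      show C.p (w x - x) y = -C.p x (w y - y)
      have h := hiso w hwM x y
      obtain ⟨m1, hm1⟩ := (mem_ruling h1 ha).2 (hwr x)
      obtain ⟨m2, hm2⟩ := (mem_ruling h1 ha).2 (hwr y)
      have h0 : C.p (w x - x) (w y - y) = 0 := by rw [← hm1, ← hm2, C.pol, faa h1, zero_mul]
      simp only [map_sub, LinearMap.sub_apply] at h0 ⊢
      linear_combination h - h0)
    (fun x => (mem_ruling h1 ha).2 (hwr x)) (fun y => by simp [hwa]) ⟨w, hwM, fun x => by simp⟩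
  have hws : w = C.te (tv h1 a s) 1 := LinearEquiv.ext fun x => by
    rw [te_tv_apply h1]
    have := LinearMap.congr_fun hs x
    simp only [LinearMap.sub_apply, LinearMap.id_apply, LinearMap.smul_apply, LinearEquiv.coe_coe] at this
    rw [← this, add_sub_cancel]
  have hue : u = C.te (tv h1 a s) τ₀ := by
    have : u = w * h := by rw [hwdef, mul_assoc, hh2, mul_one]
    rw [this, hws, TT.te_mul, mul_one, one_mul]
  have hu2 : u * u = 1 := by
    show k * h * k⁻¹ * (k * h * k⁻¹) = 1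
    rw [show k * h * k⁻¹ * (k * h * k⁻¹) = k * (h * h) * k⁻¹ by group, hh2, mul_one, mul_inv_cancel]
  have hs0 : s = 0 := by
    rw [hue, TT.te_mul, tv_add, show τ₀ * τ₀ = 1 from LinearEquiv.ext hTT] at hu2
    have e := LinearEquiv.congr_fun hu2 (C.t d y₀)
    rw [te_tv_apply h1, LinearEquiv.coe_one, id_eq, add_eq_left, smul_eq_zero, rt_apply h1, C.prA_t,
      fsymm h1 d a, had, neg_smul, one_smul, neg_neg] at e
    rcases e with e | e
    · exact (mul_eq_zero.1 (show (2 : F) * s = 0 by linear_combination e)).resolve_left C.two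
    · exact absurd (C.t_inj_left ha (e.trans (map_zero _).symm)) hy₀0
  have hkh : ∀ x, k (h x) = h (k x) := fun x => by
    have e : u = h := by rw [hue, hs0, tv_zero]
    have := LinearEquiv.congr_fun e (k x)
    rw [← this, LinearEquiv.mul_apply, LinearEquiv.mul_apply, show k⁻¹ (k x) = x from k.symm_apply_apply x]
  have hkd : ∀ y ∈ Y, k (C.t d y) = C.t d y := fun y hy => by
    set x := k (C.t d y) with hxdef
    have hneg : ∀ y, y ∈ Y → τ₀ y = -y := fun y hy => by rw [hτ₀, hπid y hy]; module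
    have hx : h x = -x := by
      rw [hxdef, ← hkh, C.te_t, hneg y hy, LinearEquiv.coe_one, id_eq, map_neg, map_neg]
    have hmem : ∀ v, τ₀ v = -v → v ∈ Y := fun v hv => by
      rw [hτ₀] at hv
      have : v = π v := by
        apply smul_right_injective (Fin 4 → F) C.two
        show (2 : F) • v = (2 : F) • π v
        linear_combination (norm := module) hv
      rw [this]; exact hπY v
    have hx' : C.t a (τ₀ (C.prA d x)) + C.t d (τ₀ (-C.prA a x)) =
        C.t a (-C.prA d x) + C.t d (- -C.prA a x) := by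
      have e1 : h x = C.t a (τ₀ (C.prA d x)) + C.t d (τ₀ (-C.prA a x)) := by
        conv_lhs => rw [dec_V h1 had x, map_add, C.te_t, C.te_t]
        rfl
      rw [← e1, hx, map_neg (C.t a), map_neg (C.t d), ← neg_add, ← dec_V h1 had x]
    obtain ⟨e1, e2⟩ := coord_inj h1 had hx'
    set y₁' := C.prA d x
    set y₂ := -C.prA a x
    have hy₁' := hmem _ e1
    have hy₂ : y₂ = y := sub_eq_zero.1 (uniq _ (Y.sub_mem (hmem _ e2) hy) fun y' hy' => by
      have e : C.p x (C.t a y') = C.p (C.t d y) (C.t a y') := by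
        conv_lhs => rw [hxdef, ← (hY y').1 hy', hiso k hk]
      rw [← C.g_prA, C.pol, fsymm h1 d a, had, gcomm h2] at e
      rw [map_sub, show C.g y' y₂ = -C.g y' (C.prA a x) from map_neg (C.g y') _, e, gcomm h2 y y']
      ring)
    have hx3 : x = C.t a y₁' + C.t d y := by
      conv_lhs => rw [dec_V h1 had x]
      rw [← hy₂]
    have h2x : k x = C.t d y := by rw [hxdef, hkk]
    rw [hx3, map_add, (hY _).1 hy₁', show k (C.t d y) = x from rfl, hx3] at h2x
    have : y₁' = 0 := by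
      refine (smul_eq_zero.1 (show (2 : F) • y₁' = 0 from C.t_inj_left ha ?_)).resolve_left C.two
      rw [map_smul, map_zero]
      linear_combination (norm := module) h2x
    rw [hx3, this, map_zero, zero_add]
  intro b y hy
  rw [dec_A h1 had b, map_sub, LinearMap.sub_apply, map_smul, map_smul, LinearMap.smul_apply,
    LinearMap.smul_apply, map_sub, map_smul, map_smul, (hY y).1 hy, hkd y hy]

/-- An anisotropic fixed plane. -/
theorem fixes_of_aniso {a : Fin 2 → F} (ha : a ≠ 0) {k : (ι → F) ≃ₗ[F] (ι → F)} (hk : k ∈ M)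
    (hkk : ∀ x, k (k x) = x) (hdim : 2 ≤ finrank F (fixK C a k))
    (hiso0 : ∀ i ∈ fixK C a k, i ≠ 0 → C.g i i ≠ 0)
    (hkY : ∀ b, ∀ y ∈ fixK C a k, k (C.t b y) = C.t b y) :
    C.IsTen k ∨ ∃ i, i ≠ 0 ∧ C.g i i = 0 ∧ ∀ b, ∃ b', k (C.t b i) = C.t b' i := by
  have hdeg : ∀ i ∈ fixK C a k, i ≠ 0 → ∃ y ∈ fixK C a k, C.g i y ≠ 0 := fun i h h0 =>
    ⟨i, h, hiso0 i h h0⟩
  set Y := fixK C a k
  obtain ⟨y₀, hy₀, hy₀0⟩ := Submodule.exists_mem_ne_zero_of_ne_bot (p := Y) fun h => by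
    rw [h, finrank_bot] at hdim; omega
  obtain ⟨π, hπY, hπid, hπ, hπ0, uniq⟩ := exists_proj_fixK h1 h2 hmin h3 hiso hTen hQ ha hk hkk hdim hdeg
  obtain ⟨y₁, hy₁, hy₁n⟩ : ∃ y ∈ Y, C.g y y ≠ 0 := ⟨y₀, hy₀, hiso0 y₀ hy₀ hy₀0⟩
  -- an anisotropic plane
  have hpol := polar_g (C := C) h2
  obtain ⟨y₂, hy₂, hy₂0, hy₁₂⟩ : ∃ y₂ ∈ Y, y₂ ≠ 0 ∧ C.g y₁ y₂ = 0 := by
    have := ((C.g y₁).comp Y.subtype).finrank_range_add_finrank_ker
    have h1' := Submodule.finrank_le (LinearMap.range ((C.g y₁).comp Y.subtype))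
    rw [Module.finrank_self] at h1'
    obtain ⟨z, hz, hz0⟩ := Submodule.exists_mem_ne_zero_of_ne_bot
      (p := LinearMap.ker ((C.g y₁).comp Y.subtype)) fun h => by rw [h, finrank_bot] at this; omega
    exact ⟨z.1, z.2, fun h => hz0 (Subtype.ext h), hz⟩
  have hy₂n := hiso0 y₂ hy₂ hy₂0
  have hY2 : finrank F Y = 2 := by
    by_contra hne
    have hW' : ∀ x ∈ Y ⊓ LinearMap.ker (C.g y₁), x ≠ 0 → ∃ y ∈ Y ⊓ LinearMap.ker (C.g y₁),
        QuadraticMap.polar ⇑C.swap.qA x y ≠ 0 := fun x hx hx0 =>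
      ⟨x, hx, by rw [hpol]; exact mul_ne_zero C.two (hiso0 x hx.1 hx0)⟩
    have hd' : 2 ≤ finrank F ↥(Y ⊓ LinearMap.ker (C.g y₁)) := by
      have := ((C.g y₁).comp Y.subtype).finrank_range_add_finrank_ker
      have h1' := Submodule.finrank_le (LinearMap.range ((C.g y₁).comp Y.subtype))
      rw [Module.finrank_self] at h1'
      rw [LinearMap.ker_comp, (Submodule.equivMapOfInjective Y.subtype Y.injective_subtype _).finrank_eq,
        Submodule.map_comap_subtype] at this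
      omega
    obtain ⟨w, hw, hwq⟩ := Orth.exists_Q_eq_in (Q := C.swap.qA) _ hW' hd' (-C.g y₁ y₁)
    have hwn : C.g w w = -C.g y₁ y₁ := hwq
    have hw1 : C.g y₁ w = 0 := hw.2
    refine hiso0 (y₁ + w) (Y.add_mem hy₁ hw.1) (fun h => ?_) (by simp [hw1, gcomm h2 w y₁, hwn])
    have := congrArg (C.g y₁) h
    simp [hw1, hy₁n] at this
  have hli : LinearIndependent F ![y₁, y₂] := LinearIndependent.pair_iff.2 fun s t hst => by
    have e1 := congrArg (C.g y₁) hst
    have e2 := congrArg (C.g y₂) hst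
    simp [hy₁₂, gcomm h2 y₂ y₁, hy₁n, hy₂n] at e1 e2
    exact ⟨e1, e2⟩
  have hspan : Submodule.span F (Set.range ![y₁, y₂]) = Y := Submodule.eq_of_le_of_finrank_le
    (Submodule.span_le.2 fun x ⟨j, hj⟩ => by fin_cases j <;> subst hj <;> assumption)
    (by rw [finrank_span_eq_card hli, Fintype.card_fin, hY2])
  obtain ⟨i, hi0, hi, hiy₁, hiy₂⟩ := exists_isotropic_perp h2 hmin hy₁n hy₁₂ hy₂n fun s t hst => by
    by_contra hne
    refine hiso0 _ (Y.add_mem (Y.smul_mem s hy₁) (Y.smul_mem t hy₂)) (fun h0 => hne ?_) hst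
    exact LinearIndependent.pair_iff.1 hli s t h0
  have hiY : ∀ y ∈ Y, C.g i y = 0 := fun y hy => by
    rw [← hspan, Submodule.mem_span_range_iff_exists_fun] at hy
    obtain ⟨w, rfl⟩ := hy
    simp [Fin.sum_univ_two, gcomm h2 i y₁, gcomm h2 i y₂, hiy₁, hiy₂]
  obtain ⟨c, hc, hic, hcY⟩ : ∃ c, C.g c c = 0 ∧ C.g i c = 1 ∧ ∀ y ∈ Y, C.g y c = 0 := by
    obtain ⟨d₀, hd₀'⟩ := C.swap.exists_dual hi0
    have hd₀ : C.g i d₀ = 1 := hd₀'
    set c₁ := d₀ - π d₀
    have hc₁ : C.g i c₁ = 1 := by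
      rw [map_sub, hd₀, show C.g i (π d₀) = 0 from hiY _ (hπY d₀), sub_zero]
    refine ⟨c₁ - (C.g c₁ c₁ / 2) • i, ?_, by simp [hc₁, hi], fun y hy => ?_⟩
    · have h22 := C.two
      simp [hi, gcomm h2 c₁ i, hc₁]
      field_simp
      ring
    · rw [map_sub, map_smul, show C.g y c₁ = 0 from hπ d₀ y hy, gcomm h2 y i, hiY y hy, smul_zero, sub_zero]
  have hrest : ∀ z, C.g i z = 0 → C.g c z = 0 → z ∈ Y := fun z hiz hcz => by
    have h4 : LinearIndependent F ![y₁, y₂, i, c] := by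
      rw [Fintype.linearIndependent_iff]
      intro w hw
      simp [Fin.sum_univ_four] at hw
      have e1 := congrArg (C.g y₁) hw
      have e2 := congrArg (C.g y₂) hw
      have e3 := congrArg (C.g i) hw
      have e4 := congrArg (C.g c) hw
      simp [hy₁₂, gcomm h2 y₂ y₁, hiy₁, hiy₂, hcY y₁ hy₁, hcY y₂ hy₂, hiY y₁ hy₁, hiY y₂ hy₂, hi, hic,
        hc, gcomm h2 c i, gcomm h2 c y₁, gcomm h2 c y₂, hy₁n, hy₂n] at e1 e2 e3 e4
      intro j
      fin_cases j
      · exact e1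
      · exact e2
      · exact e4
      · exact e3
    have htop := h4.span_eq_top_of_card_eq_finrank (by simp)
    have hz0 : z - π z = 0 := C.gnd _ fun x => by
      have hall : C.g (z - π z) = 0 := LinearMap.ext_on_range htop fun j => by
        have hy : ∀ y ∈ Y, C.g (z - π z) y = 0 := fun y hy => by rw [gcomm h2]; exact hπ z y hy
        fin_cases j
        · exact hy y₁ hy₁
        · exact hy y₂ hy₂
        · show C.g (z - π z) i = 0
          rw [gcomm h2, map_sub, hiz, show C.g i (π z) = 0 from hiY _ (hπY z), sub_zero]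
        · show C.g (z - π z) c = 0
          rw [gcomm h2, map_sub, hcz, gcomm h2 c (π z), show C.g (π z) c = 0 from hcY _ (hπY z), sub_zero]
      rw [hall, LinearMap.zero_apply]
    rw [sub_eq_zero.1 hz0]
    exact hπY z
  -- coordinates
  have hkperp : ∀ b z, C.g i z = 0 → C.g c z = 0 → k (C.t b z) = C.t b z := fun b z h1' h2' =>
    hkY b z (hrest z h1' h2')
  have hsplit : ∀ b u, (∀ w, C.g u (prP C i c w) = 0) →
      k (C.t b u) = C.t (C.prB c (k (C.t b u))) i + C.t (C.prB i (k (C.t b u))) c := by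
    intro b u hu
    set x := k (C.t b u)
    have e0 : C.tm LinearMap.id (prP C i c) x = 0 := C.p_ext fun b' w => by
      rw [C.adjoint_tm (N' := LinearMap.id) (K' := prP C i c) (fun _ _ => rfl) (fun y z => by
        simp [prP_apply h2 hi hc hic, gcomm h2 y i, gcomm h2 y c]; ring), C.tm_t, LinearMap.id_apply]
      obtain ⟨e1, e2⟩ := prP_perp h2 hi hc hic w
      show C.p (k (C.t b u)) (C.t b' (prP C i c w)) = C.p 0 (C.t b' w)
      conv_lhs => rw [← hkperp b' _ e1 e2, hiso k hk, C.pol, hu w, mul_zero]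
      simp
    have e : C.tm LinearMap.id (prP C i c) =
        LinearMap.id - (C.t.flip i).comp (C.prB c) - (C.t.flip c).comp (C.prB i) :=
      C.ext_pure fun b v => by simp [C.tm_t, prP_apply h2 hi hc hic, C.prB_t, gcomm h2 v c, gcomm h2 v i]
    rw [e, LinearMap.sub_apply, LinearMap.sub_apply, LinearMap.comp_apply, LinearMap.comp_apply,
      LinearMap.id_apply, LinearMap.flip_apply, LinearMap.flip_apply, sub_sub, sub_eq_zero] at e0
    exact e0
  have hsi : ∀ w, C.g i (prP C i c w) = 0 := fun w => (prP_perp h2 hi hc hic w).1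
  have hsc : ∀ w, C.g c (prP C i c w) = 0 := fun w => (prP_perp h2 hi hc hic w).2
  let P := (C.prB c).comp (k.toLinearMap.comp (C.t.flip i))
  let R₀ := (C.prB i).comp (k.toLinearMap.comp (C.t.flip i))
  let Q₀ := (C.prB c).comp (k.toLinearMap.comp (C.t.flip c))
  let P₁ := (C.prB i).comp (k.toLinearMap.comp (C.t.flip c))
  have hpanti : ∀ x y, C.p x y = -C.p y x := fun x y => by rw [C.hp y x, h1, h2]; ring
  have hks : ∀ x y, C.p (k x) y = C.p x (k y) := fun x y => by rw [← hiso k hk, hkk]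
  have hadj : ∀ u u' b b', C.f (C.prB u (k (C.t b u'))) b' = C.f b (C.prB u' (k (C.t b' u))) :=
    fun u u' b b' => by
      rw [C.f_prB, hks, fsymm h1 b, C.f_prB, hpanti]
  obtain ⟨γ, hγ⟩ := TT.scalar_of_self_alt (C := C) h1 rfl (K := R₀) fun b b' => hadj i i b b'
  obtain ⟨β', hβ'⟩ := TT.scalar_of_self_alt (C := C) h1 rfl (K := Q₀) fun b b' => hadj c c b b'
  have ki : ∀ b, k (C.t b i) = C.t (P b) i + γ • C.t b c := fun b => by
    conv_lhs => rw [hsplit b i hsi]
    rw [show C.prB i (k (C.t b i)) = γ • b from LinearMap.congr_fun hγ b, map_smul, LinearMap.smul_apply]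
    rfl
  have kc : ∀ b, k (C.t b c) = β' • C.t b i + C.t (P₁ b) c := fun b => by
    conv_lhs => rw [hsplit b c hsc]
    rw [show C.prB c (k (C.t b c)) = β' • b from LinearMap.congr_fun hβ' b, map_smul, LinearMap.smul_apply]
    rfl
  by_cases hγ0 : γ = 0
  · exact Or.inr ⟨i, hi0, hi, fun b => ⟨P b, by rw [ki, hγ0, zero_smul, add_zero]⟩⟩
  by_cases hβ0 : β' = 0
  · refine Or.inr ⟨c, fun h => ?_, hc, fun b => ⟨P₁ b, by rw [kc, hβ0, zero_smul, zero_add]⟩⟩
    rw [h, map_zero] at hic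
    exact zero_ne_one hic
  have hsq : ∀ b, (P (P b) + (γ * β') • b = b) ∧ P₁ b = -P b := fun b => by
    have e := hkk (C.t b i)
    rw [ki, map_add, map_smul, ki, kc] at e
    have e1 := congrArg (C.prB c) e
    have e2 := congrArg (C.prB i) e
    simp [C.prB_t, hi, hc, hic, gcomm h2 c i, smul_smul] at e1 e2
    refine ⟨by linear_combination (norm := module) e1, ?_⟩
    have : γ • (P₁ b + P b) = 0 := by linear_combination (norm := module) e2
    exact eq_neg_of_add_eq_zero_left ((smul_eq_zero.1 this).resolve_left hγ0)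
  have hPs : C.SkewA P := fun b b' => by
    have h : C.f (P b) b' = C.f b (P₁ b') := hadj c i b b'
    rw [h, (hsq b').2, map_neg]
  have hkop : ∀ x, k x = kop C i c P β' γ x := fun x => LinearMap.congr_fun (ext3 h2 hi hc hic
    (L := k.toLinearMap) (L' := kop C i c P β' γ)
    (fun b => by rw [kop_i h2 hi hc hic]; exact ki b)
    (fun b => by
      rw [kop_c h2 hi hc hic, LinearEquiv.coe_coe, kc, (hsq b).2, map_neg, LinearMap.neg_apply,
        ← sub_eq_add_neg])
    fun b z h1' h2' => by rw [kop_perp h2 hi hc hic P β' γ b h1' h2']; exact hkperp b z h1' h2') x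
  exact Or.inl (not_kop h1 h2 hmin h3 hiso hTen hQ ha hi hc hic hk hkk hPs hβ0 hγ0
    (fun b => by linear_combination (norm := module) (hsq b).1) hkop)

/-- An involution of `M` fixing a plane of a ruling fixes the ruling. -/
theorem fixes_of_invol {a : Fin 2 → F} (ha : a ≠ 0) {k : (ι → F) ≃ₗ[F] (ι → F)} (hk : k ∈ M)
    (hkk : ∀ x, k (k x) = x) (hdim : 2 ≤ finrank F (fixK C a k)) (v : Fin 4 → F) :
    k (C.t a v) ∈ LinearMap.range (C.t a) := by
  classical
  obtain ⟨y₀, hy₀, hy₀0⟩ := Submodule.exists_mem_ne_zero_of_ne_bot (p := fixK C a k) fun h => by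
    rw [h, finrank_bot] at hdim; omega
  have tenFix : C.IsTen k → k (C.t a v) ∈ LinearMap.range (C.t a) := by
    rintro ⟨σ, τ, hst⟩
    have h := congrArg (C.prA a) (mem_fixK.1 hy₀)
    rw [hst, C.prA_t, C.prA_t, faa h1, zero_smul, smul_eq_zero, or_iff_left (τ.map_ne_zero_iff.2 hy₀0)] at h
    rw [mem_ruling h1 ha, hst, C.prA_t, h, zero_smul]
  by_cases hdeg : ∃ i ∈ fixK C a k, i ≠ 0 ∧ ∀ y ∈ fixK C a k, C.g i y = 0
  · exact fixes_of_degenerate h1 h2 hmin h3 hiso hTen hQ ha hk hkk hdim hdeg v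
  push Not at hdeg
  have hkY := fun b y (hy : y ∈ fixK C a k) =>
    trivial_on_fixK h1 h2 hmin h3 hiso hTen hQ ha hk hkk hdim hdeg b hy
  by_cases hiso0 : ∃ i ∈ fixK C a k, i ≠ 0 ∧ C.g i i = 0
  · obtain ⟨i, hiY, hi0, hi⟩ := hiso0
    exact tenFix (isTen_of_fix_point h1 h2 hmin h3 hiso hTen hQ hi0 hi hk fun b => ⟨b, hkY b i hiY⟩)
  push Not at hiso0
  rcases fixes_of_aniso h1 h2 hmin h3 hiso hTen hQ ha hk hkk hdim hiso0 hkY with h | ⟨i, hi0, hi, h⟩
  · exact tenFix h
  · exact tenFix (isTen_of_fix_point h1 h2 hmin h3 hiso hTen hQ hi0 hi hk h)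

/-- Every element of the overgroup is a tensor product. -/
theorem isTen_of_qp {m : (ι → F) ≃ₗ[F] (ι → F)} (hm : m ∈ M) : C.IsTen m := by
  classical
  set a : Fin 2 → F := Pi.single 0 1
  have ha : a ≠ 0 := by simp [a]
  set y₀ : Fin 4 → F := Pi.single 0 1
  have hy₀ : y₀ ≠ 0 := by simp [y₀]
  -- the image ruling
  set L := LinearMap.ker ((C.prA a).comp m.symm.toLinearMap)
  have hL : ∀ x, x ∈ L ↔ C.prA a (m.symm x) = 0 := fun x => Iff.rfl
  have hcomp : ∀ e, C.g e e ≠ 0 → ∀ x ∈ L, C.t (C.prB e x) e ∈ L := by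
    intro e he x hx
    set τ := C.te (LinearEquiv.refl F (Fin 2 → F)) (rf e he)
    have hτM : τ ∈ M := te_mem h1 h2 hTen (fun _ _ => rfl) (rf_iso h2 he)
    have hform : ∀ x, τ x = x - (2 / C.g e e) • C.t (C.prB e x) e := fun x =>
      LinearMap.congr_fun (C.ext_pure (L := τ.toLinearMap)
        (L' := LinearMap.id - (2 / C.g e e) • (C.t.flip e).comp (C.prB e)) fun c y => by
          simp [τ, C.te_t, rf_apply h2, C.prB_t, gcomm h2 y e, smul_smul]
          congr 2
          ring) x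
    have hττ : ∀ x, τ (τ x) = x := fun x => by
      rw [hform x, map_sub, map_smul, hform, C.te_t, rf_self h2 he, map_neg, LinearEquiv.refl_apply]
      module
    set k := m⁻¹ * τ * m
    have hkM : k ∈ M := M.mul_mem (M.mul_mem (M.inv_mem hm) hτM) hm
    have hkapp : ∀ y, k y = m.symm (τ (m y)) := fun y => rfl
    have hkk : ∀ y, k (k y) = y := fun y => by
      rw [hkapp, hkapp, m.apply_symm_apply, hττ, m.symm_apply_apply]
    have hdim : 2 ≤ finrank F (fixK C a k) := by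
      let Ψ := (C.prB e).comp (m.toLinearMap.comp (C.t a))
      have h := LinearMap.finrank_range_add_finrank_ker Ψ
      have h' := Submodule.finrank_le (LinearMap.range Ψ)
      rw [Module.finrank_fin_fun] at h h'
      refine le_trans (by omega : 2 ≤ finrank F (LinearMap.ker Ψ)) (Submodule.finrank_mono fun y hy => ?_)
      have hy' : C.prB e (m (C.t a y)) = 0 := hy
      rw [mem_fixK, hkapp, hform, hy', map_zero, LinearMap.zero_apply, smul_zero, sub_zero]
      exact m.symm_apply_apply _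
    obtain ⟨y, hy⟩ := (mem_ruling h1 ha).2 ((hL x).1 hx)
    have h := fixes_of_invol h1 h2 hmin h3 hiso hTen hQ ha hkM hkk hdim y
    rw [hkapp, hy, m.apply_symm_apply] at h
    have h1' : τ x ∈ L := (hL _).2 ((mem_ruling h1 ha).1 h)
    have h2' := L.sub_mem hx h1'
    rw [hform, sub_sub_cancel] at h2'
    have := L.smul_mem (2 / C.g e e)⁻¹ h2'
    rwa [inv_smul_smul₀ (div_ne_zero C.two he)] at this
  set x₀ := m (C.t a y₀)
  have hx₀ : x₀ ∈ L := by rw [hL, m.symm_apply_apply, C.prA_t, faa h1, zero_smul]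
  obtain ⟨e₁, he₁⟩ : ∃ e : Fin 4 → F, C.g e e ≠ 0 := by
    by_contra! hall
    obtain ⟨b, hb, hbb⟩ : ∃ b : Fin 4 → F, b ≠ 0 ∧ C.g b b = 0 := ⟨y₀, hy₀, hall y₀⟩
    obtain ⟨w, hw, hbw⟩ : ∃ c, C.g c c = 0 ∧ C.g b c = 1 := TT.partner (C := C.swap) h2 hb hbb
    have e := hall (b + w)
    simp [hbb, hw, hbw, gcomm h2 w b] at e
    exact C.two (by linear_combination e)
  obtain ⟨e₀, he₀, hc₀⟩ : ∃ e, C.g e e ≠ 0 ∧ C.prB e x₀ ≠ 0 := by
    by_contra! hall
    have htop := top_of_aniso h2 hmin (LinearMap.ker (C.prB.flip x₀)) (e₀ := e₁) (hall e₁ he₁) he₁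
      fun u _ e he _ => hall e he
    have h0 : x₀ = 0 := by
      rw [C.eq_sum x₀]
      exact Finset.sum_eq_zero fun j _ => by
        rw [show C.prB (C.dB j) x₀ = 0 from htop _, map_zero, LinearMap.zero_apply]
    exact hy₀ (C.t_inj_left ha (by rw [LinearEquiv.map_eq_zero_iff] at h0; rw [h0, map_zero]))
  set c₀ := C.prB e₀ x₀
  set U := L.comap (C.t c₀)
  have hU : ∀ v, v ∈ U := top_of_aniso h2 hmin U (e₀ := e₀) (hcomp e₀ he₀ x₀ hx₀) he₀ fun u hu e he heu => by
    have h := hcomp e he _ hu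
    rw [C.prB_t, map_smul, LinearMap.smul_apply] at h
    have h' := L.smul_mem (C.g u e)⁻¹ h
    rw [inv_smul_smul₀ (by rw [gcomm h2]; exact heu)] at h'
    exact h'
  have hten := isTen_of_ruling h1 hiso hTen hQ hc₀ ha (M.inv_mem hm) fun v =>
    (mem_ruling h1 ha).2 ((hL _).1 (hU v))
  have h := (tenSub C M).inv_mem ⟨M.inv_mem hm, hten⟩
  rw [inv_inv] at h
  exact h.2

end Main

/-! ### maximality -/

/-- `Sp_2 ⊗ O_4^-` in `Sp_8`. -/
theorem maximal_two_four (C : TT (Fin 4 ⊕ Fin 4) F 2 4) (h1 : C.s₁ = -1) (h2 : C.s₂ = 1)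
    (hmin : Minus C) (hp : ∀ x y, C.p x y = Cfsg.sympForm 4 F x y)
    {H : Subgroup (Matrix.GeneralLinearGroup (Fin 4 ⊕ Fin 4) F)}
    (hH : ∀ g, g ∈ H ↔ g ∈ Cfsg.spGL 4 F ∧ C.IsTen (app g)) :
    Cfsg.Geo.IsMaximalIn (Cfsg.spGL 4 F) H := by
  classical
  have := ringChar.charP F
  have hpp : (ringChar F).Prime := CharP.char_is_prime F _
  have := Fact.mk hpp
  have h3 : 3 ≤ ringChar F := by
    rcases Nat.lt_or_ge (ringChar F) 3 with h | h
    · have := hpp.two_le
      have h2' : ringChar F = 2 := by omega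
      exact absurd ((CharP.cast_eq_zero_iff F (ringChar F) 2).2 (by rw [h2'])) (by simpa using C.two)
    · exact h
  have hall : ∀ k : ((Fin 4 ⊕ Fin 4) → F) ≃ₗ[F] ((Fin 4 ⊕ Fin 4) → F), C.Iso k →
      k ∈ (Cfsg.spGL 4 F).map app := fun k hk => by
    obtain ⟨g, rfl⟩ := exists_gl k
    exact ⟨g, Transvect.mem_spGL_iff.2 fun x y => by rw [← hp, ← hp]; exact hk x y, rfl⟩
  refine Transvect.isMaximalIn_of_forall (fun g hg => ((hH g).1 hg).1) ?_
    fun M₀ hHM hMK g hg hgH => ?_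
  · -- a transvection centred at a pure vector with singular right factor
    obtain ⟨b, hb, hbb⟩ := TT.exists_isotropic (C := C.swap) h2 (by norm_num)
    set a : Fin 2 → F := Pi.single 0 1
    have ha : a ≠ 0 := by simp [a]
    obtain ⟨m, hm⟩ : ∃ m : ((Fin 4 ⊕ Fin 4) → F) ≃ₗ[F] ((Fin 4 ⊕ Fin 4) → F),
        ∀ x, m x = x + C.tm (C.sm a a) (C.swap.sm b b) x :=
      ⟨LinearEquiv.ofLinearMap (LinearMap.id + C.tm (C.sm a a) (C.swap.sm b b))
        (LinearMap.id - C.tm (C.sm a a) (C.swap.sm b b))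
        (LinearMap.ext fun x => by
          simp [C.tm_comp, show (C.sm a a).comp (C.sm a a) = 0 from LinearMap.ext fun y => by
            simp [TT.sm_apply, faa h1], C.tm_zero])
        (LinearMap.ext fun x => by
          simp [C.tm_comp, show (C.sm a a).comp (C.sm a a) = 0 from LinearMap.ext fun y => by
            simp [TT.sm_apply, faa h1], C.tm_zero]), fun x => rfl⟩
    have hmt : ∀ x, m x = x + C.tvop (C.t a b) x := fun x => by rw [hm, TT.tm_sm_sm]
    have hmi : C.Iso m := fun x y => by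
      rw [hmt, hmt]
      simp [TT.tvop, C.pol, faa h1, hbb, C.hp (C.t a b) x, h1, h2]
      ring
    obtain ⟨k, hk, hkm⟩ := hall m hmi
    refine ⟨k, hk, fun hkH => ?_⟩
    have hb0 : C.swap.sm b b ≠ 0 := fun e => by
      obtain ⟨w, hw⟩ := C.swap.exists_dual hb
      have := LinearMap.congr_fun e w
      rw [TT.sm_apply, hw, one_smul] at this
      exact hb this
    refine TT.not_isTen ha (faa h1 a) hb (z0 := b) (by simp [TT.sm_apply, show C.swap.f b b = 0 from hbb])
      hb0 (fun x => ?_) ((hH k).1 hkH).2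
    rw [hkm, hm]
  · set M := M₀.map app with hMd
    have hiso : ∀ m ∈ M, C.Iso m := by
      rintro _ ⟨k, hk, rfl⟩ x y
      rw [hp, hp]; exact Transvect.mem_spGL_iff.1 (hMK hk) x y
    have hTen : ∀ m, C.Iso m → C.IsTen m → m ∈ M := fun m hi ht => by
      obtain ⟨k, hk, rfl⟩ := hall m hi
      exact ⟨k, hHM ((hH k).2 ⟨hk, ht⟩), rfl⟩
    by_cases hF : C.Found M
    · have hl : C.LeftE M := fun a x ha hx =>
        hTen _ (TT.iso_te (C.eA_iso ha hx) fun _ _ => rfl) (TT.isTen_te _ _)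
      have hr : C.swap.LeftE M := fun a x ha hx => by
        rw [TT.te_swap]
        exact hTen _ (TT.iso_te (fun _ _ => rfl) (C.swap.eA_iso ha hx)) (TT.isTen_te _ _)
      have two' : (1 : F) ≠ -1 := fun e => C.two (by linear_combination e)
      have hcen : ∀ v, C.Cen M v := by
        cases hF with
        | symp a b κ ha hb hbb hκ _ _ hm =>
          exact TT.all_centres hiso hl hr h1 h2 (by norm_num) ha hb hbb hκ hm
        | symp' a b κ ha hb haa hκ h1' _ _ => exact absurd (h1'.symm.trans h1) two'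
        | orthK a b γ ha haa hb hbb hbγ hγ h1' _ _ => exact absurd (h1'.symm.trans h1) two'
        | orthP N hN b κ hb hbb hκ h1' _ _ => exact absurd (h1'.symm.trans h1) two'
      refine Transvect.spGL_le_of_centres M₀ fun v c => ?_
      obtain ⟨_, ⟨g', hg', rfl⟩, e⟩ := hcen v (-c)
      suffices h : Transvect.st (Transvect.sympForm_isSymplectic 4) v c = g' by rw [h]; exact hg'
      refine Transvect.gl_ext fun x => ?_
      rw [Transvect.st_apply, e]
      simp [TT.tvop, hp, (Transvect.sympForm_isSymplectic (F := F) 4).skew v x, smul_smul]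
    · exact absurd ((hH g).2 ⟨hMK hg, isTen_of_qp (p := ringChar F) h1 h2 hmin h3 hiso hTen
        (qp_of_not_found h1 h2 hTen hF) ⟨g, hg, rfl⟩⟩) hgH

/-- The statement form. -/
theorem maximal_sp_two_orth_minus (hodd : Odd (Fintype.card F))
    (e : (Fin 4 ⊕ Fin 4) ≃ Fin 2 × Fin 4) (P : Matrix.GeneralLinearGroup (Fin 4 ⊕ Fin 4) F)
    {f₁ : (Fin 2 → F) → (Fin 2 → F) → F} {f₂ : (Fin 4 → F) → (Fin 4 → F) → F}
    (hf₁ : Geo.IsSymplecticForm f₁) (hf₂ : Geo.IsSymmetricForm f₂)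
    (hminus : ¬ Geo.IsPlusTypeOn (fun v : Fin 4 → F => f₂ v v) ⊤)
    (hT : Geo.IsTensorFormStructure id (Cfsg.sympForm 4 F) f₁ f₂ e P) :
    Geo.IsMaximalIn (Cfsg.spGL 4 F) (Geo.tensorProductSubgroup 2 4 e P ⊓ Cfsg.spGL 4 F) := by
  have h2 := two_ne_zero_of_odd hodd
  obtain ⟨c, hc, htp⟩ := Transvect.form_tp (σ := id) (fun _ _ => rfl)
    (Aschbacher.FrameThree.fog_eq hf₁.bilinear) (Aschbacher.FrameThree.fog_eq hf₂.bilinear) hT
  have hsf := Transvect.sympForm_isSymplectic (F := F) 4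
  let C := ofTP e P hf₁.bilinear hf₂.bilinear (Transvect.flin hsf.bilinear).flip (-1) 1 c hc h2
    (by ring) (one_mul 1) (fun a a' => by rw [hf₁.skew a' a, neg_one_mul])
    (fun b b' => by rw [one_mul, hf₂.symm b' b]) hf₁.nondegenerate hf₂.nondegenerate
    (fun x hx => by
      by_contra hne
      obtain ⟨-, y, hy⟩ := hsf.nondegenerate x hne
      exact hy (hx y))
    (fun a w a' w' => htp a w a' w')
  have hmin : Minus C := fun u v hu hv huv hu0 => by
    by_contra hne'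
    have hli : LinearIndependent F ![u, v] := by
      rw [LinearIndependent.pair_iff' hu0]
      exact fun a ha => hne' (Submodule.mem_span_singleton.2 ⟨a, ha⟩)
    refine hminus ⟨Submodule.span F (Set.range ![u, v]), le_top, fun w hw => ?_, ?_⟩
    · obtain ⟨a, rfl⟩ := (Submodule.mem_span_range_iff_exists_fun F).1 hw
      have hu' : f₂ u u = 0 := hu
      have hv' : f₂ v v = 0 := hv
      have huv' : f₂ u v = 0 := huv
      show f₂ _ _ = 0
      simp [Fin.sum_univ_two, hf₂.bilinear.add_left, hf₂.bilinear.add_right, hf₂.bilinear.smul_left,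
        hf₂.bilinear.smul_right, hu', hv', huv', hf₂.symm v u]
    · rw [finrank_span_eq_card hli, finrank_top, Module.finrank_fin_fun, Fintype.card_fin]
  refine maximal_two_four C rfl rfl hmin (fun x y => rfl) fun g => ?_
  rw [Subgroup.mem_inf, mem_tensor_iff C e P rfl, and_comm]

end Cfsg.Agent.TenForm.TwoFour
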