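import Cfsg.Agent.Lib.C4.TenMax

/-!
# Two times four tensor decompositions: rulings

`V = A ⊗ B` with `f` alternating on `A` (dimension two) and `g` symmetric on `B` (dimension four).

* `isTen_of_ruling` : an element of an overgroup carrying a ruling to a ruling is a tensor product
* `qp_of_not_found`
-/

set_option linter.unusedSectionVars false
set_option linter.unusedSimpArgs false

namespace Cfsg.Agent.TenForm.TwoFour

open Module
open Cfsg.Agent.Transvect (app)

variable {ι : Type} [Fintype ι] [DecidableEq ι] {F : Type*} [Field F] [Fintype F]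
variable {C : TT ι F 2 4}

/-- The root operator of a ruling. -/
noncomputable def rt (C : TT ι F 2 4) (a : Fin 2 → F) : (ι → F) →ₗ[F] (ι → F) :=
  C.tm (C.sm a a) LinearMap.id

/-- The radical of the stabiliser of a ruling meets `M` in the root group only. -/
def QP (C : TT ι F 2 4) (M : Subgroup ((ι → F) ≃ₗ[F] (ι → F))) : Prop :=
  ∀ a : Fin 2 → F, a ≠ 0 → ∀ X : (ι → F) →ₗ[F] (ι → F), C.Skew X →
    (∀ x, X x ∈ LinearMap.range (C.t a)) → (∀ y, X (C.t a y) = 0) → TT.InM M X →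
    ∃ r : F, X = r • rt C a

section Planes

variable (h1 : C.s₁ = -1)
include h1

lemma faa (a : Fin 2 → F) : C.f a a = 0 := TT.f_self h1 a

lemma fsymm (a b : Fin 2 → F) : C.f a b = -C.f b a := by rw [C.hf b a, h1, neg_one_mul]

lemma dec_A {a d : Fin 2 → F} (had : C.f a d = 1) (c : Fin 2 → F) :
    c = C.f c d • a - C.f c a • d := by
  have hda : C.f d a = -1 := by rw [fsymm h1, had]
  have hli : LinearIndependent F ![a, d] := LinearIndependent.pair_iff.2 fun s t h => by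
    have e1 := congrArg (fun x => C.f x d) h
    have e2 := congrArg (fun x => C.f x a) h
    simp [faa h1, had, hda] at e1 e2
    exact ⟨e1, e2⟩
  have hc : c ∈ Submodule.span F (Set.range ![a, d]) := by
    rw [hli.span_eq_top_of_card_eq_finrank (by simp)]; trivial
  obtain ⟨w, hw⟩ := (Submodule.mem_span_range_iff_exists_fun F).1 hc
  subst hw
  simp [Fin.sum_univ_two, faa h1, had, hda]

lemma dec_V {a d : Fin 2 → F} (had : C.f a d = 1) (x : ι → F) :
    x = C.t a (C.prA d x) + C.t d (-C.prA a x) :=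
  LinearMap.congr_fun (C.ext_pure (L := LinearMap.id)
    (L' := (C.t a).comp (C.prA d) + (C.t d).comp (-C.prA a)) fun c y => by
    conv_lhs => rw [dec_A h1 had c]
    simp [C.prA_t, map_sub]
    module) x

lemma mem_ruling {a : Fin 2 → F} (ha : a ≠ 0) {x : ι → F} :
    x ∈ LinearMap.range (C.t a) ↔ C.prA a x = 0 := by
  obtain ⟨d, had⟩ := C.exists_dual ha
  refine ⟨fun ⟨y, hy⟩ => ?_, fun h => ⟨C.prA d x, ?_⟩⟩
  · rw [← hy, C.prA_t, faa h1, zero_smul]
  · conv_rhs => rw [dec_V h1 had x, h, neg_zero, map_zero, add_zero]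

lemma rt_apply {a : Fin 2 → F} (x : ι → F) : rt C a x = C.t a (-C.prA a x) :=
  LinearMap.congr_fun (C.ext_pure (L := rt C a) (L' := (C.t a).comp (-C.prA a)) fun c y => by
    simp [rt, C.tm_t, TT.sm_apply, C.prA_t, fsymm h1 a c]) x

lemma p_coord {a d : Fin 2 → F} (had : C.f a d = 1) (y z y' z' : Fin 4 → F) :
    C.p (C.t a y + C.t d z) (C.t a y' + C.t d z') = C.g y z' - C.g z y' := by
  simp [C.pol, faa h1, had, fsymm h1 d a]
  ring

lemma prA_coord {a d : Fin 2 → F} (had : C.f a d = 1) (y z : Fin 4 → F) :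
    C.prA a (C.t a y + C.t d z) = -z ∧ C.prA d (C.t a y + C.t d z) = y := by
  simp [C.prA_t, faa h1, had, fsymm h1 d a]

lemma coord_inj {a d : Fin 2 → F} (had : C.f a d = 1) {y z y' z' : Fin 4 → F}
    (h : C.t a y + C.t d z = C.t a y' + C.t d z') : y = y' ∧ z = z' := by
  have e1 := congrArg (C.prA a) h
  have e2 := congrArg (C.prA d) h
  rw [(prA_coord h1 had y z).1, (prA_coord h1 had y' z').1, neg_inj] at e1
  rw [(prA_coord h1 had y z).2, (prA_coord h1 had y' z').2] at e2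
  exact ⟨e2, e1⟩

/-- The isometry of `A` with given images of a hyperbolic pair. -/
lemma exists_move {a d a' d' : Fin 2 → F} (h : C.f a d = 1) (h' : C.f a' d' = 1) :
    ∃ σ : (Fin 2 → F) ≃ₗ[F] (Fin 2 → F), σ a = a' ∧ σ d = d' ∧ ∀ u v, C.f (σ u) (σ v) = C.f u v := by
  let s0 : (Fin 2 → F) →ₗ[F] (Fin 2 → F) :=
    ((C.f.flip d).smulRight a') - ((C.f.flip a).smulRight d')
  have hs : ∀ c, s0 c = C.f c d • a' - C.f c a • d' := fun c => rfl
  have hiso : ∀ u v, C.f (s0 u) (s0 v) = C.f u v := fun u v => by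
    conv_rhs => rw [dec_A h1 h u, dec_A h1 h v]
    simp [hs, faa h1, h, h', fsymm h1 d a, fsymm h1 d' a']
  have hinj : Function.Injective s0 := (injective_iff_map_eq_zero s0).2 fun c hc => C.fnd c fun v => by
    rw [← hiso, hc, map_zero, LinearMap.zero_apply]
  refine ⟨LinearEquiv.ofInjectiveEndo s0 hinj, ?_, ?_, hiso⟩
  · show s0 a = a'
    simp [hs, faa h1, h]
  · show s0 d = d'
    simp [hs, faa h1, fsymm h1 d a, h]

/-- The transvection of `A`. -/
noncomputable def tv (e : Fin 2 → F) (b : F) : (Fin 2 → F) ≃ₗ[F] (Fin 2 → F) :=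
  LinearEquiv.ofLinearMap (LinearMap.id + b • C.sm e e) (LinearMap.id - b • C.sm e e)
    (LinearMap.ext fun x => by simp [TT.sm_apply, faa h1])
    (LinearMap.ext fun x => by simp [TT.sm_apply, faa h1])

lemma tv_apply (e : Fin 2 → F) (b : F) (x : Fin 2 → F) : tv h1 e b x = x + (b * C.f e x) • e := by
  simp [tv, TT.sm_apply, smul_smul]

lemma tv_iso (e : Fin 2 → F) (b : F) (u v : Fin 2 → F) : C.f (tv h1 e b u) (tv h1 e b v) = C.f u v := by
  simp [tv_apply, faa h1, fsymm h1 u e]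
  ring

lemma tv_smul (μ : F) (e : Fin 2 → F) (b : F) : tv h1 (μ • e) b = tv h1 e (μ * μ * b) :=
  LinearEquiv.ext fun x => by simp [tv_apply, smul_smul]; module

lemma tv_add (e : Fin 2 → F) (b b' : F) : tv h1 e b * tv h1 e b' = tv h1 e (b + b') :=
  LinearEquiv.ext fun x => by
    rw [LinearEquiv.mul_apply, tv_apply, tv_apply, tv_apply, map_add, map_smul, faa h1, smul_zero,
      add_zero, add_mul, add_smul]
    abel

lemma tv_zero (e : Fin 2 → F) : tv h1 e 0 = 1 := LinearEquiv.ext fun x => by simp [tv_apply]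

lemma tv_inv (e : Fin 2 → F) (b : F) : (tv h1 e b)⁻¹ = tv h1 e (-b) :=
  inv_eq_of_mul_eq_one_right (by rw [tv_add, add_neg_cancel, tv_zero])

lemma tv_conj {σ : (Fin 2 → F) ≃ₗ[F] (Fin 2 → F)} (hσ : ∀ u v, C.f (σ u) (σ v) = C.f u v)
    (e : Fin 2 → F) (b : F) : σ * tv h1 e b * σ⁻¹ = tv h1 (σ e) b :=
  LinearEquiv.ext fun x => by
    obtain ⟨y, rfl⟩ := σ.surjective x
    rw [LinearEquiv.mul_apply, LinearEquiv.mul_apply, show σ⁻¹ (σ y) = y from σ.symm_apply_apply y,
      tv_apply, tv_apply, map_add, map_smul, hσ]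

end Planes

section Orth

variable (h2 : C.s₂ = 1)
include h2

lemma gcomm (y z : Fin 4 → F) : C.g y z = C.g z y := TT.f_comm (C := C.swap) h2 y z

/-- The reflection of `B`. -/
noncomputable def rf (e : Fin 4 → F) (he : C.g e e ≠ 0) : (Fin 4 → F) ≃ₗ[F] (Fin 4 → F) :=
  LinearEquiv.ofLinearMap (LinearMap.id - ((2 / C.g e e) • C.g e).smulRight e)
    (LinearMap.id - ((2 / C.g e e) • C.g e).smulRight e)
    (LinearMap.ext fun x => by simp [smul_smul]; match_scalars <;> field_simp <;> ring)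
    (LinearMap.ext fun x => by simp [smul_smul]; match_scalars <;> field_simp <;> ring)

lemma rf_apply {e : Fin 4 → F} (he : C.g e e ≠ 0) (z : Fin 4 → F) :
    rf e he z = z - (2 * C.g e z / C.g e e) • e := by
  simp [rf]; congr 1; ring

lemma rf_iso {e : Fin 4 → F} (he : C.g e e ≠ 0) (u v : Fin 4 → F) :
    C.g (rf e he u) (rf e he v) = C.g u v := by
  simp [rf_apply h2, gcomm h2 u e]
  field_simp
  ring

lemma rf_self {e : Fin 4 → F} (he : C.g e e ≠ 0) : rf e he e = -e := by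
  rw [rf_apply h2, mul_div_assoc, div_self he, mul_one, two_smul]; abel

lemma rf_fix {e z : Fin 4 → F} (he : C.g e e ≠ 0) (hz : C.g e z = 0) : rf e he z = z := by
  simp [rf_apply h2, hz]

end Orth

section Main

variable {M : Subgroup ((ι → F) ≃ₗ[F] (ι → F))}
variable (h1 : C.s₁ = -1) (h2 : C.s₂ = 1)
variable (hiso : ∀ m ∈ M, C.Iso m) (hTen : ∀ m, C.Iso m → C.IsTen m → m ∈ M) (hQ : QP C M)
include h1 h2 hiso hTen hQ

omit hiso hQ in
lemma te_mem {σ : (Fin 2 → F) ≃ₗ[F] (Fin 2 → F)} {τ : (Fin 4 → F) ≃ₗ[F] (Fin 4 → F)}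
    (hσ : ∀ u v, C.f (σ u) (σ v) = C.f u v) (hτ : ∀ u v, C.g (τ u) (τ v) = C.g u v) :
    C.te σ τ ∈ M :=
  hTen _ (TT.iso_te hσ hτ) (TT.isTen_te _ _)

omit h2 hiso hQ in
lemma exists_root_elem {a : Fin 2 → F} (ha : a ≠ 0) (b : F) :
    ∃ m ∈ M, ∀ x, m x = x + b • rt C a x := by
  refine ⟨C.te (tv h1 a b) (LinearEquiv.refl F _),
    hTen _ (TT.iso_te (tv_iso h1 a b) fun _ _ => rfl) (TT.isTen_te _ _), fun x => ?_⟩
  exact LinearMap.congr_fun (C.ext_pure
    (L := (C.te (tv h1 a b) (LinearEquiv.refl F (Fin 4 → F))).toLinearMap)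
    (L' := LinearMap.id + b • rt C a) fun c y => by
      simp [C.te_t, tv_apply, rt, C.tm_t, TT.sm_apply, smul_smul]) x

omit h2 hTen hQ in
/-- An element moving a ruling into a ruling moves nothing else into it. -/
lemma map_iff {a b : Fin 2 → F} (ha : a ≠ 0) (hb : b ≠ 0) {k : (ι → F) ≃ₗ[F] (ι → F)} (hk : k ∈ M)
    (hab : ∀ y, k (C.t a y) ∈ LinearMap.range (C.t b)) {x : ι → F} :
    C.prA b (k x) = 0 ↔ C.prA a x = 0 := by
  obtain ⟨d, had⟩ := C.exists_dual ha
  obtain ⟨e, hbe⟩ := C.exists_dual hb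
  refine ⟨fun h => C.gnd _ fun y => ?_, fun h => ?_⟩
  · obtain ⟨u, hu⟩ := (mem_ruling h1 hb).2 h
    obtain ⟨v, hv⟩ := hab y
    rw [C.g_prA, ← hiso k hk, ← hu, ← hv, C.pol, faa h1, zero_mul]
  · obtain ⟨y, rfl⟩ := (mem_ruling h1 ha).2 h
    exact (mem_ruling h1 hb).1 (hab y)

omit h2 in
/-- An element of `M` fixing a ruling scales its root operator. -/
lemma scale_root {a b : Fin 2 → F} (ha : a ≠ 0) (hb : b ≠ 0) {k : (ι → F) ≃ₗ[F] (ι → F)} (hk : k ∈ M)
    (hab : ∀ y, k (C.t a y) ∈ LinearMap.range (C.t b)) :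
    ∃ r : F, r ≠ 0 ∧ ∀ x, k (rt C a x) = r • rt C b (k x) := by
  set X : (ι → F) →ₗ[F] (ι → F) := k.toLinearMap.comp ((rt C a).comp k.symm.toLinearMap)
  have hX : ∀ x, X x = k (rt C a (k.symm x)) := fun x => rfl
  have hsk : C.Skew X := fun x y => by
    have hN : C.SkewA (C.sm a a) := fun u v => by simp [TT.sm_apply, fsymm h1 u a]; ring
    have e := C.skew_tm hN (k.symm x) (k.symm y)
    rw [hX, hX, ← (hiso k hk).symm_right, ← (hiso k hk).symm_left]
    exact e
  obtain ⟨m, hm, hmx⟩ := exists_root_elem h1 hTen (M := M) ha 1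
  obtain ⟨r, hr⟩ := hQ b hb X hsk
    (fun x => by rw [hX, rt_apply h1]; exact hab _)
    (fun y => by
      have : C.prA a (k.symm (C.t b y)) = 0 := by
        rw [← map_iff h1 hiso ha hb hk hab, LinearEquiv.apply_symm_apply]
        exact (mem_ruling h1 hb).1 ⟨y, rfl⟩
      rw [hX, rt_apply h1, this, neg_zero, map_zero, map_zero])
    ⟨k * m * k⁻¹, mul_mem (mul_mem hk hm) (inv_mem hk), fun x => by
      show k (m (k.symm x)) = _
      rw [hmx, one_smul, map_add, k.apply_symm_apply]; rfl⟩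
  refine ⟨r, fun h => ?_, fun x => by
    have := LinearMap.congr_fun hr (k x)
    rwa [hX, k.symm_apply_apply] at this⟩
  obtain ⟨d, had⟩ := C.exists_dual ha
  obtain ⟨y, hy⟩ : ∃ y : Fin 4 → F, y ≠ 0 := ⟨Pi.single 0 1, by simp⟩
  have := LinearMap.congr_fun hr (k (C.t d y))
  rw [hX, k.symm_apply_apply, h, zero_smul, LinearMap.zero_apply, LinearEquiv.map_eq_zero_iff] at this
  simp [rt, C.tm_t, TT.sm_apply, had] at this
  exact hy (C.t_inj_left ha (by rw [this, map_zero]))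

omit h2 in
/-- An element of `M` carrying a ruling to a ruling is a tensor product. -/
theorem isTen_of_ruling {a b : Fin 2 → F} (ha : a ≠ 0) (hb : b ≠ 0) {k : (ι → F) ≃ₗ[F] (ι → F)}
    (hk : k ∈ M) (hab : ∀ y, k (C.t a y) ∈ LinearMap.range (C.t b)) : C.IsTen k := by
  obtain ⟨d, had⟩ := C.exists_dual ha
  obtain ⟨e, hbe⟩ := C.exists_dual hb
  obtain ⟨r, hr0, hr⟩ := scale_root h1 hiso hTen hQ ha hb hk hab
  let β₀ : (Fin 4 → F) →ₗ[F] (Fin 4 → F) := (C.prA e).comp (k.toLinearMap.comp (C.t a))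
  let γ : (Fin 4 → F) →ₗ[F] (Fin 4 → F) := (C.prA e).comp (k.toLinearMap.comp (C.t d))
  have hka : ∀ y, k (C.t a y) = C.t b (β₀ y) := fun y => by
    obtain ⟨v, hv⟩ := hab y
    show k (C.t a y) = C.t b (C.prA e (k (C.t a y)))
    rw [← hv, C.prA_t, hbe, one_smul]
  have hkd : ∀ y, k (C.t d y) = C.t b (γ y) + C.t e (r⁻¹ • β₀ y) := fun y => by
    have h := hr (C.t d y)
    rw [rt_apply h1, rt_apply h1, C.prA_t, fsymm h1 d a, had, neg_smul, one_smul, neg_neg, hka,
      ← map_smul] at h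
    have h' := C.t_inj_left hb h
    conv_lhs => rw [dec_V h1 hbe (k (C.t d y))]
    rw [h', inv_smul_smul₀ hr0]
    rfl
  have hinj : Function.Injective β₀ := (injective_iff_map_eq_zero β₀).2 fun y hy => by
    have : k (C.t a y) = 0 := by rw [hka, hy, map_zero]
    exact C.t_inj_left ha (by rw [LinearEquiv.map_eq_zero_iff] at this; rw [this, map_zero])
  let β := LinearEquiv.ofInjectiveEndo β₀ hinj
  have hβ : ∀ y, β y = β₀ y := fun y => rfl
  have hsim : ∀ y z, C.g (β₀ y) (β₀ z) = r * C.g y z := fun y z => by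
    have h := hiso k hk (C.t a y) (C.t d z)
    rw [hka, hkd, map_add, C.pol, C.pol, C.pol, faa h1, hbe, had, map_smul, smul_eq_mul] at h
    linear_combination (norm := (field_simp; ring)) r * h
  have hγ : ∀ y z, C.g (γ y) (β₀ z) = C.g (β₀ y) (γ z) := fun y z => by
    have h := hiso k hk (C.t d y) (C.t d z)
    rw [hkd, hkd, p_coord h1 hbe, C.pol, faa h1, zero_mul, map_smul, map_smul, LinearMap.smul_apply,
      smul_eq_mul, smul_eq_mul] at h
    linear_combination (norm := (field_simp; ring)) r * h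
  obtain ⟨σ, hσa, hσd, hσ⟩ := exists_move h1 (a := a) (d := d) (a' := b) (d' := e) had hbe
  -- correct by the tensor part
  let σ' : (Fin 2 → F) ≃ₗ[F] (Fin 2 → F) :=
    LinearEquiv.ofInjectiveEndo (((C.f.flip d).smulRight b) - ((C.f.flip a).smulRight (r⁻¹ • e)))
      ((injective_iff_map_eq_zero _).2 fun c hc => by
        simp only [LinearMap.sub_apply, LinearMap.smulRight_apply, LinearMap.flip_apply] at hc
        have e1 := congrArg (fun x => C.f x e) hc
        have e2 := congrArg (fun x => C.f x b) hc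
        simp [faa h1, hbe, fsymm h1 e b, hr0] at e1 e2
        rw [dec_A h1 had c, e1, e2]; simp)
  have hσ' : ∀ c, σ' c = C.f c d • b - C.f c a • (r⁻¹ • e) := fun c => rfl
  have hσ'a : σ' a = b := by simp [hσ', faa h1, had]
  have hσ'd : σ' d = r⁻¹ • e := by simp [hσ', faa h1, fsymm h1 d a, had]
  have hσ'i : ∀ u v, C.f (σ' u) (σ' v) = r⁻¹ * C.f u v := fun u v => by
    conv_rhs => rw [dec_A h1 had u, dec_A h1 had v]
    simp [hσ', faa h1, had, hbe, fsymm h1 d a, fsymm h1 e b]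
    ring
  have hiso' : C.Iso (C.te σ' β) := fun x y =>
    LinearMap.congr_fun (LinearMap.congr_fun (C.ext_pure₂
      (L := (C.p.comp (C.te σ' β).toLinearMap).compl₂ (C.te σ' β).toLinearMap) (L' := C.p)
      fun u y' v z' => by
        simp [C.te_t, C.pol, hσ'i, hβ, hsim]
        field_simp) x) y
  have hteM : C.te σ' β ∈ M := hTen _ hiso' (TT.isTen_te _ _)
  set m := (C.te σ' β)⁻¹ * k with hm
  have hmM : m ∈ M := mul_mem (inv_mem hteM) hk
  let S₀ : (Fin 4 → F) →ₗ[F] (Fin 4 → F) := β.symm.toLinearMap.comp γ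
  have hma : ∀ y, m (C.t a y) = C.t a y := fun y => (C.te σ' β).injective (by
    show C.te σ' β ((C.te σ' β).symm (k (C.t a y))) = _
    rw [LinearEquiv.apply_symm_apply, C.te_t, hσ'a, hβ, hka])
  have hmd : ∀ y, m (C.t d y) = C.t d y + C.t a (S₀ y) := fun y => (C.te σ' β).injective (by
    show C.te σ' β ((C.te σ' β).symm (k (C.t d y))) = _
    rw [LinearEquiv.apply_symm_apply, map_add, C.te_t, C.te_t, hσ'a, hσ'd, hkd, hβ,
      show β (S₀ y) = γ y from β.apply_symm_apply _, map_smul, map_smul, LinearMap.smul_apply]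
    abel)
  set X : (ι → F) →ₗ[F] (ι → F) := m.toLinearMap - LinearMap.id
  have hXa : ∀ y, X (C.t a y) = 0 := fun y => by simp [X, hma]
  have hXx : ∀ x, X x = C.t a (S₀ (-C.prA a x)) := fun x => by
    conv_lhs => rw [dec_V h1 had x, map_add, hXa, zero_add]
    simp [X, hmd]
  have hXsk : C.Skew X := fun x y => by
    have h := hiso m hmM x y
    have hx : m x = x + X x := by simp [X]
    have hy : m y = y + X y := by simp [X]
    have h0 : C.p (X x) (X y) = 0 := by rw [hXx, hXx, C.pol, faa h1, zero_mul]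
    rw [hx, hy, map_add, map_add, LinearMap.add_apply, LinearMap.add_apply, h0, add_zero] at h
    linear_combination h
  obtain ⟨s, hs⟩ := hQ a ha X hXsk (fun x => ⟨_, (hXx x).symm⟩) hXa
    ⟨m, hmM, fun x => by simp [X]⟩
  have hS₀ : ∀ y, S₀ y = s • y := fun y => C.t_inj_left ha (by
    have h := LinearMap.congr_fun hs (C.t d y)
    simp [hXx, rt_apply h1, C.prA_t, fsymm h1 d a, had] at h
    simpa using h)
  obtain ⟨σ'', hσ''a, hσ''d, -⟩ := exists_move h1 (a := a) (d := d) (a' := a) (d' := d + s • a) had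
    (by simp [had, faa h1])
  refine ⟨σ''.trans σ', β, fun c y => ?_⟩
  have hkm : k (C.t c y) = C.te σ' β (m (C.t c y)) :=
    ((C.te σ' β).apply_symm_apply (k (C.t c y))).symm
  rw [hkm, LinearEquiv.trans_apply, ← C.te_t]
  congr 1
  conv_lhs => rw [dec_A h1 had c]
  conv_rhs => rw [dec_A h1 had c]
  simp [hma, hmd, hS₀, hσ''a, hσ''d, map_add, map_sub, map_smul]

end Main

/-- No root element outside the tensor part. -/
theorem qp_of_not_found {M : Subgroup ((ι → F) ≃ₗ[F] (ι → F))} (h1 : C.s₁ = -1) (h2 : C.s₂ = 1)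
    (hTen : ∀ m, C.Iso m → C.IsTen m → m ∈ M)
    (hF : ¬ C.Found M) : QP C M := by
  intro a ha X hsk hr hk hX
  obtain ⟨d, had⟩ := C.exists_dual ha
  set K : (Fin 4 → F) →ₗ[F] (Fin 4 → F) := (C.prA d).comp (X.comp (C.t d)) with hKdef
  have hXd : ∀ y, X (C.t d y) = C.t a (K y) := fun y => by
    obtain ⟨w, hw⟩ := hr (C.t d y)
    show _ = C.t a (C.prA d (X (C.t d y)))
    rw [← hw, C.prA_t, had, one_smul]
  have hXK : X = C.tm (C.sm a a) K := C.ext_pure fun c y => by
    conv_lhs => rw [dec_A h1 had c]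
    simp [hk, hXd, C.tm_t, TT.sm_apply, fsymm h1 a c]
  have hN0 : ∀ z, C.sm a a (C.sm a a z) = 0 := fun z => by simp [TT.sm_apply, faa h1]
  have hself : K ∈ C.selfB := fun y z => by
    show C.g (K y) z = C.g y (K z)
    have e1 := hsk (C.t d y) (C.t d z)
    rw [hXd, hXd, C.pol, C.pol, had, fsymm h1 d a, had] at e1
    linear_combination e1
  by_contra hne
  push Not at hne
  have hKne : ∀ s : F, K ≠ s • LinearMap.id := fun s hs => hne s (by
    rw [hXK, hs, C.tm_smul_right]; rfl)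
  obtain ⟨b, κ, hb, hbb, hκ, hm⟩ := TT.exists_sm_of_self (C := C.swap) h2 (by norm_num) (Or.inl le_rfl)
    (S := C.kset M (C.sm a a) hN0 C.selfB)
    (by
      intro u x hu hx K' hK'
      have hi : ∀ v w, C.g (C.swap.eA hu hx v) (C.swap.eA hu hx w) = C.g v w := C.swap.eA_iso hu hx
      have h0 : C.te (LinearEquiv.refl F _) (C.swap.eA hu hx) ∈ M :=
        te_mem h1 h2 hTen (fun _ _ => rfl) hi
      refine ⟨⟨TT.selfA_cjA (C := C.swap) hi hK'.1, ?_⟩,
        ⟨TT.selfA_cjA (C := C.swap) (TT.iso_symm_eA (C := C.swap) hu hx) hK'.1, ?_⟩⟩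
      · have := hK'.2.te h0
        rwa [TT.cj_te_tm, TT.cjA_refl] at this
      · have := hK'.2.te (σ := LinearEquiv.refl F _) (τ := (C.swap.eA hu hx).symm)
          (te_mem h1 h2 hTen (fun _ _ => rfl) (TT.iso_symm_eA (C := C.swap) hu hx))
        rwa [TT.cj_te_tm, TT.cjA_refl] at this)
    (fun K' hK' => hK'.1) (fun s => ⟨fun x y => by simp, by
      obtain ⟨m, hm, e⟩ := exists_root_elem h1 hTen (M := M) ha s
      exact ⟨m, hm, fun x => by rw [e, C.tm_smul_right]; rfl⟩⟩)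
    (K₀ := K) ⟨hself, hXK ▸ hX⟩ hKne
  exact hF (.symp a b κ ha hb hbb hκ h1 h2 (by rw [← C.tm_smul_right]; exact hm.2))

end Cfsg.Agent.TenForm.TwoFour
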