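import Cfsg.Agent.Lib.C4.TenTwoFourBase

/-!
# A four-space of Witt index one and a symplectic plane

* `Minus` : no totally singular plane in the right factor
* `top_of_aniso` : a subspace closed under non-orthogonal anisotropic vectors is everything
* `Uni` : the unipotent radical of the stabiliser of a singular point, its elements of index two
* `exists_isotropic_perp` : the perp of an anisotropic plane has a singular vector
* `exists_conj_pair` : conjugate skew operators of the symplectic plane with given anticommutator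
-/

set_option autoImplicit false
set_option linter.unusedSectionVars false
set_option linter.unusedSimpArgs false

namespace Cfsg.Agent.TenForm.TwoFour

open Module

variable {ι : Type} [Fintype ι] [DecidableEq ι] {F : Type*} [Field F] [Fintype F]
variable {C : TT ι F 2 4}

/-- No totally singular plane in the right factor. -/
def Minus (C : TT ι F 2 4) : Prop :=
  ∀ u v : Fin 4 → F, C.g u u = 0 → C.g v v = 0 → C.g u v = 0 → u ≠ 0 → v ∈ F ∙ u

/-- An isometry of the right factor fixing `i` and trivial on `i^⊥ / i`. -/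
structure Uni (C : TT ι F 2 4) (i : Fin 4 → F) (τ : (Fin 4 → F) ≃ₗ[F] (Fin 4 → F)) : Prop where
  iso : ∀ u v, C.g (τ u) (τ v) = C.g u v
  fix : τ i = i
  flag : ∀ v, C.g i v = 0 → τ v - v ∈ F ∙ i

/-- A pair `x ^ 2 - d y ^ 2 = w`. -/
theorem exists_norm (h2 : (2 : F) ≠ 0) {d : F} (hd : d ≠ 0) (w : F) :
    ∃ x y : F, x * x - d * (y * y) = w := by
  have hodd : Fintype.card F % 2 = 1 :=
    FiniteField.odd_card_of_char_ne_two fun h => h2 (by
      have := ringChar.charP F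
      rw [show (2 : F) = ((2 : ℕ) : F) from rfl]
      exact (CharP.cast_eq_zero_iff F (ringChar F) 2).2 (by rw [h]))
  obtain ⟨x, y, h⟩ := FiniteField.exists_root_sum_quadratic
    (f := (Polynomial.X ^ 2 : Polynomial F))
    (g := Polynomial.C (-d) * Polynomial.X ^ 2 + Polynomial.C (-w))
    (Polynomial.degree_X_pow 2) (by
      rw [Polynomial.degree_add_C (by rw [Polynomial.degree_C_mul_X_pow 2 (neg_ne_zero.2 hd)]; decide),
        Polynomial.degree_C_mul_X_pow 2 (neg_ne_zero.2 hd)]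
      rfl) hodd
  refine ⟨x, y, ?_⟩
  simp at h
  linear_combination h

section Right

variable (h2 : C.s₂ = 1) (hmin : Minus C)
include h2

theorem qA_apply (v : Fin 4 → F) : C.swap.qA v = C.g v v := rfl

theorem polar_g (x y : Fin 4 → F) : QuadraticMap.polar ⇑C.swap.qA x y = 2 * C.g x y :=
  TT.polar_qA (C := C.swap) h2 x y

include hmin

/-- A vector orthogonal to a singular `i` outside the line is anisotropic. -/
theorem aniso_of {i v : Fin 4 → F} (hi0 : i ≠ 0) (hi : C.g i i = 0) (hv : C.g i v = 0)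
    (hvi : v ∉ F ∙ i) : C.g v v ≠ 0 := fun h => hvi (hmin i v hi h hv hi0)

/-- No singular vector in the perp of a hyperbolic pair. -/
theorem zero_of_perp {i c v : Fin 4 → F} (hi : C.g i i = 0) (hic : C.g i c = 1)
    (hv : C.g v v = 0) (hiv : C.g i v = 0) (hcv : C.g c v = 0) : v = 0 := by
  have hi0 : i ≠ 0 := fun h => by rw [h] at hic; simp at hic
  obtain ⟨r, rfl⟩ := Submodule.mem_span_singleton.1 (hmin i v hi hv hiv hi0)
  rw [map_smul, gcomm h2 c i, hic, smul_eq_mul, mul_one] at hcv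
  rw [hcv, zero_smul]

/-- A subspace closed under non-orthogonal anisotropic vectors is everything. -/
theorem top_of_aniso (U : Submodule F (Fin 4 → F)) {e₀ : Fin 4 → F} (he₀U : e₀ ∈ U)
    (he₀ : C.g e₀ e₀ ≠ 0)
    (hcl : ∀ u ∈ U, ∀ e, C.g e e ≠ 0 → C.g e u ≠ 0 → e ∈ U) (v : Fin 4 → F) : v ∈ U := by
  -- a singular vector orthogonal to `e₀`
  set W : Submodule F (Fin 4 → F) := LinearMap.ker (C.g e₀)
  have hW : ∀ x ∈ W, x ≠ 0 → ∃ y ∈ W, QuadraticMap.polar ⇑C.swap.qA x y ≠ 0 := fun x hx hx0 => by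
    obtain ⟨d, hd'⟩ := C.swap.exists_dual hx0
    have hd : C.g x d = 1 := hd'
    have hx' : C.g e₀ x = 0 := hx
    refine ⟨d - (C.g e₀ d / C.g e₀ e₀) • e₀, ?_, ?_⟩
    · show C.g e₀ _ = 0
      simp [he₀]
    · rw [polar_g h2]
      simp [hd, gcomm h2 x e₀, hx', C.two]
  have hdim : 3 ≤ finrank F W := by
    have := (C.g e₀).finrank_range_add_finrank_ker
    have h1 := Submodule.finrank_le (LinearMap.range (C.g e₀))
    rw [Module.finrank_fin_fun] at this
    rw [Module.finrank_self] at h1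
    show 3 ≤ finrank F (LinearMap.ker (C.g e₀))
    omega
  obtain ⟨i, hiW, hi0, hi⟩ : ∃ i ∈ W, i ≠ 0 ∧ C.g i i = 0 := by
    obtain ⟨u, huW, hu⟩ := Orth.exists_Q_eq_in (Q := C.swap.qA) W hW (by omega) 1
    have hu1 : C.g u u = 1 := hu
    have hu' : C.g e₀ u = 0 := huW
    set W' : Submodule F (Fin 4 → F) := W ⊓ LinearMap.ker (C.g u)
    have hW' : ∀ x ∈ W', x ≠ 0 → ∃ y ∈ W', QuadraticMap.polar ⇑C.swap.qA x y ≠ 0 := fun x hx hx0 => by
      obtain ⟨y, hy, hxy⟩ := hW x hx.1 hx0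
      have hxu : C.g u x = 0 := hx.2
      refine ⟨y - C.g u y • u, ⟨W.sub_mem hy (W.smul_mem _ huW), ?_⟩, ?_⟩
      · show C.g u _ = 0
        simp [hu1]
      · rw [polar_g h2] at hxy ⊢
        simpa [gcomm h2 x u, hxu] using hxy
    have hdim' : 2 ≤ finrank F W' := by
      have := ((C.g u).comp W.subtype).finrank_range_add_finrank_ker
      have h1 := Submodule.finrank_le (LinearMap.range ((C.g u).comp W.subtype))
      rw [Module.finrank_self] at h1
      have h3 : finrank F (LinearMap.ker ((C.g u).comp W.subtype)) = finrank F W' := by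
        rw [LinearMap.ker_comp, (Submodule.equivMapOfInjective W.subtype W.injective_subtype _).finrank_eq,
          Submodule.map_comap_subtype]
      omega
    obtain ⟨w, hw, hwq⟩ := Orth.exists_Q_eq_in (Q := C.swap.qA) W' hW' hdim' (-1)
    have hw1 : C.g w w = -1 := hwq
    have hw2 : C.g u w = 0 := hw.2
    refine ⟨u + w, W.add_mem huW hw.1, fun h => ?_, by simp [hu1, hw1, hw2, gcomm h2 w u]⟩
    have := congrArg (C.g u) h
    simp [hu1, hw2] at this
  have hei : C.g e₀ i = 0 := hiW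
  -- it is in `U`
  have hiU : i ∈ U := by
    have h := hcl e₀ he₀U (e₀ + i) (by simp [hi, hei, gcomm h2 i e₀, he₀])
      (by simp [gcomm h2 i e₀, hei, he₀])
    simpa using U.sub_mem h he₀U
  have key : ∀ v, C.g v i ≠ 0 → v ∈ U := fun v hv => by
    have h22 := C.two
    set l := (1 - C.g v v) / (2 * C.g v i)
    have h := hcl i hiU (v + l • i) (by
      have : C.g (v + l • i) (v + l • i) = 1 := by
        simp [hi, gcomm h2 i v, l]
        field_simp
        ring
      rw [this]; exact one_ne_zero) (by simp [hi, hv])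
    simpa using U.sub_mem h (U.smul_mem l hiU)
  obtain ⟨c, hc'⟩ := C.swap.exists_dual hi0
  have hc : C.g c i ≠ 0 := by rw [gcomm h2 c i, show C.g i c = 1 from hc']; exact one_ne_zero
  by_cases hv : C.g v i = 0
  · have := key (v + c) (by simpa [hv] using hc)
    simpa using U.sub_mem this (key c hc)
  · exact key v hv

/-- An element of the radical of index two is the identity. -/
theorem Uni.eq_one_of_sq {i c : Fin 4 → F} (hi : C.g i i = 0) (hc : C.g c c = 0) (hic : C.g i c = 1)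
    {τ : (Fin 4 → F) ≃ₗ[F] (Fin 4 → F)} (hτ : Uni C i τ)
    (hsq : ∀ v, τ (τ v) - (τ v + τ v) + v = 0) : τ = 1 := by
  have hi0 : i ≠ 0 := fun h => by rw [h] at hic; simp at hic
  set x := τ c - c with hx
  have hτx : τ x = x := by
    rw [hx, map_sub]
    linear_combination (norm := module) hsq c
  have hxx : C.g x x = 0 := by
    have h := hτ.iso c x
    rw [hτx, show τ c = x + c by rw [hx, sub_add_cancel], map_add, LinearMap.add_apply] at h
    linear_combination h
  have hix : C.g i x = 0 := by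
    have h := hτ.iso i c
    rw [hτ.fix] at h
    rw [hx, map_sub, h, sub_self]
  obtain ⟨l, hl⟩ := Submodule.mem_span_singleton.1 (hmin i x hi hxx hix hi0)
  have hτc : τ c = c + l • i := by rw [hl, hx, add_sub_cancel]
  have hl0 : l = 0 := by
    have h := hτ.iso c c
    simp [hτc, hc, hic, hi, gcomm h2 c i] at h
    exact (mul_eq_zero.1 (show (2 : F) * l = 0 by linear_combination h)).resolve_left C.two
  rw [hl0, zero_smul, add_zero] at hτc
  have hperp : ∀ v, C.g i v = 0 → τ v = v := fun v hv => by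
    obtain ⟨r, hr⟩ := Submodule.mem_span_singleton.1 (hτ.flag v hv)
    have h := hτ.iso v c
    rw [hτc, show τ v = r • i + v by rw [hr, sub_add_cancel], map_add, LinearMap.add_apply, map_smul,
      LinearMap.smul_apply, hic, smul_eq_mul, mul_one] at h
    rw [← sub_eq_zero, ← hr, show r = 0 by linear_combination h, zero_smul]
  refine LinearEquiv.ext fun v => ?_
  rw [LinearEquiv.coe_one, id_eq]
  have h := hperp (v - C.g i v • c) (by simp [hic])
  rw [map_sub, map_smul, hτc] at h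
  exact sub_left_inj.1 h

/-- A unipotent isometry fixing a hyperbolic pair is the identity. -/
theorem eq_one_of_nil {i c : Fin 4 → F} (hi : C.g i i = 0) (hic : C.g i c = 1)
    {τ : (Fin 4 → F) ≃ₗ[F] (Fin 4 → F)} (hiso : ∀ u v, C.g (τ u) (τ v) = C.g u v)
    (hfi : τ i = i) (hfc : τ c = c) (hnil : IsNilpotent (τ.toLinearMap - 1)) : τ = 1 := by
  by_contra hne
  obtain ⟨k, hk⟩ := hnil
  set D : Module.End F (Fin 4 → F) := τ.toLinearMap - 1
  have hD : ∀ v, D v = τ v - v := fun v => rfl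
  -- a vector in the image killed by `D`
  obtain ⟨x, hx, hxx⟩ : ∃ x, D x ≠ 0 ∧ D (D x) = 0 := by
    by_contra! hall
    have hD0 : ∃ x, D x ≠ 0 := by
      by_contra! h0
      exact hne (LinearEquiv.ext fun v => sub_eq_zero.1 ((hD v).symm.trans (h0 v)))
    obtain ⟨x, hx⟩ := hD0
    have : ∀ n, (D ^ n) (D x) ≠ 0 := fun n => by
      induction n generalizing x with
      | zero => simpa using hx
      | succ n ih => rw [pow_succ, Module.End.mul_apply]; exact ih (D x) (hall x hx)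
    exact this k (by rw [hk, LinearMap.zero_apply])
  have h0 : C.g (D x) (D x) = 0 := by
    have h := hiso x (D x)
    rw [show τ (D x) = D x from sub_eq_zero.1 ((hD _).symm.trans hxx),
      show τ x = D x + x by rw [hD, sub_add_cancel], map_add, LinearMap.add_apply] at h
    linear_combination h
  refine hx (zero_of_perp h2 hmin hi hic h0 ?_ ?_)
  · have h := hiso i x
    rw [hfi] at h
    rw [hD, map_sub, h, sub_self]
  · have h := hiso c x
    rw [hfc] at h
    rw [hD, map_sub, h, sub_self]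

/-- The perp of an anisotropic plane contains a singular vector. -/
theorem exists_isotropic_perp {y₁ y₂ : Fin 4 → F} (hy₁ : C.g y₁ y₁ ≠ 0) (hy₁₂ : C.g y₁ y₂ = 0)
    (hy₂ : C.g y₂ y₂ ≠ 0) (han : ∀ a b : F, C.g (a • y₁ + b • y₂) (a • y₁ + b • y₂) = 0 → a = 0 ∧ b = 0) :
    ∃ i, i ≠ 0 ∧ C.g i i = 0 ∧ C.g y₁ i = 0 ∧ C.g y₂ i = 0 := by
  classical
  by_contra! hall
  set Z : Submodule F (Fin 4 → F) := LinearMap.ker (C.g y₁) ⊓ LinearMap.ker (C.g y₂)
  have hZan : ∀ z ∈ Z, z ≠ 0 → C.g z z ≠ 0 := fun z hz hz0 h => hall z hz0 h hz.1 hz.2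
  have hnd : ∀ x ∈ Z, x ≠ 0 → ∃ y ∈ Z, QuadraticMap.polar ⇑C.swap.qA x y ≠ 0 := fun x hx hx0 =>
    ⟨x, hx, by rw [polar_g h2]; exact mul_ne_zero C.two (hZan x hx hx0)⟩
  have hdim : 2 ≤ finrank F Z := by
    have := ((C.g y₁).prod (C.g y₂)).finrank_range_add_finrank_ker
    have h1 := Submodule.finrank_le (LinearMap.range ((C.g y₁).prod (C.g y₂)))
    rw [Module.finrank_fin_fun] at this
    rw [Module.finrank_prod, Module.finrank_self] at h1
    rw [LinearMap.ker_prod] at this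
    show 2 ≤ finrank F ↥(LinearMap.ker (C.g y₁) ⊓ LinearMap.ker (C.g y₂))
    omega
  obtain ⟨z₁, hz₁, hz₁q⟩ := Orth.exists_Q_eq_in (Q := C.swap.qA) Z hnd hdim (-C.g y₁ y₁)
  have hz₁n : C.g z₁ z₁ = -C.g y₁ y₁ := hz₁q
  obtain ⟨hz₁a, hz₁b⟩ : C.g y₁ z₁ = 0 ∧ C.g y₂ z₁ = 0 := ⟨hz₁.1, hz₁.2⟩
  obtain ⟨z₂, hz₂, hz₂0, hz₁₂⟩ : ∃ z₂ ∈ Z, z₂ ≠ 0 ∧ C.g z₁ z₂ = 0 := by
    have := ((C.g z₁).comp Z.subtype).finrank_range_add_finrank_ker
    have h1 := Submodule.finrank_le (LinearMap.range ((C.g z₁).comp Z.subtype))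
    rw [Module.finrank_self] at h1
    obtain ⟨z, hz, hz0⟩ := Submodule.exists_mem_ne_zero_of_ne_bot
      (p := LinearMap.ker ((C.g z₁).comp Z.subtype)) fun h => by rw [h, finrank_bot] at this; omega
    exact ⟨z.1, z.2, fun h => hz0 (Subtype.ext h), hz⟩
  obtain ⟨hz₂a, hz₂b⟩ : C.g y₁ z₂ = 0 ∧ C.g y₂ z₂ = 0 := ⟨hz₂.1, hz₂.2⟩
  have hp2 : C.g z₂ z₂ ≠ 0 := hZan z₂ hz₂ hz₂0
  -- the three ratios
  have nY : ¬ IsSquare (-(C.g y₂ y₂ / C.g y₁ y₁)) := fun ⟨r, hr⟩ => by
    have := (han r 1 (by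
      simp [hy₁₂, gcomm h2 y₂ y₁]
      field_simp at hr
      linear_combination -hr)).2
    exact one_ne_zero this
  have nZ : ¬ IsSquare (C.g z₂ z₂ / C.g y₁ y₁) := fun ⟨r, hr⟩ => by
    refine hZan (r • z₁ + z₂) (Z.add_mem (Z.smul_mem r hz₁) hz₂) (fun h => ?_) ?_
    · have := congrArg (C.g z₂) h
      simp [gcomm h2 z₂ z₁, hz₁₂, hp2] at this
    · simp [hz₁₂, gcomm h2 z₂ z₁, hz₁n]
      field_simp at hr
      linear_combination hr
  have nM : ¬ IsSquare (-(C.g z₂ z₂) / C.g y₂ y₂) := fun ⟨r, hr⟩ => by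
    have e1 : C.g (y₁ + z₁) (y₁ + z₁) = 0 := by simp [hz₁a, gcomm h2 z₁ y₁, hz₁n]
    have e2 : C.g (r • y₂ + z₂) (r • y₂ + z₂) = 0 := by
      simp [hz₂b, gcomm h2 z₂ y₂]
      field_simp at hr
      linear_combination -hr
    have e3 : C.g (y₁ + z₁) (r • y₂ + z₂) = 0 := by
      simp [hy₁₂, hz₂a, gcomm h2 z₁ y₂, hz₁b, hz₁₂]
    obtain ⟨s, hs⟩ := Submodule.mem_span_singleton.1 (hmin _ _ e1 e2 e3 fun h => by
      have := congrArg (C.g y₁) h
      simp [hz₁a, hy₁] at this)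
    have := congrArg (C.g z₂) hs
    simp [gcomm h2 z₂ y₁, hz₂a, gcomm h2 z₂ z₁, hz₁₂, gcomm h2 z₂ y₂, hz₂b] at this
    exact hp2 this.symm
  have m1 := quadraticChar_neg_one_iff_not_isSquare.2 nY
  have m2 := quadraticChar_neg_one_iff_not_isSquare.2 nZ
  have m3 := quadraticChar_neg_one_iff_not_isSquare.2 nM
  have e : -(C.g y₂ y₂ / C.g y₁ y₁) * (-(C.g z₂ z₂) / C.g y₂ y₂) = C.g z₂ z₂ / C.g y₁ y₁ := by
    field_simp
  rw [← e, map_mul, m1, m3] at m2
  norm_num at m2

end Right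

section Left

variable (h1 : C.s₁ = -1)
include h1

/-- The two square of a skew operator. -/
theorem sq_skew {P : (Fin 2 → F) →ₗ[F] (Fin 2 → F)} (hP : C.SkewA P) :
    ∃ d : F, ∀ v, P (P v) = d • v := by
  obtain ⟨a, ha⟩ : ∃ a : Fin 2 → F, a ≠ 0 := ⟨Pi.single 0 1, by simp⟩
  obtain ⟨b, hb⟩ := C.exists_dual ha
  have e1 := dec_A h1 hb (P a)
  have e2 := dec_A h1 hb (P b)
  set x := C.f (P a) b
  set y := C.f (P a) a
  set u := C.f (P b) b
  have hw : C.f (P b) a = x := by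
    rw [hP b a, fsymm h1 b (P a), neg_neg]
  rw [hw] at e2
  refine ⟨x * x - y * u, fun v => ?_⟩
  have ea : P (P a) = (x * x - y * u) • a := by
    conv_lhs => rw [e1, map_sub, map_smul, map_smul, e2, e1]
    module
  have eb : P (P b) = (x * x - y * u) • b := by
    conv_lhs => rw [e2, map_sub, map_smul, map_smul, e1, e2]
    module
  conv_lhs => rw [dec_A h1 hb v]
  conv_rhs => rw [dec_A h1 hb v]
  simp only [map_sub, map_smul, ea, eb]
  module

/-- A vector not fixed up to scalars. -/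
theorem exists_moved {P : (Fin 2 → F) →ₗ[F] (Fin 2 → F)} (hP : C.SkewA P) {d : F}
    (hd : ∀ v, P (P v) = d • v) (hd0 : d ≠ 0) : ∃ v, C.f v (P v) ≠ 0 := by
  by_contra! hall
  obtain ⟨r, hr⟩ := C4.scalar_of_lines P fun u => by
    by_cases hu : u = 0
    · rw [hu, map_zero]; exact Submodule.zero_mem _
    obtain ⟨b, hb⟩ := C.exists_dual hu
    rw [dec_A h1 hb (P u), fsymm h1 (P u) u, hall u, neg_zero, zero_smul, sub_zero]
    exact Submodule.smul_mem _ _ (Submodule.mem_span_singleton_self u)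
  obtain ⟨a, ha⟩ : ∃ a : Fin 2 → F, a ≠ 0 := ⟨Pi.single 0 1, by simp⟩
  obtain ⟨b, hb⟩ := C.exists_dual ha
  have e := hP a b
  have hd' := hd a
  simp [hr, hb] at e hd'
  have hr0 : r = 0 :=
    (mul_eq_zero.1 (show (2 : F) * r = 0 by linear_combination e)).resolve_left C.two
  simp [hr0] at hd'
  exact hd0 ((smul_eq_zero.1 hd'.symm).resolve_right ha)

/-- A conjugate skew operator with given anticommutator. -/
theorem exists_conj_pair {P : (Fin 2 → F) →ₗ[F] (Fin 2 → F)} (hP : C.SkewA P) {d : F}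
    (hd : ∀ v, P (P v) = d • v) (hd0 : d ≠ 0) (β : F) :
    ∃ (P' : (Fin 2 → F) →ₗ[F] (Fin 2 → F)) (σ : (Fin 2 → F) ≃ₗ[F] (Fin 2 → F)),
      C.SkewA P' ∧ (∀ v, P' (P' v) = d • v) ∧ (∀ u v, C.f (σ u) (σ v) = C.f u v) ∧
      (∀ v, σ (P v) = P' (σ v)) ∧ ∀ v, P (P' v) + P' (P v) = (2 * β) • v := by
  obtain ⟨v₀, hφ⟩ := exists_moved h1 hP hd hd0
  set φ := C.f v₀ (P v₀) with hφdef
  set w₀ := P v₀ with hw₀
  have hb : C.f v₀ (φ⁻¹ • w₀) = 1 := by rw [map_smul, smul_eq_mul, ← hφdef, inv_mul_cancel₀ hφ]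
  obtain ⟨u, hu⟩ : ∃ u, u = β / d := ⟨_, rfl⟩
  obtain ⟨x, y, hxy⟩ := exists_norm C.two hd0 (d - u * u * d)
  let G : (Fin 2 → F) →ₗ[F] (Fin 2 → F) :=
    (φ⁻¹ • C.f.flip w₀).smulRight (x • v₀ + y • w₀) + (φ⁻¹ • C.f v₀).smulRight (-(y * d) • v₀ - x • w₀)
  have hG : ∀ s, G s = (φ⁻¹ * C.f s w₀) • (x • v₀ + y • w₀) +
      (φ⁻¹ * C.f v₀ s) • (-(y * d) • v₀ - x • w₀) := fun s => rfl
  have hwv : C.f w₀ v₀ = -φ := by rw [fsymm h1, ← hφdef]
  have hGv : G v₀ = x • v₀ + y • w₀ := by simp [hG, faa h1, ← hφdef, hφ]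
  have hGw : G w₀ = -(y * d) • v₀ - x • w₀ := by simp [hG, faa h1, ← hφdef, hφ]
  have hPw : P w₀ = d • v₀ := hd v₀
  have key : ∀ {T T' : (Fin 2 → F) →ₗ[F] (Fin 2 → F)}, T v₀ = T' v₀ → T w₀ = T' w₀ → T = T' :=
    fun {T T'} e1 e2 => LinearMap.ext fun s => by
      rw [dec_A h1 hb s]
      simp only [map_sub, map_smul, e1, e2]
  set P' := u • P + G
  have hP'v : P' v₀ = x • v₀ + (u + y) • w₀ := by
    show u • P v₀ + G v₀ = _
    rw [hGv, ← hw₀]; module
  have hP'w : P' w₀ = (u * d - y * d) • v₀ - x • w₀ := by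
    show u • P w₀ + G w₀ = _
    rw [hGw, hPw]; module
  have hP's : C.SkewA P' := fun s s' => by
    show C.f (u • P s + G s) s' = -C.f s (u • P s' + G s')
    simp [hP s s', hG]
    rw [fsymm h1 w₀ s', fsymm h1 v₀ s', fsymm h1 s v₀]
    ring
  have hP'sq : ∀ v, P' (P' v) = d • v := by
    refine fun v => LinearMap.congr_fun (key (T := P'.comp P') (T' := d • LinearMap.id) ?_ ?_) v <;>
      simp only [LinearMap.comp_apply, LinearMap.smul_apply, LinearMap.id_apply, hP'v, hP'w, map_add,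
        map_sub, map_smul] <;> match_scalars <;> first | linear_combination hxy | linear_combination -hxy | ring
  have hanti : ∀ v, P (P' v) + P' (P v) = (2 * β) • v := by
    refine fun v => LinearMap.congr_fun
      (key (T := P.comp P' + P'.comp P) (T' := (2 * β) • LinearMap.id) ?_ ?_) v <;>
      simp [hP'v, hP'w, hPw, ← hw₀, hu] <;> match_scalars <;> field_simp <;> ring
  -- the conjugating map
  obtain ⟨v₁, hφ₁⟩ := exists_moved h1 hP's hP'sq hd0
  obtain ⟨a, b, hab⟩ := exists_norm C.two hd0 (φ / C.f v₁ (P' v₁))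
  set v₂ := a • v₁ + b • P' v₁
  have hb' : C.f v₂ (φ⁻¹ • P' v₂) = 1 := by
    simp [v₂, hP'sq, faa h1, fsymm h1 (P' v₁) v₁]
    field_simp at hab ⊢
    linear_combination hab
  obtain ⟨σ, hσ1, hσ2, hσ⟩ := exists_move h1 hb hb'
  rw [map_smul] at hσ2
  have hσw : σ w₀ = P' v₂ := smul_right_injective _ (inv_ne_zero hφ) hσ2
  refine ⟨P', σ, hP's, hP'sq, hσ, fun v => LinearMap.congr_fun
    (key (T := σ.toLinearMap.comp P) (T' := P'.comp σ.toLinearMap) ?_ ?_) v, hanti⟩
  · show σ (P v₀) = P' (σ v₀)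
    rw [← hw₀, hσw, hσ1]
  · show σ (P w₀) = P' (σ w₀)
    rw [hPw, map_smul, hσ1, hσw, hP'sq]

end Left

end Cfsg.Agent.TenForm.TwoFour
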