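import Cfsg.Agent.Lib.C4.TenTwoFourGeo

/-!
# A Sylow subgroup of an overgroup of `Sp_2 ⊗ O_4^-`

`S a i` is the product of the root group of the ruling of `a` and the Eichler group of the singular
point `i`. If an overgroup meets the radicals of ruling stabilisers in root groups only, it is a
Sylow subgroup of the overgroup, and so elements stabilising `A ⊗ i` are tensor products.

* `le_syl` : `S` is maximal among the `p`-subgroups
* `exists_conj_quad` : quadratic unipotent elements are conjugates of root elements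
* `isTen_of_fix_point` : an element fixing `A ⊗ i` is a tensor product
-/

set_option autoImplicit false
set_option linter.unusedSectionVars false
set_option linter.unusedSimpArgs false

namespace Cfsg.Agent.TenForm.TwoFour

open Module

variable {ι : Type} [Fintype ι] [DecidableEq ι] {F : Type*} [Field F] [Fintype F]
variable {C : TT ι F 2 4}

/-! ### powers -/

theorem toEnd_pow {V : Type*} [AddCommGroup V] [Module F V] (m : V ≃ₗ[F] V) (n : ℕ) :
    (m ^ n).toLinearMap = (m.toLinearMap : Module.End F V) ^ n := by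
  induction n with
  | zero => exact LinearMap.ext fun x => rfl
  | succ n ih => rw [pow_succ, pow_succ, ← ih]; exact LinearMap.ext fun x => rfl

theorem sub_one_pow {V : Type*} [AddCommGroup V] [Module F V] [Nontrivial V] {p : ℕ} [Fact p.Prime]
    [CharP F p] (m : V ≃ₗ[F] V) (k : ℕ) :
    ((m.toLinearMap : Module.End F V) - 1) ^ p ^ k = (m ^ p ^ k).toLinearMap - 1 := by
  have : CharP (Module.End F V) p :=
    charP_of_injective_algebraMap (algebraMap F (Module.End F V)).injective p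
  have : ExpChar (Module.End F V) p := ExpChar.prime Fact.out
  rw [sub_pow_expChar_pow_of_commute p k (Commute.one_right _), one_pow, toEnd_pow]

/-- A unipotent element of index at most three has order dividing `p`. -/
theorem pow_p_eq_one {V : Type*} [AddCommGroup V] [Module F V] [Nontrivial V] {p : ℕ} [Fact p.Prime]
    [CharP F p] (h3 : 3 ≤ p) (m : V ≃ₗ[F] V)
    (h : ∀ x, m (m (m x) - m x) - (m (m x) - m x) - (m (m x - x) - (m x - x)) = 0) : m ^ p = 1 := by
  have h0 : ((m.toLinearMap : Module.End F V) - 1) ^ 3 = 0 := LinearMap.ext fun x => by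
    simp only [pow_succ, pow_zero, one_mul, Module.End.mul_apply, LinearMap.sub_apply,
      Module.End.one_apply, LinearEquiv.coe_coe, map_sub, LinearMap.zero_apply]
    simp only [map_sub] at h
    linear_combination (norm := module) h x
  have h1 := sub_one_pow (p := p) m 1
  rw [pow_one, pow_eq_zero_of_le h3 h0, eq_comm, sub_eq_zero] at h1
  exact LinearEquiv.toLinearMap_injective h1

theorem te_one : C.te 1 1 = (1 : (ι → F) ≃ₗ[F] (ι → F)) := (C.eq_te fun _ _ => rfl).symm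

theorem te_pow (σ : (Fin 2 → F) ≃ₗ[F] (Fin 2 → F)) (τ : (Fin 4 → F) ≃ₗ[F] (Fin 4 → F)) (n : ℕ) :
    C.te σ τ ^ n = C.te (σ ^ n) (τ ^ n) := by
  induction n with
  | zero => rw [pow_zero, pow_zero, pow_zero, te_one]
  | succ n ih => rw [pow_succ, ih, TT.te_mul, ← pow_succ, ← pow_succ]

/-- The quadratic elements. -/
def Quad (x : (ι → F) ≃ₗ[F] (ι → F)) : Prop := ∀ y, x (x y) - (x y + x y) + y = 0

theorem Quad.conj {x : (ι → F) ≃ₗ[F] (ι → F)} (h : Quad x) (g : (ι → F) ≃ₗ[F] (ι → F)) :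
    Quad (g * x * g⁻¹) := fun y => by
  obtain ⟨y, rfl⟩ := g.surjective y
  have hg : ∀ z, g⁻¹ (g z) = z := g.symm_apply_apply
  simp only [LinearEquiv.mul_apply, hg]
  rw [← map_add, ← map_sub, ← map_add, h, map_zero]

theorem Quad.pow_p {p : ℕ} [Fact p.Prime] [CharP F p] (h3 : 3 ≤ p) [Nontrivial (ι → F)]
    {x : (ι → F) ≃ₗ[F] (ι → F)} (h : Quad x) : x ^ p = 1 := by
  refine pow_p_eq_one h3 x fun y => ?_
  have h1 := h (x y)
  have h2 := h y
  simp only [map_sub]
  linear_combination (norm := module) h1 - h2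

/-- The tensor elements of an overgroup. -/
def tenSub (C : TT ι F 2 4) (M : Subgroup ((ι → F) ≃ₗ[F] (ι → F))) :
    Subgroup ((ι → F) ≃ₗ[F] (ι → F)) where
  carrier := {m | m ∈ M ∧ C.IsTen m}
  one_mem' := ⟨M.one_mem, 1, 1, fun _ _ => rfl⟩
  mul_mem' := fun {m m'} ⟨hm, σ, τ, h⟩ ⟨hm', σ', τ', h'⟩ =>
    ⟨M.mul_mem hm hm', σ * σ', τ * τ', fun a z => by rw [LinearEquiv.mul_apply, h', h]; rfl⟩
  inv_mem' := fun {m} ⟨hm, σ, τ, h⟩ => ⟨M.inv_mem hm, σ⁻¹, τ⁻¹, fun a z => m.injective (by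
    show m (m.symm _) = m (C.t (σ.symm a) (τ.symm z))
    rw [m.apply_symm_apply, h, σ.apply_symm_apply, τ.apply_symm_apply])⟩

section Pieces

variable (h1 : C.s₁ = -1) (h2 : C.s₂ = 1)

include h1 in
theorem te_tv_apply (a : Fin 2 → F) (e : F) (x : ι → F) :
    C.te (tv h1 a e) 1 x = x + e • rt C a x :=
  LinearMap.congr_fun (C.ext_pure (L := (C.te (tv h1 a e) (1 : (Fin 4 → F) ≃ₗ[F] (Fin 4 → F))).toLinearMap)
    (L' := LinearMap.id + e • rt C a) fun c y => by
      simp [C.te_t, tv_apply, rt, C.tm_t, TT.sm_apply, smul_smul]) x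

include h1 in
theorem rt_sq (a : Fin 2 → F) (x : ι → F) : rt C a (rt C a x) = 0 := by
  rw [rt_apply h1 x, rt_apply h1, C.prA_t, faa h1, zero_smul, neg_zero, map_zero]

include h1 in
theorem quad_tv (a : Fin 2 → F) (e : F) : Quad (C.te (tv h1 a e) 1) := fun x => by
  rw [te_tv_apply h1, te_tv_apply h1, map_add, map_smul, rt_sq h1, smul_zero, add_zero]
  module

include h2

/-- The Eichler element of `i` and `z`. -/
theorem eichler {i z : Fin 4 → F} (hi : C.g i i = 0) (hz : C.g i z = 0) :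
    ∃ E : (Fin 4 → F) ≃ₗ[F] (Fin 4 → F), Uni C i E ∧
      ∀ v, E v = v + C.g z v • i - C.g i v • z - (C.g z z / 2 * C.g i v) • i := by
  have hf : ∀ v, C.swap.eA hi hz v = v + C.g z v • i - C.g i v • z - (C.g z z / 2 * C.g i v) • i := fun v => by
    rw [C.swap.eA_apply hi hz, C.swap.Dop_sq hi hz, TT.Dop_apply]
    show v + (C.g z v • i - (C.s₂ * C.g i v) • z) + (2 : F)⁻¹ • ((-C.s₂ * C.g i v * C.g z z) • i) = _
    rw [h2]
    match_scalars <;> ring
  refine ⟨_, ⟨C.swap.eA_iso hi hz, ?_, fun v hv => ?_⟩, hf⟩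
  · rw [hf, hi, gcomm h2 z i, hz]; simp
  · rw [hf, hv]
    exact Submodule.mem_span_singleton.2 ⟨C.g z v, by simp⟩

/-- The action of an Eichler element. -/
theorem te_eichler_apply {i z : Fin 4 → F} {E : (Fin 4 → F) ≃ₗ[F] (Fin 4 → F)}
    (hE : ∀ v, E v = v + C.g z v • i - C.g i v • z - (C.g z z / 2 * C.g i v) • i) (x : ι → F) :
    C.te 1 E x = x + C.t (C.prB z x) i - C.t (C.prB i x) z - (C.g z z / 2) • C.t (C.prB i x) i :=
  LinearMap.congr_fun (C.ext_pure (L := (C.te (1 : (Fin 2 → F) ≃ₗ[F] (Fin 2 → F)) E).toLinearMap)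
    (L' := LinearMap.id + (C.t.flip i).comp (C.prB z) - (C.t.flip z).comp (C.prB i)
      - (C.g z z / 2) • (C.t.flip i).comp (C.prB i)) fun b v => by
    simp [C.te_t, hE, C.prB_t, gcomm h2 v z, gcomm h2 v i, smul_smul]) x

/-- The square of the displacement of an Eichler element. -/
theorem te_eichler_sq {i z : Fin 4 → F} {E : (Fin 4 → F) ≃ₗ[F] (Fin 4 → F)} (hi : C.g i i = 0)
    (hz : C.g i z = 0)
    (hE : ∀ v, E v = v + C.g z v • i - C.g i v • z - (C.g z z / 2 * C.g i v) • i) (x : ι → F) :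
    C.te 1 E (C.te 1 E x) - (C.te 1 E x + C.te 1 E x) + x = -C.g z z • C.t (C.prB i x) i :=
  LinearMap.congr_fun (C.ext_pure
    (L := (C.te (1 : (Fin 2 → F) ≃ₗ[F] (Fin 2 → F)) E).toLinearMap.comp
        (C.te (1 : (Fin 2 → F) ≃ₗ[F] (Fin 2 → F)) E).toLinearMap
      - ((C.te (1 : (Fin 2 → F) ≃ₗ[F] (Fin 2 → F)) E).toLinearMap
        + (C.te (1 : (Fin 2 → F) ≃ₗ[F] (Fin 2 → F)) E).toLinearMap) + LinearMap.id)
    (L' := -C.g z z • (C.t.flip i).comp (C.prB i)) fun b v => by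
    have h22 := C.two
    simp [C.te_t, hE, C.prB_t, gcomm h2 v i, gcomm h2 z i, hi, hz, smul_smul, map_add, map_sub]
    match_scalars <;> field_simp <;> ring) x

theorem Uni.g_fix {i : Fin 4 → F} {τ : (Fin 4 → F) ≃ₗ[F] (Fin 4 → F)} (hτ : Uni C i τ)
    (v : Fin 4 → F) : C.g i (τ v - v) = 0 := by
  have h := hτ.iso i v
  rw [hτ.fix] at h
  rw [map_sub, h, sub_self]

theorem Uni.one (i : Fin 4 → F) : Uni C i 1 :=
  ⟨fun _ _ => rfl, rfl, fun v _ => by simp⟩

theorem Uni.mul {i : Fin 4 → F} {τ τ' : (Fin 4 → F) ≃ₗ[F] (Fin 4 → F)} (hτ : Uni C i τ)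
    (hτ' : Uni C i τ') : Uni C i (τ * τ') where
  iso u v := by rw [LinearEquiv.mul_apply, LinearEquiv.mul_apply, hτ.iso, hτ'.iso]
  fix := by rw [LinearEquiv.mul_apply, hτ'.fix, hτ.fix]
  flag v hv := by
    obtain ⟨r, hr⟩ := Submodule.mem_span_singleton.1 (hτ'.flag v hv)
    obtain ⟨r', hr'⟩ := Submodule.mem_span_singleton.1 (hτ.flag v hv)
    refine Submodule.mem_span_singleton.2 ⟨r + r', ?_⟩
    rw [LinearEquiv.mul_apply, show τ' v = r • i + v by rw [hr, sub_add_cancel], map_add, map_smul,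
      hτ.fix]
    linear_combination (norm := module) hr'

theorem Uni.inv {i : Fin 4 → F} {τ : (Fin 4 → F) ≃ₗ[F] (Fin 4 → F)} (hτ : Uni C i τ) :
    Uni C i τ⁻¹ where
  iso u v := by
    conv_rhs => rw [← τ.apply_symm_apply u, ← τ.apply_symm_apply v, hτ.iso]
    rfl
  fix := τ.injective (by rw [show τ (τ⁻¹ i) = i from τ.apply_symm_apply i, hτ.fix])
  flag v hv := by
    obtain ⟨r, hr⟩ := Submodule.mem_span_singleton.1 (hτ.flag v hv)
    refine Submodule.mem_span_singleton.2 ⟨-r, τ.injective ?_⟩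
    rw [map_sub, map_smul, hτ.fix, show τ (τ⁻¹ v) = v from τ.apply_symm_apply v]
    linear_combination (norm := module) -(1 : F) • hr

theorem Uni.pow_p {p : ℕ} [Fact p.Prime] [CharP F p] (h3 : 3 ≤ p) {i : Fin 4 → F}
    {τ : (Fin 4 → F) ≃ₗ[F] (Fin 4 → F)} (hτ : Uni C i τ) : τ ^ p = 1 := by
  refine pow_p_eq_one h3 τ fun v => ?_
  have key : ∀ w, C.g i w = 0 → τ (τ w - w) - (τ w - w) = 0 := fun w hw => by
    obtain ⟨r, hr⟩ := Submodule.mem_span_singleton.1 (hτ.flag w hw)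
    rw [← hr, map_smul, hτ.fix, sub_self]
  have h := key _ (Uni.g_fix h2 hτ v)
  simp only [map_sub] at h ⊢
  linear_combination (norm := module) h

include h1 in
/-- The product of a root group and an Eichler group. -/
def syl (a : Fin 2 → F) (i : Fin 4 → F) : Subgroup ((ι → F) ≃ₗ[F] (ι → F)) where
  carrier := {m | ∃ e τ, Uni C i τ ∧ m = C.te (tv h1 a e) τ}
  one_mem' := ⟨0, 1, Uni.one h2 i, by rw [tv_zero, te_one]⟩
  mul_mem' := by
    rintro m m' ⟨e, τ, hτ, rfl⟩ ⟨e', τ', hτ', rfl⟩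
    exact ⟨e + e', τ * τ', Uni.mul h2 hτ hτ', by rw [TT.te_mul, tv_add]⟩
  inv_mem' := by
    rintro m ⟨e, τ, hτ, rfl⟩
    refine ⟨-e, τ⁻¹, Uni.inv h2 hτ, ?_⟩
    rw [← tv_inv]
    exact TT.te_symm _ _

end Pieces

section Main

variable {M : Subgroup ((ι → F) ≃ₗ[F] (ι → F))} {p : ℕ} [Fact p.Prime] [CharP F p]
variable (h1 : C.s₁ = -1) (h2 : C.s₂ = 1) (hmin : Minus C) (h3 : 3 ≤ p)
variable (hiso : ∀ m ∈ M, C.Iso m) (hTen : ∀ m, C.Iso m → C.IsTen m → m ∈ M) (hQ : QP C M)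
include h1 h2 hmin h3 hiso hTen hQ

omit hmin h3 hQ hiso in
theorem syl_le (a : Fin 2 → F) (i : Fin 4 → F) : syl h1 h2 a i ≤ tenSub C M := by
  rintro m ⟨e, τ, hτ, rfl⟩
  exact ⟨hTen _ (TT.iso_te (tv_iso h1 a e) hτ.iso) (TT.isTen_te _ _), TT.isTen_te _ _⟩

omit hmin hiso hTen hQ in
theorem isPGroup_syl (a : Fin 2 → F) (i : Fin 4 → F) : IsPGroup p (syl h1 h2 a i) := by
  rintro ⟨m, e, τ, hτ, rfl⟩
  refine ⟨1, Subtype.ext ?_⟩
  have he : ∀ n : ℕ, tv h1 a e ^ n = tv h1 a (n * e) := fun n => by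
    induction n with
    | zero => rw [pow_zero, Nat.cast_zero, zero_mul, tv_zero]
    | succ n ih => rw [pow_succ, ih, tv_add, Nat.cast_succ, add_one_mul]
  show C.te (tv h1 a e) τ ^ p ^ 1 = 1
  rw [pow_one, te_pow, he, Uni.pow_p h2 h3 hτ, CharP.cast_eq_zero, zero_mul, tv_zero, te_one]

omit h3 hiso hTen hQ in
/-- A quadratic element of `S` lies in the root group. -/
theorem eq_one_of_quad {a : Fin 2 → F} (ha : a ≠ 0) {i c : Fin 4 → F} (hi : C.g i i = 0)
    (hc : C.g c c = 0) (hic : C.g i c = 1) {e : F} {τ : (Fin 4 → F) ≃ₗ[F] (Fin 4 → F)}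
    (hτ : Uni C i τ) (hq : Quad (C.te (tv h1 a e) τ)) : τ = 1 := by
  obtain ⟨d, hd⟩ := C.exists_dual ha
  refine Uni.eq_one_of_sq h2 hmin hi hc hic hτ fun v => ?_
  have h := congrArg (C.prA a) (hq (C.t d v))
  simp [C.te_t, C.prA_t, tv_apply, hd, faa h1, fsymm h1 d a] at h
  linear_combination (norm := module) -(1 : F) • h

/-- `S` is maximal among the `p`-subgroups. -/
theorem le_syl {a : Fin 2 → F} (ha : a ≠ 0) {i c : Fin 4 → F} (hi : C.g i i = 0)
    (hc : C.g c c = 0) (hic : C.g i c = 1) {P : Subgroup ((ι → F) ≃ₗ[F] (ι → F))}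
    (hP : IsPGroup p P) (hle : syl h1 h2 a i ≤ P) (hPM : P ≤ M) : P ≤ syl h1 h2 a i := by
  classical
  haveI : Finite ((ι → F) ≃ₗ[F] (ι → F)) :=
    Finite.of_injective (fun m => (m : (ι → F) → (ι → F))) DFunLike.coe_injective
  set S := syl h1 h2 a i with hS
  by_contra hne
  have hlt : S.subgroupOf P < ⊤ := lt_top_iff_ne_top.2 fun h => hne (Subgroup.subgroupOf_eq_top.1 h)
  haveI := hP.isNilpotent
  obtain ⟨⟨n, hnP⟩, hnN, hnS⟩ := SetLike.exists_of_lt (Group.normalizerCondition_of_isNilpotent _ hlt)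
  replace hnS : n ∉ S := hnS
  have hconj : ∀ s ∈ S, n * s * n⁻¹ ∈ S := fun s hs =>
    (Subgroup.mem_normalizer_iff.1 hnN ⟨s, hle hs⟩).1 hs
  obtain ⟨d, had⟩ := C.exists_dual ha
  have hi0 : i ≠ 0 := fun h => by rw [h] at hic; simp at hic
  -- the root group is preserved
  have htS : C.te (tv h1 a 1) 1 ∈ S := ⟨1, 1, Uni.one h2 i, rfl⟩
  obtain ⟨e, τ₀, hτ₀, he⟩ := hconj _ htS
  have hτ₁ : τ₀ = 1 := eq_one_of_quad h1 h2 hmin ha hi hc hic hτ₀ (he ▸ (quad_tv h1 a 1).conj n)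
  subst hτ₁
  have hna : ∀ y, n (C.t a y) ∈ LinearMap.range (C.t a) := fun y => by
    have h := LinearEquiv.congr_fun he (n (C.t d y))
    rw [LinearEquiv.mul_apply, LinearEquiv.mul_apply,
      show n⁻¹ (n (C.t d y)) = C.t d y from n.symm_apply_apply _, te_tv_apply h1, te_tv_apply h1,
      map_add, one_smul, add_right_inj, rt_apply h1 (C.t d y), C.prA_t, fsymm h1 d a, had, neg_smul,
      one_smul, neg_neg, rt_apply h1] at h
    rw [h]
    exact Submodule.smul_mem _ _ ⟨_, rfl⟩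
  obtain ⟨σ, τ, hn⟩ := isTen_of_ruling h1 hiso hTen hQ ha ha (hPM hnP) hna
  -- normalise
  have hσa : σ a = C.f (σ a) d • a := by
    obtain ⟨v, hv⟩ : ∃ v : Fin 4 → F, v ≠ 0 := ⟨i, hi0⟩
    have h := (mem_ruling h1 ha).1 (hna v)
    rw [hn, C.prA_t, smul_eq_zero, or_iff_left (τ.map_ne_zero_iff.2 hv)] at h
    conv_lhs => rw [dec_A h1 had (σ a), h, zero_smul, sub_zero]
  set s₀ := C.f (σ a) d
  have hs₀ : s₀ ≠ 0 := fun h => ha (σ.map_eq_zero_iff.1 (by rw [hσa, h, zero_smul]))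
  let σ₁ := σ.trans (LinearEquiv.smulOfUnit (Units.mk0 s₀⁻¹ (inv_ne_zero hs₀)))
  let τ₁ := τ.trans (LinearEquiv.smulOfUnit (Units.mk0 s₀ hs₀))
  have hn1 : ∀ x y, n (C.t x y) = C.t (σ₁ x) (τ₁ y) := fun x y => by
    rw [hn]
    show _ = C.t (s₀⁻¹ • σ x) (s₀ • τ y)
    rw [map_smul, map_smul, LinearMap.smul_apply, smul_smul, mul_inv_cancel₀ hs₀, one_smul]
  have hσ₁a : σ₁ a = a := by
    show s₀⁻¹ • σ a = a
    rw [hσa, inv_smul_smul₀ hs₀]
  -- the point is preserved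
  obtain ⟨z, hiz, hcz, hzz⟩ : ∃ z, C.g i z = 0 ∧ C.g c z = 0 ∧ C.g z z ≠ 0 := by
    obtain ⟨z, hz, hz0⟩ := Submodule.exists_mem_ne_zero_of_ne_bot
      (p := LinearMap.ker ((C.g i).prod (C.g c))) fun h => by
        have := ((C.g i).prod (C.g c)).finrank_range_add_finrank_ker
        have h' := Submodule.finrank_le (LinearMap.range ((C.g i).prod (C.g c)))
        rw [Module.finrank_prod, Module.finrank_self] at h'
        rw [h, finrank_bot, Module.finrank_fin_fun] at this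
        omega
    obtain ⟨hiz, hcz⟩ : C.g i z = 0 ∧ C.g c z = 0 := Prod.ext_iff.1 (LinearMap.mem_ker.1 hz)
    exact ⟨z, hiz, hcz, fun h => hz0 (zero_of_perp h2 hmin hi hic h hiz hcz)⟩
  obtain ⟨E, hEu, hE⟩ := eichler h2 hi hiz
  obtain ⟨e', τ', hτ', he'⟩ := hconj _ (show C.te 1 E ∈ S from ⟨0, E, hEu, by rw [tv_zero]⟩)
  have hsv : ∀ v, C.te (tv h1 a e') τ' (C.t a v) = C.t a (τ' v) := fun v => by
    rw [C.te_t, tv_apply, faa h1, mul_zero, zero_smul, add_zero]
  obtain ⟨κ, hκ⟩ : ∃ κ : F, τ₁ i = κ • i := by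
    have h := congrArg n (te_eichler_sq h2 hi hiz hE (C.t a c))
    have hs : ∀ w, n (C.te 1 E w) = C.te (tv h1 a e') τ' (n w) := fun w => by
      rw [← he', LinearEquiv.mul_apply, LinearEquiv.mul_apply,
        show n⁻¹ (n w) = w from n.symm_apply_apply w]
    rw [map_add, map_sub, map_add, hs, hs, C.prB_t, gcomm h2 c i, hic, one_smul, map_smul, hn1, hn1,
      hσ₁a, hsv, hsv, ← map_add, ← map_sub, ← map_add, ← map_smul] at h
    have h' := C.t_inj_left ha h
    obtain ⟨r, hr⟩ := Submodule.mem_span_singleton.1 (hτ'.flag _ (Uni.g_fix h2 hτ' (τ₁ c)))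
    refine ⟨r / -C.g z z, smul_right_injective _ (neg_ne_zero.2 hzz) ?_⟩
    show -C.g z z • τ₁ i = _
    dsimp only
    rw [smul_smul, mul_div_cancel₀ _ (neg_ne_zero.2 hzz), ← h', hr, map_sub]
    module
  obtain ⟨k, hk⟩ := hP ⟨n, hnP⟩
  have hk' : n ^ p ^ k = 1 := congrArg Subtype.val hk
  have frob : ∀ r : F, r ^ p ^ k = 1 → r = 1 := fun r hr => by
    have h := sub_pow_char_pow (R := F) (p := p) (n := k) r 1
    rw [hr, one_pow, sub_self] at h
    exact sub_eq_zero.1 (eq_zero_of_pow_eq_zero h)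
  have hai : n (C.t a i) = κ • C.t a i := by rw [hn1, hσ₁a, hκ, map_smul]
  have hκ1 : κ = 1 := by
    refine frob κ ?_
    have : ∀ j : ℕ, (n ^ j) (C.t a i) = κ ^ j • C.t a i := fun j => by
      induction j with
      | zero => simp
      | succ j ih => rw [pow_succ, LinearEquiv.mul_apply, hai, map_smul, ih, smul_smul, pow_succ']
    have h := this (p ^ k)
    rw [hk'] at h
    by_contra hne'
    have h' : (κ ^ p ^ k - 1) • C.t a i = 0 := by
      rw [sub_smul, one_smul, ← h]; simp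
    rcases smul_eq_zero.1 h' with h'' | h''
    · exact hne' (sub_eq_zero.1 h'')
    · exact hi0 (C.t_inj_left ha (h''.trans (map_zero _).symm))
  rw [hκ1, one_smul] at hκ hai
  set ε := C.f (σ₁ d) d
  set δ := C.f a (σ₁ d)
  have hσd : σ₁ d = ε • a + δ • d := by
    conv_lhs => rw [dec_A h1 had (σ₁ d), fsymm h1 (σ₁ d) a, neg_smul, sub_neg_eq_add]
  have hδ1 : δ = 1 := by
    refine frob δ ?_
    have : ∀ j : ℕ, ∃ r : F, (n ^ j) (C.t d i) = C.t (r • a + δ ^ j • d) i := fun j => by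
      induction j with
      | zero => exact ⟨0, by simp⟩
      | succ j ih =>
        obtain ⟨r, hr⟩ := ih
        refine ⟨r + δ ^ j * ε, ?_⟩
        rw [pow_succ', LinearEquiv.mul_apply, hr, hn1, hκ, map_add, map_smul, map_smul, hσ₁a, hσd,
          pow_succ]
        congr 2
        module
    obtain ⟨r, hr⟩ := this (p ^ k)
    rw [hk', LinearEquiv.coe_one, id_eq] at hr
    have h := congrArg (C.f a) (C.t_inj hi0 hr)
    simp [had, faa h1] at h
    exact h.symm
  rw [hδ1, one_smul] at hσd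
  have hσtv : σ₁ = tv h1 a ε := LinearEquiv.ext fun x => by
    rw [dec_A h1 had x]
    simp [tv_apply, hσ₁a, hσd, faa h1, had, map_add, map_sub]
    module
  have hiso₁ : ∀ u v, C.g (τ₁ u) (τ₁ v) = C.g u v := fun u v => by
    have h := hiso n (hPM hnP) (C.t a u) (C.t d v)
    rw [hn1, hn1, C.pol, C.pol, had, hσ₁a, show C.f a (σ₁ d) = 1 from hδ1, one_mul, one_mul] at h
    exact h
  -- the Eichler part
  set z' := c - τ₁ c + C.g c (τ₁ c) • i with hz'
  have hiτc : C.g i (τ₁ c) = 1 := by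
    have h := hiso₁ i c
    rwa [hκ, hic] at h
  have hiz' : C.g i z' = 0 := by simp [hz', hic, hiτc, hi]
  have hcz' : C.g c z' = 0 := by simp [hz', hc, gcomm h2 c i, hic]
  obtain ⟨E', hEu', hE'⟩ := eichler h2 hi hiz'
  have hEc : E' c = τ₁ c := by
    have e1 : E' c = τ₁ c - (C.g c (τ₁ c) + C.g z' z' / 2) • i := by
      rw [hE', gcomm h2 z' c, hcz', hic]
      simp only [hz']
      module
    set μ := C.g c (τ₁ c) + C.g z' z' / 2
    have h := hEu'.iso c c
    rw [e1] at h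
    simp [hiso₁, hc, hi, gcomm h2 (τ₁ c) i, hiτc] at h
    have hμ : μ = 0 :=
      (mul_eq_zero.1 (show (2 : F) * μ = 0 by linear_combination -h)).resolve_left C.two
    rw [e1, hμ, zero_smul, sub_zero]
  set s' := C.te (tv h1 a ε) E'
  have hs'S : s' ∈ S := ⟨ε, E', hEu', rfl⟩
  have hn2 : n = C.te σ₁ τ₁ := C.eq_te hn1
  have hu : s'⁻¹ * n = C.te 1 (E'⁻¹ * τ₁) := by
    rw [show s'⁻¹ = C.te (tv h1 a ε)⁻¹ E'⁻¹ from TT.te_symm _ _, hn2, TT.te_mul, hσtv, inv_mul_cancel]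
  set u := E'⁻¹ * τ₁
  obtain ⟨k', hk''⟩ := hP ⟨s'⁻¹ * n, P.mul_mem (P.inv_mem (hle hs'S)) hnP⟩
  have hu' : C.te (1 : (Fin 2 → F) ≃ₗ[F] (Fin 2 → F)) (u ^ p ^ k') = 1 := by
    rw [← one_pow (p ^ k'), ← te_pow, ← hu]
    simpa using congrArg Subtype.val hk''
  have hupow : u ^ p ^ k' = 1 := LinearEquiv.ext fun v => C.t_inj_left ha (by
    have h := LinearEquiv.congr_fun hu' (C.t a v)
    rwa [C.te_t] at h)
  have hnil : IsNilpotent (u.toLinearMap - 1) :=
    ⟨p ^ k', by rw [sub_one_pow, hupow]; exact sub_self _⟩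
  have hu1 : u = 1 := by
    refine eq_one_of_nil h2 hmin hi hic (fun x y => ?_) ?_ ?_ hnil
    · show C.g (E'.symm (τ₁ x)) (E'.symm (τ₁ y)) = _
      rw [← hEu'.iso, E'.apply_symm_apply, E'.apply_symm_apply, hiso₁]
    · show E'.symm (τ₁ i) = i
      rw [hκ, LinearEquiv.symm_apply_eq, hEu'.fix]
    · show E'.symm (τ₁ c) = c
      rw [← hEc, E'.symm_apply_apply]
  rw [hu1, te_one, inv_mul_eq_one] at hu
  exact hnS (hu ▸ hs'S)

/-- Elements of order `p` are conjugate into `S`. -/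
theorem exists_conj_syl {a : Fin 2 → F} (ha : a ≠ 0) {i c : Fin 4 → F} (hi : C.g i i = 0)
    (hc : C.g c c = 0) (hic : C.g i c = 1) {G' : Subgroup ((ι → F) ≃ₗ[F] (ι → F))} (hG : G' ≤ M)
    (hSG : syl h1 h2 a i ≤ G') {x : (ι → F) ≃ₗ[F] (ι → F)} (hx : x ∈ G') (hxp : x ^ p = 1) :
    ∃ g ∈ G', g * x * g⁻¹ ∈ syl h1 h2 a i := by
  classical
  haveI : Finite ((ι → F) ≃ₗ[F] (ι → F)) :=
    Finite.of_injective (fun m => (m : (ι → F) → (ι → F))) DFunLike.coe_injective
  set S := syl h1 h2 a i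
  let S₀ : Sylow p G' := ⟨S.subgroupOf G',
    (isPGroup_syl h1 h2 h3 a i).of_equiv (Subgroup.subgroupOfEquivOfLe hSG).symm,
    fun {Q} hQp hle => le_antisymm (fun y hy => le_syl h1 h2 hmin h3 hiso hTen hQ ha hi hc hic
      (hQp.map G'.subtype)
      (fun s hs => ⟨⟨s, hSG hs⟩, hle hs, rfl⟩)
      (fun s hs => by obtain ⟨w, -, rfl⟩ := hs; exact hG w.2) ⟨y, hy, rfl⟩) hle⟩
  have hz : IsPGroup p (Subgroup.zpowers (⟨x, hx⟩ : G')) := by
    rintro ⟨y, j, rfl⟩
    refine ⟨1, Subtype.ext ?_⟩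
    show ((⟨x, hx⟩ : G') ^ j) ^ p ^ 1 = 1
    rw [pow_one, ← zpow_natCast, ← zpow_mul, mul_comm, zpow_mul, zpow_natCast,
      show (⟨x, hx⟩ : G') ^ p = 1 from Subtype.ext hxp, one_zpow]
  obtain ⟨Q, hQle⟩ := hz.exists_le_sylow
  obtain ⟨g, hg⟩ := MulAction.exists_smul_eq G' Q S₀
  refine ⟨g, g.2, ?_⟩
  have h : MulAut.conj g • (⟨x, hx⟩ : G') ∈ ((g • Q : Sylow p G') : Subgroup G') :=
    Subgroup.smul_mem_pointwise_smul _ _ _ (hQle (Subgroup.mem_zpowers _))
  rw [hg] at h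
  exact h

/-- Quadratic elements are conjugates of root elements. -/
theorem exists_conj_quad {a : Fin 2 → F} (ha : a ≠ 0) {i c : Fin 4 → F} (hi : C.g i i = 0)
    (hc : C.g c c = 0) (hic : C.g i c = 1) {G' : Subgroup ((ι → F) ≃ₗ[F] (ι → F))} (hG : G' ≤ M)
    (hSG : syl h1 h2 a i ≤ G') {x : (ι → F) ≃ₗ[F] (ι → F)} (hx : x ∈ G') (hq : Quad x) (hx1 : x ≠ 1) :
    ∃ g ∈ G', ∃ e : F, e ≠ 0 ∧ ∀ y, x (g y) = g y + e • g (rt C a y) := by
  haveI : Nontrivial (ι → F) := by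
    obtain ⟨v, hv⟩ := C.exists_dual ha
    exact ⟨C.t a c, 0, fun h => by
      have := congrArg (C.prA v) h
      rw [C.prA_t, hv, one_smul, map_zero] at this
      rw [this] at hic; simp at hic⟩
  obtain ⟨g, hg, e, τ, hτ, he⟩ := exists_conj_syl h1 h2 hmin h3 hiso hTen hQ ha hi hc hic hG hSG hx
    (hq.pow_p h3)
  have hτ1 := eq_one_of_quad h1 h2 hmin ha hi hc hic hτ (he ▸ hq.conj g)
  subst hτ1
  have hxe : x = g⁻¹ * C.te (tv h1 a e) 1 * g := by rw [← he]; group
  refine ⟨g⁻¹, G'.inv_mem hg, e, fun h0 => hx1 (by rw [hxe, h0, tv_zero, te_one]; group), fun y => ?_⟩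
  rw [hxe, LinearEquiv.mul_apply, LinearEquiv.mul_apply, show g (g⁻¹ y) = y from g.apply_symm_apply y,
    te_tv_apply h1, map_add, map_smul]

omit h1 h2 hmin h3 hTen hQ in
/-- An element preserving `A ⊗ i`. -/
theorem fix_point_both {i c : Fin 4 → F} (hic : C.g i c = 1) {m : (ι → F) ≃ₗ[F] (ι → F)} (hm : m ∈ M)
    (hmi : ∀ b, ∃ b', m (C.t b i) = C.t b' i) :
    (∀ b, ∃ b', m⁻¹ (C.t b i) = C.t b' i) ∧ ∀ x, C.prB i x = 0 → C.prB i (m x) = 0 := by
  have hi0 : i ≠ 0 := fun h => by rw [h] at hic; simp at hic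
  let α : (Fin 2 → F) →ₗ[F] (Fin 2 → F) := (C.prB c).comp (m.toLinearMap.comp (C.t.flip i))
  have hα : ∀ b, m (C.t b i) = C.t (α b) i := fun b => by
    obtain ⟨b', hb'⟩ := hmi b
    show _ = C.t (C.prB c (m (C.t b i))) i
    rw [hb', C.prB_t, hic, one_smul]
  have hinj : Function.Injective α := fun b b' h =>
    C.t_inj hi0 (m.injective (by rw [hα, hα, h]))
  have hsurj := LinearMap.injective_iff_surjective.1 hinj
  have hinv : ∀ b, ∃ b', m (C.t b' i) = C.t b i := fun b => by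
    obtain ⟨b', hb'⟩ := hsurj b
    exact ⟨b', by rw [hα, hb']⟩
  refine ⟨fun b => ?_, fun x hx => C.f_ext fun b => ?_⟩
  · obtain ⟨b', hb'⟩ := hinv b
    exact ⟨b', by rw [← hb']; exact m.symm_apply_apply _⟩
  · obtain ⟨b', hb'⟩ := hinv b
    rw [C.f_prB, ← hb', hiso m hm, ← C.f_prB, hx]
    simp

/-- The part of `M` trivial on `A ⊗ i` and on its perp modulo it. -/
def radSub (C : TT ι F 2 4) (M : Subgroup ((ι → F) ≃ₗ[F] (ι → F))) (i : Fin 4 → F) :
    Subgroup ((ι → F) ≃ₗ[F] (ι → F)) where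
  carrier := {m | m ∈ M ∧ (∀ b, m (C.t b i) = C.t b i) ∧
    ∀ x, C.prB i x = 0 → ∃ b, m x = x + C.t b i}
  one_mem' := ⟨M.one_mem, fun _ => rfl, fun x _ => ⟨0, by simp⟩⟩
  mul_mem' := fun {m m'} ⟨hm, h, h'⟩ ⟨hm', k, k'⟩ => ⟨M.mul_mem hm hm',
    fun b => by rw [LinearEquiv.mul_apply, k, h], fun x hx => by
      obtain ⟨b, hb⟩ := k' x hx
      obtain ⟨b', hb'⟩ := h' x hx
      exact ⟨b' + b, by rw [LinearEquiv.mul_apply, hb, map_add, h, hb', map_add, LinearMap.add_apply]; abel⟩⟩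
  inv_mem' := fun {m} ⟨hm, h, h'⟩ => ⟨M.inv_mem hm,
    fun b => m.injective (by rw [h]; exact m.apply_symm_apply _), fun x hx => by
      obtain ⟨b, hb⟩ := h' x hx
      exact ⟨-b, m.injective (by
        rw [map_add, h, hb, map_neg, LinearMap.neg_apply]
        exact (m.apply_symm_apply x).trans (by abel))⟩⟩

/-- The radical in `M` of the stabiliser of a point is its Eichler group. -/
theorem rad_eq {a : Fin 2 → F} (ha : a ≠ 0) {i c : Fin 4 → F} (hi : C.g i i = 0) (hc : C.g c c = 0)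
    (hic : C.g i c = 1) {m : (ι → F) ≃ₗ[F] (ι → F)} (hm : m ∈ radSub C M i) :
    ∃ τ, Uni C i τ ∧ m = C.te 1 τ := by
  have hi0 : i ≠ 0 := fun h => by rw [h] at hic; simp at hic
  haveI : Nontrivial (ι → F) :=
    ⟨C.t a i, 0, fun h => hi0 (C.t_inj_left ha (h.trans (map_zero _).symm))⟩
  set S := syl h1 h2 a i
  have hSn : S ≤ Subgroup.normalizer (radSub C M i) := by
    rw [Subgroup.le_normalizer_iff]
    intro s hs q ⟨hqM, hq, hq'⟩
    have hsM : s ∈ M := (syl_le h1 h2 hTen a i hs).1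
    obtain ⟨e, τ, hτ, rfl⟩ := hs
    set s := C.te (tv h1 a e) τ
    have hsi : ∀ b, ∃ b', s (C.t b i) = C.t b' i := fun b => ⟨_, by rw [C.te_t, hτ.fix]⟩
    obtain ⟨hinv, hperp⟩ := fix_point_both hiso hic hsM hsi
    obtain ⟨-, hperp'⟩ := fix_point_both hiso hic (M.inv_mem hsM) hinv
    refine ⟨M.mul_mem (M.mul_mem hsM hqM) (M.inv_mem hsM), fun b => ?_, fun x hx => ?_⟩
    · obtain ⟨b', hb'⟩ := hinv b
      rw [LinearEquiv.mul_apply, LinearEquiv.mul_apply, hb', hq, ← hb']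
      exact s.apply_symm_apply _
    · obtain ⟨b', hb'⟩ := hq' _ (hperp' x hx)
      obtain ⟨b'', hb''⟩ := hsi b'
      refine ⟨b'', ?_⟩
      rw [LinearEquiv.mul_apply, LinearEquiv.mul_apply, hb', map_add, hb'',
        show s (s⁻¹ x) = x from s.apply_symm_apply x]
  have hR : IsPGroup p (radSub C M i) := by
    rintro ⟨q, hqM, hq, hq'⟩
    refine ⟨1, Subtype.ext ?_⟩
    show q ^ p ^ 1 = 1
    rw [pow_one]
    refine pow_p_eq_one h3 q fun x => ?_
    have h0 : C.prB i (q x - x) = 0 := C.f_ext fun b => by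
      rw [C.f_prB, map_sub, LinearMap.sub_apply, map_zero, LinearMap.zero_apply]
      conv_lhs => arg 1; rw [← hq b, hiso q hqM]
      rw [sub_self]
    obtain ⟨b, hb⟩ := hq' _ h0
    have hb2 := congrArg q hb
    rw [map_add (f := q) (q x - x), hq b] at hb2
    simp only [map_sub] at hb hb2 ⊢
    linear_combination (norm := module) hb2 - hb
  have hsup := le_syl h1 h2 hmin h3 hiso hTen hQ ha hi hc hic
    (IsPGroup.to_sup_of_normal_right' (isPGroup_syl h1 h2 h3 a i) hR hSn) le_sup_left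
    (sup_le (fun s hs => (syl_le h1 h2 hTen a i hs).1) fun s hs => hs.1)
  obtain ⟨e, τ, hτ, rfl⟩ := hsup (Subgroup.mem_sup_right hm)
  obtain ⟨d, hd⟩ := C.exists_dual ha
  have h := hm.2.1 d
  rw [C.te_t, hτ.fix, tv_apply, hd, mul_one] at h
  have he : e = 0 := by
    have := C.t_inj hi0 h
    rw [add_eq_left, smul_eq_zero] at this
    exact this.resolve_right ha
  exact ⟨τ, hτ, by rw [he, tv_zero]⟩

/-- An element of `M` fixing `A ⊗ i` is a tensor product. -/
theorem isTen_of_fix_point {i : Fin 4 → F} (hi0 : i ≠ 0) (hi : C.g i i = 0)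
    {m : (ι → F) ≃ₗ[F] (ι → F)} (hm : m ∈ M) (hmi : ∀ b, ∃ b', m (C.t b i) = C.t b' i) :
    C.IsTen m := by
  obtain ⟨c, hc, hic⟩ : ∃ c, C.g c c = 0 ∧ C.g i c = 1 := TT.partner (C := C.swap) h2 hi0 hi
  set a : Fin 2 → F := Pi.single 0 1
  have ha : a ≠ 0 := by simp [a]
  obtain ⟨d, had⟩ := C.exists_dual ha
  obtain ⟨hminv, hperp⟩ := fix_point_both hiso hic hm hmi
  set t := C.te (tv h1 a 1) (1 : (Fin 4 → F) ≃ₗ[F] (Fin 4 → F))
  have htM : t ∈ M := hTen _ (TT.iso_te (tv_iso h1 a 1) fun _ _ => rfl) (TT.isTen_te _ _)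
  set x := m * t * m⁻¹ with hxdef
  have hxM : x ∈ M := M.mul_mem (M.mul_mem hm htM) (M.inv_mem hm)
  have hxq : Quad x := (quad_tv h1 a 1).conj m
  -- `x` commutes with the Eichler group
  have hcomm : ∀ z, C.g i z = 0 → ∀ E : (Fin 4 → F) ≃ₗ[F] (Fin 4 → F), Uni C i E →
      (∀ v, E v = v + C.g z v • i - C.g i v • z - (C.g z z / 2 * C.g i v) • i) →
      ∀ y, x (C.te 1 E y) = C.te 1 E (x y) := by
    intro z hz E hEu hE y
    set q := C.te (1 : (Fin 2 → F) ≃ₗ[F] (Fin 2 → F)) E with hqdef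
    have hqM : q ∈ M := hTen _ (TT.iso_te (fun _ _ => rfl) hEu.iso) (TT.isTen_te _ _)
    obtain ⟨-, hperp'⟩ := fix_point_both hiso hic (M.inv_mem hm) hminv
    have hrad : m⁻¹ * q * m ∈ radSub C M i := by
      refine ⟨M.mul_mem (M.mul_mem (M.inv_mem hm) hqM) hm, fun b => ?_, fun w hw => ?_⟩
      · obtain ⟨b', hb'⟩ := hmi b
        rw [LinearEquiv.mul_apply, LinearEquiv.mul_apply, hb', hqdef, C.te_t, hEu.fix,
          LinearEquiv.coe_one, id_eq, ← hb']
        exact m.symm_apply_apply _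
      · obtain ⟨b', hb'⟩ := hminv (C.prB z (m w))
        refine ⟨b', ?_⟩
        rw [LinearEquiv.mul_apply, LinearEquiv.mul_apply, hqdef, te_eichler_apply h2 hE, hperp w hw,
          map_zero, LinearMap.zero_apply, LinearMap.zero_apply, smul_zero, sub_zero, sub_zero, map_add,
          hb', show m⁻¹ (m w) = w from m.symm_apply_apply w]
    obtain ⟨τ, -, hτ⟩ := rad_eq h1 h2 hmin h3 hiso hTen hQ ha hi hc hic hrad
    have hct : t * (m⁻¹ * q * m) = (m⁻¹ * q * m) * t := by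
      rw [hτ, TT.te_mul, TT.te_mul, one_mul, mul_one, one_mul, mul_one]
    have : x * q = q * x := by
      calc x * q = m * (t * (m⁻¹ * q * m)) * m⁻¹ := by rw [hxdef]; group
        _ = m * ((m⁻¹ * q * m) * t) * m⁻¹ := by rw [hct]
        _ = q * x := by rw [hxdef]; group
    exact LinearEquiv.congr_fun this y
  -- the common action on the three layers
  let X : (ι → F) →ₗ[F] (ι → F) := x.toLinearMap - LinearMap.id
  have hX : ∀ y, X y = x y - y := fun y => rfl
  let α : (Fin 2 → F) →ₗ[F] (Fin 2 → F) := (C.prB i).comp (X.comp (C.t.flip c))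
  have hXz : ∀ z, C.g i z = 0 → C.g c z = 0 → ∀ b,
      X (C.t b z) = C.t (α b) z - C.t (C.prB z (X (C.t b c))) i ∧ (C.g z z ≠ 0 → X (C.t b i) = C.t (α b) i) := by
    intro z hiz hcz b
    obtain ⟨E, hEu, hE⟩ := eichler h2 hi hiz
    have hqX : ∀ y, X (C.te 1 E y) = C.te 1 E (X y) := fun y => by
      rw [hX, hX, map_sub, hcomm z hiz E hEu hE]
    have hii : C.g z z ≠ 0 → X (C.t b i) = C.t (α b) i := fun hzz => by
      have e := congrArg X (te_eichler_sq h2 hi hiz hE (C.t b c))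
      rw [map_add, map_sub, map_add, hqX, hqX, te_eichler_sq h2 hi hiz hE, map_smul, C.prB_t,
        gcomm h2 c i, hic, one_smul] at e
      exact smul_right_injective _ (neg_ne_zero.2 hzz) e.symm
    refine ⟨?_, hii⟩
    have e := hqX (C.t b c)
    rw [te_eichler_apply h2 hE, te_eichler_apply h2 hE, C.prB_t, C.prB_t, hcz, gcomm h2 c i, hic,
      one_smul, zero_smul, map_zero, LinearMap.zero_apply, add_zero, map_sub, map_sub, map_smul] at e
    by_cases hzz : C.g z z = 0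
    · rw [zero_of_perp h2 hmin hi hic hzz hiz hcz] at e ⊢
      simp
    rw [hii hzz] at e
    show X (C.t b z) = C.t (C.prB i (X (C.t b c))) z - _
    rw [show C.prB i (X (C.t b c)) = α b from rfl] at e ⊢
    linear_combination (norm := module) -(1 : F) • e
  obtain ⟨z₀, hiz₀, hcz₀, hz₀⟩ : ∃ z, C.g i z = 0 ∧ C.g c z = 0 ∧ C.g z z ≠ 0 := by
    obtain ⟨z, hz, hz0⟩ := Submodule.exists_mem_ne_zero_of_ne_bot
      (p := LinearMap.ker ((C.g i).prod (C.g c))) fun h => by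
        have := ((C.g i).prod (C.g c)).finrank_range_add_finrank_ker
        have h' := Submodule.finrank_le (LinearMap.range ((C.g i).prod (C.g c)))
        rw [Module.finrank_prod, Module.finrank_self] at h'
        rw [h, finrank_bot, Module.finrank_fin_fun] at this
        omega
    obtain ⟨hiz, hcz⟩ : C.g i z = 0 ∧ C.g c z = 0 := Prod.ext_iff.1 (LinearMap.mem_ker.1 hz)
    exact ⟨z, hiz, hcz, fun h => hz0 (zero_of_perp h2 hmin hi hic h hiz hcz)⟩
  have hXi : ∀ b, X (C.t b i) = C.t (α b) i := fun b => (hXz z₀ hiz₀ hcz₀ b).2 hz₀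
  have hXX : ∀ y, X (X y) = 0 := fun y => by
    rw [hX, hX, map_sub]
    linear_combination (norm := module) hxq y
  have hαα : ∀ b, α (α b) = 0 := fun b => C.t_inj hi0 (by
    rw [← hXi, ← hXi, hXX, map_zero, LinearMap.zero_apply])
  have hαs : C.SkewA α := fun b b' => by
    have e1 : C.f (α b) b' = C.p (X (C.t b i)) (C.t b' c) := by
      rw [hXi, C.pol, hic, mul_one]
    have e2 : C.f b (α b') = C.p (C.t b i) (X (C.t b' c)) := by
      rw [fsymm h1 b (α b')]
      show -C.f (C.prB i (X (C.t b' c))) b = _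
      rw [C.f_prB, C.hp (C.t b i) (X (C.t b' c)), h1, h2]
      ring
    rw [e1, e2]
    set u := C.t b i
    set v := C.t b' c
    have hxv : x (v - X v) = v := by
      rw [map_sub, show x (X v) = X v from sub_eq_zero.1 ((hX _).symm.trans (hXX v)), hX, sub_sub_cancel]
    have h := hiso x hxM u (v - X v)
    rw [hxv, show x u = X u + u by rw [hX, sub_add_cancel], map_add, LinearMap.add_apply, map_sub] at h
    linear_combination h
  obtain ⟨a', e, ha', hαe⟩ : ∃ (a' : Fin 2 → F) (e : F), a' ≠ 0 ∧ ∀ b, α b = (e * C.f a' b) • a' := by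
    by_cases h0 : ∀ b, α b = 0
    · exact ⟨a, 0, ha, fun b => by rw [h0 b, zero_mul, zero_smul]⟩
    push Not at h0
    obtain ⟨b₀, hb₀⟩ := h0
    set a' := α b₀
    obtain ⟨v, hv⟩ := C.exists_dual hb₀
    refine ⟨a', C.f (α v) v, hb₀, fun b => ?_⟩
    have hva : C.f (α v) a' = 0 := by
      rw [hαs, hαα, map_zero, neg_zero]
    have e1 : α v = C.f (α v) v • a' := by
      conv_lhs => rw [dec_A h1 hv (α v), hva, zero_smul, sub_zero]
    conv_lhs => rw [dec_A h1 hv b, map_sub, map_smul, map_smul, hαα, smul_zero, zero_sub, e1,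
      fsymm h1 b a']
    module
  -- split off the root part
  set r := C.te (tv h1 a' (-e)) (1 : (Fin 4 → F) ≃ₗ[F] (Fin 4 → F))
  have hrM : r ∈ M := hTen _ (TT.iso_te (tv_iso h1 a' _) fun _ _ => rfl) (TT.isTen_te _ _)
  have hrad : r * x ∈ radSub C M i := by
    have hkill : ∀ b, tv h1 a' (-e) (b + α b) = b := fun b => by
      simp [tv_apply, hαe, faa h1]
    have hx' : ∀ y, x y = y + X y := fun y => by rw [hX, add_sub_cancel]
    refine ⟨M.mul_mem hrM hxM, fun b => ?_, fun w hw => ?_⟩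
    · rw [LinearEquiv.mul_apply, hx', hXi, ← LinearMap.add_apply, ← map_add, C.te_t, hkill,
        LinearEquiv.coe_one, id_eq]
    · let π : (Fin 4 → F) →ₗ[F] (Fin 4 → F) := LinearMap.id - (C.g i).smulRight c
      let L : (ι → F) →ₗ[F] (ι → F) :=
        ((r * x).toLinearMap - LinearMap.id).comp (C.tm LinearMap.id π)
      have hw' : C.tm LinearMap.id π w = w := by
        have := LinearMap.congr_fun (C.ext_pure (L := C.tm LinearMap.id π)
          (L' := LinearMap.id - (C.t.flip c).comp (C.prB i)) fun b v => by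
          simp [C.tm_t, π, C.prB_t, gcomm h2 v i]) w
        rw [this, LinearMap.sub_apply, LinearMap.comp_apply, hw, map_zero, sub_zero]
        rfl
      have hL : L = (C.t.flip i).comp ((C.prB c).comp L) := C.ext_pure fun b v => by
        set z := v - C.g i v • c - C.g c v • i
        have hiz : C.g i z = 0 := by simp [z, hi, hic]
        have hcz : C.g c z = 0 := by simp [z, hc, gcomm h2 c i, hic]
        set β := C.prB z (X (C.t b c))
        have e0 : C.tm LinearMap.id π (C.t b v) = C.g c v • C.t b i + C.t b z := by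
          rw [C.tm_t, LinearMap.id_apply, ← map_smul, ← map_add]
          congr 1
          simp [π, z]
        have eL : L (C.t b v) = C.t (-tv h1 a' (-e) β) i := by
          show (r * x) (C.tm LinearMap.id π (C.t b v)) - C.tm LinearMap.id π (C.t b v) = _
          rw [e0, LinearEquiv.mul_apply, hx', map_add (f := X), map_smul X, hXi, (hXz z hiz hcz b).1]
          have e1 : C.g c v • C.t b i + C.t b z + (C.g c v • C.t (α b) i + (C.t (α b) z - C.t β i)) =
              C.g c v • C.t (b + α b) i + C.t (b + α b) z - C.t β i := by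
            simp only [map_add, LinearMap.add_apply, smul_add]; abel
          rw [e1, map_sub, map_add, map_smul, C.te_t, C.te_t, C.te_t, hkill, map_neg, LinearMap.neg_apply]
          simp only [LinearEquiv.coe_one, id_eq]
          abel
        show L (C.t b v) = C.t (C.prB c (L (C.t b v))) i
        rw [eL, C.prB_t, hic, one_smul]
      refine ⟨C.prB c (L w), ?_⟩
      have := LinearMap.congr_fun hL w
      simp only [LinearMap.comp_apply, LinearMap.flip_apply] at this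
      rw [← this]
      show _ = w + ((r * x) (C.tm LinearMap.id π w) - C.tm LinearMap.id π w)
      rw [hw', add_sub_cancel]
  obtain ⟨τ, hτ, hτe⟩ := rad_eq h1 h2 hmin h3 hiso hTen hQ ha hi hc hic hrad
  have hxe : x = C.te (tv h1 a' e) τ := by
    have : x = r⁻¹ * C.te 1 τ := by rw [← hτe, inv_mul_cancel_left]
    rw [this, show r⁻¹ = C.te (tv h1 a' (-e))⁻¹ (1 : (Fin 4 → F) ≃ₗ[F] (Fin 4 → F))⁻¹ from TT.te_symm _ _,
      inv_one, TT.te_mul, tv_inv, neg_neg, mul_one, one_mul]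
  have hτ1 : τ = 1 := eq_one_of_quad h1 h2 hmin ha' hi hc hic hτ (hxe ▸ hxq)
  subst hτ1
  refine isTen_of_ruling h1 hiso hTen hQ ha ha' hm fun y => ?_
  have h := LinearEquiv.congr_fun hxe (m (C.t d y))
  rw [hxdef, LinearEquiv.mul_apply, LinearEquiv.mul_apply,
    show m⁻¹ (m (C.t d y)) = C.t d y from m.symm_apply_apply _, te_tv_apply h1, te_tv_apply h1,
    map_add, one_smul, add_right_inj, rt_apply h1 (C.t d y), C.prA_t, fsymm h1 d a, had, neg_smul,
    one_smul, neg_neg, rt_apply h1] at h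
  rw [h]
  exact Submodule.smul_mem _ _ ⟨_, rfl⟩

end Main

end Cfsg.Agent.TenForm.TwoFour
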