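import Cfsg.Agent.Lib.C4.TenMax

/-!
# Two times three tensor decompositions inside a six-dimensional symplectic group

`V = A ⊗ B` with `f` alternating on `A` (dimension two) and `g` symmetric on `B` (dimension three).
For a non-zero `a` the ruling `a ⊗ B` is Lagrangian. If an overgroup `M` of the tensor stabiliser meets
the unipotent radical of the stabiliser of every ruling in the tensor part only, it is the stabiliser:
for `g` in `M` and a reflection `τ` of `B` the image of a ruling under `g⁻¹ τ g` meets the ruling, hence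
equals it, so the image of the ruling under `g` is invariant under all reflections, hence a ruling.

* `isTen_of_qp`
* `maximal_two_three`
-/

set_option autoImplicit false
set_option linter.unusedSectionVars false
set_option linter.unusedSimpArgs false

namespace Cfsg.Agent.TenForm.TwoThree

open Module
open Cfsg.Agent.Transvect (app)

variable {ι : Type} [Fintype ι] [DecidableEq ι] {F : Type*} [Field F] [Fintype F]
variable {C : TT ι F 2 3}

/-- The root operator of a ruling. -/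
noncomputable def rt (C : TT ι F 2 3) (a : Fin 2 → F) : (ι → F) →ₗ[F] (ι → F) :=
  C.tm (C.sm a a) LinearMap.id

/-- The radical of the stabiliser of a ruling meets `M` in the root group only. -/
def QP (C : TT ι F 2 3) (M : Subgroup ((ι → F) ≃ₗ[F] (ι → F))) : Prop :=
  ∀ a : Fin 2 → F, a ≠ 0 → ∀ X : (ι → F) →ₗ[F] (ι → F), C.Skew X →
    (∀ x, X x ∈ LinearMap.range (C.t a)) → (∀ y, X (C.t a y) = 0) → TT.InM M X →
    ∃ r : F, X = r • rt C a

section Planes

variable (h1 : C.s₁ = -1)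
include h1

lemma faa (a : Fin 2 → F) : C.f a a = 0 := TT.f_self h1 a

lemma fsymm (a b : Fin 2 → F) : C.f a b = -C.f b a := by rw [C.hf b a, h1, neg_one_mul]

lemma dec_A {a d : Fin 2 → F} (had : C.f a d = 1) (c : Fin 2 → F) :
    c = C.f c d • a - C.f c a • d := by
  have hda : C.f d a = -1 := by rw [fsymm h1, had]
  have hli : LinearIndependent F ![a, d] := LinearIndependent.pair_iff.2 fun s t h => by
    have e1 := congrArg (fun x => C.f x d) h
    have e2 := congrArg (fun x => C.f x a) h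
    simp [faa h1, had, hda] at e1 e2
    exact ⟨e1, e2⟩
  have hc : c ∈ Submodule.span F (Set.range ![a, d]) := by
    rw [hli.span_eq_top_of_card_eq_finrank (by simp)]; trivial
  obtain ⟨w, hw⟩ := (Submodule.mem_span_range_iff_exists_fun F).1 hc
  subst hw
  simp [Fin.sum_univ_two, faa h1, had, hda]

lemma dec_V {a d : Fin 2 → F} (had : C.f a d = 1) (x : ι → F) :
    x = C.t a (C.prA d x) + C.t d (-C.prA a x) :=
  LinearMap.congr_fun (C.ext_pure (L := LinearMap.id)
    (L' := (C.t a).comp (C.prA d) + (C.t d).comp (-C.prA a)) fun c y => by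
    conv_lhs => rw [dec_A h1 had c]
    simp [C.prA_t, map_sub]
    module) x

lemma mem_ruling {a : Fin 2 → F} (ha : a ≠ 0) {x : ι → F} :
    x ∈ LinearMap.range (C.t a) ↔ C.prA a x = 0 := by
  obtain ⟨d, had⟩ := C.exists_dual ha
  refine ⟨fun ⟨y, hy⟩ => ?_, fun h => ⟨C.prA d x, ?_⟩⟩
  · rw [← hy, C.prA_t, faa h1, zero_smul]
  · conv_rhs => rw [dec_V h1 had x, h, neg_zero, map_zero, add_zero]

lemma rt_apply {a : Fin 2 → F} (x : ι → F) : rt C a x = C.t a (-C.prA a x) :=
  LinearMap.congr_fun (C.ext_pure (L := rt C a) (L' := (C.t a).comp (-C.prA a)) fun c y => by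
    simp [rt, C.tm_t, TT.sm_apply, C.prA_t, fsymm h1 a c]) x

lemma p_coord {a d : Fin 2 → F} (had : C.f a d = 1) (y z y' z' : Fin 3 → F) :
    C.p (C.t a y + C.t d z) (C.t a y' + C.t d z') = C.g y z' - C.g z y' := by
  simp [C.pol, faa h1, had, fsymm h1 d a]
  ring

lemma prA_coord {a d : Fin 2 → F} (had : C.f a d = 1) (y z : Fin 3 → F) :
    C.prA a (C.t a y + C.t d z) = -z ∧ C.prA d (C.t a y + C.t d z) = y := by
  simp [C.prA_t, faa h1, had, fsymm h1 d a]

lemma coord_inj {a d : Fin 2 → F} (had : C.f a d = 1) {y z y' z' : Fin 3 → F}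
    (h : C.t a y + C.t d z = C.t a y' + C.t d z') : y = y' ∧ z = z' := by
  have e1 := congrArg (C.prA a) h
  have e2 := congrArg (C.prA d) h
  rw [(prA_coord h1 had y z).1, (prA_coord h1 had y' z').1, neg_inj] at e1
  rw [(prA_coord h1 had y z).2, (prA_coord h1 had y' z').2] at e2
  exact ⟨e2, e1⟩

/-- The isometry of `A` with given images of a hyperbolic pair. -/
lemma exists_move {a d a' d' : Fin 2 → F} (h : C.f a d = 1) (h' : C.f a' d' = 1) :
    ∃ σ : (Fin 2 → F) ≃ₗ[F] (Fin 2 → F), σ a = a' ∧ σ d = d' ∧ ∀ u v, C.f (σ u) (σ v) = C.f u v := by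
  let s0 : (Fin 2 → F) →ₗ[F] (Fin 2 → F) :=
    ((C.f.flip d).smulRight a') - ((C.f.flip a).smulRight d')
  have hs : ∀ c, s0 c = C.f c d • a' - C.f c a • d' := fun c => rfl
  have hiso : ∀ u v, C.f (s0 u) (s0 v) = C.f u v := fun u v => by
    conv_rhs => rw [dec_A h1 h u, dec_A h1 h v]
    simp [hs, faa h1, h, h', fsymm h1 d a, fsymm h1 d' a']
  have hinj : Function.Injective s0 := (injective_iff_map_eq_zero s0).2 fun c hc => C.fnd c fun v => by
    rw [← hiso, hc, map_zero, LinearMap.zero_apply]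
  refine ⟨LinearEquiv.ofInjectiveEndo s0 hinj, ?_, ?_, hiso⟩
  · show s0 a = a'
    simp [hs, faa h1, h]
  · show s0 d = d'
    simp [hs, faa h1, fsymm h1 d a, h]

/-- The transvection of `A`. -/
noncomputable def tv (e : Fin 2 → F) (b : F) : (Fin 2 → F) ≃ₗ[F] (Fin 2 → F) :=
  LinearEquiv.ofLinearMap (LinearMap.id + b • C.sm e e) (LinearMap.id - b • C.sm e e)
    (LinearMap.ext fun x => by simp [TT.sm_apply, faa h1])
    (LinearMap.ext fun x => by simp [TT.sm_apply, faa h1])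

lemma tv_apply (e : Fin 2 → F) (b : F) (x : Fin 2 → F) : tv h1 e b x = x + (b * C.f e x) • e := by
  simp [tv, TT.sm_apply, smul_smul]

lemma tv_iso (e : Fin 2 → F) (b : F) (u v : Fin 2 → F) : C.f (tv h1 e b u) (tv h1 e b v) = C.f u v := by
  simp [tv_apply, faa h1, fsymm h1 u e]
  ring

lemma tv_smul (μ : F) (e : Fin 2 → F) (b : F) : tv h1 (μ • e) b = tv h1 e (μ * μ * b) :=
  LinearEquiv.ext fun x => by simp [tv_apply, smul_smul]; module

lemma tv_add (e : Fin 2 → F) (b b' : F) : tv h1 e b * tv h1 e b' = tv h1 e (b + b') :=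
  LinearEquiv.ext fun x => by
    rw [LinearEquiv.mul_apply, tv_apply, tv_apply, tv_apply, map_add, map_smul, faa h1, smul_zero,
      add_zero, add_mul, add_smul]
    abel

lemma tv_zero (e : Fin 2 → F) : tv h1 e 0 = 1 := LinearEquiv.ext fun x => by simp [tv_apply]

lemma tv_inv (e : Fin 2 → F) (b : F) : (tv h1 e b)⁻¹ = tv h1 e (-b) :=
  inv_eq_of_mul_eq_one_right (by rw [tv_add, add_neg_cancel, tv_zero])

lemma tv_conj {σ : (Fin 2 → F) ≃ₗ[F] (Fin 2 → F)} (hσ : ∀ u v, C.f (σ u) (σ v) = C.f u v)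
    (e : Fin 2 → F) (b : F) : σ * tv h1 e b * σ⁻¹ = tv h1 (σ e) b :=
  LinearEquiv.ext fun x => by
    obtain ⟨y, rfl⟩ := σ.surjective x
    rw [LinearEquiv.mul_apply, LinearEquiv.mul_apply, show σ⁻¹ (σ y) = y from σ.symm_apply_apply y,
      tv_apply, tv_apply, map_add, map_smul, hσ]

omit h1 in
/-- Some scalar has a square different from one. -/
lemma exists_sq_ne (h5 : 5 ≤ Fintype.card F) : ∃ μ : F, μ ≠ 0 ∧ μ * μ ≠ 1 := by
  classical
  by_contra! hall
  have hle : (Finset.univ : Finset F) ⊆ {0, 1, -1} := fun t _ => by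
    by_cases ht : t = 0
    · simp [ht]
    · rcases mul_eq_zero.1 (show (t - 1) * (t + 1) = 0 by linear_combination hall t ht) with h | h
      · simp [sub_eq_zero.1 h]
      · simp [eq_neg_of_add_eq_zero_left h]
  have := (Finset.card_le_card hle).trans Finset.card_le_three
  rw [Finset.card_univ] at this
  omega

/-- A normalised set containing a product moving `a` contains a transvection at `a`. -/
lemma exists_tv_mem (h5 : 5 ≤ Fintype.card F) (N : Subgroup ((Fin 2 → F) ≃ₗ[F] (Fin 2 → F)))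
    (hN : ∀ σ ∈ N, ∀ e b, tv h1 e b * σ * (tv h1 e b)⁻¹ ∈ N)
    {g : (Fin 2 → F) ≃ₗ[F] (Fin 2 → F)} (hg : g ∈ N) (hgi : ∀ u v, C.f (g u) (g v) = C.f u v)
    {a : Fin 2 → F} (hag : C.f a (g a) ≠ 0) : ∃ δ : F, δ ≠ 0 ∧ tv h1 a δ ∈ N := by
  obtain ⟨μ, hμ0, hμ⟩ := exists_sq_ne h5
  set w := g a with hw
  set φ := C.f a w with hφ
  -- conjugates of `a` under `N`
  have m0 : ∀ g' ∈ N, (∀ u v, C.f (g' u) (g' v) = C.f u v) → ∀ b,
      tv h1 (g' a) b * tv h1 a (-b) ∈ N := fun g' hg' hi b => by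
    have h := mul_mem hg' (hN _ (inv_mem hg') a b)
    rw [← tv_conj h1 hi, ← tv_inv h1 a b]
    simpa [mul_assoc] using h
  have m1 := m0 g hg hgi
  -- moved along `a`
  have m2 : ∀ lam b, tv h1 (w + lam • a) b * tv h1 a (-b) ∈ N := fun lam b => by
    set g' := tv h1 a (lam / φ) * g * (tv h1 a (lam / φ))⁻¹
    have e : g' a = w + lam • a := by
      show tv h1 a (lam / φ) (g ((tv h1 a (lam / φ))⁻¹ a)) = _
      rw [tv_inv, tv_apply h1 a (-(lam / φ)), faa h1, mul_zero, zero_smul, add_zero, tv_apply, ← hw,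
        ← hφ, div_mul_cancel₀ _ hag]
    rw [← e]
    refine m0 g' (hN g hg a _) (fun u v => ?_) b
    show C.f (tv h1 a _ (g ((tv h1 a _)⁻¹ u))) (tv h1 a _ (g ((tv h1 a _)⁻¹ v))) = _
    rw [tv_iso, hgi, tv_inv, tv_iso]
  have hb : ∀ b, tv h1 w (b - μ * μ * b) ∈ N := fun b => by
    have m3 : tv h1 w b * tv h1 (w + μ⁻¹ • a) (-(μ * μ * b)) ∈ N := by
      have h := hN _ (m1 b) w (-(μ / φ))
      have e : tv h1 w (-(μ / φ)) * (tv h1 w b * tv h1 a (-b)) * (tv h1 w (-(μ / φ)))⁻¹ =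
          (tv h1 w (-(μ / φ)) * tv h1 w b * (tv h1 w (-(μ / φ)))⁻¹) *
            (tv h1 w (-(μ / φ)) * tv h1 a (-b) * (tv h1 w (-(μ / φ)))⁻¹) := by group
      rw [e, tv_conj h1 (tv_iso h1 _ _), tv_conj h1 (tv_iso h1 _ _), tv_apply h1 w, tv_apply h1 w,
        faa h1, mul_zero, zero_smul, add_zero,
        show a + (-(μ / φ) * C.f w a) • w = μ • (w + μ⁻¹ • a) by
          rw [fsymm h1 w a, ← hφ, neg_mul_neg, div_mul_cancel₀ _ hag, smul_add, smul_smul,
            mul_inv_cancel₀ hμ0, one_smul, add_comm],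
        tv_smul, mul_neg] at h
      exact h
    have h4 := mul_mem m3 (m2 μ⁻¹ (μ * μ * b))
    rw [mul_assoc, ← mul_assoc (tv h1 (w + μ⁻¹ • a) _), tv_add, neg_add_cancel, tv_zero, one_mul] at h4
    have h5 := mul_mem h4 (inv_mem (m1 (μ * μ * b)))
    rwa [_root_.mul_inv_rev, tv_inv, tv_inv, neg_neg, mul_assoc, ← mul_assoc (tv h1 a _), tv_add,
      neg_add_cancel, tv_zero, one_mul, tv_add, ← sub_eq_add_neg] at h5
  refine ⟨1 - μ * μ * 1, by simpa [sub_eq_zero] using Ne.symm hμ, ?_⟩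
  have h6 := mul_mem (mul_mem (inv_mem hg) (hb 1)) hg
  have hgi' : ∀ u v, C.f (g⁻¹ u) (g⁻¹ v) = C.f u v := fun u v => by
    conv_rhs => rw [← g.apply_symm_apply u, ← g.apply_symm_apply v, hgi]
    rfl
  have e := tv_conj h1 hgi' w (1 - μ * μ * 1)
  rw [inv_inv, show g⁻¹ w = a from g.symm_apply_apply a] at e
  rwa [e] at h6

end Planes

section Orth

variable (h2 : C.s₂ = 1)
include h2

lemma gcomm (y z : Fin 3 → F) : C.g y z = C.g z y := TT.f_comm (C := C.swap) h2 y z

/-- The reflection of `B`. -/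
noncomputable def rf (e : Fin 3 → F) (he : C.g e e ≠ 0) : (Fin 3 → F) ≃ₗ[F] (Fin 3 → F) :=
  LinearEquiv.ofLinearMap (LinearMap.id - ((2 / C.g e e) • C.g e).smulRight e)
    (LinearMap.id - ((2 / C.g e e) • C.g e).smulRight e)
    (LinearMap.ext fun x => by simp [smul_smul]; match_scalars <;> field_simp <;> ring)
    (LinearMap.ext fun x => by simp [smul_smul]; match_scalars <;> field_simp <;> ring)

lemma rf_apply {e : Fin 3 → F} (he : C.g e e ≠ 0) (z : Fin 3 → F) :
    rf e he z = z - (2 * C.g e z / C.g e e) • e := by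
  simp [rf]; congr 1; ring

lemma rf_iso {e : Fin 3 → F} (he : C.g e e ≠ 0) (u v : Fin 3 → F) :
    C.g (rf e he u) (rf e he v) = C.g u v := by
  simp [rf_apply h2, gcomm h2 u e]
  field_simp
  ring

lemma rf_self {e : Fin 3 → F} (he : C.g e e ≠ 0) : rf e he e = -e := by
  rw [rf_apply h2, mul_div_assoc, div_self he, mul_one, two_smul]; abel

lemma rf_fix {e z : Fin 3 → F} (he : C.g e e ≠ 0) (hz : C.g e z = 0) : rf e he z = z := by
  simp [rf_apply h2, hz]

/-- A non-degenerate subspace contains an anisotropic vector. -/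
lemma exists_aniso {Y : Submodule F (Fin 3 → F)} (hY : ∀ y ∈ Y, y ≠ 0 → ∃ y' ∈ Y, C.g y y' ≠ 0)
    {y : Fin 3 → F} (hy : y ∈ Y) (hy0 : y ≠ 0) : ∃ e ∈ Y, C.g e e ≠ 0 ∧ C.g e y ≠ 0 := by
  obtain ⟨w, hw, hyw⟩ := hY y hy hy0
  have hwy : C.g w y ≠ 0 := by rwa [gcomm h2]
  have h22 := C.two
  by_cases hyy : C.g y y ≠ 0
  · exact ⟨y, hy, hyy, hyy⟩
  push Not at hyy
  by_cases hww : C.g w w ≠ 0
  · exact ⟨w, hw, hww, hwy⟩
  push Not at hww
  refine ⟨w + y, Y.add_mem hw hy, ?_, by simpa [hyy] using hwy⟩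
  simp [hyy, hww, gcomm h2 y w]
  exact fun h => (mul_ne_zero h22 hwy) (by linear_combination h)

/-- A map with all anisotropic vectors as eigenvectors is scalar. -/
lemma eq_smul_of_aniso (h5 : 5 ≤ Fintype.card F) {Y : Submodule F (Fin 3 → F)}
    (hY : ∀ y ∈ Y, y ≠ 0 → ∃ y' ∈ Y, C.g y y' ≠ 0) (G : (Fin 3 → F) →ₗ[F] (Fin 3 → F))
    (hG : ∀ e ∈ Y, C.g e e ≠ 0 → ∃ μ : F, G e = μ • e) : ∃ μ : F, ∀ y ∈ Y, G y = μ • y := by
  classical
  by_cases hbot : Y = ⊥
  · exact ⟨0, fun y hy => by simp [(Submodule.mem_bot F).1 (hbot ▸ hy)]⟩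
  obtain ⟨y0, hy0, hy00⟩ := Submodule.exists_mem_ne_zero_of_ne_bot hbot
  obtain ⟨e, heY, hee, -⟩ := exists_aniso h2 hY hy0 hy00
  obtain ⟨μ, hμ⟩ := hG e heY hee
  refine ⟨μ, fun y hy => ?_⟩
  -- an anisotropic `e + t • y` with `t` non-zero
  obtain ⟨t, ht0, ht⟩ : ∃ t : F, t ≠ 0 ∧ C.g (e + t • y) (e + t • y) ≠ 0 := by
    by_contra! hall
    obtain ⟨μ', hμ0, hμ'⟩ := exists_sq_ne h5
    have e1 := hall 1 one_ne_zero
    have e2 := hall (-1) (by simp)
    have e3 := hall μ' hμ0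
    simp [gcomm h2 y e] at e1 e2 e3
    have h4 : C.g e y = 0 := by
      have : (2 : F) * (2 * C.g e y) = 0 := by linear_combination e1 - e2
      exact (mul_eq_zero.1 ((mul_eq_zero.1 this).resolve_left C.two)).resolve_left C.two
    have h6 : C.g e e * (1 - μ' * μ') = 0 := by
      linear_combination e3 - (μ' * μ') * e1 - (2 * μ' - 2 * (μ' * μ')) * h4
    exact hμ' (sub_eq_zero.1 ((mul_eq_zero.1 h6).resolve_left hee)).symm
  by_cases hyy : C.g y y = 0
  · -- then two such vectors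
    obtain ⟨ν, hν⟩ := hG _ (Y.add_mem heY (Y.smul_mem t hy)) ht
    rw [map_add, map_smul, hμ] at hν
    have hy' : G y = ν • y + (t⁻¹ * (ν - μ)) • e := by
      have : t • G y = (ν - μ) • e + (ν * t) • y := by linear_combination (norm := module) hν
      rw [← inv_smul_smul₀ ht0 (G y), this]
      match_scalars <;> field_simp
    obtain ⟨t', ht'0, ht'ne, ht'⟩ : ∃ t' : F, t' ≠ 0 ∧ t' ≠ t ∧ C.g (e + t' • y) (e + t' • y) ≠ 0 := by
      by_contra! hall
      have hle : (Finset.univ : Finset F) ⊆ {0, t, -(C.g e e) / (2 * C.g e y)} := fun s _ => by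
        by_cases h0 : s = 0
        · simp [h0]
        by_cases h1 : s = t
        · simp [h1]
        have e1 := hall s h0 h1
        simp [gcomm h2 y e, hyy] at e1
        have hey : C.g e y ≠ 0 := fun h => hee (by simpa [h] using e1)
        have : s = -(C.g e e) / (2 * C.g e y) := by
          rw [eq_div_iff (mul_ne_zero C.two hey)]
          linear_combination e1
        simp [← this]
      have := (Finset.card_le_card hle).trans Finset.card_le_three
      rw [Finset.card_univ] at this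
      omega
    obtain ⟨ν', hν'⟩ := hG _ (Y.add_mem heY (Y.smul_mem t' hy)) ht'
    rw [map_add, map_smul, hμ, hy'] at hν'
    by_cases hli : y ∈ F ∙ e
    · obtain ⟨s, rfl⟩ := Submodule.mem_span_singleton.1 hli
      rw [map_smul, hμ, smul_comm]
    have hind : LinearIndependent F ![e, y] := by
      rw [LinearIndependent.pair_iff' (fun h => hee (by simp [h]))]
      exact fun s hs => hli (Submodule.mem_span_singleton.2 ⟨s, hs⟩)
    obtain ⟨c1, c2⟩ := LinearIndependent.pair_iff.1 hind (μ + t' * (t⁻¹ * (ν - μ)) - ν') (t' * ν - ν' * t')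
      (by linear_combination (norm := module) hν')
    have hνν : ν' = ν := by
      have : t' * (ν - ν') = 0 := by linear_combination c2
      exact (sub_eq_zero.1 ((mul_eq_zero.1 this).resolve_left ht'0)).symm
    have hνμ : ν = μ := by
      have : (t' - t) * (ν - μ) = 0 := by
        have e9 : t * (μ + t' * (t⁻¹ * (ν - μ)) - ν') = 0 := by rw [c1, mul_zero]
        rw [hνν] at e9
        field_simp at e9
        linear_combination e9
      exact sub_eq_zero.1 ((mul_eq_zero.1 this).resolve_left (sub_ne_zero.2 ht'ne))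
    simp [hy', hνμ]
  · obtain ⟨κ, hκ⟩ := hG y hy hyy
    by_cases hli : y ∈ F ∙ e
    · obtain ⟨s, rfl⟩ := Submodule.mem_span_singleton.1 hli
      rw [map_smul, hμ, smul_comm]
    obtain ⟨ν, hν⟩ := hG _ (Y.add_mem heY (Y.smul_mem t hy)) ht
    rw [map_add, map_smul, hμ, hκ] at hν
    have hind : LinearIndependent F ![e, y] := by
      rw [LinearIndependent.pair_iff' (fun h => hee (by simp [h]))]
      exact fun s hs => hli (Submodule.mem_span_singleton.2 ⟨s, hs⟩)
    obtain ⟨c1, c2⟩ := LinearIndependent.pair_iff.1 hind (μ - ν) (t * κ - ν * t)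
      (by linear_combination (norm := module) hν)
    rw [hκ]
    congr 1
    exact mul_left_cancel₀ ht0 (by linear_combination c2 - t * c1)

/-- An orthogonal frame spans. -/
lemma dec_B {u e₁ e₂ : Fin 3 → F} (hu : C.g u u ≠ 0) (h₁ : C.g e₁ e₁ ≠ 0) (h₂ : C.g e₂ e₂ ≠ 0)
    (o1 : C.g u e₁ = 0) (o2 : C.g u e₂ = 0) (o3 : C.g e₁ e₂ = 0) (y : Fin 3 → F) :
    y = (C.g y u / C.g u u) • u + (C.g y e₁ / C.g e₁ e₁) • e₁ + (C.g y e₂ / C.g e₂ e₂) • e₂ := by
  have hli : LinearIndependent F ![u, e₁, e₂] := by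
    rw [Fintype.linearIndependent_iff]
    intro w hw
    simp [Fin.sum_univ_three] at hw
    have a0 := congrArg (fun x => C.g x u) hw
    have a1 := congrArg (fun x => C.g x e₁) hw
    have a2 := congrArg (fun x => C.g x e₂) hw
    simp [o1, o2, o3, gcomm h2 e₁ u, gcomm h2 e₂ u, gcomm h2 e₂ e₁, hu, h₁, h₂] at a0 a1 a2
    intro i
    fin_cases i <;> assumption
  have hy : y ∈ Submodule.span F (Set.range ![u, e₁, e₂]) := by
    rw [hli.span_eq_top_of_card_eq_finrank (by simp)]; trivial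
  obtain ⟨w, hw⟩ := (Submodule.mem_span_range_iff_exists_fun F).1 hy
  subst hw
  simp [Fin.sum_univ_three, o1, o2, o3, gcomm h2 e₁ u, gcomm h2 e₂ u, gcomm h2 e₂ e₁, hu, h₁, h₂]

/-- An isometry given on an orthogonal frame. -/
lemma exists_frame_map {u e₁ e₂ f₁ f₂ : Fin 3 → F} (hu : C.g u u ≠ 0) (h₁ : C.g e₁ e₁ ≠ 0)
    (h₂ : C.g e₂ e₂ ≠ 0) (o1 : C.g u e₁ = 0) (o2 : C.g u e₂ = 0) (o3 : C.g e₁ e₂ = 0)
    (q1 : C.g f₁ f₁ = C.g e₁ e₁) (q2 : C.g f₂ f₂ = C.g e₂ e₂) (p1 : C.g u f₁ = 0) (p2 : C.g u f₂ = 0)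
    (p3 : C.g f₁ f₂ = 0) :
    ∃ τ : (Fin 3 → F) ≃ₗ[F] (Fin 3 → F), τ u = u ∧ τ e₁ = f₁ ∧ τ e₂ = f₂ ∧
      ∀ y z, C.g (τ y) (τ z) = C.g y z := by
  let t0 : (Fin 3 → F) →ₗ[F] (Fin 3 → F) := ((C.g u u)⁻¹ • C.g.flip u).smulRight u +
    ((C.g e₁ e₁)⁻¹ • C.g.flip e₁).smulRight f₁ + ((C.g e₂ e₂)⁻¹ • C.g.flip e₂).smulRight f₂
  have ht : ∀ y, t0 y = (C.g y u / C.g u u) • u + (C.g y e₁ / C.g e₁ e₁) • f₁ +
      (C.g y e₂ / C.g e₂ e₂) • f₂ := fun y => by simp [t0, div_eq_inv_mul]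
  have hiso : ∀ y z, C.g (t0 y) (t0 z) = C.g y z := fun y z => by
    conv_rhs => rw [dec_B h2 hu h₁ h₂ o1 o2 o3 y, dec_B h2 hu h₁ h₂ o1 o2 o3 z]
    simp [ht, o1, o2, o3, gcomm h2 e₁ u, gcomm h2 e₂ u, gcomm h2 e₂ e₁, q1, q2, p1, p2, p3,
      gcomm h2 f₁ u, gcomm h2 f₂ u, gcomm h2 f₂ f₁]
  have hinj : Function.Injective t0 := (injective_iff_map_eq_zero t0).2 fun c hc => C.gnd c fun v => by
    rw [← hiso, hc, map_zero, LinearMap.zero_apply]
  refine ⟨LinearEquiv.ofInjectiveEndo t0 hinj, ?_, ?_, ?_, hiso⟩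
  · show t0 u = u
    simp [ht, o1, o2, hu]
  · show t0 e₁ = f₁
    simp [ht, gcomm h2 e₁ u, o1, o3, h₁]
  · show t0 e₂ = f₂
    simp [ht, gcomm h2 e₂ u, gcomm h2 e₂ e₁, o2, o3, h₂]

/-- A unipotent similitude of index two is the identity. -/
lemma nil_similitude {D : (Fin 3 → F) →ₗ[F] (Fin 3 → F)} {ν : F} (hD : ∀ y, D (D y) = 0)
    (hs : ∀ y z, C.g (y + D y) (z + D z) = ν * C.g y z) : ∀ y, D y = 0 := by
  have e1 : ∀ y z, C.g (D y) (D z) = (ν - 1) * C.g (D y) z := fun y z => by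
    have h := hs (D y) z
    rw [hD, add_zero, map_add] at h
    linear_combination h
  have e2 : ∀ y z, C.g (D y) (D z) = ν * C.g (D y) (D z) := fun y z => by
    have h := hs (D y) (D z)
    rwa [hD, hD, add_zero, add_zero] at h
  intro y
  by_cases hν : ν = 1
  · subst hν
    have sk : ∀ y, C.g (D y) y = 0 := fun y => by
      have h := hs y y
      have h0 := e1 y y
      rw [sub_self, zero_mul] at h0
      simp [gcomm h2 y (D y), h0] at h
      exact (mul_eq_zero.1 (show (2 : F) * C.g (D y) y = 0 by linear_combination h)).resolve_left C.two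
    by_contra hy
    -- the image is a line
    have hline : ∀ z, D z ∈ F ∙ D y := by
      have h := LinearMap.finrank_range_add_finrank_ker D
      have hle : LinearMap.range D ≤ LinearMap.ker D := by rintro _ ⟨z, rfl⟩; exact hD z
      have h' := Submodule.finrank_mono hle
      rw [Module.finrank_fin_fun] at h
      have hr : F ∙ D y = LinearMap.range D :=
        Submodule.eq_of_le_of_finrank_le ((Submodule.span_singleton_le_iff_mem _ _).2 ⟨y, rfl⟩)
          (by rw [finrank_span_singleton hy]; omega)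
      exact fun z => hr.symm ▸ ⟨z, rfl⟩
    apply hy
    refine C.gnd _ fun z => ?_
    obtain ⟨s, hs'⟩ := Submodule.mem_span_singleton.1 (hline z)
    have h := sk (y + z)
    simp only [map_add, LinearMap.add_apply, sk, zero_add, add_zero] at h
    rw [← hs', map_smul, LinearMap.smul_apply, sk, smul_zero] at h
    simpa using h
  · refine C.gnd _ fun z => ?_
    have h0 : C.g (D y) (D z) = 0 :=
      (mul_eq_zero.1 (show (ν - 1) * C.g (D y) (D z) = 0 by linear_combination -(e2 y z))).resolve_left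
        (sub_ne_zero.2 hν)
    exact (mul_eq_zero.1 ((e1 y z).symm.trans h0)).resolve_left (sub_ne_zero.2 hν)

end Orth

section Main

variable {M : Subgroup ((ι → F) ≃ₗ[F] (ι → F))}
variable (h1 : C.s₁ = -1) (h2 : C.s₂ = 1) (h5 : 5 ≤ Fintype.card F)
variable (hiso : ∀ m ∈ M, C.Iso m) (hTen : ∀ m, C.Iso m → C.IsTen m → m ∈ M) (hQ : QP C M)
include h1 h2 h5 hiso hTen hQ

omit h5 hiso hQ in
lemma te_mem {σ : (Fin 2 → F) ≃ₗ[F] (Fin 2 → F)} {τ : (Fin 3 → F) ≃ₗ[F] (Fin 3 → F)}
    (hσ : ∀ u v, C.f (σ u) (σ v) = C.f u v) (hτ : ∀ u v, C.g (τ u) (τ v) = C.g u v) :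
    C.te σ τ ∈ M :=
  hTen _ (TT.iso_te hσ hτ) (TT.isTen_te _ _)

omit h2 h5 hiso hQ in
lemma exists_root_elem {a : Fin 2 → F} (ha : a ≠ 0) (b : F) :
    ∃ m ∈ M, ∀ x, m x = x + b • rt C a x := by
  refine ⟨C.te (tv h1 a b) (LinearEquiv.refl F _),
    hTen _ (TT.iso_te (tv_iso h1 a b) fun _ _ => rfl) (TT.isTen_te _ _), fun x => ?_⟩
  exact LinearMap.congr_fun (C.ext_pure
    (L := (C.te (tv h1 a b) (LinearEquiv.refl F (Fin 3 → F))).toLinearMap)
    (L' := LinearMap.id + b • rt C a) fun c y => by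
      simp [C.te_t, tv_apply, rt, C.tm_t, TT.sm_apply, smul_smul]) x

omit h2 h5 hTen hQ in
/-- An element moving a ruling into a ruling moves nothing else into it. -/
lemma map_iff {a b : Fin 2 → F} (ha : a ≠ 0) (hb : b ≠ 0) {k : (ι → F) ≃ₗ[F] (ι → F)} (hk : k ∈ M)
    (hab : ∀ y, k (C.t a y) ∈ LinearMap.range (C.t b)) {x : ι → F} :
    C.prA b (k x) = 0 ↔ C.prA a x = 0 := by
  obtain ⟨d, had⟩ := C.exists_dual ha
  obtain ⟨e, hbe⟩ := C.exists_dual hb
  refine ⟨fun h => C.gnd _ fun y => ?_, fun h => ?_⟩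
  · obtain ⟨u, hu⟩ := (mem_ruling h1 hb).2 h
    obtain ⟨v, hv⟩ := hab y
    rw [C.g_prA, ← hiso k hk, ← hu, ← hv, C.pol, faa h1, zero_mul]
  · obtain ⟨y, rfl⟩ := (mem_ruling h1 ha).2 h
    exact (mem_ruling h1 hb).1 (hab y)

omit h2 h5 in
/-- An element of `M` fixing a ruling scales its root operator. -/
lemma scale_root {a b : Fin 2 → F} (ha : a ≠ 0) (hb : b ≠ 0) {k : (ι → F) ≃ₗ[F] (ι → F)} (hk : k ∈ M)
    (hab : ∀ y, k (C.t a y) ∈ LinearMap.range (C.t b)) :
    ∃ r : F, r ≠ 0 ∧ ∀ x, k (rt C a x) = r • rt C b (k x) := by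
  set X : (ι → F) →ₗ[F] (ι → F) := k.toLinearMap.comp ((rt C a).comp k.symm.toLinearMap)
  have hX : ∀ x, X x = k (rt C a (k.symm x)) := fun x => rfl
  have hsk : C.Skew X := fun x y => by
    have hN : C.SkewA (C.sm a a) := fun u v => by simp [TT.sm_apply, fsymm h1 u a]; ring
    have e := C.skew_tm hN (k.symm x) (k.symm y)
    rw [hX, hX, ← (hiso k hk).symm_right, ← (hiso k hk).symm_left]
    exact e
  obtain ⟨m, hm, hmx⟩ := exists_root_elem h1 hTen (M := M) ha 1
  obtain ⟨r, hr⟩ := hQ b hb X hsk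
    (fun x => by rw [hX, rt_apply h1]; exact hab _)
    (fun y => by
      have : C.prA a (k.symm (C.t b y)) = 0 := by
        rw [← map_iff h1 hiso ha hb hk hab, LinearEquiv.apply_symm_apply]
        exact (mem_ruling h1 hb).1 ⟨y, rfl⟩
      rw [hX, rt_apply h1, this, neg_zero, map_zero, map_zero])
    ⟨k * m * k⁻¹, mul_mem (mul_mem hk hm) (inv_mem hk), fun x => by
      show k (m (k.symm x)) = _
      rw [hmx, one_smul, map_add, k.apply_symm_apply]; rfl⟩
  refine ⟨r, fun h => ?_, fun x => by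
    have := LinearMap.congr_fun hr (k x)
    rwa [hX, k.symm_apply_apply] at this⟩
  obtain ⟨d, had⟩ := C.exists_dual ha
  obtain ⟨y, hy⟩ : ∃ y : Fin 3 → F, y ≠ 0 := ⟨Pi.single 0 1, by simp⟩
  have := LinearMap.congr_fun hr (k (C.t d y))
  rw [hX, k.symm_apply_apply, h, zero_smul, LinearMap.zero_apply, LinearEquiv.map_eq_zero_iff] at this
  simp [rt, C.tm_t, TT.sm_apply, had] at this
  exact hy (C.t_inj_left ha (by rw [this, map_zero]))

omit h2 h5 in
/-- An element of `M` carrying a ruling to a ruling is a tensor product. -/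
theorem isTen_of_ruling {a b : Fin 2 → F} (ha : a ≠ 0) (hb : b ≠ 0) {k : (ι → F) ≃ₗ[F] (ι → F)}
    (hk : k ∈ M) (hab : ∀ y, k (C.t a y) ∈ LinearMap.range (C.t b)) : C.IsTen k := by
  obtain ⟨d, had⟩ := C.exists_dual ha
  obtain ⟨e, hbe⟩ := C.exists_dual hb
  obtain ⟨r, hr0, hr⟩ := scale_root h1 hiso hTen hQ ha hb hk hab
  let β₀ : (Fin 3 → F) →ₗ[F] (Fin 3 → F) := (C.prA e).comp (k.toLinearMap.comp (C.t a))
  let γ : (Fin 3 → F) →ₗ[F] (Fin 3 → F) := (C.prA e).comp (k.toLinearMap.comp (C.t d))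
  have hka : ∀ y, k (C.t a y) = C.t b (β₀ y) := fun y => by
    obtain ⟨v, hv⟩ := hab y
    show k (C.t a y) = C.t b (C.prA e (k (C.t a y)))
    rw [← hv, C.prA_t, hbe, one_smul]
  have hkd : ∀ y, k (C.t d y) = C.t b (γ y) + C.t e (r⁻¹ • β₀ y) := fun y => by
    have h := hr (C.t d y)
    rw [rt_apply h1, rt_apply h1, C.prA_t, fsymm h1 d a, had, neg_smul, one_smul, neg_neg, hka,
      ← map_smul] at h
    have h' := C.t_inj_left hb h
    conv_lhs => rw [dec_V h1 hbe (k (C.t d y))]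
    rw [h', inv_smul_smul₀ hr0]
    rfl
  have hinj : Function.Injective β₀ := (injective_iff_map_eq_zero β₀).2 fun y hy => by
    have : k (C.t a y) = 0 := by rw [hka, hy, map_zero]
    exact C.t_inj_left ha (by rw [LinearEquiv.map_eq_zero_iff] at this; rw [this, map_zero])
  let β := LinearEquiv.ofInjectiveEndo β₀ hinj
  have hβ : ∀ y, β y = β₀ y := fun y => rfl
  have hsim : ∀ y z, C.g (β₀ y) (β₀ z) = r * C.g y z := fun y z => by
    have h := hiso k hk (C.t a y) (C.t d z)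
    rw [hka, hkd, map_add, C.pol, C.pol, C.pol, faa h1, hbe, had, map_smul, smul_eq_mul] at h
    linear_combination (norm := (field_simp; ring)) r * h
  have hγ : ∀ y z, C.g (γ y) (β₀ z) = C.g (β₀ y) (γ z) := fun y z => by
    have h := hiso k hk (C.t d y) (C.t d z)
    rw [hkd, hkd, p_coord h1 hbe, C.pol, faa h1, zero_mul, map_smul, map_smul, LinearMap.smul_apply,
      smul_eq_mul, smul_eq_mul] at h
    linear_combination (norm := (field_simp; ring)) r * h
  obtain ⟨σ, hσa, hσd, hσ⟩ := exists_move h1 (a := a) (d := d) (a' := b) (d' := e) had hbe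
  -- correct by the tensor part
  let σ' : (Fin 2 → F) ≃ₗ[F] (Fin 2 → F) :=
    LinearEquiv.ofInjectiveEndo (((C.f.flip d).smulRight b) - ((C.f.flip a).smulRight (r⁻¹ • e)))
      ((injective_iff_map_eq_zero _).2 fun c hc => by
        simp only [LinearMap.sub_apply, LinearMap.smulRight_apply, LinearMap.flip_apply] at hc
        have e1 := congrArg (fun x => C.f x e) hc
        have e2 := congrArg (fun x => C.f x b) hc
        simp [faa h1, hbe, fsymm h1 e b, hr0] at e1 e2
        rw [dec_A h1 had c, e1, e2]; simp)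
  have hσ' : ∀ c, σ' c = C.f c d • b - C.f c a • (r⁻¹ • e) := fun c => rfl
  have hσ'a : σ' a = b := by simp [hσ', faa h1, had]
  have hσ'd : σ' d = r⁻¹ • e := by simp [hσ', faa h1, fsymm h1 d a, had]
  have hσ'i : ∀ u v, C.f (σ' u) (σ' v) = r⁻¹ * C.f u v := fun u v => by
    conv_rhs => rw [dec_A h1 had u, dec_A h1 had v]
    simp [hσ', faa h1, had, hbe, fsymm h1 d a, fsymm h1 e b]
    ring
  have hiso' : C.Iso (C.te σ' β) := fun x y =>
    LinearMap.congr_fun (LinearMap.congr_fun (C.ext_pure₂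
      (L := (C.p.comp (C.te σ' β).toLinearMap).compl₂ (C.te σ' β).toLinearMap) (L' := C.p)
      fun u y' v z' => by
        simp [C.te_t, C.pol, hσ'i, hβ, hsim]
        field_simp) x) y
  have hteM : C.te σ' β ∈ M := hTen _ hiso' (TT.isTen_te _ _)
  set m := (C.te σ' β)⁻¹ * k with hm
  have hmM : m ∈ M := mul_mem (inv_mem hteM) hk
  let S₀ : (Fin 3 → F) →ₗ[F] (Fin 3 → F) := β.symm.toLinearMap.comp γ
  have hma : ∀ y, m (C.t a y) = C.t a y := fun y => (C.te σ' β).injective (by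
    show C.te σ' β ((C.te σ' β).symm (k (C.t a y))) = _
    rw [LinearEquiv.apply_symm_apply, C.te_t, hσ'a, hβ, hka])
  have hmd : ∀ y, m (C.t d y) = C.t d y + C.t a (S₀ y) := fun y => (C.te σ' β).injective (by
    show C.te σ' β ((C.te σ' β).symm (k (C.t d y))) = _
    rw [LinearEquiv.apply_symm_apply, map_add, C.te_t, C.te_t, hσ'a, hσ'd, hkd, hβ,
      show β (S₀ y) = γ y from β.apply_symm_apply _, map_smul, map_smul, LinearMap.smul_apply]
    abel)
  set X : (ι → F) →ₗ[F] (ι → F) := m.toLinearMap - LinearMap.id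
  have hXa : ∀ y, X (C.t a y) = 0 := fun y => by simp [X, hma]
  have hXx : ∀ x, X x = C.t a (S₀ (-C.prA a x)) := fun x => by
    conv_lhs => rw [dec_V h1 had x, map_add, hXa, zero_add]
    simp [X, hmd]
  have hXsk : C.Skew X := fun x y => by
    have h := hiso m hmM x y
    have hx : m x = x + X x := by simp [X]
    have hy : m y = y + X y := by simp [X]
    have h0 : C.p (X x) (X y) = 0 := by rw [hXx, hXx, C.pol, faa h1, zero_mul]
    rw [hx, hy, map_add, map_add, LinearMap.add_apply, LinearMap.add_apply, h0, add_zero] at h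
    linear_combination h
  obtain ⟨s, hs⟩ := hQ a ha X hXsk (fun x => ⟨_, (hXx x).symm⟩) hXa
    ⟨m, hmM, fun x => by simp [X]⟩
  have hS₀ : ∀ y, S₀ y = s • y := fun y => C.t_inj_left ha (by
    have h := LinearMap.congr_fun hs (C.t d y)
    simp [hXx, rt_apply h1, C.prA_t, fsymm h1 d a, had] at h
    simpa using h)
  obtain ⟨σ'', hσ''a, hσ''d, -⟩ := exists_move h1 (a := a) (d := d) (a' := a) (d' := d + s • a) had
    (by simp [had, faa h1])
  refine ⟨σ''.trans σ', β, fun c y => ?_⟩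
  have hkm : k (C.t c y) = C.te σ' β (m (C.t c y)) :=
    ((C.te σ' β).apply_symm_apply (k (C.t c y))).symm
  rw [hkm, LinearEquiv.trans_apply, ← C.te_t]
  congr 1
  conv_lhs => rw [dec_A h1 had c]
  conv_rhs => rw [dec_A h1 had c]
  simp [hma, hmd, hS₀, hσ''a, hσ''d, map_add, map_sub, map_smul]

/-- `y` with `a ⊗ y` in the image of the ruling under `k`. -/
noncomputable def meet (C : TT ι F 2 3) (a : Fin 2 → F) (k : (ι → F) ≃ₗ[F] (ι → F)) :
    Submodule F (Fin 3 → F) := LinearMap.ker ((C.prA a).comp (k.symm.toLinearMap.comp (C.t a)))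

omit h1 h2 h5 hiso hTen hQ in
lemma mem_meet {a : Fin 2 → F} {k : (ι → F) ≃ₗ[F] (ι → F)} {y : Fin 3 → F} :
    y ∈ meet C a k ↔ C.prA a (k.symm (C.t a y)) = 0 := Iff.rfl

/-- `k` fixes the ruling. -/
def Fixes (C : TT ι F 2 3) (a : Fin 2 → F) (k : (ι → F) ≃ₗ[F] (ι → F)) : Prop :=
  ∀ y, k (C.t a y) ∈ LinearMap.range (C.t a)

omit h2 h5 hTen hQ in
lemma fixes_of_meet_top {a : Fin 2 → F} (ha : a ≠ 0) {k : (ι → F) ≃ₗ[F] (ι → F)} (hk : k ∈ M)
    (h : ∀ y, y ∈ meet C a k) : Fixes C a k := fun y => by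
  rw [mem_ruling h1 ha]
  have := map_iff h1 hiso ha ha (inv_mem hk) (fun y => (mem_ruling h1 ha).2 (h y))
    (x := k (C.t a y))
  refine this.1 ?_
  show C.prA a (k.symm (k (C.t a y))) = 0
  rw [k.symm_apply_apply, C.prA_t, faa h1, zero_smul]

omit h2 h5 hTen hQ in
lemma meet_of_fixes {a : Fin 2 → F} (ha : a ≠ 0) {k : (ι → F) ≃ₗ[F] (ι → F)} (hk : k ∈ M)
    (h : Fixes C a k) (y : Fin 3 → F) : y ∈ meet C a k := by
  rw [mem_meet, ← map_iff h1 hiso ha ha hk h, k.apply_symm_apply, C.prA_t, faa h1, zero_smul]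

/-- The conjugate of the root operator. -/
noncomputable def cr (C : TT ι F 2 3) (a : Fin 2 → F) (k : (ι → F) ≃ₗ[F] (ι → F)) :
    (ι → F) →ₗ[F] (ι → F) := k.toLinearMap.comp ((rt C a).comp k.symm.toLinearMap)

omit h1 h2 h5 hiso hTen hQ in
lemma cr_apply {a : Fin 2 → F} {k : (ι → F) ≃ₗ[F] (ι → F)} (x : ι → F) :
    cr C a k x = k (rt C a (k.symm x)) := rfl

omit h2 h5 hTen hQ in
lemma cr_skew {a : Fin 2 → F} {k : (ι → F) ≃ₗ[F] (ι → F)} (hk : k ∈ M) :
    C.Skew (cr C a k) := fun x y => by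
  have hN : C.SkewA (C.sm a a) := fun u v => by simp [TT.sm_apply, fsymm h1 u a]; ring
  have e := C.skew_tm hN (k.symm x) (k.symm y)
  rw [cr_apply, cr_apply, ← (hiso k hk).symm_right, ← (hiso k hk).symm_left]
  exact e

omit h2 h5 hiso hQ in
lemma exists_cr_elem {a : Fin 2 → F} (ha : a ≠ 0) {k : (ι → F) ≃ₗ[F] (ι → F)} (hk : k ∈ M) :
    ∃ m ∈ M, ∀ x, m x = x + cr C a k x := by
  obtain ⟨m, hm, hmx⟩ := exists_root_elem h1 hTen (M := M) ha 1
  refine ⟨k * m * k⁻¹, mul_mem (mul_mem hk hm) (inv_mem hk), fun x => ?_⟩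
  show k (m (k.symm x)) = _
  rw [hmx, one_smul, map_add, k.apply_symm_apply]; rfl

omit h2 h5 hiso hTen hQ in
lemma cr_sq {a : Fin 2 → F} {k : (ι → F) ≃ₗ[F] (ι → F)} (x : ι → F) :
    cr C a k (cr C a k x) = 0 := by
  rw [cr_apply, cr_apply, k.symm_apply_apply, rt_apply h1, rt_apply h1 (k.symm x), C.prA_t, faa h1,
    zero_smul, neg_zero, map_zero, map_zero]

omit h2 h5 hiso hTen hQ in
lemma cr_zero_iff {a : Fin 2 → F} (ha : a ≠ 0) {k : (ι → F) ≃ₗ[F] (ι → F)} {x : ι → F} :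
    cr C a k x = 0 ↔ C.prA a (k.symm x) = 0 := by
  rw [cr_apply, LinearEquiv.map_eq_zero_iff, rt_apply h1]
  constructor
  · intro h
    exact neg_eq_zero.1 (C.t_inj_left ha (h.trans (map_zero _).symm))
  · intro h; rw [h, neg_zero, map_zero]

omit h5 in
/-- If the conjugate root operator preserves the ruling, so does the conjugating element. -/
lemma fixes_of_cr {a : Fin 2 → F} (ha : a ≠ 0) {k : (ι → F) ≃ₗ[F] (ι → F)} (hk : k ∈ M)
    (h : ∀ y, cr C a k (C.t a y) ∈ LinearMap.range (C.t a)) : Fixes C a k := by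
  obtain ⟨d, had⟩ := C.exists_dual ha
  obtain ⟨m, hm, hmx⟩ := exists_cr_elem h1 hTen ha hk
  have hmfix : ∀ y, m (C.t a y) ∈ LinearMap.range (C.t a) := fun y => by
    rw [hmx]; exact Submodule.add_mem _ ⟨y, rfl⟩ (h y)
  obtain ⟨σ, τ, hst⟩ := isTen_of_ruling h1 hiso hTen hQ ha ha hm hmfix
  let D : (Fin 3 → F) →ₗ[F] (Fin 3 → F) := (C.prA d).comp ((cr C a k).comp (C.t a))
  have hD : ∀ y, cr C a k (C.t a y) = C.t a (D y) := fun y => by
    obtain ⟨v, hv⟩ := h y
    show cr C a k (C.t a y) = C.t a (C.prA d (cr C a k (C.t a y)))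
    rw [← hv, C.prA_t, had, one_smul]
  have hDD : ∀ y, D (D y) = 0 := fun y => C.t_inj_left ha (by
    rw [← hD, ← hD, cr_sq h1, map_zero])
  have hμ : ∀ y, C.f (σ a) d • τ y = y + D y := fun y => by
    have e := congrArg (C.prA d) (hmx (C.t a y))
    rw [hst, hD, map_add, C.prA_t, C.prA_t, C.prA_t, had, one_smul, one_smul] at e
    exact e
  obtain ⟨w, hw⟩ : ∃ w : Fin 3 → F, w ≠ 0 := ⟨Pi.single 0 1, by simp⟩
  obtain ⟨w', hw''⟩ := C.swap.exists_dual hw
  have hw' : C.g w w' = 1 := hw''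
  set μ := C.f (σ a) d
  have hτ : ∀ y z, C.g y z = C.f (σ a) (σ d) * C.g (τ y) (τ z) := fun y z => by
    have e := hiso m hm (C.t a y) (C.t d z)
    rw [hst, hst, C.pol, C.pol, had, one_mul] at e
    exact e.symm
  have hσ0 : C.f (σ a) (σ d) ≠ 0 := fun h0 => by
    have := hτ w w'
    rw [hw', h0, zero_mul] at this
    exact one_ne_zero this
  have hall := nil_similitude h2 hDD (ν := μ * μ / C.f (σ a) (σ d)) fun y z => by
    rw [← hμ, ← hμ, map_smul, map_smul, LinearMap.smul_apply, smul_eq_mul, smul_eq_mul, hτ y z]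
    field_simp
  refine fixes_of_meet_top h1 hiso ha hk fun y => ?_
  rw [mem_meet, ← cr_zero_iff h1 ha, hD, hall, map_zero]

omit h5 hiso hQ in
lemma te_right_mem {τ : (Fin 3 → F) ≃ₗ[F] (Fin 3 → F)} (hτ : ∀ u v, C.g (τ u) (τ v) = C.g u v) :
    C.te (LinearEquiv.refl F _) τ ∈ M :=
  te_mem h1 h2 hTen (fun _ _ => rfl) hτ

omit h2 h5 in
/-- An element of `M` preserving the image ruling scales the conjugate root operator. -/
lemma scale_cr {a : Fin 2 → F} (ha : a ≠ 0) {k h : (ι → F) ≃ₗ[F] (ι → F)} (hk : k ∈ M) (hh : h ∈ M)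
    (hfix : ∀ y, C.prA a (k.symm (h (k (C.t a y)))) = 0) :
    ∃ ν : F, ∀ x, h (cr C a k x) = ν • cr C a k (h x) := by
  have hk' : k⁻¹ * h * k ∈ M := mul_mem (mul_mem (inv_mem hk) hh) hk
  obtain ⟨r, -, hr⟩ := scale_root h1 hiso hTen hQ ha ha hk' fun y => (mem_ruling h1 ha).2 (hfix y)
  refine ⟨r, fun x => k.symm.injective ?_⟩
  have e : k.symm (h (k (rt C a (k.symm x)))) = r • rt C a (k.symm (h (k (k.symm x)))) := hr (k.symm x)
  rw [k.apply_symm_apply] at e
  rw [map_smul, cr_apply, cr_apply, k.symm_apply_apply]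
  exact e

/-- The image of a ruling is no orthogonal sum of parts of two rulings. -/
theorem not_split {a d : Fin 2 → F} (had : C.f a d = 1) {k : (ι → F) ≃ₗ[F] (ι → F)} (hk : k ∈ M)
    (Y Z : Submodule F (Fin 3 → F)) (hYZ : ∀ y ∈ Y, ∀ z ∈ Z, C.g y z = 0)
    (hsum : ∀ x, ∃ y ∈ Y, ∃ z ∈ Z, x = y + z) (hY : Y ≠ ⊥)
    (hYL : ∀ y ∈ Y, C.prA a (k.symm (C.t a y)) = 0)
    (hZL : ∀ z ∈ Z, C.prA a (k.symm (C.t d z)) = 0) : Fixes C a k := by
  have ha : a ≠ 0 := fun h => by rw [h] at had; simp at had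
  by_contra hfix
  have hk' := hiso k hk
  -- nondegeneracy
  have hYnd : ∀ y ∈ Y, y ≠ 0 → ∃ y' ∈ Y, C.g y y' ≠ 0 := fun y hy hy0 => by
    by_contra! hall
    refine hy0 (C.gnd y fun x => ?_)
    obtain ⟨y', hy', z', hz', rfl⟩ := hsum x
    rw [map_add, hall y' hy', hYZ y hy z' hz', add_zero]
  have hZnd : ∀ z ∈ Z, z ≠ 0 → ∃ z' ∈ Z, C.g z z' ≠ 0 := fun z hz hz0 => by
    by_contra! hall
    refine hz0 (C.gnd z fun x => ?_)
    obtain ⟨y', hy', z', hz', rfl⟩ := hsum x
    rw [map_add, hall z' hz', gcomm h2 z y', hYZ y' hy' z hz, add_zero]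
  have hYperp : ∀ x, (∀ z ∈ Z, C.g x z = 0) → x ∈ Y := fun x hx => by
    obtain ⟨y', hy', z', hz', rfl⟩ := hsum x
    by_cases h0 : z' = 0
    · simpa [h0] using hy'
    obtain ⟨z'', hz'', hne⟩ := hZnd z' hz' h0
    have := hx z'' hz''
    rw [map_add, LinearMap.add_apply, hYZ y' hy' z'' hz'', zero_add] at this
    exact absurd this hne
  have hZperp : ∀ x, (∀ y ∈ Y, C.g x y = 0) → x ∈ Z := fun x hx => by
    obtain ⟨y', hy', z', hz', rfl⟩ := hsum x
    by_cases h0 : y' = 0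
    · simpa [h0] using hz'
    obtain ⟨y'', hy'', hne⟩ := hYnd y' hy' h0
    have := hx y'' hy''
    rw [map_add, LinearMap.add_apply, gcomm h2 z' y'', hYZ y'' hy'' z' hz', add_zero] at this
    exact absurd this hne
  -- the image ruling
  have hL : ∀ x, C.prA a (k.symm x) = 0 → C.prA d x ∈ Y ∧ -C.prA a x ∈ Z := fun x hx => by
    have hp : ∀ v, C.prA a (k.symm v) = 0 → C.p x v = 0 := fun v hv => by
      obtain ⟨s, hs⟩ := (mem_ruling h1 ha).2 hx
      obtain ⟨s', hs'⟩ := (mem_ruling h1 ha).2 hv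
      rw [← k.apply_symm_apply x, ← k.apply_symm_apply v, hk', ← hs, ← hs', C.pol, faa h1, zero_mul]
    refine ⟨hYperp _ fun z hz => ?_, hZperp _ fun y hy => ?_⟩
    · rw [C.g_prA]; exact hp _ (hZL z hz)
    · rw [map_neg, LinearMap.neg_apply, C.g_prA, hp _ (hYL y hy), neg_zero]
  have hL' : ∀ y ∈ Y, ∀ z ∈ Z, C.prA a (k.symm (C.t a y + C.t d z)) = 0 := fun y hy z hz => by
    rw [map_add, map_add, hYL y hy, hZL z hz, add_zero]
  set T' := cr C a k with hT'
  have hrange : ∀ x, C.prA a (k.symm (T' x)) = 0 := fun x => by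
    rw [hT', cr_apply, k.symm_apply_apply, rt_apply h1, C.prA_t, faa h1, zero_smul]
  -- reflections
  have hrefl : ∀ e (he : C.g e e ≠ 0), (e ∈ Y ∨ e ∈ Z) → ∃ ν : F, ∀ x,
      C.te (LinearEquiv.refl F _) (rf e he) (T' x) =
        ν • T' (C.te (LinearEquiv.refl F _) (rf e he) x) := by
    intro e he hmem
    refine scale_cr h1 hiso hTen hQ ha hk (te_right_mem h1 h2 hTen (rf_iso h2 he)) fun y => ?_
    obtain ⟨hy1, hy2⟩ := hL (k (C.t a y)) (by rw [k.symm_apply_apply, C.prA_t, faa h1, zero_smul])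
    rw [dec_V h1 had (k (C.t a y)), map_add, C.te_t, C.te_t, LinearEquiv.refl_apply,
      LinearEquiv.refl_apply]
    rcases hmem with hm | hm
    · refine hL' _ ?_ _ ?_
      · rw [rf_apply h2]; exact Y.sub_mem hy1 (Y.smul_mem _ hm)
      · rw [rf_fix h2 he (hYZ e hm _ hy2)]; exact hy2
    · refine hL' _ ?_ _ ?_
      · rw [rf_fix h2 he (by rw [gcomm h2]; exact hYZ _ hy1 e hm)]; exact hy1
      · rw [rf_apply h2]; exact Z.sub_mem hy2 (Z.smul_mem _ hm)
  -- some vector leaves the ruling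
  obtain ⟨z₀, hz₀, hz₀'⟩ : ∃ z ∈ Z, C.prA a (T' (C.t a z)) ≠ 0 := by
    by_contra! hall
    refine hfix (fixes_of_cr h1 h2 hiso hTen hQ ha hk fun x => (mem_ruling h1 ha).2 ?_)
    obtain ⟨y', hy', z', hz', rfl⟩ := hsum x
    rw [map_add, map_add, map_add, ← hT', hall z' hz', add_zero,
      (cr_zero_iff h1 ha).2 (hYL y' hy'), map_zero]
  -- reflections of Y commute
  have hcY : ∀ e (he : C.g e e ≠ 0), e ∈ Y → ∀ x,
      C.te (LinearEquiv.refl F _) (rf e he) (T' x) =
        T' (C.te (LinearEquiv.refl F _) (rf e he) x) := by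
    intro e he hm
    obtain ⟨ν, hν⟩ := hrefl e he (Or.inl hm)
    suffices ν = 1 by intro x; rw [hν, this, one_smul]
    have e1 := congrArg (C.prA a) (hν (C.t a z₀))
    rw [C.te_t, LinearEquiv.refl_apply, rf_fix h2 he (hYZ e hm z₀ hz₀), map_smul] at e1
    obtain ⟨-, hy2⟩ := hL _ (hrange (C.t a z₀))
    conv at e1 => lhs; rw [dec_V h1 had (T' (C.t a z₀))]
    rw [map_add, C.te_t, C.te_t, LinearEquiv.refl_apply, LinearEquiv.refl_apply,
      rf_fix h2 he (hYZ e hm _ hy2), (prA_coord h1 had _ _).1, neg_neg] at e1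
    by_contra hne
    have : (ν - 1) • C.prA a (T' (C.t a z₀)) = 0 := by rw [sub_smul, one_smul, ← e1, sub_self]
    exact hz₀' ((smul_eq_zero.1 this).resolve_left (sub_ne_zero.2 hne))
  -- the values on d ⊗ Y and a ⊗ Z
  have hdY : ∀ e ∈ Y, C.g e e ≠ 0 → C.prA a (T' (C.t d e)) = 0 ∧
      ∃ μ : F, C.prA d (T' (C.t d e)) = μ • e := by
    intro e hm he
    obtain ⟨hy1, hy2⟩ := hL _ (hrange (C.t d e))
    have e1 := hcY e he hm (C.t d e)
    rw [C.te_t (LinearEquiv.refl F _) (rf e he) d e, LinearEquiv.refl_apply, rf_self h2, map_neg,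
      map_neg] at e1
    conv at e1 => lhs; rw [dec_V h1 had (T' (C.t d e))]
    conv at e1 => rhs; rw [dec_V h1 had (T' (C.t d e)), neg_add, ← map_neg (C.t a), ← map_neg (C.t d)]
    rw [map_add, C.te_t, C.te_t, LinearEquiv.refl_apply, LinearEquiv.refl_apply] at e1
    obtain ⟨c1, c2⟩ := coord_inj h1 had e1
    rw [rf_fix h2 he (hYZ e hm _ hy2), neg_neg] at c2
    refine ⟨?_, ⟨C.g e (C.prA d (T' (C.t d e))) / C.g e e, ?_⟩⟩
    · have h' : (2 : F) • C.prA a (T' (C.t d e)) = 0 := by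
        linear_combination (norm := module) -(1 : F) • c2
      exact (smul_eq_zero.1 h').resolve_left C.two
    · rw [rf_apply h2] at c1
      have h' : (2 : F) • (C.prA d (T' (C.t d e)) - (C.g e (C.prA d (T' (C.t d e))) / C.g e e) • e) = 0 := by
        linear_combination (norm := module) c1
      exact sub_eq_zero.1 ((smul_eq_zero.1 h').resolve_left C.two)
  obtain ⟨μ, hμ⟩ := eq_smul_of_aniso h2 h5 hYnd ((C.prA d).comp (T'.comp (C.t d)))
    fun e hm he => (hdY e hm he).2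
  obtain ⟨μ', hμ'⟩ := eq_smul_of_aniso h2 h5 hYnd ((C.prA a).comp (T'.comp (C.t d)))
    fun e hm he => ⟨0, by rw [zero_smul]; exact (hdY e hm he).1⟩
  obtain ⟨y₀, hy₀, hy₀0⟩ := Submodule.exists_mem_ne_zero_of_ne_bot hY
  obtain ⟨e₀, he₀Y, he₀, -⟩ := exists_aniso h2 hYnd hy₀ hy₀0
  have hμ'0 : μ' = 0 := by
    have h := hμ' e₀ he₀Y
    simp only [LinearMap.comp_apply] at h
    rw [(hdY e₀ he₀Y he₀).1, eq_comm, smul_eq_zero] at h
    exact h.resolve_right fun h0 => he₀ (by rw [h0]; simp)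
  have hTdy : ∀ y ∈ Y, T' (C.t d y) = C.t a (μ • y) := fun y hy => by
    conv_lhs => rw [dec_V h1 had (T' (C.t d y))]
    have e2 : C.prA a (T' (C.t d y)) = 0 := by
      simpa [hμ'0] using hμ' y hy
    rw [show C.prA d (T' (C.t d y)) = μ • y from hμ y hy, e2, neg_zero, map_zero, add_zero]
  have hμ0 : μ ≠ 0 := fun h0 => by
    have h := hTdy e₀ he₀Y
    rw [h0, zero_smul, map_zero, hT', cr_zero_iff h1 ha] at h
    have h3 := (hL _ h).2
    rw [C.prA_t, fsymm h1 d a, had, neg_one_smul, neg_neg] at h3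
    exact he₀ (hYZ e₀ he₀Y e₀ h3)
  have haZ : ∀ e ∈ Z, C.g e e ≠ 0 → C.prA d (T' (C.t a e)) = 0 ∧
      ∃ κ : F, -C.prA a (T' (C.t a e)) = κ • e := by
    intro e hm he
    obtain ⟨ν, hν⟩ := hrefl e he (Or.inr hm)
    have hν1 : ν = 1 := by
      have h := hν (C.t d e₀)
      rw [C.te_t (LinearEquiv.refl F _) (rf e he) d e₀, LinearEquiv.refl_apply,
        rf_fix h2 he (by rw [gcomm h2]; exact hYZ e₀ he₀Y e hm), hTdy e₀ he₀Y, C.te_t,
        LinearEquiv.refl_apply,
        rf_fix h2 he (by rw [gcomm h2, map_smul, LinearMap.smul_apply, hYZ e₀ he₀Y e hm, smul_zero])] at h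
      by_contra hne
      have h' : (1 - ν) • C.t a (μ • e₀) = 0 := by rw [sub_smul, one_smul, ← h, sub_self]
      have h'' := (smul_eq_zero.1 h').resolve_left (sub_ne_zero.2 fun hh => hne hh.symm)
      have := C.t_inj_left ha (h''.trans (map_zero _).symm)
      exact he₀ (by rw [(smul_eq_zero.1 this).resolve_left hμ0]; simp)
    obtain ⟨hy1, hy2⟩ := hL _ (hrange (C.t a e))
    have e1 := hν (C.t a e)
    rw [hν1, one_smul, C.te_t (LinearEquiv.refl F _) (rf e he) a e, LinearEquiv.refl_apply, rf_self h2,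
      map_neg, map_neg] at e1
    conv at e1 => lhs; rw [dec_V h1 had (T' (C.t a e))]
    conv at e1 => rhs; rw [dec_V h1 had (T' (C.t a e)), neg_add, ← map_neg (C.t a), ← map_neg (C.t d)]
    rw [map_add, C.te_t, C.te_t, LinearEquiv.refl_apply, LinearEquiv.refl_apply] at e1
    obtain ⟨c1, c2⟩ := coord_inj h1 had e1
    rw [rf_fix h2 he (by rw [gcomm h2]; exact hYZ _ hy1 e hm)] at c1
    refine ⟨?_, ⟨C.g e (-C.prA a (T' (C.t a e))) / C.g e e, ?_⟩⟩
    · have h' : (2 : F) • C.prA d (T' (C.t a e)) = 0 := by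
        linear_combination (norm := module) c1
      exact (smul_eq_zero.1 h').resolve_left C.two
    · rw [rf_apply h2] at c2
      have h' : (2 : F) • (-C.prA a (T' (C.t a e)) -
          (C.g e (-C.prA a (T' (C.t a e))) / C.g e e) • e) = 0 := by
        linear_combination (norm := module) c2
      exact sub_eq_zero.1 ((smul_eq_zero.1 h').resolve_left C.two)
  obtain ⟨κ, hκ⟩ := eq_smul_of_aniso h2 h5 hZnd (-((C.prA a).comp (T'.comp (C.t a))))
    fun e hm he => (haZ e hm he).2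
  obtain ⟨κ', hκ'⟩ := eq_smul_of_aniso h2 h5 hZnd ((C.prA d).comp (T'.comp (C.t a)))
    fun e hm he => ⟨0, by rw [zero_smul]; exact (haZ e hm he).1⟩
  have hκ'0 : κ' = 0 := by
    obtain ⟨e, hm, he, -⟩ := exists_aniso h2 hZnd hz₀ (fun h => hz₀' (by simp [h]))
    have h := hκ' e hm
    simp only [LinearMap.comp_apply] at h
    rw [(haZ e hm he).1, eq_comm, smul_eq_zero] at h
    exact h.resolve_right fun h0 => he (by rw [h0]; simp)
  have hTaz : ∀ z ∈ Z, T' (C.t a z) = C.t d (κ • z) := fun z hz => by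
    conv_lhs => rw [dec_V h1 had (T' (C.t a z))]
    have e2 : C.prA d (T' (C.t a z)) = 0 := by simpa [hκ'0] using hκ' z hz
    rw [e2, map_zero, zero_add, show -C.prA a (T' (C.t a z)) = κ • z from hκ z hz]
  have hκ0 : κ ≠ 0 := fun h => hz₀' (by rw [hTaz z₀ hz₀, h, zero_smul, map_zero, map_zero])
  -- the normalised set
  let N : Subgroup ((Fin 2 → F) ≃ₗ[F] (Fin 2 → F)) :=
    { carrier := {σ | ∃ m ∈ M, ∀ c, (∀ y ∈ Y, m (C.t c y) = C.t (σ c) y) ∧
        ∀ z ∈ Z, m (C.t c z) = C.t c z}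
      one_mem' := ⟨1, one_mem M, fun c => ⟨fun _ _ => rfl, fun _ _ => rfl⟩⟩
      mul_mem' := by
        rintro σ σ' ⟨m, hm, e⟩ ⟨m', hm', e'⟩
        refine ⟨m * m', mul_mem hm hm', fun c => ⟨fun y hy => ?_, fun z hz => ?_⟩⟩
        · rw [LinearEquiv.mul_apply, (e' c).1 y hy, (e (σ' c)).1 y hy]; rfl
        · rw [LinearEquiv.mul_apply, (e' c).2 z hz, (e c).2 z hz]
      inv_mem' := by
        rintro σ ⟨m, hm, e⟩
        refine ⟨m⁻¹, inv_mem hm, fun c => ⟨fun y hy => m.injective ?_, fun z hz => m.injective ?_⟩⟩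
        · show m (m.symm (C.t c y)) = _
          rw [m.apply_symm_apply, (e _).1 y hy]
          exact congrArg (fun s => C.t s y) (σ.apply_symm_apply c).symm
        · show m (m.symm (C.t c z)) = _
          rw [m.apply_symm_apply, (e c).2 z hz] }
  have hN : ∀ σ ∈ N, ∀ e b, tv h1 e b * σ * (tv h1 e b)⁻¹ ∈ N := by
    rintro σ ⟨m, hm, e⟩ v b
    have hq : C.te (tv h1 v b) (LinearEquiv.refl F _) ∈ M :=
      te_mem h1 h2 hTen (tv_iso h1 v b) fun _ _ => rfl
    refine ⟨_, mul_mem (mul_mem hq hm) (inv_mem hq), fun c => ⟨fun y hy => ?_, fun z hz => ?_⟩⟩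
    · show C.te _ _ (m ((C.te _ _).symm (C.t c y))) = _
      rw [TT.te_symm, C.te_t, LinearEquiv.refl_symm, LinearEquiv.refl_apply, (e _).1 y hy, C.te_t]
      rfl
    · show C.te _ _ (m ((C.te _ _).symm (C.t c z))) = _
      rw [TT.te_symm, C.te_t, LinearEquiv.refl_symm, LinearEquiv.refl_apply, (e _).2 z hz, C.te_t,
        LinearEquiv.apply_symm_apply]
      rfl
  have hg : tv h1 d κ * tv h1 a μ ∈ N := by
    obtain ⟨m, hm, hmx⟩ := exists_cr_elem h1 hTen ha hk
    have hq : C.te (tv h1 d κ) (LinearEquiv.refl F _) ∈ M :=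
      te_mem h1 h2 hTen (tv_iso h1 d κ) fun _ _ => rfl
    refine ⟨_, mul_mem hq hm, fun c => ⟨fun y hy => ?_, fun z hz => ?_⟩⟩
    · rw [dec_A h1 had c]
      have ea : T' (C.t a y) = 0 := (cr_zero_iff h1 ha).2 (hYL y hy)
      simp only [LinearEquiv.mul_apply, map_sub, map_smul, LinearMap.sub_apply, LinearMap.smul_apply,
        hmx, ea, ← hT', hTdy y hy, map_add, C.te_t, LinearEquiv.refl_apply, tv_apply, map_add,
        LinearMap.add_apply, LinearMap.smul_apply, map_smul]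
      simp [faa h1, had, fsymm h1 d a, smul_smul]
    · rw [dec_A h1 had c]
      have ed : T' (C.t d z) = 0 := (cr_zero_iff h1 ha).2 (hZL z hz)
      simp only [LinearEquiv.mul_apply, map_sub, map_smul, LinearMap.sub_apply, LinearMap.smul_apply,
        hmx, ed, ← hT', hTaz z hz, map_add, C.te_t, LinearEquiv.refl_apply, tv_apply, map_add,
        LinearMap.add_apply, LinearMap.smul_apply, map_smul]
      simp [faa h1, had, fsymm h1 d a, smul_smul]
  obtain ⟨δ, hδ0, m, hmM, hmx⟩ := exists_tv_mem h1 h5 N hN hg (fun u v => by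
    rw [LinearEquiv.mul_apply, LinearEquiv.mul_apply, tv_iso, tv_iso]) (a := a) (by
    simp [LinearEquiv.mul_apply, tv_apply, faa h1, had, fsymm h1 d a, hκ0])
  set X : (ι → F) →ₗ[F] (ι → F) := m.toLinearMap - LinearMap.id
  have hXa : ∀ y, X (C.t a y) = 0 := fun x => by
    obtain ⟨y', hy', z', hz', rfl⟩ := hsum x
    simp [X, map_add, (hmx a).1 y' hy', (hmx a).2 z' hz', tv_apply, faa h1]
  have hXd : ∀ y ∈ Y, X (C.t d y) = δ • C.t a y := fun y hy => by
    simp [X, (hmx d).1 y hy, tv_apply, had]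
  have hXr : ∀ x, X x ∈ LinearMap.range (C.t a) := fun x => by
    rw [dec_V h1 had x, map_add, hXa, zero_add]
    obtain ⟨y', hy', z', hz', hyz⟩ := hsum (-C.prA a x)
    rw [hyz, map_add, map_add, hXd y' hy', show X (C.t d z') = 0 by simp [X, (hmx d).2 z' hz'],
      add_zero, ← map_smul]
    exact ⟨_, rfl⟩
  have hXsk : C.Skew X := fun x y => by
    have h := hiso m hmM x y
    have hx : m x = x + X x := by simp [X]
    have hy : m y = y + X y := by simp [X]
    have h0 : C.p (X x) (X y) = 0 := by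
      obtain ⟨s, hs⟩ := hXr x
      obtain ⟨s', hs'⟩ := hXr y
      rw [← hs, ← hs', C.pol, faa h1, zero_mul]
    rw [hx, hy, map_add, map_add, LinearMap.add_apply, LinearMap.add_apply, h0, add_zero] at h
    linear_combination h
  obtain ⟨r, hr⟩ := hQ a ha X hXsk hXr hXa ⟨m, hmM, fun x => by simp [X]⟩
  have hz₀0 : z₀ ≠ 0 := fun h => hz₀' (by simp [h])
  have e1 := LinearMap.congr_fun hr (C.t d z₀)
  rw [show X (C.t d z₀) = 0 by simp [X, (hmx d).2 z₀ hz₀], LinearMap.smul_apply, rt_apply h1, C.prA_t,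
    fsymm h1 d a, had, neg_one_smul, neg_neg, ← map_smul] at e1
  have hr0 : r = 0 :=
    (smul_eq_zero.1 (C.t_inj_left ha ((map_zero _).trans e1)).symm).resolve_right hz₀0
  have e2 := LinearMap.congr_fun hr (C.t d e₀)
  rw [hXd e₀ he₀Y, hr0, zero_smul, LinearMap.zero_apply, ← map_smul] at e2
  have := (smul_eq_zero.1 (C.t_inj_left ha (e2.trans (map_zero _).symm))).resolve_left hδ0
  exact he₀ (by rw [this]; simp)

omit h2 h5 hTen hQ in
/-- Properties of the part of the conjugate root operator leaving the ruling. -/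
lemma phi_facts {a : Fin 2 → F} (ha : a ≠ 0) {k : (ι → F) ≃ₗ[F] (ι → F)} (hk : k ∈ M) :
    (∀ y z, C.g (C.prA a (cr C a k (C.t a y))) z = C.g y (C.prA a (cr C a k (C.t a z)))) ∧
    (∀ y ∈ meet C a k, C.prA a (cr C a k (C.t a y)) = 0) := by
  refine ⟨fun y z => ?_, fun y hy => by rw [(cr_zero_iff h1 ha).2 hy, map_zero]⟩
  rw [C.g_prA, cr_skew h1 hiso hk, C.hp _ (C.t a y), h1,
    show C.p (cr C a k (C.t a z)) (C.t a y) = C.g (C.prA a (cr C a k (C.t a z))) y from (C.g_prA _ _ _).symm,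
    C.hg y (C.prA a (cr C a k (C.t a z)))]
  linear_combination (C.g y (C.prA a (cr C a k (C.t a z)))) * C.hs₂

/-- A meet of dimension two forces fixing. -/
theorem fixes_of_two {a : Fin 2 → F} (ha : a ≠ 0) {k : (ι → F) ≃ₗ[F] (ι → F)} (hk : k ∈ M)
    (h : 2 ≤ finrank F (meet C a k)) : Fixes C a k := by
  by_contra hfix
  obtain ⟨d, had⟩ := C.exists_dual ha
  obtain ⟨hsym, hker⟩ := phi_facts h1 hiso ha hk
  set Φ := (C.prA a).comp ((cr C a k).comp (C.t a)) with hΦd
  have hΦ : ∀ y, Φ y = C.prA a (cr C a k (C.t a y)) := fun y => rfl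
  obtain ⟨z₀, hz₀⟩ : ∃ z, Φ z ≠ 0 := by
    by_contra! hall
    exact hfix (fixes_of_cr h1 h2 hiso hTen hQ ha hk fun y => (mem_ruling h1 ha).2 (hall y))
  set u := Φ z₀ with hu
  have huY : ∀ y ∈ meet C a k, C.g u y = 0 := fun y hy => by
    rw [hu, hΦ, hsym, hker y hy, map_zero]
  have hz₀Y : z₀ ∉ meet C a k := fun h0 => hz₀ (hker z₀ h0)
  have hsumY : ∀ v, v ∉ meet C a k → ∀ x, ∃ y ∈ meet C a k, ∃ s : F, x = y + s • v := fun v hv x => by
    have hlt : meet C a k < meet C a k ⊔ F ∙ v := lt_of_le_of_ne le_sup_left fun e =>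
      hv (e ▸ Submodule.mem_sup_right (Submodule.mem_span_singleton_self v))
    have h3 := Submodule.finrank_lt_finrank_of_lt hlt
    have h4 : meet C a k ⊔ F ∙ v = ⊤ := Submodule.eq_top_of_finrank_eq (by
      have := Submodule.finrank_le (meet C a k ⊔ F ∙ v)
      rw [Module.finrank_fin_fun] at this ⊢
      omega)
    obtain ⟨y, hy, w, hw, rfl⟩ := Submodule.mem_sup.1 (h4 ▸ Submodule.mem_top : x ∈ meet C a k ⊔ F ∙ v)
    obtain ⟨s, rfl⟩ := Submodule.mem_span_singleton.1 hw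
    exact ⟨y, hy, s, rfl⟩
  by_cases huin : u ∈ meet C a k
  · -- the generated element preserves the ruling
    obtain ⟨m, hm, hmx⟩ := exists_cr_elem h1 hTen ha hk
    have hm' : ∀ x, m.symm x = x - cr C a k x := fun x => m.injective (by
      rw [m.apply_symm_apply, hmx, map_sub, cr_sq h1, sub_zero, sub_add_cancel])
    have hfm : Fixes C a m := fixes_of_cr h1 h2 hiso hTen hQ ha hm fun y => by
      rw [cr_apply, hm', hmx, rt_apply h1, map_sub, C.prA_t, faa h1, zero_smul, zero_sub, neg_neg,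
        ← hΦ, mem_ruling h1 ha, map_add, C.prA_t, faa h1, zero_smul, zero_add]
      obtain ⟨y', hy', s, hs⟩ := hsumY z₀ hz₀Y y
      have : Φ y = s • u := by rw [hs, map_add, hΦ y', hker y' hy', zero_add, map_smul]
      rw [this, ← hΦ, map_smul, hΦ u, hker u huin, smul_zero]
    have h0 := (mem_ruling h1 ha).1 (hfm z₀)
    rw [hmx, map_add, C.prA_t, faa h1, zero_smul, zero_add, ← hΦ, ← hu] at h0
    exact hz₀ h0
  · -- an orthogonal decomposition
    have huu : C.g u u ≠ 0 := fun h0 => hz₀ (C.gnd u fun x => by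
      obtain ⟨y, hy, s, rfl⟩ := hsumY u huin x
      rw [map_add, map_smul, huY y hy, h0, smul_zero, zero_add])
    set v := cr C a k (C.t a z₀) with hv
    obtain ⟨y2, hy2, s, hs⟩ := hsumY u huin (C.prA d v)
    refine hfix (not_split h1 h2 h5 hiso hTen hQ (a := a) (d := d - s • a)
      (by simp [had, faa h1]) hk (meet C a k) (F ∙ u)
      (fun y hy z hz => ?_) (fun x => ?_) (fun hb => ?_) (fun y hy => hy) fun z hz => ?_)
    · obtain ⟨c, rfl⟩ := Submodule.mem_span_singleton.1 hz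
      rw [map_smul, gcomm h2, huY y hy, smul_zero]
    · obtain ⟨y, hy, c, hc⟩ := hsumY u huin x
      exact ⟨y, hy, c • u, Submodule.smul_mem _ c (Submodule.mem_span_singleton_self u), hc⟩
    · rw [hb, finrank_bot] at h; omega
    · obtain ⟨c, rfl⟩ := Submodule.mem_span_singleton.1 hz
      have hv0 : C.prA a (k.symm v) = 0 := by
        rw [hv, cr_apply, k.symm_apply_apply, rt_apply h1, C.prA_t, faa h1, zero_smul]
      have e : C.t (d - s • a) u = C.t a y2 - v := by
        have e0 := dec_V h1 had v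
        rw [hs, show C.prA a v = u from rfl, map_neg, map_add, map_smul] at e0
        rw [map_sub, LinearMap.sub_apply, map_smul, LinearMap.smul_apply]
        linear_combination (norm := module) e0
      rw [map_smul, map_smul, map_smul, e, map_sub, map_sub, hv0, sub_zero, mem_meet.1 hy2, smul_zero]

omit h1 h2 h5 hiso hTen hQ in
/-- A singular two times two system. -/
lemma exists_ker_pair (p q r s : F) (h : p * s - q * r = 0) :
    ∃ v w : F, (v ≠ 0 ∨ w ≠ 0) ∧ v * p + w * r = 0 ∧ v * q + w * s = 0 := by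
  by_cases h0 : r ≠ 0 ∨ p ≠ 0
  · refine ⟨r, -p, ?_, by ring, by linear_combination -h⟩
    rcases h0 with h0 | h0
    · exact Or.inl h0
    · exact Or.inr (neg_ne_zero.2 h0)
  · push Not at h0
    by_cases h1 : s ≠ 0 ∨ q ≠ 0
    · refine ⟨s, -q, ?_, by linear_combination h, by ring⟩
      rcases h1 with h1 | h1
      · exact Or.inl h1
      · exact Or.inr (neg_ne_zero.2 h1)
    · push Not at h1
      exact ⟨1, 0, Or.inl one_ne_zero, by simp [h0.2], by simp [h1.2]⟩

/-- A non-trivial meet forces fixing. -/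
theorem fixes_of_one {a : Fin 2 → F} (ha : a ≠ 0) {k : (ι → F) ≃ₗ[F] (ι → F)} (hk : k ∈ M)
    {u : Fin 3 → F} (huY : u ∈ meet C a k) (hu0 : u ≠ 0) : Fixes C a k := by
  by_contra hfix
  have h2le : finrank F (meet C a k) < 2 := by
    by_contra h
    exact hfix (fixes_of_two h1 h2 h5 hiso hTen hQ ha hk (by omega))
  have hYu : ∀ y ∈ meet C a k, ∃ s : F, y = s • u := fun y hy => by
    have : F ∙ u = meet C a k := Submodule.eq_of_le_of_finrank_le
      ((Submodule.span_singleton_le_iff_mem _ _).2 huY) (by rw [finrank_span_singleton hu0]; omega)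
    rw [← this] at hy
    obtain ⟨s, hs⟩ := Submodule.mem_span_singleton.1 hy
    exact ⟨s, hs.symm⟩
  obtain ⟨hsym, hker⟩ := phi_facts h1 hiso ha hk
  set Φ := (C.prA a).comp ((cr C a k).comp (C.t a)) with hΦd
  have hΦ : ∀ y, Φ y = C.prA a (cr C a k (C.t a y)) := fun y => rfl
  have hcr : ∀ x, C.prA a (k.symm (cr C a k x)) = 0 := fun x => by
    rw [cr_apply, k.symm_apply_apply, rt_apply h1, C.prA_t, faa h1, zero_smul]
  have hΦ0 : ¬ ∀ y, Φ y = 0 := fun hall =>
    hfix (fixes_of_cr h1 h2 hiso hTen hQ ha hk fun y => (mem_ruling h1 ha).2 (hall y))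
  -- the kernel of Φ is a line
  have hkerle : finrank F (LinearMap.ker Φ) ≤ 1 := by
    by_contra hgt
    obtain ⟨m, hm, hmx⟩ := exists_cr_elem h1 hTen ha hk
    have hm' : ∀ x, m.symm x = x - cr C a k x := fun x => m.injective (by
      rw [m.apply_symm_apply, hmx, map_sub, cr_sq h1, sub_zero, sub_add_cancel])
    have hmeet : meet C a m = LinearMap.ker Φ := by
      ext y
      rw [mem_meet, LinearMap.mem_ker, hΦ, hm', map_sub, C.prA_t, faa h1, zero_smul, zero_sub,
        neg_eq_zero]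
    have hfm := fixes_of_two h1 h2 h5 hiso hTen hQ ha hm (by rw [hmeet]; omega)
    exact hΦ0 fun y => by
      have h0 := (mem_ruling h1 ha).1 (hfm y)
      rwa [hmx, map_add, C.prA_t, faa h1, zero_smul, zero_add] at h0
  have himg : ∀ x, C.g u x = 0 → ∃ z, Φ z = x := by
    have h3 := LinearMap.finrank_range_add_finrank_ker Φ
    rw [Module.finrank_fin_fun] at h3
    have hle : LinearMap.range Φ ≤ LinearMap.ker (C.g u) := by
      rintro _ ⟨z, rfl⟩
      rw [LinearMap.mem_ker, gcomm h2, hΦ, hsym, hker u huY, map_zero]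
    have h4 : finrank F (LinearMap.ker (C.g u)) = 2 := by
      have h5 := LinearMap.finrank_range_add_finrank_ker (C.g u)
      obtain ⟨w, hw'⟩ := C.swap.exists_dual hu0
      have hw : C.g u w = 1 := hw'
      have : LinearMap.range (C.g u) = ⊤ := LinearMap.range_eq_top.2 fun c => ⟨c • w, by simp [hw]⟩
      rw [this, finrank_top, Module.finrank_self, Module.finrank_fin_fun] at h5
      omega
    have heq := Submodule.eq_of_le_of_finrank_le hle (by omega)
    intro x hx
    have : x ∈ LinearMap.range Φ := heq.symm ▸ LinearMap.mem_ker.2 hx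
    exact this
  -- stabilising two directions of the image ruling suffices
  have hmove : ∀ h ∈ M, ∀ x, C.prA a (k.symm x) = 0 →
      C.prA a (k.symm (h x)) = 0 → C.prA a (k.symm (h (C.t a u))) = 0 →
      x ∉ F ∙ C.t a u →
      ∀ x', C.prA a (k.symm x') = 0 → C.prA a (k.symm (h x')) = 0 := by
    intro h hh x hx hhx hhu hind x' hx'
    have hk' : k⁻¹ * h⁻¹ * k ∈ M := mul_mem (mul_mem (inv_mem hk) (inv_mem hh)) hk
    obtain ⟨d, had⟩ := C.exists_dual ha
    have hmem : ∀ v, C.prA a (k.symm v) = 0 → C.prA a (k.symm (h v)) = 0 →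
        C.prA d (k.symm v) ∈ meet C a (k⁻¹ * h⁻¹ * k) ∧ C.t a (C.prA d (k.symm v)) = k.symm v := by
      intro v hv hhv
      have e : C.t a (C.prA d (k.symm v)) = k.symm v := by
        conv_rhs => rw [dec_V h1 had (k.symm v), hv, neg_zero, map_zero, add_zero]
      refine ⟨?_, e⟩
      rw [mem_meet, e]
      show C.prA a (k.symm (h (k (k.symm v)))) = 0
      rw [k.apply_symm_apply]; exact hhv
    obtain ⟨hu1, eu⟩ := hmem _ huY hhu
    obtain ⟨hx1, ex⟩ := hmem x hx hhx
    have hli : LinearIndependent F ![C.prA d (k.symm (C.t a u)), C.prA d (k.symm x)] := by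
      rw [LinearIndependent.pair_iff' fun h0 => hu0 (C.t_inj_left ha (by
        rw [h0, map_zero] at eu
        rw [map_zero]
        exact k.symm.injective (by rw [← eu, map_zero])))]
      intro s hs
      refine hind (Submodule.mem_span_singleton.2 ⟨s, k.symm.injective ?_⟩)
      rw [map_smul, ← eu, ← ex, ← map_smul, hs]
    have hdim : 2 ≤ finrank F (meet C a (k⁻¹ * h⁻¹ * k)) := by
      have hle : Submodule.span F (Set.range ![C.prA d (k.symm (C.t a u)), C.prA d (k.symm x)]) ≤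
          meet C a (k⁻¹ * h⁻¹ * k) := Submodule.span_le.2 (by
        rintro _ ⟨i, rfl⟩
        fin_cases i
        · exact hu1
        · exact hx1)
      have := Submodule.finrank_mono hle
      rwa [finrank_span_eq_card hli, Fintype.card_fin] at this
    have hfix' := fixes_of_two h1 h2 h5 hiso hTen hQ ha hk' hdim
    have hall := meet_of_fixes h1 hiso ha hk' hfix' (C.prA d (k.symm x'))
    have e : C.t a (C.prA d (k.symm x')) = k.symm x' := by
      conv_rhs => rw [dec_V h1 had (k.symm x'), hx', neg_zero, map_zero, add_zero]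
    rw [mem_meet, e] at hall
    have hall' : C.prA a (k.symm (h (k (k.symm x')))) = 0 := hall
    rwa [k.apply_symm_apply] at hall'
  have hnotline : ∀ v, C.prA a v ≠ 0 → v ∉ F ∙ C.t a u := fun v hv hm => by
    obtain ⟨s, rfl⟩ := Submodule.mem_span_singleton.1 hm
    exact hv (by rw [map_smul, C.prA_t, faa h1, zero_smul, smul_zero])
  by_cases huu : C.g u u = 0
  · -- the root element preserves the image ruling
    obtain ⟨z₁, hz₁⟩ := himg u huu
    obtain ⟨m, hm, hmx⟩ := exists_root_elem h1 hTen (M := M) ha 1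
    have hrt : ∀ z, rt C a (cr C a k (C.t a z)) = C.t a (-Φ z) := fun z => rt_apply h1 _
    have hm1 : ∀ z, C.prA a (k.symm (m (cr C a k (C.t a z)))) = 0 ↔ Φ z ∈ meet C a k := fun z => by
      rw [hmx, one_smul, map_add, map_add, hcr, zero_add, hrt, ← mem_meet, Submodule.neg_mem_iff]
    have hall := hmove m hm _ (hcr (C.t a z₁)) ((hm1 z₁).2 (hz₁ ▸ huY))
      (by rw [hmx, one_smul, rt_apply h1, C.prA_t, faa h1, zero_smul, neg_zero, map_zero, add_zero]
          exact huY)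
      (hnotline _ (by rw [← hΦ, hz₁]; exact hu0))
    have hrange : LinearMap.range Φ ≤ F ∙ u := by
      rintro _ ⟨z, rfl⟩
      obtain ⟨s, hs⟩ := hYu _ ((hm1 z).1 (hall _ (hcr _)))
      exact Submodule.mem_span_singleton.2 ⟨s, hs.symm⟩
    have h3 := LinearMap.finrank_range_add_finrank_ker Φ
    have h4 := Submodule.finrank_mono hrange
    rw [finrank_span_singleton hu0] at h4
    rw [Module.finrank_fin_fun] at h3
    omega
  · obtain ⟨d, had⟩ := C.exists_dual ha
    have hda : C.f d a = -1 := by rw [fsymm h1, had]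
    -- an orthogonal basis of the complement
    have hperp : ∀ z, C.g u z = 0 → z ≠ 0 → ∃ w, C.g u w = 0 ∧ C.g z w ≠ 0 := fun z hz hz0 => by
      obtain ⟨w, hw'⟩ := C.swap.exists_dual hz0
      have hw : C.g z w = 1 := hw'
      refine ⟨w - (C.g u w / C.g u u) • u, by simp [huu], ?_⟩
      simp [gcomm h2 z u, hz, hw]
    obtain ⟨e₁, hue₁, he₁, e₂, hue₂, h12, he₂⟩ : ∃ e₁, C.g u e₁ = 0 ∧ C.g e₁ e₁ ≠ 0 ∧
        ∃ e₂, C.g u e₂ = 0 ∧ C.g e₁ e₂ = 0 ∧ C.g e₂ e₂ ≠ 0 := by
      obtain ⟨e₁, hue₁, he₁⟩ : ∃ e, C.g u e = 0 ∧ C.g e e ≠ 0 := by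
        obtain ⟨z, hz, hz0⟩ := Submodule.exists_mem_ne_zero_of_ne_bot (p := LinearMap.ker (C.g u)) fun hb => by
          have h5 := LinearMap.finrank_range_add_finrank_ker (C.g u)
          rw [hb, finrank_bot, Module.finrank_fin_fun] at h5
          have := Submodule.finrank_le (LinearMap.range (C.g u))
          rw [Module.finrank_self] at this
          omega
        obtain ⟨e, he, hee, -⟩ := exists_aniso h2 (Y := LinearMap.ker (C.g u))
          (fun y hy hy0 => hperp y hy hy0) hz hz0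
        exact ⟨e, he, hee⟩
      obtain ⟨z, hz, hz'⟩ := C4.SS.exists_ker_not_mem ![C.g u, C.g e₁] (⊥ : Submodule F (Fin 3 → F))
        (by rw [finrank_bot]; simp)
      have hzu : C.g u z = 0 := hz 0
      have hze : C.g e₁ z = 0 := hz 1
      refine ⟨e₁, hue₁, he₁, z, hzu, hze, fun hzz => ?_⟩
      obtain ⟨w, hw1, hw2⟩ := hperp z hzu (by simpa using hz')
      obtain ⟨c, hc⟩ : ∃ c : F, c = C.g e₁ w / C.g e₁ e₁ := ⟨_, rfl⟩
      set w' := w - c • e₁
      have hw'u : C.g u w' = 0 := by simp [w', hw1, hue₁]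
      have hw'e : C.g e₁ w' = 0 := by simp [w', hc, he₁]
      have hw'z : C.g z w' ≠ 0 := by simpa [w', gcomm h2 z e₁, hze] using hw2
      -- four independent vectors in dimension three
      have hli : LinearIndependent F ![u, e₁, z, w'] := by
        rw [Fintype.linearIndependent_iff]
        intro c hc'
        simp [Fin.sum_univ_four] at hc'
        have a0 := congrArg (fun x => C.g x u) hc'
        have a1 := congrArg (fun x => C.g x e₁) hc'
        have a3 := congrArg (fun x => C.g x z) hc'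
        have a4 := congrArg (fun x => C.g x w') hc'
        simp [gcomm h2 e₁ u, hue₁, gcomm h2 z u, hzu, gcomm h2 z e₁, hze, gcomm h2 w' u, hw'u,
          gcomm h2 w' e₁, hw'e, hzz, gcomm h2 w' z, hw'z, huu, he₁] at a0 a1 a3 a4
        rw [a3, zero_mul, add_zero] at a4
        have a2 : c 2 = 0 := (mul_eq_zero.1 a4).resolve_right hw'z
        intro i
        fin_cases i <;> assumption
      have := hli.fintype_card_le_finrank
      rw [Module.finrank_fin_fun, Fintype.card_fin] at this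
      omega
    -- the lifts
    have lift : ∀ e, C.g u e = 0 → ∃ w, C.prA a (k.symm (C.t a w + C.t d e)) = 0 ∧ C.g u w = 0 := by
      intro e he
      obtain ⟨z, hz⟩ := himg e he
      set x := -cr C a k (C.t a z) with hxd
      set c := C.g u (C.prA d x) / C.g u u with hc
      refine ⟨C.prA d x - c • u, ?_, by simp [hc, huu]⟩
      have e0 := dec_V h1 had x
      have e2 : -C.prA a x = e := by rw [hxd, map_neg, neg_neg, ← hΦ, hz]
      rw [e2] at e0
      have e3 : C.t a (C.prA d x - c • u) + C.t d e = x - C.t a (c • u) := by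
        rw [map_sub]; linear_combination (norm := module) -(1 : F) • e0
      rw [e3, map_sub, map_sub, map_smul, map_smul, map_smul, mem_meet.1 huY, smul_zero, sub_zero, hxd,
        map_neg, map_neg, hcr, neg_zero]
    obtain ⟨s₁, hs₁, hus₁⟩ := lift e₁ hue₁
    obtain ⟨s₂, hs₂, hus₂⟩ := lift e₂ hue₂
    have hzero : ∀ w, C.prA a (k.symm (C.t a w)) = 0 → C.g u w = 0 → w = 0 := fun w hw huw => by
      obtain ⟨s, rfl⟩ := hYu w hw
      rw [map_smul, smul_eq_mul, mul_eq_zero, or_iff_left huu] at huw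
      rw [huw, zero_smul]
    obtain ⟨x₁, hx₁⟩ : ∃ x : F, x = C.g s₁ e₁ / C.g e₁ e₁ := ⟨_, rfl⟩
    obtain ⟨β, hβ⟩ : ∃ x : F, x = C.g s₁ e₂ / C.g e₂ e₂ := ⟨_, rfl⟩
    obtain ⟨β', hβ'⟩ : ∃ x : F, x = C.g s₂ e₁ / C.g e₁ e₁ := ⟨_, rfl⟩
    obtain ⟨y₁, hy₁⟩ : ∃ x : F, x = C.g s₂ e₂ / C.g e₂ e₂ := ⟨_, rfl⟩
    have hs₁e : s₁ = x₁ • e₁ + β • e₂ := by
      have := dec_B h2 huu he₁ he₂ hue₁ hue₂ h12 s₁
      rwa [gcomm h2 s₁ u, hus₁, zero_div, zero_smul, zero_add, ← hx₁, ← hβ] at this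
    have hs₂e : s₂ = β' • e₁ + y₁ • e₂ := by
      have := dec_B h2 huu he₁ he₂ hue₁ hue₂ h12 s₂
      rwa [gcomm h2 s₂ u, hus₂, zero_div, zero_smul, zero_add, ← hβ', ← hy₁] at this
    have hββ : β * C.g e₂ e₂ = β' * C.g e₁ e₁ := by
      obtain ⟨p, hp⟩ := (mem_ruling h1 ha).2 hs₁
      obtain ⟨q, hq⟩ := (mem_ruling h1 ha).2 hs₂
      have h0 : C.p (C.t a s₁ + C.t d e₁) (C.t a s₂ + C.t d e₂) = 0 := by
        rw [← k.apply_symm_apply (C.t a s₁ + C.t d e₁), ← k.apply_symm_apply (C.t a s₂ + C.t d e₂),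
          hiso k hk, ← hp, ← hq, C.pol, faa h1, zero_mul]
      rw [p_coord h1 had, hs₁e, hs₂e] at h0
      simp [h12] at h0
      linear_combination h0
    -- membership in the image ruling
    have hmemL : ∀ v w : F, C.prA a (k.symm (C.t a (v • s₁ + w • s₂) + C.t d (v • e₁ + w • e₂))) = 0 := by
      intro v w
      have e : C.t a (v • s₁ + w • s₂) + C.t d (v • e₁ + w • e₂) =
          v • (C.t a s₁ + C.t d e₁) + w • (C.t a s₂ + C.t d e₂) := by
        simp only [map_add, map_smul]; module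
      rw [e, map_add, map_smul, map_smul, map_add, map_smul, map_smul, hs₁, hs₂, smul_zero, smul_zero,
        add_zero]
    have hker' : ∀ v w p : F, ∀ X : Fin 3 → F, X = p • u + v • e₁ + w • e₂ →
        C.prA a (k.symm (C.t a X)) = 0 → v = 0 ∧ w = 0 := by
      intro v w p X hX hX0
      obtain ⟨s, hs⟩ := hYu X hX0
      rw [hX] at hs
      have a1 := congrArg (C.g e₁) hs
      have a2 := congrArg (C.g e₂) hs
      simp [gcomm h2 e₁ u, gcomm h2 e₂ u, gcomm h2 e₂ e₁, hue₁, hue₂, h12, he₁, he₂] at a1 a2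
      exact ⟨a1, a2⟩
    -- a tensor element with an isometry of the complement
    have key : ∀ (τ : (Fin 3 → F) ≃ₗ[F] (Fin 3 → F)) (c : F), (∀ y z, C.g (τ y) (τ z) = C.g y z) →
        τ u = u → ∀ v w : F, (v ≠ 0 ∨ w ≠ 0) → ∀ v' w' : F,
        τ (v • e₁ + w • e₂) = v' • e₁ + w' • e₂ →
        τ (v • s₁ + w • s₂) + c • τ (v • e₁ + w • e₂) = v' • s₁ + w' • s₂ →
        ∀ V W V' W' : F, τ (V • e₁ + W • e₂) = V' • e₁ + W' • e₂ →
          τ (V • s₁ + W • s₂) + c • τ (V • e₁ + W • e₂) = V' • s₁ + W' • s₂ := by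
      intro τ c hτ hτu v w hvw v' w' ht hs V W V' W' hT
      obtain ⟨σ, hσa, hσd, hσ⟩ := exists_move h1 (a := a) (d := d) (a' := a) (d' := d + c • a) had
        (by simp [had, faa h1])
      have hh := te_mem h1 h2 hTen (M := M) hσ hτ
      set h := C.te σ τ
      have himage : ∀ X Z, h (C.t a X + C.t d Z) = C.t a (τ X + c • τ Z) + C.t d (τ Z) := fun X Z => by
        rw [map_add, C.te_t, C.te_t, hσa, hσd, map_add, LinearMap.add_apply, map_smul,
          LinearMap.smul_apply, map_add, map_smul]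
        abel
      have hind : C.t a (v • s₁ + w • s₂) + C.t d (v • e₁ + w • e₂) ∉ F ∙ C.t a u :=
        hnotline _ (by
          rw [(prA_coord h1 had _ _).1, neg_ne_zero]
          intro h0
          have a1 := congrArg (C.g e₁) h0
          have a2 := congrArg (C.g e₂) h0
          simp [gcomm h2 e₂ e₁, h12, he₁, he₂] at a1 a2
          exact hvw.elim (absurd a1) (absurd a2))
      have hall := hmove h hh _ (hmemL v w) (by rw [himage, hs, ht]; exact hmemL v' w')
        (by rw [C.te_t, hσa, hτu]; exact huY) hind _ (hmemL V W)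
      rw [himage, hT] at hall
      have hdiff : C.prA a (k.symm (C.t a (τ (V • s₁ + W • s₂) + c • (V' • e₁ + W' • e₂) -
          (V' • s₁ + W' • s₂)))) = 0 := by
        have e : C.t a (τ (V • s₁ + W • s₂) + c • (V' • e₁ + W' • e₂) - (V' • s₁ + W' • s₂)) =
            (C.t a (τ (V • s₁ + W • s₂) + c • (V' • e₁ + W' • e₂)) + C.t d (V' • e₁ + W' • e₂)) -
              (C.t a (V' • s₁ + W' • s₂) + C.t d (V' • e₁ + W' • e₂)) := by
          rw [map_sub]; abel
        rw [e, map_sub, map_sub, hall, hmemL, sub_zero]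
      have hus : ∀ X Y : F, C.g u (X • s₁ + Y • s₂) = 0 := fun X Y => by simp [hus₁, hus₂]
      have hgu : C.g u (τ (V • s₁ + W • s₂) + c • (V' • e₁ + W' • e₂) - (V' • s₁ + W' • s₂)) = 0 := by
        rw [map_sub, map_add, hus V' W']
        conv_lhs => enter [1, 1]; rw [← hτu]
        rw [hτ, hus V W]
        simp [hue₁, hue₂]
      rw [hT]
      exact sub_eq_zero.1 (hzero _ hdiff hgu)
    -- the discriminant
    obtain ⟨Δ, hΔ⟩ : ∃ D : F, D = (x₁ - y₁) * (x₁ - y₁) + 4 * (β * β') := ⟨_, rfl⟩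
    have h22 := C.two
    by_cases hsq : IsSquare Δ
    · -- an eigenvalue: move by the torus
      obtain ⟨rt', hrt'⟩ := hsq
      obtain ⟨lam, hlam⟩ : ∃ l : F, l = (x₁ + y₁ + rt') / 2 := ⟨_, rfl⟩
      have hdet : (x₁ - lam) * (y₁ - lam) - β * β' = 0 := by
        rw [hlam]; field_simp
        linear_combination -(hΔ.symm.trans hrt')
      obtain ⟨v, w, hvw, hv1, hw1⟩ := exists_ker_pair (x₁ - lam) β β' (y₁ - lam) hdet
      have heig : v • s₁ + w • s₂ = lam • (v • e₁ + w • e₂) := by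
        rw [hs₁e, hs₂e]
        linear_combination (norm := module) hv1 • e₁ + hw1 • e₂
      obtain ⟨t, ht0, ht1⟩ := exists_sq_ne (F := F) h5
      obtain ⟨σ, hσa, hσd, hσ⟩ := exists_move h1 (a := a) (d := d) (a' := t • a)
        (d' := t⁻¹ • d + (lam * (t⁻¹ - t)) • a) had (by simp [had, faa h1, ht0])
      have hh := te_mem h1 h2 hTen (M := M) hσ (τ := LinearEquiv.refl F _) fun _ _ => rfl
      set h := C.te σ (LinearEquiv.refl F (Fin 3 → F))
      have himage : ∀ X Z, h (C.t a X + C.t d Z) =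
          C.t a (t • X + (lam * (t⁻¹ - t)) • Z) + C.t d (t⁻¹ • Z) := fun X Z => by
        rw [map_add, C.te_t, C.te_t, hσa, hσd]
        simp only [LinearEquiv.refl_apply, map_add, map_smul, LinearMap.add_apply, LinearMap.smul_apply]
        abel
      have himg' : h (C.t a (v • s₁ + w • s₂) + C.t d (v • e₁ + w • e₂)) =
          C.t a ((t⁻¹ * v) • s₁ + (t⁻¹ * w) • s₂) + C.t d ((t⁻¹ * v) • e₁ + (t⁻¹ * w) • e₂) := by
        rw [himage]
        congr 2
        · rw [show (t⁻¹ * v) • s₁ + (t⁻¹ * w) • s₂ = t⁻¹ • (v • s₁ + w • s₂) by module, heig]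
          module
        · module
      have hind : C.t a (v • s₁ + w • s₂) + C.t d (v • e₁ + w • e₂) ∉ F ∙ C.t a u :=
        hnotline _ (by
          rw [(prA_coord h1 had _ _).1, neg_ne_zero]
          intro h0
          have a1 := congrArg (C.g e₁) h0
          have a2 := congrArg (C.g e₂) h0
          simp [gcomm h2 e₂ e₁, h12, he₁, he₂] at a1 a2
          exact hvw.elim (absurd a1) (absurd a2))
      have hall := hmove h hh _ (hmemL v w) (by rw [himg']; exact hmemL _ _)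
        (by rw [C.te_t, hσa, LinearEquiv.refl_apply, map_smul, LinearMap.smul_apply, map_smul, map_smul,
          mem_meet.1 huY, smul_zero]) hind
      have hscal : ∀ (s : Fin 3 → F) (e : Fin 3 → F), C.prA a (k.symm (C.t a s + C.t d e)) = 0 →
          C.g u s = 0 → C.g u e = 0 → s = lam • e := fun s e hse hsu heu => by
        have h3 := hall _ hse
        rw [himage] at h3
        have h4 : C.prA a (k.symm (C.t a ((t - t⁻¹) • (s - lam • e)))) = 0 := by
          have e' : C.t a ((t - t⁻¹) • (s - lam • e)) =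
              (C.t a (t • s + (lam * (t⁻¹ - t)) • e) + C.t d (t⁻¹ • e)) -
                t⁻¹ • (C.t a s + C.t d e) := by
            simp only [map_smul, map_add, map_sub, smul_add, smul_sub]
            module
          rw [e', map_sub, map_sub, h3, map_smul, map_smul, hse, smul_zero, sub_zero]
        have h6 := hzero _ h4 (by simp [hsu, heu])
        refine sub_eq_zero.1 ((smul_eq_zero.1 h6).resolve_left fun h0 => ht1 ?_)
        rw [sub_eq_zero] at h0
        nth_rewrite 1 [h0]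
        exact inv_mul_cancel₀ ht0
      have e1 := hscal s₁ e₁ hs₁ hus₁ hue₁
      have e2 := hscal s₂ e₂ hs₂ hus₂ hue₂
      refine hfix (not_split h1 h2 h5 hiso hTen hQ (a := a) (d := d + lam • a)
        (by simp [had, faa h1]) hk (F ∙ u) (LinearMap.ker (C.g u))
        (fun y hy z hz => ?_) (fun x => ?_) (fun hb => hu0 ?_) (fun y hy => ?_) fun z hz => ?_)
      · obtain ⟨c, rfl⟩ := Submodule.mem_span_singleton.1 hy
        rw [map_smul, LinearMap.smul_apply, LinearMap.mem_ker.1 hz, smul_zero]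
      · exact ⟨(C.g u x / C.g u u) • u, Submodule.smul_mem _ _ (Submodule.mem_span_singleton_self u),
          x - (C.g u x / C.g u u) • u, by simp [huu], by abel⟩
      · exact (Submodule.mem_bot F).1 (hb ▸ Submodule.mem_span_singleton_self u)
      · obtain ⟨c, rfl⟩ := Submodule.mem_span_singleton.1 hy
        rw [map_smul, map_smul, map_smul, mem_meet.1 huY, smul_zero]
      · have hz' := dec_B h2 huu he₁ he₂ hue₁ hue₂ h12 z
        rw [gcomm h2 z u, LinearMap.mem_ker.1 hz, zero_div, zero_smul, zero_add] at hz'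
        have := hmemL (C.g z e₁ / C.g e₁ e₁) (C.g z e₂ / C.g e₂ e₂)
        rw [← hz', e1, e2] at this
        rw [map_add, LinearMap.add_apply, map_smul, LinearMap.smul_apply, add_comm]
        rw [show (C.g z e₁ / C.g e₁ e₁) • lam • e₁ + (C.g z e₂ / C.g e₂ e₂) • lam • e₂ = lam • z by
          conv_rhs => rw [hz', smul_add, smul_comm lam, smul_comm lam]] at this
        rwa [map_smul] at this
    · obtain ⟨D, hD⟩ : ∃ D : F, D = C.g e₂ e₂ / C.g e₁ e₁ := ⟨_, rfl⟩
      have hDe : C.g e₂ e₂ = D * C.g e₁ e₁ := by rw [hD, div_mul_cancel₀ _ he₁]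
      have hD0 : D ≠ 0 := fun h => he₂ (by rw [hDe, h, zero_mul])
      have hβD : β' = D * β := mul_right_cancel₀ he₁ (by rw [← hββ, hDe]; ring)
      have hβ0 : β ≠ 0 := fun h => hsq ⟨x₁ - y₁, by rw [hΔ, h]; ring⟩
      by_cases hDsq : IsSquare D
      · -- a reflection
        obtain ⟨ρ, hρ⟩ := hDsq
        obtain ⟨τ, hτu, hτ1, hτ2, hτ⟩ := exists_frame_map h2 (f₁ := -e₁) (f₂ := e₂) huu he₁ he₂ hue₁
          hue₂ h12 (by simp) rfl (by simp [hue₁]) hue₂ (by simp [h12])
        have hc : (2 * β * ρ) * (2 * β * ρ) = 4 * (β * β') := by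
          rw [hβD]
          linear_combination -(4 * β * β) * hρ
        obtain ⟨c, hcdef⟩ : ∃ c : F, c = 2 * β * ρ := ⟨_, rfl⟩
        rw [← hcdef] at hc
        have hres := key τ c hτ hτu c (-(2 * β)) (Or.inr (neg_ne_zero.2 (mul_ne_zero h22 hβ0)))
          (-c) (-(2 * β)) (by simp [map_add, map_smul, hτ1, hτ2]) (by
            simp only [hs₁e, hs₂e, map_add, map_smul, hτ1, hτ2]
            match_scalars
            · linear_combination -hc
            · ring)
          1 0 (-1) 0 (by simp [map_add, map_smul, hτ1])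
        simp only [hs₁e, hs₂e, map_add, map_smul, hτ1, hτ2, one_smul, zero_smul, add_zero] at hres
        have a2 := congrArg (C.g e₂) hres
        simp [gcomm h2 e₂ e₁, h12] at a2
        have : (2 * β) * C.g e₂ e₂ = 0 := by linear_combination a2
        exact mul_ne_zero (mul_ne_zero h22 hβ0) he₂ this
      · -- a rotation
        obtain ⟨μ, hμ0, hμ⟩ : ∃ μ : F, μ ≠ 0 ∧ 1 + D * (μ * μ) ≠ 0 := by
          by_contra! hall
          obtain ⟨t, ht0, ht⟩ := exists_sq_ne (F := F) h5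
          have h6 := hall 1 one_ne_zero
          have h7 := hall t ht0
          have : D * (t * t - 1) = 0 := by linear_combination h7 - h6
          exact ht (sub_eq_zero.1 ((mul_eq_zero.1 this).resolve_left hD0))
        obtain ⟨Cc, hCc⟩ : ∃ x : F, x = (1 - D * (μ * μ)) / (1 + D * (μ * μ)) := ⟨_, rfl⟩
        obtain ⟨N, hN⟩ : ∃ x : F, x = 2 * μ / (1 + D * (μ * μ)) := ⟨_, rfl⟩
        have hN0 : N ≠ 0 := by rw [hN]; exact div_ne_zero (mul_ne_zero h22 hμ0) hμ
        have hCN : Cc * Cc + D * (N * N) = 1 := by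
          rw [hCc, hN, div_mul_div_comm, div_mul_div_comm, mul_div_assoc', ← add_div,
            div_eq_one_iff_eq (mul_ne_zero hμ hμ)]
          ring
        have hsqr : IsSquare (D * Δ) := by
          classical
          refine quadraticChar_one_iff_isSquare (mul_ne_zero hD0 fun h => hsq ⟨0, by rw [h, mul_zero]⟩) |>.1 ?_
          rw [map_mul, quadraticChar_neg_one_iff_not_isSquare.2 hDsq,
            quadraticChar_neg_one_iff_not_isSquare.2 hsq]
          rfl
        obtain ⟨ρ, hρ⟩ := hsqr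
        obtain ⟨c, hc⟩ : ∃ c : F, c = N * ρ := ⟨_, rfl⟩
        have hcc : c * c = D * (N * N) * ((x₁ - y₁) * (x₁ - y₁) + 4 * (β * β')) := by
          rw [hc, ← hΔ]; linear_combination -(N * N) * hρ
        obtain ⟨τ, hτu, hτ1, hτ2, hτ⟩ := exists_frame_map h2 (f₁ := Cc • e₁ + N • e₂)
          (f₂ := (-(D * N)) • e₁ + Cc • e₂) huu he₁ he₂ hue₁ hue₂ h12
          (by simp [gcomm h2 e₂ e₁, h12, hDe]; linear_combination C.g e₁ e₁ * hCN)
          (by simp [gcomm h2 e₂ e₁, h12, hDe]; linear_combination D * C.g e₁ e₁ * hCN)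
          (by simp [hue₁, hue₂]) (by simp [hue₁, hue₂])
          (by simp [gcomm h2 e₂ e₁, h12, hDe]; ring)
        obtain ⟨v, w, hvw, hv1, hw1⟩ := exists_ker_pair (-(2 * D * N * β) + c * Cc)
          (N * (x₁ - y₁) + c * N) (D * N * (x₁ - y₁) - c * D * N) (2 * D * N * β + c * Cc) (by
            rw [hβD] at hcc
            linear_combination hcc + (c * c) * hCN)
        have hres := key τ c hτ hτu v w hvw (v * Cc - w * (D * N)) (v * N + w * Cc)
          (by simp only [map_add, map_smul, hτ1, hτ2]; module) (by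
            simp only [hs₁e, hs₂e, map_add, map_smul, hτ1, hτ2, hβD]
            match_scalars
            · linear_combination hv1
            · linear_combination hw1)
        have r1 := hres 1 0 Cc N (by simp [map_add, map_smul, hτ1])
        have r2 := hres 0 1 (-(D * N)) Cc (by simp [map_add, map_smul, hτ2])
        simp only [hs₁e, hs₂e, hβD, map_add, map_smul, hτ1, hτ2, one_smul, zero_smul, add_zero,
          zero_add] at r1 r2
        have a1 := congrArg (C.g e₁) r1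
        have a2 := congrArg (C.g e₂) r2
        simp [gcomm h2 e₂ e₁, h12] at a1 a2
        have q1 : (-(2 * D * N * β) + c * Cc) * C.g e₁ e₁ = 0 := by linear_combination a1
        have q2 : (2 * D * N * β + c * Cc) * C.g e₂ e₂ = 0 := by linear_combination a2
        have q3 := (mul_eq_zero.1 q1).resolve_right he₁
        have q4 := (mul_eq_zero.1 q2).resolve_right he₂
        have : 2 * (2 * D * N * β) = 0 := by linear_combination q4 - q3
        simp [h22, hD0, hN0, hβ0] at this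

/-- Every element of the overgroup is a tensor product. -/
theorem isTen_of_qp {m : (ι → F) ≃ₗ[F] (ι → F)} (hm : m ∈ M) : C.IsTen m := by
  classical
  set a : Fin 2 → F := Pi.single 0 1
  have ha : a ≠ 0 := by simp [a]
  -- reflections fix the image
  have hfix : ∀ e (he : C.g e e ≠ 0), ∀ y, C.prA a
      (m.symm (C.te (LinearEquiv.refl F _) (rf e he) (m (C.t a y)))) = 0 := by
    intro e he
    set τ := C.te (LinearEquiv.refl F (Fin 2 → F)) (rf e he)
    have hτM : τ ∈ M := te_right_mem h1 h2 hTen (rf_iso h2 he)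
    have hk : m⁻¹ * τ⁻¹ * m ∈ M := mul_mem (mul_mem (inv_mem hm) (inv_mem hτM)) hm
    -- a vector of the image ruling fixed by the reflection
    let Ψ : (Fin 3 → F) →ₗ[F] (Fin 2 → F) := (C.prB e).comp (m.toLinearMap.comp (C.t a))
    obtain ⟨y₀, hy₀, hy₀0⟩ := Submodule.exists_mem_ne_zero_of_ne_bot (p := LinearMap.ker Ψ) fun hb => by
      have h := LinearMap.finrank_range_add_finrank_ker Ψ
      rw [hb, finrank_bot, Module.finrank_fin_fun] at h
      have := Submodule.finrank_le (LinearMap.range Ψ)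
      rw [Module.finrank_fin_fun] at this
      omega
    have hΨ : ∀ x, C.prB e x = 0 → τ x = x := fun x hx => by
      have h := LinearMap.congr_fun (C.ext_pure (L := τ.toLinearMap)
        (L' := LinearMap.id - (2 / C.g e e) • (C.t.flip e).comp (C.prB e)) fun c y => by
          simp [τ, C.te_t, rf_apply h2, C.prB_t, gcomm h2 y e, smul_smul]
          congr 2
          ring) x
      rw [LinearMap.sub_apply, LinearMap.smul_apply, LinearMap.comp_apply, hx, map_zero, smul_zero,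
        sub_zero] at h
      exact h
    have hy₀m : y₀ ∈ meet C a (m⁻¹ * τ⁻¹ * m) := by
      rw [mem_meet]
      show C.prA a (m.symm (τ (m (C.t a y₀)))) = 0
      rw [hΨ (m (C.t a y₀)) hy₀, m.symm_apply_apply, C.prA_t, faa h1, zero_smul]
    have hF := fixes_of_one h1 h2 h5 hiso hTen hQ ha hk hy₀m hy₀0
    exact meet_of_fixes h1 hiso ha hk hF
  -- hence the image is a ruling
  set L : Submodule F (ι → F) := (LinearMap.range (C.t a)).map m.toLinearMap with hL
  have hLmem : ∀ x, x ∈ L ↔ C.prA a (m.symm x) = 0 := fun x => by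
    rw [hL]
    constructor
    · rintro ⟨v, ⟨y, rfl⟩, rfl⟩
      rw [LinearEquiv.coe_coe, m.symm_apply_apply, C.prA_t, faa h1, zero_smul]
    · intro h
      exact ⟨m.symm x, (mem_ruling h1 ha).2 h, m.apply_symm_apply x⟩
  have hcomp : ∀ e, C.g e e ≠ 0 → ∀ x ∈ L, C.t (C.prB e x) e ∈ L := by
    intro e he x hx
    obtain ⟨v, ⟨y, rfl⟩, rfl⟩ := hx
    have h1' := (hLmem _).2 (hfix e he y)
    have hx' : m (C.t a y) ∈ L := ⟨_, ⟨y, rfl⟩, rfl⟩
    have h := LinearMap.congr_fun (C.ext_pure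
      (L := (C.te (LinearEquiv.refl F (Fin 2 → F)) (rf e he)).toLinearMap)
      (L' := LinearMap.id - (2 / C.g e e) • (C.t.flip e).comp (C.prB e)) fun c y => by
        simp [C.te_t, rf_apply h2, C.prB_t, gcomm h2 y e, smul_smul]
        congr 2
        ring) (m (C.t a y))
    have h' := L.sub_mem hx' h1'
    rw [show C.te (LinearEquiv.refl F _) (rf e he) (m (C.t a y)) = _ from h, LinearMap.sub_apply,
      LinearMap.id_apply, sub_sub_cancel, LinearMap.smul_apply] at h'
    have hne : (2 : F) / C.g e e ≠ 0 := div_ne_zero C.two he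
    have := L.smul_mem (2 / C.g e e)⁻¹ h'
    rwa [inv_smul_smul₀ hne] at this
  have hisoL : ∀ x ∈ L, ∀ x' ∈ L, C.p x x' = 0 := by
    rintro _ ⟨v, ⟨y, rfl⟩, rfl⟩ _ ⟨v', ⟨y', rfl⟩, rfl⟩
    rw [LinearEquiv.coe_coe, hiso m hm, C.pol, faa h1, zero_mul]
  -- all components are parallel
  obtain ⟨y, hy⟩ : ∃ y : Fin 3 → F, y ≠ 0 := ⟨Pi.single 0 1, by simp⟩
  have hgne : ∀ z : Fin 3 → F, z ≠ 0 → ∃ e, C.g e e ≠ 0 ∧ C.g e z ≠ 0 := fun z hz => by
    obtain ⟨e, -, he, hez⟩ := exists_aniso h2 (Y := ⊤) (fun y _ hy => by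
      obtain ⟨w, hw'⟩ := C.swap.exists_dual hy
      have hw : C.g y w = 1 := hw'
      exact ⟨w, trivial, by rw [hw]; exact one_ne_zero⟩) Submodule.mem_top hz
    exact ⟨e, he, hez⟩
  have hx₀ : m (C.t a y) ∈ L := ⟨_, ⟨y, rfl⟩, rfl⟩
  obtain ⟨e₀, he₀, hc₀⟩ : ∃ e, C.g e e ≠ 0 ∧ C.prB e (m (C.t a y)) ≠ 0 := by
    by_contra! hall
    have hz : ∀ i, C.prA i (m (C.t a y)) = 0 := fun c => by
      by_contra hne
      obtain ⟨e, he, hez⟩ := hgne _ hne
      rw [gcomm h2, C.g_prA, ← C.f_prB, hall e he, map_zero, LinearMap.zero_apply] at hez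
      exact hez rfl
    have h0 : m (C.t a y) = 0 := C.pnd _ fun v => by
      have hl : C.p (m (C.t a y)) = 0 := C.ext_pure fun c w => by
        rw [← C.g_prA, hz, map_zero, LinearMap.zero_apply, LinearMap.zero_apply]
      rw [hl, LinearMap.zero_apply]
    exact hy (C.t_inj_left ha (by rw [LinearEquiv.map_eq_zero_iff] at h0; rw [h0, map_zero]))
  set c := C.prB e₀ (m (C.t a y)) with hcd
  have hce : C.t c e₀ ∈ L := hcomp e₀ he₀ _ hx₀
  obtain ⟨c', hcc'⟩ := C.exists_dual hc₀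
  have hpar : ∀ e, C.g e e ≠ 0 → C.g e₀ e ≠ 0 → ∀ x ∈ L, C.f c (C.prB e x) = 0 := fun e he h x hx => by
    have := hisoL _ hce _ (hcomp e he x hx)
    rw [C.pol] at this
    exact (mul_eq_zero.1 this).resolve_right h
  have hall : ∀ x ∈ L, ∀ e, C.g e e ≠ 0 → C.f c (C.prB e x) = 0 := fun x hx e he => by
    by_cases h : C.g e₀ e ≠ 0
    · exact hpar e he h x hx
    push Not at h
    obtain ⟨t, ht0, ht⟩ : ∃ t : F, t ≠ 0 ∧ C.g (e₀ + t • e) (e₀ + t • e) ≠ 0 := by
      by_contra! hh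
      obtain ⟨t, ht0, ht⟩ := exists_sq_ne (F := F) h5
      have e1 := hh 1 one_ne_zero
      have e2 := hh t ht0
      simp [gcomm h2 e e₀, h] at e1 e2
      have : C.g e₀ e₀ * (1 - t * t) = 0 := by linear_combination e2 - (t * t) * e1
      exact ht (sub_eq_zero.1 ((mul_eq_zero.1 this).resolve_left he₀)).symm
    have e3 := hpar (e₀ + t • e) ht (by simp [h, he₀]) x hx
    have e4 := hpar e₀ he₀ he₀ x hx
    rw [map_add, LinearMap.add_apply, map_smul, LinearMap.smul_apply, map_add, map_smul, e4, zero_add,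
      smul_eq_mul, mul_eq_zero] at e3
    exact e3.resolve_left ht0
  refine isTen_of_ruling h1 hiso hTen hQ ha hc₀ hm fun y' => (mem_ruling h1 hc₀).2 ?_
  by_contra hne
  obtain ⟨e, he, hez⟩ := hgne _ hne
  have := hall _ ⟨_, ⟨y', rfl⟩, rfl⟩ e he
  apply hez
  rw [gcomm h2, C.g_prA, ← C.f_prB, fsymm h1]
  simp only [LinearEquiv.coe_coe] at this
  rw [this, neg_zero]

end Main

/-! ### maximality -/

/-- No root element outside the tensor part. -/
theorem qp_of_not_found {M : Subgroup ((ι → F) ≃ₗ[F] (ι → F))} (h1 : C.s₁ = -1) (h2 : C.s₂ = 1)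
    (h5 : 5 ≤ Fintype.card F) (hTen : ∀ m, C.Iso m → C.IsTen m → m ∈ M)
    (hF : ¬ C.Found M) : QP C M := by
  intro a ha X hsk hr hk hX
  obtain ⟨d, had⟩ := C.exists_dual ha
  set K : (Fin 3 → F) →ₗ[F] (Fin 3 → F) := (C.prA d).comp (X.comp (C.t d)) with hKdef
  have hXd : ∀ y, X (C.t d y) = C.t a (K y) := fun y => by
    obtain ⟨w, hw⟩ := hr (C.t d y)
    show _ = C.t a (C.prA d (X (C.t d y)))
    rw [← hw, C.prA_t, had, one_smul]
  have hXK : X = C.tm (C.sm a a) K := C.ext_pure fun c y => by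
    conv_lhs => rw [dec_A h1 had c]
    simp [hk, hXd, C.tm_t, TT.sm_apply, fsymm h1 a c]
  have hN0 : ∀ z, C.sm a a (C.sm a a z) = 0 := fun z => by simp [TT.sm_apply, faa h1]
  have hself : K ∈ C.selfB := fun y z => by
    show C.g (K y) z = C.g y (K z)
    have e1 := hsk (C.t d y) (C.t d z)
    rw [hXd, hXd, C.pol, C.pol, had, fsymm h1 d a, had] at e1
    linear_combination e1
  by_contra hne
  push Not at hne
  have hKne : ∀ s : F, K ≠ s • LinearMap.id := fun s hs => hne s (by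
    rw [hXK, hs, C.tm_smul_right]; rfl)
  obtain ⟨b, κ, hb, hbb, hκ, hm⟩ := TT.exists_sm_of_self (C := C.swap) h2 le_rfl (Or.inr (by omega))
    (S := C.kset M (C.sm a a) hN0 C.selfB)
    (by
      intro u x hu hx K' hK'
      have hi : ∀ v w, C.g (C.swap.eA hu hx v) (C.swap.eA hu hx w) = C.g v w := C.swap.eA_iso hu hx
      have h0 : C.te (LinearEquiv.refl F _) (C.swap.eA hu hx) ∈ M :=
        te_mem h1 h2 hTen (fun _ _ => rfl) hi
      refine ⟨⟨TT.selfA_cjA (C := C.swap) hi hK'.1, ?_⟩,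
        ⟨TT.selfA_cjA (C := C.swap) (TT.iso_symm_eA (C := C.swap) hu hx) hK'.1, ?_⟩⟩
      · have := hK'.2.te h0
        rwa [TT.cj_te_tm, TT.cjA_refl] at this
      · have := hK'.2.te (σ := LinearEquiv.refl F _) (τ := (C.swap.eA hu hx).symm)
          (te_mem h1 h2 hTen (fun _ _ => rfl) (TT.iso_symm_eA (C := C.swap) hu hx))
        rwa [TT.cj_te_tm, TT.cjA_refl] at this)
    (fun K' hK' => hK'.1) (fun s => ⟨fun x y => by simp, by
      obtain ⟨m, hm, e⟩ := exists_root_elem h1 hTen (M := M) ha s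
      exact ⟨m, hm, fun x => by rw [e, C.tm_smul_right]; rfl⟩⟩)
    (K₀ := K) ⟨hself, hXK ▸ hX⟩ hKne
  exact hF (.symp a b κ ha hb hbb hκ h1 h2 (by rw [← C.tm_smul_right]; exact hm.2))

/-- `Sp_2 ⊗ O_3` in `Sp_6`. -/
theorem maximal_two_three (C : TT (Fin 3 ⊕ Fin 3) F 2 3) (h1 : C.s₁ = -1) (h2 : C.s₂ = 1)
    (h5 : 5 ≤ Fintype.card F) (hp : ∀ x y, C.p x y = Cfsg.sympForm 3 F x y)
    {H : Subgroup (Matrix.GeneralLinearGroup (Fin 3 ⊕ Fin 3) F)}
    (hH : ∀ g, g ∈ H ↔ g ∈ Cfsg.spGL 3 F ∧ C.IsTen (app g)) :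
    Cfsg.Geo.IsMaximalIn (Cfsg.spGL 3 F) H := by
  classical
  have hall : ∀ k : ((Fin 3 ⊕ Fin 3) → F) ≃ₗ[F] ((Fin 3 ⊕ Fin 3) → F), C.Iso k →
      k ∈ (Cfsg.spGL 3 F).map app := fun k hk => by
    obtain ⟨g, rfl⟩ := exists_gl k
    exact ⟨g, Transvect.mem_spGL_iff.2 fun x y => by rw [← hp, ← hp]; exact hk x y, rfl⟩
  refine Transvect.isMaximalIn_of_forall (fun g hg => ((hH g).1 hg).1) ?_
    fun M₀ hHM hMK g hg hgH => ?_
  · -- a transvection centred at a pure vector with isotropic right factor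
    obtain ⟨b, hb, hbb⟩ := TT.exists_isotropic (C := C.swap) h2 le_rfl
    set a : Fin 2 → F := Pi.single 0 1
    have ha : a ≠ 0 := by simp [a]
    obtain ⟨m, hm⟩ : ∃ m : ((Fin 3 ⊕ Fin 3) → F) ≃ₗ[F] ((Fin 3 ⊕ Fin 3) → F), ∀ x, m x = x + C.tm (C.sm a a) (C.swap.sm b b) x :=
      ⟨LinearEquiv.ofLinearMap (LinearMap.id + C.tm (C.sm a a) (C.swap.sm b b))
        (LinearMap.id - C.tm (C.sm a a) (C.swap.sm b b))
        (LinearMap.ext fun x => by
          simp [C.tm_comp, show (C.sm a a).comp (C.sm a a) = 0 from LinearMap.ext fun y => by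
            simp [TT.sm_apply, faa h1], C.tm_zero])
        (LinearMap.ext fun x => by
          simp [C.tm_comp, show (C.sm a a).comp (C.sm a a) = 0 from LinearMap.ext fun y => by
            simp [TT.sm_apply, faa h1], C.tm_zero]), fun x => rfl⟩
    have hmt : ∀ x, m x = x + C.tvop (C.t a b) x := fun x => by rw [hm, TT.tm_sm_sm]
    have hmi : C.Iso m := fun x y => by
      rw [hmt, hmt]
      simp [TT.tvop, C.pol, faa h1, hbb, C.hp (C.t a b) x, h1, h2]
      ring
    obtain ⟨k, hk, hkm⟩ := hall m hmi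
    refine ⟨k, hk, fun hkH => ?_⟩
    have hb0 : C.swap.sm b b ≠ 0 := fun e => by
      obtain ⟨w, hw⟩ := C.swap.exists_dual hb
      have := LinearMap.congr_fun e w
      rw [TT.sm_apply, hw, one_smul] at this
      exact hb this
    refine TT.not_isTen ha (faa h1 a) hb (z0 := b) (by simp [TT.sm_apply, show C.swap.f b b = 0 from hbb])
      hb0 (fun x => ?_) ((hH k).1 hkH).2
    rw [hkm, hm]
  · set M := M₀.map app with hMd
    have hiso : ∀ m ∈ M, C.Iso m := by
      rintro _ ⟨k, hk, rfl⟩ x y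
      rw [hp, hp]; exact Transvect.mem_spGL_iff.1 (hMK hk) x y
    have hTen : ∀ m, C.Iso m → C.IsTen m → m ∈ M := fun m hi ht => by
      obtain ⟨k, hk, rfl⟩ := hall m hi
      exact ⟨k, hHM ((hH k).2 ⟨hk, ht⟩), rfl⟩
    by_cases hF : C.Found M
    · have hl : C.LeftE M := fun a x ha hx =>
        hTen _ (TT.iso_te (C.eA_iso ha hx) fun _ _ => rfl) (TT.isTen_te _ _)
      have hr : C.swap.LeftE M := fun a x ha hx => by
        rw [TT.te_swap]
        exact hTen _ (TT.iso_te (fun _ _ => rfl) (C.swap.eA_iso ha hx)) (TT.isTen_te _ _)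
      have two' : (1 : F) ≠ -1 := fun e => C.two (by linear_combination e)
      have hcen : ∀ v, C.Cen M v := by
        cases hF with
        | symp a b κ ha hb hbb hκ _ _ hm => exact TT.all_centres hiso hl hr h1 h2 le_rfl ha hb hbb hκ hm
        | symp' a b κ ha hb haa hκ h1' _ _ => exact absurd (h1'.symm.trans h1) two'
        | orthK a b γ ha haa hb hbb hbγ hγ h1' _ _ => exact absurd (h1'.symm.trans h1) two'
        | orthP N hN b κ hb hbb hκ h1' _ _ => exact absurd (h1'.symm.trans h1) two'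
      refine Transvect.spGL_le_of_centres M₀ fun v c => ?_
      obtain ⟨_, ⟨g', hg', rfl⟩, e⟩ := hcen v (-c)
      suffices h : Transvect.st (Transvect.sympForm_isSymplectic 3) v c = g' by rw [h]; exact hg'
      refine Transvect.gl_ext fun x => ?_
      rw [Transvect.st_apply, e]
      simp [TT.tvop, hp, (Transvect.sympForm_isSymplectic (F := F) 3).skew v x, smul_smul]
    · exact absurd ((hH g).2 ⟨hMK hg, isTen_of_qp h1 h2 h5 hiso hTen
        (qp_of_not_found h1 h2 h5 hTen hF) ⟨g, hg, rfl⟩⟩) hgH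

end Cfsg.Agent.TenForm.TwoThree
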